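import Mathlib
import Cfsg.Prelude.Def_RootSubgroups
import Cfsg.Agent.Helper83.RootSub
import Cfsg.Agent.S5016
import Cfsg.Agent.S5035

set_option autoImplicit false
set_option linter.unusedSectionVars false
set_option linter.unusedVariables false

/-!
# Glue for verifying the root subgroup axioms in explicit groups

A pair of subgroups that is the image of the two unitriangular subgroups of `SL₂(k)` under a
homomorphism with central kernel is a rank one pair (if the images differ) and a `PSL₂` pair.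
-/

namespace Cfsg.Agent.Helper94

open Cfsg
open scoped commutatorElement

section Glue
variable {G : Type*} [Group G] (k : Type*) [Field k]

/-- the data making `(A, B)` an image of the unitriangular pair of `SL₂(k)` -/
def IsSL2Image (A B : Subgroup G) : Prop :=
  ∃ φ : Matrix.SpecialLinearGroup (Fin 2) k →* G,
    φ.ker ≤ Subgroup.center (Matrix.SpecialLinearGroup (Fin 2) k) ∧
    (Cfsg.upperUnipotentSL2 k).map φ = A ∧ (Cfsg.lowerUnipotentSL2 k).map φ = B

theorem isPSL2PairOver_of_image {A B : Subgroup G} (h : IsSL2Image k A B) :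
    Cfsg.IsPSL2PairOver k A B := by
  obtain ⟨φ, hker, hA, hB⟩ := h
  refine ⟨φ, ?_, hker, hA, hB⟩
  rw [MonoidHom.range_eq_map, ← Cfsg.Agent.S5016.sup_eq_top (k := k), Subgroup.map_sup, hA, hB,
    sup_comm]

theorem isRankOnePair_of_image {A B : Subgroup G} (h : IsSL2Image k A B) (hne : A ≠ B) :
    Cfsg.IsRankOnePair A B := by
  obtain ⟨φ, hker, hA, hB⟩ := h
  have hp : Cfsg.IsRankOnePair (Cfsg.upperUnipotentSL2 k) (Cfsg.lowerUnipotentSL2 k) :=
    Cfsg.RankOnePair_symm Cfsg.Agent.S5016.pair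
  have := Cfsg.Agent.S5035.isRankOnePair_map φ hp (by rw [hA, hB]; exact hne)
  rwa [hA, hB] at this

/-- a rank one pair does not commute -/
theorem not_commute_of_rankOne {A B : Subgroup G} (h : Cfsg.IsRankOnePair A B) : ⁅A, B⁆ ≠ ⊥ := by
  intro hc
  have hA : A ≤ Subgroup.normalizer (B : Set G) := by
    refine le_trans ?_ (Subgroup.centralizer_le_normalizer _)
    intro a ha
    rw [Subgroup.mem_centralizer_iff]
    intro b hb
    have hcm : ⁅a, b⁆ ∈ ⁅A, B⁆ := Subgroup.commutator_mem_commutator ha hb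
    rw [hc, Subgroup.mem_bot, commutatorElement_eq_one_iff_mul_comm] at hcm
    exact hcm.symm
  have := Cfsg.Agent.Helper83.rankOne_inf_normalizer h
  rw [inf_eq_left.mpr hA] at this
  exact Cfsg.Agent.Helper83.rankOne_left_ne_bot h this

/-- a rank one pair is not in the commutator case -/
theorem not_commCase_of_rankOne {S : Set (Subgroup G)} {A B : Subgroup G}
    (h : Cfsg.IsRankOnePair A B) : ¬ Cfsg.RootCommutatorCase S A B := by
  rintro ⟨-, hcen, -, -⟩
  obtain ⟨a, ha1⟩ := (Subgroup.ne_bot_iff_exists_ne_one).mp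
    (Cfsg.Agent.Helper83.rankOne_left_ne_bot h)
  refine Cfsg.Agent.Helper83.rankOne_no_central_comm h a.2 (fun h1 => ha1 (Subtype.ext h1)) ?_
  intro b hb
  rw [Subgroup.mem_centralizer_iff]
  intro x hx
  have hcm : (a : G) * b * (a : G)⁻¹ * b⁻¹ ∈ ⁅A, B⁆ := Subgroup.commutator_mem_commutator a.2 hb
  exact (hcen _ hcm x (Subgroup.mem_sup_right hx)).symm

/-- the commuting case excludes the commutator case when `⊥ ∉ S` -/
theorem not_commCase_of_commute {S : Set (Subgroup G)} (hne : ∀ A ∈ S, A ≠ ⊥) {A B : Subgroup G}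
    (h : ⁅A, B⁆ = ⊥) : ¬ Cfsg.RootCommutatorCase S A B := by
  rintro ⟨hmem, -, -, -⟩
  exact hne _ hmem h

/-- glue: the root subgroup axioms from explicit `SL₂` images -/
theorem isKRootSubgroupSet_of_images (S : Set (Subgroup G))
    (hcomm : ∀ A ∈ S, IsMulCommutative A) (hne : ∀ A ∈ S, A ≠ ⊥)
    (hgen : (⨆ A ∈ S, A) = ⊤) (hconj : ∀ A ∈ S, ∀ g : G, Cfsg.conjBy A g ∈ S)
    (hpair : ∀ A ∈ S, ∀ B ∈ S, ⁅A, B⁆ = ⊥ ∨ (A ≠ B ∧ IsSL2Image k A B) ∨
      Cfsg.RootCommutatorCase S A B) :
    Cfsg.IsKRootSubgroupSet k S := by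
  refine ⟨⟨hcomm, hne, hgen, hconj, ?_⟩, ?_⟩
  · intro A hA B hB
    rcases hpair A hA B hB with h | ⟨h1, h2⟩ | h
    · exact Or.inl h
    · exact Or.inr (Or.inl (isRankOnePair_of_image k h2 h1))
    · exact Or.inr (Or.inr h)
  · intro A hA B hB hr
    rcases hpair A hA B hB with h | ⟨h1, h2⟩ | h
    · exact absurd h (not_commute_of_rankOne hr)
    · exact isPSL2PairOver_of_image k h2
    · exact absurd h (not_commCase_of_rankOne hr)

/-- glue: degenerate when only the first two cases occur -/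
theorem isDegenerate_of_images (S : Set (Subgroup G)) (hne : ∀ A ∈ S, A ≠ ⊥)
    (hpair : ∀ A ∈ S, ∀ B ∈ S, ⁅A, B⁆ = ⊥ ∨ (A ≠ B ∧ IsSL2Image k A B)) :
    Cfsg.IsDegenerateRootSet S := by
  intro A hA B hB
  rcases hpair A hA B hB with h | ⟨h1, h2⟩
  · exact not_commCase_of_commute hne h
  · exact not_commCase_of_rankOne (isRankOnePair_of_image k h2 h1)

end Glue

end Cfsg.Agent.Helper94
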