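import Mathlib
import Cfsg.Prelude.Def_RootSubgroups
import Cfsg.Prelude.Def_ClassicalGeometry
import Cfsg.Agent.Helper13.SympGen2
import Cfsg.Agent.Helper94.RootGlue

set_option autoImplicit false
set_option linter.unusedSectionVars false
set_option linter.unusedVariables false
set_option linter.unusedSimpArgs false

/-!
# Symplectic transvection groups as root subgroups: basic facts
-/

namespace Cfsg.Agent.Helper94.SpRoot

open Matrix Cfsg Cfsg.Agent.Helper13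
open scoped commutatorElement

variable {F : Type*} [Field F] {m : ℕ}

/-- the transvection `v ↦ v + c f(v,p) p` as an element of the symplectic group -/
abbrev tE (p : Fin m ⊕ Fin m → F) (c : F) : ↥(Matrix.symplecticGroup (Fin m) F) :=
  sympTransvectionElt p c

theorem tE_mulVec (p : Fin m ⊕ Fin m → F) (c : F) (v : Fin m ⊕ Fin m → F) :
    ((tE p c : ↥(Matrix.symplecticGroup (Fin m) F)) : Matrix (Fin m ⊕ Fin m) (Fin m ⊕ Fin m) F) *ᵥ v
      = v + (c * Cfsg.sympForm m F v p) • p :=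
  sympTransvection_mulVec p c v

theorem sp_ext {A B : ↥(Matrix.symplecticGroup (Fin m) F)}
    (h : ∀ v : Fin m ⊕ Fin m → F,
      (A : Matrix (Fin m ⊕ Fin m) (Fin m ⊕ Fin m) F) *ᵥ v
        = (B : Matrix (Fin m ⊕ Fin m) (Fin m ⊕ Fin m) F) *ᵥ v) : A = B :=
  Subtype.ext (matrix_eq_of_mulVec h)

theorem sp_preserves (A : ↥(Matrix.symplecticGroup (Fin m) F)) (u v : Fin m ⊕ Fin m → F) :
    Cfsg.sympForm m F ((A : Matrix (Fin m ⊕ Fin m) (Fin m ⊕ Fin m) F) *ᵥ u)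
      ((A : Matrix (Fin m ⊕ Fin m) (Fin m ⊕ Fin m) F) *ᵥ v) = Cfsg.sympForm m F u v :=
  (mem_symplecticGroup_iff_preserves _).mp A.2 u v

theorem tE_mul (p : Fin m ⊕ Fin m → F) (c d : F) : tE p c * tE p d = tE p (c + d) :=
  Subtype.ext (sympTransvection_mul p c d)

theorem tE_zero (p : Fin m ⊕ Fin m → F) : tE p (0 : F) = 1 :=
  Subtype.ext (sympTransvection_zero p)

theorem tE_inv (p : Fin m ⊕ Fin m → F) (c : F) : (tE p c)⁻¹ = tE p (-c) := by
  rw [inv_eq_iff_mul_eq_one, tE_mul, add_neg_cancel, tE_zero]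

theorem tE_zero_vec (c : F) : tE (0 : Fin m ⊕ Fin m → F) c = 1 := by
  apply sp_ext
  intro v
  rw [tE_mulVec, smul_zero, add_zero, symp_coe_one, one_mulVec]

/-- conjugating a transvection -/
theorem tE_conj (g : ↥(Matrix.symplecticGroup (Fin m) F)) (p : Fin m ⊕ Fin m → F) (c : F) :
    g * tE p c * g⁻¹
      = tE ((g : Matrix (Fin m ⊕ Fin m) (Fin m ⊕ Fin m) F) *ᵥ p) c := by
  apply sp_ext
  intro v
  rw [symp_coe_mul, symp_coe_mul, ← mulVec_mulVec, ← mulVec_mulVec, tE_mulVec, tE_mulVec,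
    mulVec_add, mulVec_smul, symp_mulVec_inv_mulVec]
  congr 2
  congr 1
  rw [← sp_preserves g, symp_mulVec_inv_mulVec]

theorem tE_smul (μ : F) (p : Fin m ⊕ Fin m → F) (c : F) : tE (μ • p) c = tE p (c * μ ^ 2) := by
  apply sp_ext
  intro v
  rw [tE_mulVec, tE_mulVec, sympForm_smul_right, smul_smul]
  congr 2
  ring

theorem tE_eq_one_iff {p : Fin m ⊕ Fin m → F} (hp : p ≠ 0) (c : F) : tE p c = 1 ↔ c = 0 := by
  constructor
  · intro h
    obtain ⟨x, hx⟩ := sympForm_nondeg_left hp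
    have h1 := tE_mulVec p c x
    rw [h, symp_coe_one, one_mulVec] at h1
    have h2 : (c * Cfsg.sympForm m F x p) • p = 0 := by
      have := h1.symm
      rwa [add_eq_left] at this
    rcases smul_eq_zero.mp h2 with h3 | h3
    · rcases mul_eq_zero.mp h3 with h4 | h4
      · exact h4
      · exact absurd h4 hx
    · exact absurd h3 hp
  · rintro rfl
    exact tE_zero p

/-- the generating set in the statement -/
def TSet (p : Fin m ⊕ Fin m → F) : Set ↥(Matrix.symplecticGroup (Fin m) F) :=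
  {g | ∃ c : F, ∀ v : Fin m ⊕ Fin m → F,
    (g : Matrix (Fin m ⊕ Fin m) (Fin m ⊕ Fin m) F) *ᵥ v
      = v + (c * (v ⬝ᵥ (Matrix.J (Fin m) F *ᵥ p))) • p}

/-- the transvection group with centre `p` -/
def T (p : Fin m ⊕ Fin m → F) : Subgroup ↥(Matrix.symplecticGroup (Fin m) F) :=
  Subgroup.closure (TSet p)

theorem mem_TSet_iff {p : Fin m ⊕ Fin m → F} {g : ↥(Matrix.symplecticGroup (Fin m) F)} :
    g ∈ TSet p ↔ ∃ c : F, g = tE p c := by
  constructor
  · rintro ⟨c, hc⟩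
    refine ⟨c, sp_ext ?_⟩
    intro v
    rw [hc, tE_mulVec]
    rfl
  · rintro ⟨c, rfl⟩
    exact ⟨c, fun v => tE_mulVec p c v⟩

theorem mem_T_iff {p : Fin m ⊕ Fin m → F} {g : ↥(Matrix.symplecticGroup (Fin m) F)} :
    g ∈ T p ↔ ∃ c : F, g = tE p c := by
  constructor
  · intro hg
    induction hg using Subgroup.closure_induction with
    | mem x hx => exact mem_TSet_iff.mp hx
    | one => exact ⟨0, (tE_zero p).symm⟩
    | mul x y _ _ hx hy =>
      obtain ⟨c, rfl⟩ := hx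
      obtain ⟨d, rfl⟩ := hy
      exact ⟨c + d, tE_mul p c d⟩
    | inv x _ hx =>
      obtain ⟨c, rfl⟩ := hx
      exact ⟨-c, tE_inv p c⟩
  · rintro ⟨c, rfl⟩
    exact Subgroup.subset_closure (mem_TSet_iff.mpr ⟨c, rfl⟩)

theorem tE_mem_T (p : Fin m ⊕ Fin m → F) (c : F) : tE p c ∈ T p := mem_T_iff.mpr ⟨c, rfl⟩

theorem T_comm (p : Fin m ⊕ Fin m → F) : IsMulCommutative ↥(T p) := by
  refine ⟨⟨?_⟩⟩
  rintro ⟨a, ha⟩ ⟨b, hb⟩
  apply Subtype.ext
  obtain ⟨c, rfl⟩ := mem_T_iff.mp ha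
  obtain ⟨d, rfl⟩ := mem_T_iff.mp hb
  show tE p c * tE p d = tE p d * tE p c
  rw [tE_mul, tE_mul, add_comm]

theorem T_ne_bot {p : Fin m ⊕ Fin m → F} (hp : p ≠ 0) : T p ≠ ⊥ := by
  intro h
  have h1 : tE p (1 : F) ∈ T p := tE_mem_T p 1
  rw [h, Subgroup.mem_bot, tE_eq_one_iff hp] at h1
  exact one_ne_zero h1

theorem conjBy_T (p : Fin m ⊕ Fin m → F) (g : ↥(Matrix.symplecticGroup (Fin m) F)) :
    Cfsg.conjBy (T p) g = T ((g : Matrix (Fin m ⊕ Fin m) (Fin m ⊕ Fin m) F) *ᵥ p) := by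
  ext x
  rw [Cfsg.Agent.Helper83.mem_conjBy, mem_T_iff, mem_T_iff]
  constructor
  · rintro ⟨c, hc⟩
    refine ⟨c, ?_⟩
    rw [← tE_conj, ← hc]
    group
  · rintro ⟨c, rfl⟩
    refine ⟨c, ?_⟩
    rw [← tE_conj]
    group

theorem T_smul {μ : F} (hμ : μ ≠ 0) (p : Fin m ⊕ Fin m → F) : T (μ • p) = T p := by
  ext x
  rw [mem_T_iff, mem_T_iff]
  constructor
  · rintro ⟨c, rfl⟩
    exact ⟨c * μ ^ 2, tE_smul μ p c⟩
  · rintro ⟨c, rfl⟩
    refine ⟨c / μ ^ 2, ?_⟩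
    rw [tE_smul, div_mul_cancel₀ _ (pow_ne_zero 2 hμ)]

theorem mulVec_ne_zero (g : ↥(Matrix.symplecticGroup (Fin m) F)) {p : Fin m ⊕ Fin m → F}
    (hp : p ≠ 0) : (g : Matrix (Fin m ⊕ Fin m) (Fin m ⊕ Fin m) F) *ᵥ p ≠ 0 := by
  intro h
  have := symp_inv_mulVec_eq g h
  rw [mulVec_zero] at this
  exact hp this.symm

/-- orthogonal centres commute -/
theorem tE_commute_of_orth {p r : Fin m ⊕ Fin m → F} (h : Cfsg.sympForm m F p r = 0) (c d : F) :
    tE p c * tE r d = tE r d * tE p c := by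
  have h' : Cfsg.sympForm m F r p = 0 := by rw [sympForm_swap, h, neg_zero]
  apply sp_ext
  intro v
  rw [symp_coe_mul, symp_coe_mul, ← mulVec_mulVec, ← mulVec_mulVec, tE_mulVec, tE_mulVec,
    tE_mulVec, tE_mulVec, sympForm_add_left, sympForm_add_left, sympForm_smul_left,
    sympForm_smul_left, h, h', mul_zero, add_zero, mul_zero, add_zero]
  abel

theorem T_commute_of_orth {p r : Fin m ⊕ Fin m → F} (h : Cfsg.sympForm m F p r = 0) :
    ⁅T p, T r⁆ = ⊥ := by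
  rw [Subgroup.commutator_eq_bot_iff_le_centralizer]
  intro a ha
  rw [Subgroup.mem_centralizer_iff]
  intro b hb
  obtain ⟨c, rfl⟩ := mem_T_iff.mp ha
  obtain ⟨d, rfl⟩ := mem_T_iff.mp hb
  exact (tE_commute_of_orth h c d).symm

/-- the transvection groups generate the symplectic group -/
theorem iSup_T_eq_top :
    (⨆ A ∈ {A : Subgroup ↥(Matrix.symplecticGroup (Fin m) F) |
      ∃ p : Fin m ⊕ Fin m → F, p ≠ 0 ∧ A = T p}, A) = ⊤ := by
  rw [eq_top_iff, ← sympTransvectionSubgroup_eq_top, sympTransvectionSubgroup, Subgroup.closure_le]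
  rintro A ⟨w, c, hA⟩
  have hA' : A = tE w c := Subtype.ext hA
  by_cases hw : w = 0
  · rw [hA', hw, tE_zero_vec]
    exact Subgroup.one_mem _
  · have h1 : T w ≤ ⨆ A ∈ {A : Subgroup ↥(Matrix.symplecticGroup (Fin m) F) |
        ∃ p : Fin m ⊕ Fin m → F, p ≠ 0 ∧ A = T p}, A :=
      le_biSup (fun A => A) (show T w ∈ _ from ⟨w, hw, rfl⟩)
    exact h1 (hA' ▸ tE_mem_T w c)

/-- transitivity on the transvection groups -/
theorem exists_conj_T {p r : Fin m ⊕ Fin m → F} (hp : p ≠ 0) (hr : r ≠ 0) :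
    ∃ g : ↥(Matrix.symplecticGroup (Fin m) F), T r = Cfsg.conjBy (T p) g := by
  obtain ⟨A, -, hA⟩ := exists_transvection_map_of_ne_zero hp hr
  exact ⟨A, by rw [conjBy_T, hA]⟩

theorem T_ne_of_form_ne_zero {p r : Fin m ⊕ Fin m → F} (h : Cfsg.sympForm m F p r ≠ 0) :
    T p ≠ T r := by
  have hp : p ≠ 0 := by
    rintro rfl
    exact h (sympForm_zero_left r)
  intro hT
  have h1 : tE p (1 : F) ∈ T r := hT ▸ tE_mem_T p 1
  obtain ⟨d, hd⟩ := mem_T_iff.mp h1
  have h2 := tE_mulVec p 1 p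
  rw [hd, tE_mulVec, sympForm_self, mul_zero, zero_smul, add_zero, add_eq_left] at h2
  have hr : r ≠ 0 := by
    rintro rfl
    exact h (sympForm_zero_right p)
  rcases smul_eq_zero.mp h2 with h3 | h3
  · rcases mul_eq_zero.mp h3 with h4 | h4
    · rw [h4, tE_zero, tE_eq_one_iff hp] at hd
      exact one_ne_zero hd
    · exact h h4
  · exact hr h3

end Cfsg.Agent.Helper94.SpRoot
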