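import Mathlib
import Cfsg.Agent.Helper94.RootGlue
import Cfsg.Agent.S5032

set_option autoImplicit false
set_option linter.unusedSectionVars false
set_option linter.unusedVariables false

/-!
# Glue for root subgroup axioms inside the subgroup generated by the family
-/

namespace Cfsg.Agent.Helper94

open Cfsg
open scoped commutatorElement

section Rel
variable {G : Type*} [Group G] (k : Type*) [Field k]

/-- the family viewed inside the subgroup it generates -/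
def relFam (S₀ : Set (Subgroup G)) : Set (Subgroup ↥(⨆ B ∈ S₀, B)) :=
  (fun A : Subgroup G => A.subgroupOf (⨆ B ∈ S₀, B)) '' S₀

variable {S₀ : Set (Subgroup G)}

theorem le_gen {A : Subgroup G} (hA : A ∈ S₀) : A ≤ ⨆ B ∈ S₀, B :=
  le_biSup (fun B => B) hA

theorem relFam_generates : (⨆ A' ∈ relFam S₀, A') = ⊤ := by
  rw [eq_top_iff]
  set H : Subgroup ↥(⨆ B ∈ S₀, B) := ⨆ A' ∈ relFam S₀, A' with hH
  have h1 : (⨆ B ∈ S₀, B) ≤ H.map (⨆ B ∈ S₀, B).subtype := by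
    refine iSup₂_le ?_
    intro A hA a ha
    refine ⟨⟨a, le_gen hA ha⟩, ?_, rfl⟩
    have h2 : A.subgroupOf (⨆ B ∈ S₀, B) ≤ H :=
      le_biSup (fun B => B) (show A.subgroupOf (⨆ B ∈ S₀, B) ∈ relFam S₀ from ⟨A, hA, rfl⟩)
    exact h2 (Subgroup.mem_subgroupOf.mpr ha)
  intro x _
  obtain ⟨y, hy, hyx⟩ := h1 x.2
  have : y = x := Subtype.ext hyx
  rwa [this] at hy

theorem conjBy_subgroupOf (K A : Subgroup G) (g : K) :
    Cfsg.conjBy (A.subgroupOf K) g = (Cfsg.conjBy A (g : G)).subgroupOf K := by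
  ext x
  rw [Cfsg.Agent.Helper83.mem_conjBy, Subgroup.mem_subgroupOf, Subgroup.mem_subgroupOf,
    Cfsg.Agent.Helper83.mem_conjBy]
  rfl

theorem commutator_subgroupOf {K A B : Subgroup G} (hA : A ≤ K) (hB : B ≤ K) :
    ⁅A.subgroupOf K, B.subgroupOf K⁆ = (⁅A, B⁆).subgroupOf K := by
  have h1 : (⁅A.subgroupOf K, B.subgroupOf K⁆).map K.subtype = ⁅A, B⁆ := by
    rw [Subgroup.map_commutator, Subgroup.map_subgroupOf_eq_of_le hA,
      Subgroup.map_subgroupOf_eq_of_le hB]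
  rw [← h1]
  exact (Subgroup.comap_map_eq_self_of_injective K.subtype_injective _).symm

theorem commutator_le_of_le {K A B : Subgroup G} (hA : A ≤ K) (hB : B ≤ K) : ⁅A, B⁆ ≤ K := by
  rw [Subgroup.commutator_le]
  intro a ha b hb
  exact K.mul_mem (K.mul_mem (K.mul_mem (hA ha) (hB hb)) (K.inv_mem (hA ha))) (K.inv_mem (hB hb))

theorem subgroupOf_ne {K A B : Subgroup G} (hA : A ≤ K) (hB : B ≤ K) (h : A ≠ B) :
    A.subgroupOf K ≠ B.subgroupOf K := by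
  intro h1
  rw [Subgroup.subgroupOf_inj, inf_eq_left.mpr hA, inf_eq_left.mpr hB] at h1
  exact h h1

theorem subgroupOf_ne_bot {K A : Subgroup G} (hA : A ≤ K) (h : A ≠ ⊥) : A.subgroupOf K ≠ ⊥ := by
  intro h1
  rw [Subgroup.subgroupOf_eq_bot, disjoint_iff, inf_eq_left.mpr hA] at h1
  exact h h1

theorem isSL2Image_subgroupOf {K A B : Subgroup G} (hA : A ≤ K) (hB : B ≤ K)
    (h : IsSL2Image k A B) : IsSL2Image k (A.subgroupOf K) (B.subgroupOf K) := by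
  obtain ⟨φ, hker, hmA, hmB⟩ := h
  have hr : ∀ x, φ x ∈ K := by
    intro x
    have h1 : φ x ∈ φ.range := ⟨x, rfl⟩
    rw [MonoidHom.range_eq_map, ← Cfsg.Agent.S5016.sup_eq_top (k := k), Subgroup.map_sup, hmA,
      hmB] at h1
    exact (sup_le hB hA) h1
  refine ⟨φ.codRestrict K hr, ?_, ?_, ?_⟩
  · rw [MonoidHom.ker_codRestrict]
    exact hker
  · ext x
    rw [Subgroup.mem_map, Subgroup.mem_subgroupOf, ← hmA, Subgroup.mem_map]
    constructor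
    · rintro ⟨u, hu, rfl⟩
      exact ⟨u, hu, rfl⟩
    · rintro ⟨u, hu, hux⟩
      exact ⟨u, hu, Subtype.ext hux⟩
  · ext x
    rw [Subgroup.mem_map, Subgroup.mem_subgroupOf, ← hmB, Subgroup.mem_map]
    constructor
    · rintro ⟨u, hu, rfl⟩
      exact ⟨u, hu, rfl⟩
    · rintro ⟨u, hu, hux⟩
      exact ⟨u, hu, Subtype.ext hux⟩

/-- transfer of the commutator case to the subgroup generated by the family -/
theorem commCase_subgroupOf {A B : Subgroup G} (hA : A ∈ S₀) (hB : B ∈ S₀)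
    (h : Cfsg.RootCommutatorCase S₀ A B) :
    Cfsg.RootCommutatorCase (relFam S₀) (A.subgroupOf (⨆ B ∈ S₀, B))
      (B.subgroupOf (⨆ B ∈ S₀, B)) := by
  obtain ⟨h1, h2, h3, h4⟩ := h
  have hAK := le_gen hA
  have hBK := le_gen hB
  have hcomm := commutator_subgroupOf hAK hBK
  refine ⟨?_, ?_, ?_, ?_⟩
  · rw [hcomm]
    exact ⟨_, h1, rfl⟩
  · intro c hc x hx
    rw [hcomm, Subgroup.mem_subgroupOf] at hc
    have hx' : (x : G) ∈ A ⊔ B := by
      have h5 : (x : G) ∈ (A.subgroupOf (⨆ B ∈ S₀, B) ⊔ B.subgroupOf (⨆ B ∈ S₀, B)).map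
          (⨆ B ∈ S₀, B).subtype := ⟨x, hx, rfl⟩
      rwa [Subgroup.map_sup, Subgroup.map_subgroupOf_eq_of_le hAK,
        Subgroup.map_subgroupOf_eq_of_le hBK] at h5
    exact Subtype.ext (h2 _ hc _ hx')
  · intro a ha ha1
    have ha1' : (a : G) ≠ 1 := fun h5 => ha1 (Subtype.ext h5)
    apply Subgroup.map_injective (⨆ B ∈ S₀, B).subtype_injective
    rw [MonoidHom.map_closure, hcomm, Subgroup.map_subgroupOf_eq_of_le
      (commutator_le_of_le hAK hBK), ← h3 a ha ha1']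
    congr 1
    ext y
    constructor
    · rintro ⟨_, ⟨b, hb, rfl⟩, rfl⟩
      exact ⟨b, hb, rfl⟩
    · rintro ⟨b, hb, rfl⟩
      exact ⟨_, ⟨⟨b, hBK hb⟩, hb, rfl⟩, rfl⟩
  · intro b hb hb1
    have hb1' : (b : G) ≠ 1 := fun h5 => hb1 (Subtype.ext h5)
    apply Subgroup.map_injective (⨆ B ∈ S₀, B).subtype_injective
    rw [MonoidHom.map_closure, hcomm, Subgroup.map_subgroupOf_eq_of_le
      (commutator_le_of_le hAK hBK), ← h4 b hb hb1']
    congr 1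
    ext y
    constructor
    · rintro ⟨_, ⟨a, ha, rfl⟩, rfl⟩
      exact ⟨a, ha, rfl⟩
    · rintro ⟨a, ha, rfl⟩
      exact ⟨_, ⟨⟨a, hAK ha⟩, ha, rfl⟩, rfl⟩

/-- the three alternatives transfer to the relative family -/
theorem relFam_pair
    (hpair : ∀ A ∈ S₀, ∀ B ∈ S₀, ⁅A, B⁆ = ⊥ ∨ (A ≠ B ∧ IsSL2Image k A B) ∨
      Cfsg.RootCommutatorCase S₀ A B) :
    ∀ A ∈ relFam S₀, ∀ B ∈ relFam S₀, ⁅A, B⁆ = ⊥ ∨ (A ≠ B ∧ IsSL2Image k A B) ∨
      Cfsg.RootCommutatorCase (relFam S₀) A B := by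
  rintro _ ⟨A, hA, rfl⟩ _ ⟨B, hB, rfl⟩
  have hAK := le_gen hA
  have hBK := le_gen hB
  rcases hpair A hA B hB with h | ⟨h1, h2⟩ | h
  · left
    show ⁅A.subgroupOf (⨆ B ∈ S₀, B), B.subgroupOf (⨆ B ∈ S₀, B)⁆ = ⊥
    rw [commutator_subgroupOf hAK hBK, h]
    exact Subgroup.bot_subgroupOf _
  · right; left
    exact ⟨subgroupOf_ne hAK hBK h1, isSL2Image_subgroupOf k hAK hBK h2⟩
  · right; right
    exact commCase_subgroupOf hA hB h

/-- glue inside the generated subgroup -/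
theorem relFam_kroot
    (hcomm : ∀ A ∈ S₀, IsMulCommutative A) (hne : ∀ A ∈ S₀, A ≠ ⊥)
    (hconj : ∀ A ∈ S₀, ∀ g ∈ ⨆ B ∈ S₀, B, Cfsg.conjBy A g ∈ S₀)
    (hpair : ∀ A ∈ S₀, ∀ B ∈ S₀, ⁅A, B⁆ = ⊥ ∨ (A ≠ B ∧ IsSL2Image k A B) ∨
      Cfsg.RootCommutatorCase S₀ A B) :
    Cfsg.IsKRootSubgroupSet k (relFam S₀) := by
  refine isKRootSubgroupSet_of_images k (relFam S₀) ?_ ?_ relFam_generates ?_ (relFam_pair k hpair)
  · rintro _ ⟨A, hA, rfl⟩
    have := hcomm A hA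
    refine ⟨⟨?_⟩⟩
    rintro ⟨a, ha⟩ ⟨b, hb⟩
    apply Subtype.ext
    apply Subtype.ext
    have h1 := this.is_comm.comm ⟨(a : G), ha⟩ ⟨(b : G), hb⟩
    show (a : G) * (b : G) = (b : G) * (a : G)
    exact congrArg Subtype.val h1
  · rintro _ ⟨A, hA, rfl⟩
    exact subgroupOf_ne_bot (le_gen hA) (hne A hA)
  · rintro _ ⟨A, hA, rfl⟩ g
    rw [conjBy_subgroupOf]
    exact ⟨_, hconj A hA g g.2, rfl⟩

theorem relFam_degenerate (hne : ∀ A ∈ S₀, A ≠ ⊥)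
    (hpair : ∀ A ∈ S₀, ∀ B ∈ S₀, ⁅A, B⁆ = ⊥ ∨ (A ≠ B ∧ IsSL2Image k A B)) :
    Cfsg.IsDegenerateRootSet (relFam S₀) := by
  refine isDegenerate_of_images k (relFam S₀) ?_ ?_
  · rintro _ ⟨A, hA, rfl⟩
    exact subgroupOf_ne_bot (le_gen hA) (hne A hA)
  · intro A hA B hB
    rcases relFam_pair k (fun A hA B hB => (hpair A hA B hB).imp_right Or.inl) A hA B hB
      with h | h | h
    · exact Or.inl h
    · exact Or.inr h
    · exfalso
      obtain ⟨A0, hA0, rfl⟩ := hA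
      obtain ⟨B0, hB0, rfl⟩ := hB
      rcases hpair A0 hA0 B0 hB0 with h5 | ⟨h5, h6⟩
      · refine not_commCase_of_commute (S := relFam S₀) ?_ ?_ h
        · rintro _ ⟨A, hA, rfl⟩
          exact subgroupOf_ne_bot (le_gen hA) (hne A hA)
        · rw [commutator_subgroupOf (le_gen hA0) (le_gen hB0), h5]
          exact Subgroup.bot_subgroupOf _
      · exact not_commCase_of_rankOne (isRankOnePair_of_image k
          (isSL2Image_subgroupOf k (le_gen hA0) (le_gen hB0) h6)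
          (subgroupOf_ne (le_gen hA0) (le_gen hB0) h5)) h

/-- adjacency in the relative family from an `SL₂` image -/
theorem relFam_adj {A B : Subgroup G} (hA : A ∈ S₀) (hB : B ∈ S₀) (hne : A ≠ B)
    (h : IsSL2Image k A B) :
    Cfsg.FAdj (relFam S₀) (A.subgroupOf (⨆ B ∈ S₀, B)) (B.subgroupOf (⨆ B ∈ S₀, B)) :=
  ⟨⟨A, hA, rfl⟩, ⟨B, hB, rfl⟩, isRankOnePair_of_image k
    (isSL2Image_subgroupOf k (le_gen hA) (le_gen hB) h) (subgroupOf_ne (le_gen hA) (le_gen hB) hne)⟩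

theorem relFam_connected
    (hconn : ∀ A ∈ S₀, ∀ B ∈ S₀, Relation.ReflTransGen
      (fun X Y => X ∈ S₀ ∧ Y ∈ S₀ ∧ X ≠ Y ∧ IsSL2Image k X Y) A B) :
    Cfsg.IsConnectedFamily (Cfsg.FAdj (relFam S₀)) (relFam S₀) := by
  rintro _ ⟨A, hA, rfl⟩ _ ⟨B, hB, rfl⟩
  refine Relation.ReflTransGen.lift (fun X : Subgroup G => X.subgroupOf (⨆ B ∈ S₀, B)) ?_
    _ _ (hconn A hA B hB)
  rintro X Y ⟨hX, hY, hne, h⟩
  exact relFam_adj k hX hY hne h

theorem conjClass_of_connected {H : Type*} [Group H] {S : Set (Subgroup H)} (hne : S.Nonempty)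
    (hconn : Cfsg.IsConnectedFamily (Cfsg.FAdj S) S) : Cfsg.IsConjClassOfSubgroups S :=
  ⟨hne, fun A hA B hB => Cfsg.Agent.S5032.conj_of_reach (hconn A hA B hB)⟩

end Rel

end Cfsg.Agent.Helper94
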