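import Cfsg.Agent.Helper94.TwoFam5

set_option autoImplicit false
set_option linter.unusedSectionVars false
set_option linter.unusedSimpArgs false

namespace Cfsg.Agent.Helper94

open Cfsg Cfsg.Geo
open scoped Matrix

section TwoFam6

variable {ι : Type} [Fintype ι] [DecidableEq ι] {F : Type*} [Field F]
variable {Q : (ι → F) → F} {k : ℕ}

/-- A linearly independent family has a dual family for the polar form. -/
theorem exists_dual_family (hQ : IsNondegenerateQuadraticForm Q) {m : ℕ} (z : Fin m → ι → F)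
    (hz : LinearIndependent F z) :
    ∃ y : Fin m → ι → F, ∀ i j, QuadraticMap.polar Q (z i) (y j) = if i = j then 1 else 0 := by
  obtain ⟨φ, hφ⟩ : ∃ φ : (ι → F) →ₗ[F] (Fin m → F), φ = LinearMap.pi (fun i => polarLin hQ (z i)) :=
    ⟨_, rfl⟩
  have hφa : ∀ x i, φ x i = QuadraticMap.polar Q (z i) x := by
    intro x i
    rw [hφ]
    rfl
  obtain ⟨S, hS⟩ : ∃ S : Submodule F (ι → F), S = Submodule.span F (Set.range z) := ⟨_, rfl⟩
  have hSdim : Module.finrank F S = m := by
    rw [hS, finrank_span_eq_card hz, Fintype.card_fin]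
  have hker : LinearMap.ker φ ≤ qperp hQ S := by
    intro x hx
    rw [LinearMap.mem_ker] at hx
    have hx' : ∀ i, QuadraticMap.polar Q (z i) x = 0 := by
      intro i
      rw [← hφa, hx]
      rfl
    have hle : S ≤ qperp hQ (Submodule.span F {x}) := by
      rw [hS, Submodule.span_le]
      rintro _ ⟨i, rfl⟩
      show z i ∈ qperp hQ (Submodule.span F {x})
      rw [mem_qperp]
      intro s hs
      obtain ⟨c, rfl⟩ := Submodule.mem_span_singleton.mp hs
      rw [B_smul_left hQ, B_comm, hx' i, mul_zero]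
    rw [mem_qperp]
    intro s hs
    have := (mem_qperp hQ _ s).1 (hle hs) x (Submodule.mem_span_singleton_self x)
    rw [B_comm]
    exact this
  have h1 := LinearMap.finrank_range_add_finrank_ker φ
  have h2 := Submodule.finrank_mono hker
  have h3 := finrank_add_finrank_qperp hQ S
  have h4 : Module.finrank F (ι → F) = Fintype.card ι := Module.finrank_fintype_fun_eq_card F
  have h5 : Module.finrank F (LinearMap.range φ) ≤ m := by
    have := Submodule.finrank_le (LinearMap.range φ)
    rwa [Module.finrank_fin_fun] at this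
  have hrange : LinearMap.range φ = ⊤ := by
    apply Submodule.eq_top_of_finrank_eq
    rw [Module.finrank_fin_fun]
    omega
  have hsurj : Function.Surjective φ := LinearMap.range_eq_top.mp hrange
  choose y hy using fun j : Fin m => hsurj (Pi.single j 1)
  refine ⟨y, fun i j => ?_⟩
  rw [← hφa, hy j, Pi.single_apply]

/-- Orthogonalisation: a dual family of a totally singular triple can be corrected into a
hyperbolic triple. -/
theorem exists_hypTriple_of_dual (hQ : IsNondegenerateQuadraticForm Q) (e y : Fin 3 → ι → F)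
    (hQe : ∀ i, Q (e i) = 0) (hee : ∀ i j, QuadraticMap.polar Q (e i) (e j) = 0)
    (hey : ∀ i j, QuadraticMap.polar Q (e i) (y j) = if i = j then 1 else 0) :
    ∃ f : Fin 3 → ι → F, IsHypTriple Q e f := by
  have hye : ∀ i j, QuadraticMap.polar Q (y i) (e j) = if i = j then 1 else 0 := by
    intro i j
    rw [B_comm, hey]
    by_cases hij : i = j
    · rw [if_pos hij, if_pos hij.symm]
    · rw [if_neg hij, if_neg (fun h' => hij h'.symm)]
  obtain ⟨f0, hf0⟩ : ∃ f0, f0 = y 0 - Q (y 0) • e 0 := ⟨_, rfl⟩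
  obtain ⟨f1, hf1⟩ : ∃ f1, f1 = y 1 - QuadraticMap.polar Q (y 1) (y 0) • e 0 - Q (y 1) • e 1 :=
    ⟨_, rfl⟩
  obtain ⟨f2, hf2⟩ : ∃ f2, f2 = y 2 - QuadraticMap.polar Q (y 2) (y 0) • e 0
      - QuadraticMap.polar Q (y 2) (y 1) • e 1 - Q (y 2) • e 2 := ⟨_, rfl⟩
  have hQf0 : Q f0 = 0 := by
    rw [hf0]
    simp only [Q_sub hQ, Q_smul hQ, B_sub_left hQ, B_sub_right hQ, B_smul_left hQ, B_smul_right hQ,
      hQe, hee, hey, hye]
    simp
  have hQf1 : Q f1 = 0 := by
    rw [hf1]
    simp only [Q_sub hQ, Q_smul hQ, B_sub_left hQ, B_sub_right hQ, B_smul_left hQ, B_smul_right hQ,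
      hQe, hee, hey, hye]
    simp
  have hQf2 : Q f2 = 0 := by
    rw [hf2]
    simp only [Q_sub hQ, Q_smul hQ, B_sub_left hQ, B_sub_right hQ, B_smul_left hQ, B_smul_right hQ,
      hQe, hee, hey, hye]
    simp
  have hef0 : ∀ i, QuadraticMap.polar Q (e i) f0 = if i = 0 then 1 else 0 := by
    intro i
    rw [hf0]
    simp only [B_sub_right hQ, B_smul_right hQ, hee, hey, mul_zero, sub_zero]
  have hef1 : ∀ i, QuadraticMap.polar Q (e i) f1 = if i = 1 then 1 else 0 := by
    intro i
    rw [hf1]
    simp only [B_sub_right hQ, B_smul_right hQ, hee, hey, mul_zero, sub_zero]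
  have hef2 : ∀ i, QuadraticMap.polar Q (e i) f2 = if i = 2 then 1 else 0 := by
    intro i
    rw [hf2]
    simp only [B_sub_right hQ, B_smul_right hQ, hee, hey, mul_zero, sub_zero]
  have h01 : QuadraticMap.polar Q f0 f1 = 0 := by
    rw [hf0, hf1]
    simp only [B_sub_left hQ, B_sub_right hQ, B_smul_left hQ, B_smul_right hQ,
      hQe, hee, hey, hye]
    simp [B_comm (y 0) (y 1)]
  have h02 : QuadraticMap.polar Q f0 f2 = 0 := by
    rw [hf0, hf2]
    simp only [B_sub_left hQ, B_sub_right hQ, B_smul_left hQ, B_smul_right hQ,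
      hQe, hee, hey, hye]
    simp [B_comm (y 0) (y 2)]
  have h12 : QuadraticMap.polar Q f1 f2 = 0 := by
    rw [hf1, hf2]
    simp only [B_sub_left hQ, B_sub_right hQ, B_smul_left hQ, B_smul_right hQ,
      hQe, hee, hey, hye]
    simp [B_comm (y 1) (y 2)]
  have h00 : QuadraticMap.polar Q f0 f0 = 0 := by rw [B_self hQ, hQf0, mul_zero]
  have h11 : QuadraticMap.polar Q f1 f1 = 0 := by rw [B_self hQ, hQf1, mul_zero]
  have h22 : QuadraticMap.polar Q f2 f2 = 0 := by rw [B_self hQ, hQf2, mul_zero]
  have h10 : QuadraticMap.polar Q f1 f0 = 0 := by rw [B_comm, h01]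
  have h20 : QuadraticMap.polar Q f2 f0 = 0 := by rw [B_comm, h02]
  have h21 : QuadraticMap.polar Q f2 f1 = 0 := by rw [B_comm, h12]
  refine ⟨![f0, f1, f2], hQe, ?_, hee, ?_, ?_⟩
  · intro i
    fin_cases i
    · exact hQf0
    · exact hQf1
    · exact hQf2
  · intro i j
    fin_cases i <;> fin_cases j
    · exact h00
    · exact h01
    · exact h02
    · exact h10
    · exact h11
    · exact h12
    · exact h20
    · exact h21
    · exact h22
  · intro i j
    fin_cases j
    · exact hef0 i
    · exact hef1 i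
    · exact hef2 i

/-- A linearly independent totally singular triple extends to a hyperbolic triple. -/
theorem exists_hypTriple_of_li (hQ : IsNondegenerateQuadraticForm Q) (e : Fin 3 → ι → F)
    (hli : LinearIndependent F e) (hQe : ∀ i, Q (e i) = 0)
    (hee : ∀ i j, QuadraticMap.polar Q (e i) (e j) = 0) :
    ∃ f : Fin 3 → ι → F, IsHypTriple Q e f := by
  obtain ⟨y, hy⟩ := exists_dual_family hQ e hli
  exact exists_hypTriple_of_dual hQ e y hQe hee hy

/-- Three linearly independent vectors in a subspace of dimension at least three. -/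
theorem exists_li_triple {A : Submodule F (ι → F)} (hA : 3 ≤ Module.finrank F A) :
    ∃ e : Fin 3 → ι → F, LinearIndependent F e ∧ ∀ i, e i ∈ A := by
  obtain ⟨b⟩ : Nonempty (Module.Basis (Fin (Module.finrank F A)) F A) := ⟨Module.finBasis F A⟩
  refine ⟨fun i => (b (Fin.castLE hA i) : ι → F), ?_, fun i => (b (Fin.castLE hA i)).2⟩
  have h1 : LinearIndependent F (fun i : Fin 3 => b (Fin.castLE hA i)) :=
    b.linearIndependent.comp _ (Fin.castLE_injective hA)
  exact h1.map' A.subtype (Submodule.ker_subtype A)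

/-- Two members of an independent triple in `W` together with a vector outside `W` are independent. -/
theorem li_triple_of_not_mem {W : Submodule F (ι → F)} {e' : Fin 3 → ι → F}
    (hli : LinearIndependent F e') (he' : ∀ i, e' i ∈ W) {z : ι → F} (hz : z ∉ W) :
    LinearIndependent F ![e' 0, e' 1, z] := by
  rw [Fintype.linearIndependent_iff] at hli ⊢
  intro c hc
  rw [Fin.sum_univ_three] at hc
  simp only [Matrix.cons_val_zero, Matrix.cons_val_one, Matrix.cons_val_two, Matrix.head_cons,
    Matrix.tail_cons] at hc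
  have hc2 : c 2 = 0 := by
    by_contra hne
    apply hz
    have : z = -(c 2)⁻¹ • (c 0 • e' 0 + c 1 • e' 1) := by
      have h1 : c 2 • z = -(c 0 • e' 0 + c 1 • e' 1) := by
        rw [eq_neg_iff_add_eq_zero, add_comm]; exact hc
      calc z = (c 2)⁻¹ • (c 2 • z) := by rw [smul_smul, inv_mul_cancel₀ hne, one_smul]
        _ = -(c 2)⁻¹ • (c 0 • e' 0 + c 1 • e' 1) := by rw [h1]; module
    rw [this]
    exact W.smul_mem _ (W.add_mem (W.smul_mem _ (he' 0)) (W.smul_mem _ (he' 1)))
  have h3 := hli ![c 0, c 1, 0] (by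
    rw [Fin.sum_univ_three]
    simp only [Matrix.cons_val_zero, Matrix.cons_val_one, Matrix.cons_val_two, Matrix.head_cons,
      Matrix.tail_cons, zero_smul, add_zero]
    rw [hc2, zero_smul, add_zero] at hc
    exact hc)
  intro i
  fin_cases i
  · exact h3 0
  · exact h3 1
  · exact hc2

end TwoFam6

end Cfsg.Agent.Helper94
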