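import Mathlib
import Cfsg.Agent.Helper94.TwoFam6
import Cfsg.Agent.Helper94.RootGlue2

set_option autoImplicit false
set_option linter.unusedSectionVars false
set_option linter.unusedVariables false
set_option linter.unusedSimpArgs false

/-!
# Siegel transvection subgroups of an orthogonal group: basic calculus
-/

namespace Cfsg.Agent.Helper94.ORoot

open Matrix Cfsg Cfsg.Geo Cfsg.Agent.Helper94
open scoped commutatorElement

variable {ι : Type} [Fintype ι] [DecidableEq ι] {F : Type*} [Field F]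
variable {Q : (ι → F) → F}

/-- the action of an isometry on a vector -/
def act (g : ↥(isometryGroup F Q)) (x : ι → F) : ι → F :=
  ((g : Matrix.GeneralLinearGroup ι F) : Matrix ι ι F) *ᵥ x

theorem act_mul (g h : ↥(isometryGroup F Q)) (x : ι → F) : act (g * h) x = act g (act h x) := by
  unfold act
  rw [Subgroup.coe_mul, Units.val_mul, mulVec_mulVec]

theorem act_one (x : ι → F) : act (1 : ↥(isometryGroup F Q)) x = x := by
  unfold act
  rw [Subgroup.coe_one, Units.val_one, one_mulVec]

theorem act_add (g : ↥(isometryGroup F Q)) (x y : ι → F) : act g (x + y) = act g x + act g y :=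
  mulVec_add _ _ _

theorem act_smul (g : ↥(isometryGroup F Q)) (c : F) (x : ι → F) : act g (c • x) = c • act g x :=
  mulVec_smul _ _ _

theorem act_sub (g : ↥(isometryGroup F Q)) (x y : ι → F) : act g (x - y) = act g x - act g y :=
  mulVec_sub _ _ _

theorem act_neg (g : ↥(isometryGroup F Q)) (x : ι → F) : act g (-x) = -act g x :=
  mulVec_neg _ _

theorem act_zero (g : ↥(isometryGroup F Q)) : act g (0 : ι → F) = 0 :=
  mulVec_zero _

theorem Q_act (g : ↥(isometryGroup F Q)) (x : ι → F) : Q (act g x) = Q x :=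
  (mem_isometryGroup_iff (g : Matrix.GeneralLinearGroup ι F)).1 g.2 x

theorem B_act (g : ↥(isometryGroup F Q)) (x y : ι → F) :
    QuadraticMap.polar Q (act g x) (act g y) = QuadraticMap.polar Q x y := by
  unfold QuadraticMap.polar
  rw [← act_add, Q_act g, Q_act g, Q_act g]

theorem act_inv_act (g : ↥(isometryGroup F Q)) (x : ι → F) : act g⁻¹ (act g x) = x := by
  rw [← act_mul, inv_mul_cancel, act_one]

theorem act_act_inv (g : ↥(isometryGroup F Q)) (x : ι → F) : act g (act g⁻¹ x) = x := by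
  rw [← act_mul, mul_inv_cancel, act_one]

theorem B_act_inv_right (g : ↥(isometryGroup F Q)) (x y : ι → F) :
    QuadraticMap.polar Q x (act g⁻¹ y) = QuadraticMap.polar Q (act g x) y := by
  rw [← B_act g x (act g⁻¹ y), act_act_inv]

theorem act_injective (g : ↥(isometryGroup F Q)) {x y : ι → F} (h : act g x = act g y) : x = y := by
  rw [← act_inv_act g x, h, act_inv_act]

theorem iso_ext {g h : ↥(isometryGroup F Q)} (H : ∀ x, act g x = act h x) : g = h := by
  apply Subtype.ext
  apply Units.ext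
  rw [ext_iff_mulVec]
  exact H

/-- a singular orthogonal pair -/
def SP (Q : (ι → F) → F) (u v : ι → F) : Prop :=
  Q u = 0 ∧ Q v = 0 ∧ QuadraticMap.polar Q u v = 0

theorem SP.smul_right (hQ : IsNondegenerateQuadraticForm Q) {u v : ι → F} (h : SP Q u v) (c : F) :
    SP Q u (c • v) :=
  ⟨h.1, by rw [Q_smul hQ, h.2.1, mul_zero], by rw [B_smul_right hQ, h.2.2, mul_zero]⟩

theorem SP.symm {u v : ι → F} (h : SP Q u v) : SP Q v u :=
  ⟨h.2.1, h.1, by rw [B_comm, h.2.2]⟩

theorem SP.self_left (hQ : IsNondegenerateQuadraticForm Q) {u v : ι → F} (h : SP Q u v) :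
    QuadraticMap.polar Q u u = 0 := by rw [B_self hQ, h.1, mul_zero]

theorem SP.self_right (hQ : IsNondegenerateQuadraticForm Q) {u v : ι → F} (h : SP Q u v) :
    QuadraticMap.polar Q v v = 0 := by rw [B_self hQ, h.2.1, mul_zero]

theorem SP.zero_right (hQ : IsNondegenerateQuadraticForm Q) {u : ι → F} (h : Q u = 0) :
    SP Q u 0 := ⟨h, Q_zero hQ, B_zero_right hQ u⟩

theorem Q_comb (hQ : IsNondegenerateQuadraticForm Q) {u v : ι → F} (h : SP Q u v) (a b : F) :
    Q (a • u + b • v) = 0 := by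
  rw [Q_add (Q := Q), Q_smul hQ, Q_smul hQ, h.1, h.2.1, B_smul_left hQ, B_smul_right hQ, h.2.2]
  ring

theorem SP.comb (hQ : IsNondegenerateQuadraticForm Q) {u v : ι → F} (h : SP Q u v) (a b c d : F) :
    SP Q (a • u + b • v) (c • u + d • v) := by
  refine ⟨Q_comb hQ h a b, Q_comb hQ h c d, ?_⟩
  simp only [B_add_left hQ, B_add_right hQ, B_smul_left hQ, B_smul_right hQ, h.2.2,
    h.self_left hQ, h.self_right hQ, B_comm v u]
  ring

open Classical in
/-- the Siegel transformation `x ↦ x + B(u,x) v - B(v,x) u` (the identity for bad input) -/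
noncomputable def sg (hQ : IsNondegenerateQuadraticForm Q) (u v : ι → F) : ↥(isometryGroup F Q) :=
  if h : SP Q u v then
    ⟨sgGL hQ u v h.1 h.2.1 h.2.2, sgGL_mem_isometryGroup hQ u v h.1 h.2.1 h.2.2⟩
  else 1

theorem act_sg (hQ : IsNondegenerateQuadraticForm Q) {u v : ι → F} (h : SP Q u v) (x : ι → F) :
    act (sg hQ u v) x = x + QuadraticMap.polar Q u x • v - QuadraticMap.polar Q v x • u := by
  unfold sg
  rw [dif_pos h]
  exact sgGL_mulVec hQ u v h.1 h.2.1 h.2.2 x

theorem sg_zero (hQ : IsNondegenerateQuadraticForm Q) {u : ι → F} (hu : Q u = 0) :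
    sg hQ u 0 = 1 := by
  apply iso_ext
  intro x
  rw [act_sg hQ (SP.zero_right hQ hu), act_one, B_zero_left hQ]
  simp

theorem sg_add (hQ : IsNondegenerateQuadraticForm Q) {u v w : ι → F} (h1 : SP Q u v)
    (h2 : SP Q u w) (hvw : QuadraticMap.polar Q v w = 0) :
    sg hQ u v * sg hQ u w = sg hQ u (v + w) := by
  have h3 : SP Q u (v + w) :=
    ⟨h1.1, by rw [Q_add (Q := Q), h1.2.1, h2.2.1, hvw]; ring,
      by rw [B_add_right hQ, h1.2.2, h2.2.2, add_zero]⟩
  apply iso_ext
  intro x
  rw [act_mul, act_sg hQ h1, act_sg hQ h2, act_sg hQ h3]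
  simp only [B_add_left hQ, B_add_right hQ, B_sub_right hQ, B_smul_right hQ, h1.2.2, h2.2.2,
    h1.self_left hQ, hvw, h1.symm.2.2]
  module

theorem sg_inv (hQ : IsNondegenerateQuadraticForm Q) {u v : ι → F} (h : SP Q u v) :
    (sg hQ u v)⁻¹ = sg hQ u (-v) := by
  have h' : SP Q u (-v) := by
    have := h.smul_right hQ (-1)
    rwa [neg_one_smul] at this
  rw [inv_eq_iff_mul_eq_one, sg_add hQ h h' (by rw [B_neg_right hQ, h.self_right hQ, neg_zero]),
    add_neg_cancel, sg_zero hQ h.1]

/-- `ρ(ap + br, cp + dr) = ρ(p, (ad - bc) r)` -/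
theorem sg_comb (hQ : IsNondegenerateQuadraticForm Q) {p r : ι → F} (h : SP Q p r) (a b c d : F) :
    sg hQ (a • p + b • r) (c • p + d • r) = sg hQ p ((a * d - b * c) • r) := by
  apply iso_ext
  intro x
  rw [act_sg hQ (h.comb hQ a b c d), act_sg hQ (h.smul_right hQ _)]
  simp only [B_add_left hQ, B_smul_left hQ]
  module

theorem sg_self (hQ : IsNondegenerateQuadraticForm Q) {u : ι → F} (hu : Q u = 0) (c : F) :
    sg hQ u (c • u) = 1 := by
  have h0 : SP Q u u := ⟨hu, hu, by rw [B_self hQ, hu, mul_zero]⟩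
  apply iso_ext
  intro x
  rw [act_sg hQ (h0.smul_right hQ c), act_one, B_smul_left hQ]
  module

/-- conjugation of a Siegel transformation -/
theorem sg_conj (hQ : IsNondegenerateQuadraticForm Q) (g : ↥(isometryGroup F Q)) {u v : ι → F}
    (h : SP Q u v) : g * sg hQ u v * g⁻¹ = sg hQ (act g u) (act g v) := by
  have h' : SP Q (act g u) (act g v) := ⟨by rw [Q_act g, h.1], by rw [Q_act g, h.2.1],
    by rw [B_act, h.2.2]⟩
  apply iso_ext
  intro x
  rw [act_mul, act_mul, act_sg hQ h, act_sg hQ h', act_sub, act_add, act_smul, act_smul,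
    act_act_inv, B_act_inv_right, B_act_inv_right]

end Cfsg.Agent.Helper94.ORoot
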