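import Mathlib
import Cfsg.Agent.Helper94.ORootA

set_option autoImplicit false
set_option linter.unusedSectionVars false
set_option linter.unusedVariables false
set_option linter.unusedSimpArgs false

/-!
# Siegel transvection subgroups `T(p, r)` of singular lines
-/

namespace Cfsg.Agent.Helper94.ORoot

open Matrix Cfsg Cfsg.Geo Cfsg.Agent.Helper94
open scoped commutatorElement

variable {ι : Type} [Fintype ι] [DecidableEq ι] {F : Type*} [Field F]
variable {Q : (ι → F) → F}

/-- the parametrised Siegel element of the line `⟨p, r⟩` -/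
noncomputable def tg (hQ : IsNondegenerateQuadraticForm Q) (p r : ι → F) (c : F) :
    ↥(isometryGroup F Q) := sg hQ p (c • r)

theorem act_tg (hQ : IsNondegenerateQuadraticForm Q) {p r : ι → F} (h : SP Q p r) (c : F)
    (x : ι → F) :
    act (tg hQ p r c) x
      = x + (c * QuadraticMap.polar Q p x) • r - (c * QuadraticMap.polar Q r x) • p := by
  unfold tg
  rw [act_sg hQ (h.smul_right hQ c), B_smul_left hQ]
  module

theorem tg_mul (hQ : IsNondegenerateQuadraticForm Q) {p r : ι → F} (h : SP Q p r) (c d : F) :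
    tg hQ p r c * tg hQ p r d = tg hQ p r (c + d) := by
  unfold tg
  rw [sg_add hQ (h.smul_right hQ c) (h.smul_right hQ d)
    (by rw [B_smul_left hQ, B_smul_right hQ, h.self_right hQ, mul_zero, mul_zero]), add_smul]

theorem tg_zero (hQ : IsNondegenerateQuadraticForm Q) {p r : ι → F} (h : SP Q p r) :
    tg hQ p r 0 = 1 := by
  unfold tg
  rw [zero_smul, sg_zero hQ h.1]

theorem tg_inv (hQ : IsNondegenerateQuadraticForm Q) {p r : ι → F} (h : SP Q p r) (c : F) :
    (tg hQ p r c)⁻¹ = tg hQ p r (-c) := by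
  rw [inv_eq_iff_mul_eq_one, tg_mul hQ h, add_neg_cancel, tg_zero hQ h]

/-- the Siegel transvection group of the line `⟨p, r⟩` -/
noncomputable def T (hQ : IsNondegenerateQuadraticForm Q) (p r : ι → F) :
    Subgroup ↥(isometryGroup F Q) :=
  Subgroup.closure (Set.range (tg hQ p r))

theorem tg_mem_T (hQ : IsNondegenerateQuadraticForm Q) (p r : ι → F) (c : F) :
    tg hQ p r c ∈ T hQ p r := Subgroup.subset_closure ⟨c, rfl⟩

theorem mem_T_iff (hQ : IsNondegenerateQuadraticForm Q) {p r : ι → F} (h : SP Q p r)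
    {g : ↥(isometryGroup F Q)} : g ∈ T hQ p r ↔ ∃ c : F, g = tg hQ p r c := by
  constructor
  · intro hg
    unfold T at hg
    induction hg using Subgroup.closure_induction with
    | mem x hx =>
      obtain ⟨c, rfl⟩ := hx
      exact ⟨c, rfl⟩
    | one => exact ⟨0, (tg_zero hQ h).symm⟩
    | mul x y _ _ hx hy =>
      obtain ⟨c, rfl⟩ := hx
      obtain ⟨d, rfl⟩ := hy
      exact ⟨c + d, tg_mul hQ h c d⟩
    | inv x _ hx =>
      obtain ⟨c, rfl⟩ := hx
      exact ⟨-c, tg_inv hQ h c⟩
  · rintro ⟨c, rfl⟩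
    exact tg_mem_T hQ p r c

theorem T_comm (hQ : IsNondegenerateQuadraticForm Q) {p r : ι → F} (h : SP Q p r) :
    IsMulCommutative ↥(T hQ p r) := by
  refine ⟨⟨?_⟩⟩
  rintro ⟨a, ha⟩ ⟨b, hb⟩
  obtain ⟨c, rfl⟩ := (mem_T_iff hQ h).1 ha
  obtain ⟨d, rfl⟩ := (mem_T_iff hQ h).1 hb
  apply Subtype.ext
  show tg hQ p r c * tg hQ p r d = tg hQ p r d * tg hQ p r c
  rw [tg_mul hQ h, tg_mul hQ h, add_comm]

/-- a linearly independent pair -/
theorem li_pair {p r : ι → F} (hli : LinearIndependent F ![p, r]) {a b : F}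
    (h : a • p + b • r = 0) : a = 0 ∧ b = 0 := by
  rw [LinearIndependent.pair_iff] at hli
  exact hli a b h

theorem li_ne_zero_left {p r : ι → F} (hli : LinearIndependent F ![p, r]) : p ≠ 0 := by
  have := hli.ne_zero 0
  simpa using this

theorem li_ne_zero_right {p r : ι → F} (hli : LinearIndependent F ![p, r]) : r ≠ 0 := by
  have := hli.ne_zero 1
  simpa using this

theorem exists_B_ne_zero (hQ : IsNondegenerateQuadraticForm Q) {p : ι → F} (hp : p ≠ 0) :
    ∃ x, QuadraticMap.polar Q p x ≠ 0 := (hQ.nondegenerate p hp).2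

theorem tg_eq_one_iff (hQ : IsNondegenerateQuadraticForm Q) {p r : ι → F} (h : SP Q p r)
    (hli : LinearIndependent F ![p, r]) (c : F) : tg hQ p r c = 1 ↔ c = 0 := by
  constructor
  · intro h1
    obtain ⟨x, hx⟩ := exists_B_ne_zero hQ (li_ne_zero_left hli)
    have h2 : act (tg hQ p r c) x = x := by rw [h1, act_one]
    rw [act_tg hQ h, sub_eq_add_neg, add_assoc, add_eq_left, ← neg_smul, add_comm] at h2
    have h3 := (li_pair hli h2).2
    rcases mul_eq_zero.mp h3 with h4 | h4
    · exact h4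
    · exact absurd h4 hx
  · rintro rfl
    exact tg_zero hQ h

theorem T_ne_bot (hQ : IsNondegenerateQuadraticForm Q) {p r : ι → F} (h : SP Q p r)
    (hli : LinearIndependent F ![p, r]) : T hQ p r ≠ ⊥ := by
  intro hT
  have h1 : tg hQ p r 1 ∈ T hQ p r := tg_mem_T hQ p r 1
  rw [hT, Subgroup.mem_bot, tg_eq_one_iff hQ h hli] at h1
  exact one_ne_zero h1

/-- change of basis of the line -/
theorem tg_comb (hQ : IsNondegenerateQuadraticForm Q) {p r : ι → F} (h : SP Q p r) (a b c d t : F) :
    tg hQ (a • p + b • r) (c • p + d • r) t = tg hQ p r (t * (a * d - b * c)) := by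
  unfold tg
  have h1 : t • (c • p + d • r) = (t * c) • p + (t * d) • r := by module
  rw [h1, sg_comb hQ h]
  congr 1
  module

theorem T_comb (hQ : IsNondegenerateQuadraticForm Q) {p r : ι → F} (h : SP Q p r) (a b c d : F)
    (hdet : a * d - b * c ≠ 0) : T hQ (a • p + b • r) (c • p + d • r) = T hQ p r := by
  ext g
  rw [mem_T_iff hQ (h.comb hQ a b c d), mem_T_iff hQ h]
  constructor
  · rintro ⟨t, rfl⟩
    exact ⟨_, tg_comb hQ h a b c d t⟩
  · rintro ⟨t, rfl⟩
    refine ⟨t / (a * d - b * c), ?_⟩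
    rw [tg_comb hQ h, div_mul_cancel₀ _ hdet]

theorem T_swap (hQ : IsNondegenerateQuadraticForm Q) {p r : ι → F} (h : SP Q p r) :
    T hQ r p = T hQ p r := by
  have := T_comb hQ h 0 1 1 0 (by norm_num)
  simpa using this

/-- independence after a change of basis -/
theorem li_comb {p r : ι → F} (hli : LinearIndependent F ![p, r]) (a b c d : F)
    (hdet : a * d - b * c ≠ 0) : LinearIndependent F ![a • p + b • r, c • p + d • r] := by
  rw [LinearIndependent.pair_iff]
  intro s t hst
  have h1 : (s * a + t * c) • p + (s * b + t * d) • r = 0 := by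
    rw [← hst]; module
  obtain ⟨h2, h3⟩ := li_pair hli h1
  have hs : s * (a * d - b * c) = 0 := by linear_combination d * h2 - c * h3
  have ht : t * (a * d - b * c) = 0 := by linear_combination a * h3 - b * h2
  exact ⟨(mul_eq_zero.mp hs).resolve_right hdet, (mul_eq_zero.mp ht).resolve_right hdet⟩

/-- conjugation of `T(p, r)` -/
theorem conjBy_T (hQ : IsNondegenerateQuadraticForm Q) {p r : ι → F} (h : SP Q p r)
    (g : ↥(isometryGroup F Q)) :
    Cfsg.conjBy (T hQ p r) g = T hQ (act g p) (act g r) := by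
  have h' : SP Q (act g p) (act g r) := ⟨by rw [Q_act g, h.1], by rw [Q_act g, h.2.1],
    by rw [B_act, h.2.2]⟩
  have key : ∀ c, g * tg hQ p r c * g⁻¹ = tg hQ (act g p) (act g r) c := by
    intro c
    unfold tg
    rw [sg_conj hQ g (h.smul_right hQ c), act_smul]
  ext x
  rw [Cfsg.Agent.Helper83.mem_conjBy, mem_T_iff hQ h, mem_T_iff hQ h']
  constructor
  · rintro ⟨c, hc⟩
    refine ⟨c, ?_⟩
    rw [← key, ← hc]
    group
  · rintro ⟨c, rfl⟩
    refine ⟨c, ?_⟩
    rw [← key]
    group

theorem li_act {p r : ι → F} (hli : LinearIndependent F ![p, r]) (g : ↥(isometryGroup F Q)) :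
    LinearIndependent F ![act g p, act g r] := by
  rw [LinearIndependent.pair_iff]
  intro s t hst
  have h1 : act g (s • p + t • r) = act g 0 := by
    rw [act_add, act_smul, act_smul, act_zero, hst]
  exact li_pair hli (act_injective g h1)

end Cfsg.Agent.Helper94.ORoot
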