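import Mathlib
import Cfsg.Agent.Helper94.ORootB

set_option autoImplicit false
set_option linter.unusedSectionVars false
set_option linter.unusedVariables false
set_option linter.unusedSimpArgs false

/-!
# The pointwise stabiliser of `ℓ^⊥` is the Siegel transvection group of `ℓ`
-/

namespace Cfsg.Agent.Helper94.ORoot

open Matrix Cfsg Cfsg.Geo Cfsg.Agent.Helper94
open scoped commutatorElement

variable {ι : Type} [Fintype ι] [DecidableEq ι] {F : Type*} [Field F]
variable {Q : (ι → F) → F}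

/-- the set of isometries fixing `⟨p, r⟩^⊥` pointwise, written as in the statement -/
def fixSet (Q : (ι → F) → F) (p r : ι → F) : Set ↥(isometryGroup F Q) :=
  {σ | ∀ v : ι → F, Q (v + p) - Q v - Q p = 0 → Q (v + r) - Q v - Q r = 0 →
    ((σ : Matrix.GeneralLinearGroup ι F) : Matrix ι ι F) *ᵥ v = v}

theorem mem_fixSet_iff {p r : ι → F} {σ : ↥(isometryGroup F Q)} :
    σ ∈ fixSet Q p r ↔ ∀ v : ι → F, QuadraticMap.polar Q v p = 0 → QuadraticMap.polar Q v r = 0 →
      act σ v = v := Iff.rfl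

theorem tg_mem_fixSet (hQ : IsNondegenerateQuadraticForm Q) {p r : ι → F} (h : SP Q p r) (c : F) :
    tg hQ p r c ∈ fixSet Q p r := by
  rw [mem_fixSet_iff]
  intro v hvp hvr
  rw [act_tg hQ h, B_comm p v, B_comm r v, hvp, hvr]
  simp

theorem fixSet_sub_T (hQ : IsNondegenerateQuadraticForm Q) {p r : ι → F} (h : SP Q p r)
    (hli : LinearIndependent F ![p, r]) {σ : ↥(isometryGroup F Q)} (hσ : σ ∈ fixSet Q p r) :
    ∃ b : F, σ = tg hQ p r b := by
  rw [mem_fixSet_iff] at hσ
  obtain ⟨y, hy⟩ := exists_dual_family hQ ![p, r] hli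
  obtain ⟨p', hp'⟩ : ∃ p', p' = y 0 := ⟨_, rfl⟩
  obtain ⟨r', hr'⟩ : ∃ r', r' = y 1 := ⟨_, rfl⟩
  have hpp' : QuadraticMap.polar Q p p' = 1 := by
    have := hy 0 0
    simpa [hp'] using this
  have hpr' : QuadraticMap.polar Q p r' = 0 := by
    have := hy 0 1
    simpa [hr'] using this
  have hrp' : QuadraticMap.polar Q r p' = 0 := by
    have := hy 1 0
    simpa [hp'] using this
  have hrr' : QuadraticMap.polar Q r r' = 1 := by
    have := hy 1 1
    simpa [hr'] using this
  have hpp := h.self_left hQ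
  have hrr := h.self_right hQ
  have hpr := h.2.2
  have hrp : QuadraticMap.polar Q r p = 0 := h.symm.2.2
  -- displacement lies in the line
  have hL : ∀ x, ∃ a b : F, act σ x = x + (a • p + b • r) := by
    intro x
    have h1 : act σ x - x ∈ Submodule.span F ({p, r} : Set (ι → F)) := by
      rw [← qperp_qperp hQ (Submodule.span F ({p, r} : Set (ι → F))), mem_qperp]
      intro s hs
      rw [mem_qperp] at hs
      have hsp : QuadraticMap.polar Q s p = 0 := by
        rw [B_comm]; exact hs p (Submodule.subset_span (by simp))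
      have hsr : QuadraticMap.polar Q s r = 0 := by
        rw [B_comm]; exact hs r (Submodule.subset_span (by simp))
      have hfix := hσ s hsp hsr
      rw [B_sub_right hQ]
      conv_lhs => rw [← hfix]
      rw [B_act, hfix, sub_self]
    obtain ⟨a, b, hab⟩ := Submodule.mem_span_pair.mp h1
    exact ⟨a, b, by rw [hab]; abel⟩
  obtain ⟨a, b, hab⟩ := hL p'
  obtain ⟨c, d, hcd⟩ := hL r'
  have ha : a = 0 := by
    have h1 := Q_act σ p'
    rw [hab, Q_add (Q := Q), Q_comb hQ h, B_add_right hQ, B_smul_right hQ, B_smul_right hQ,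
      B_comm p' p, B_comm p' r, hpp', hrp'] at h1
    linear_combination h1
  have hd : d = 0 := by
    have h1 := Q_act σ r'
    rw [hcd, Q_add (Q := Q), Q_comb hQ h, B_add_right hQ, B_smul_right hQ, B_smul_right hQ,
      B_comm r' p, B_comm r' r, hpr', hrr'] at h1
    linear_combination h1
  have hc : c = -b := by
    have h1 := B_act σ p' r'
    rw [hab, hcd, ha, hd] at h1
    simp only [B_add_left hQ, B_add_right hQ, B_smul_left hQ, B_smul_right hQ, hpp, hrr, hpr, hrp,
      hpp', hpr', hrp', hrr', B_comm p' p, B_comm p' r, B_comm r' p, B_comm r' r] at h1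
    linear_combination h1
  refine ⟨b, ?_⟩
  apply iso_ext
  intro x
  obtain ⟨y₀, hy₀⟩ : ∃ y₀, y₀ = x - QuadraticMap.polar Q p x • p' - QuadraticMap.polar Q r x • r' :=
    ⟨_, rfl⟩
  have hy₀p : QuadraticMap.polar Q y₀ p = 0 := by
    rw [hy₀]
    simp only [B_sub_left hQ, B_smul_left hQ, B_comm p' p, B_comm r' p, hpp', hrp, hpr', B_comm x p]
    ring
  have hy₀r : QuadraticMap.polar Q y₀ r = 0 := by
    rw [hy₀]
    simp only [B_sub_left hQ, B_smul_left hQ, B_comm p' r, B_comm r' r, hrp', hrr', B_comm x r]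
    ring
  have hx : x = y₀ + QuadraticMap.polar Q p x • p' + QuadraticMap.polar Q r x • r' := by
    rw [hy₀]; abel
  have hfix := hσ y₀ hy₀p hy₀r
  have key : act σ x = y₀ + QuadraticMap.polar Q p x • (p' + ((0 : F) • p + b • r))
      + QuadraticMap.polar Q r x • (r' + (-b • p + (0 : F) • r)) := by
    conv_lhs => rw [hx]
    rw [act_add, act_add, act_smul, act_smul, hfix, hab, hcd, ha, hd, hc]
  rw [act_tg hQ h, key, hy₀]
  module

theorem fixSet_eq (hQ : IsNondegenerateQuadraticForm Q) {p r : ι → F} (h : SP Q p r)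
    (hli : LinearIndependent F ![p, r]) :
    Subgroup.closure (fixSet Q p r) = T hQ p r := by
  have h1 : fixSet Q p r = (T hQ p r : Set ↥(isometryGroup F Q)) := by
    ext σ
    rw [SetLike.mem_coe, mem_T_iff hQ h]
    constructor
    · exact fixSet_sub_T hQ h hli
    · rintro ⟨c, rfl⟩
      exact tg_mem_fixSet hQ h c
  rw [h1, Subgroup.closure_eq]

/-- the family of the statement -/
def Sig0 (Q : (ι → F) → F) : Set (Subgroup ↥(isometryGroup F Q)) :=
  {A | ∃ p r : ι → F, LinearIndependent F ![p, r] ∧ Q p = 0 ∧ Q r = 0 ∧ Q (p + r) = 0 ∧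
    A = Subgroup.closure (fixSet Q p r)}

/-- the family of Siegel transvection groups -/
def Sig (hQ : IsNondegenerateQuadraticForm Q) : Set (Subgroup ↥(isometryGroup F Q)) :=
  {A | ∃ p r : ι → F, LinearIndependent F ![p, r] ∧ SP Q p r ∧ A = T hQ p r}

theorem Sig0_eq (hQ : IsNondegenerateQuadraticForm Q) : Sig0 Q = Sig hQ := by
  ext A
  constructor
  · rintro ⟨p, r, hli, hp, hr, hpr, rfl⟩
    have h : SP Q p r := ⟨hp, hr, by
      rw [Q_add (Q := Q), hp, hr] at hpr
      linear_combination hpr⟩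
    exact ⟨p, r, hli, h, fixSet_eq hQ h hli⟩
  · rintro ⟨p, r, hli, h, rfl⟩
    refine ⟨p, r, hli, h.1, h.2.1, ?_, (fixSet_eq hQ h hli).symm⟩
    rw [Q_add (Q := Q), h.1, h.2.1, h.2.2]
    ring

theorem T_mem_Sig (hQ : IsNondegenerateQuadraticForm Q) {p r : ι → F} (h : SP Q p r)
    (hli : LinearIndependent F ![p, r]) : T hQ p r ∈ Sig hQ := ⟨p, r, hli, h, rfl⟩

theorem Sig_comm (hQ : IsNondegenerateQuadraticForm Q) : ∀ A ∈ Sig hQ, IsMulCommutative A := by
  rintro _ ⟨p, r, hli, h, rfl⟩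
  exact T_comm hQ h

theorem Sig_ne_bot (hQ : IsNondegenerateQuadraticForm Q) : ∀ A ∈ Sig hQ, A ≠ ⊥ := by
  rintro _ ⟨p, r, hli, h, rfl⟩
  exact T_ne_bot hQ h hli

theorem Sig_conj (hQ : IsNondegenerateQuadraticForm Q) :
    ∀ A ∈ Sig hQ, ∀ g : ↥(isometryGroup F Q), Cfsg.conjBy A g ∈ Sig hQ := by
  rintro _ ⟨p, r, hli, h, rfl⟩ g
  rw [conjBy_T hQ h]
  exact ⟨act g p, act g r, li_act hli g, ⟨by rw [Q_act g, h.1], by rw [Q_act g, h.2.1],
    by rw [B_act, h.2.2]⟩, rfl⟩

end Cfsg.Agent.Helper94.ORoot
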