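import Mathlib
import Cfsg.Agent.Helper94.ORootC

set_option autoImplicit false
set_option linter.unusedSectionVars false
set_option linter.unusedVariables false
set_option linter.unusedSimpArgs false

/-!
# Pairs of Siegel transvection groups: the commuting case and the commutator case
-/

namespace Cfsg.Agent.Helper94.ORoot

open Matrix Cfsg Cfsg.Geo Cfsg.Agent.Helper94
open scoped commutatorElement

variable {ι : Type} [Fintype ι] [DecidableEq ι] {F : Type*} [Field F]
variable {Q : (ι → F) → F}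

/-- perpendicular lines give commuting Siegel elements -/
theorem tg_commute (hQ : IsNondegenerateQuadraticForm Q) {p r p' r' : ι → F} (h : SP Q p r)
    (h' : SP Q p' r') (h11 : QuadraticMap.polar Q p p' = 0) (h12 : QuadraticMap.polar Q p r' = 0)
    (h21 : QuadraticMap.polar Q r p' = 0) (h22 : QuadraticMap.polar Q r r' = 0) (c d : F) :
    tg hQ p r c * tg hQ p' r' d = tg hQ p' r' d * tg hQ p r c := by
  apply iso_ext
  intro x
  rw [act_mul, act_mul, act_tg hQ h, act_tg hQ h', act_tg hQ h, act_tg hQ h']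
  simp only [B_add_right hQ, B_sub_right hQ, B_smul_right hQ, h11, h12, h21, h22,
    B_comm p' p, B_comm r' p, B_comm p' r, B_comm r' r, h.2.2, h'.2.2, h.symm.2.2, h'.symm.2.2,
    h.self_left hQ, h.self_right hQ, h'.self_left hQ, h'.self_right hQ]
  module

theorem T_commute (hQ : IsNondegenerateQuadraticForm Q) {p r p' r' : ι → F} (h : SP Q p r)
    (h' : SP Q p' r') (h11 : QuadraticMap.polar Q p p' = 0) (h12 : QuadraticMap.polar Q p r' = 0)
    (h21 : QuadraticMap.polar Q r p' = 0) (h22 : QuadraticMap.polar Q r r' = 0) :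
    ∀ a ∈ T hQ p r, ∀ b ∈ T hQ p' r', a * b = b * a := by
  intro a ha b hb
  obtain ⟨c, rfl⟩ := (mem_T_iff hQ h).1 ha
  obtain ⟨d, rfl⟩ := (mem_T_iff hQ h').1 hb
  exact tg_commute hQ h h' h11 h12 h21 h22 c d

theorem commutator_eq_bot_of_commute {G : Type*} [Group G] {A B : Subgroup G}
    (h : ∀ a ∈ A, ∀ b ∈ B, a * b = b * a) : ⁅A, B⁆ = ⊥ := by
  rw [Subgroup.commutator_eq_bot_iff_le_centralizer]
  intro a ha
  rw [Subgroup.mem_centralizer_iff]
  intro b hb
  exact (h a ha b hb).symm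

/-- the commutator formula -/
theorem tg_comm_formula (hQ : IsNondegenerateQuadraticForm Q) {p r p' r' : ι → F} (h : SP Q p r)
    (h' : SP Q p' r') (h11 : QuadraticMap.polar Q p p' = 0) (h12 : QuadraticMap.polar Q p r' = 0)
    (h21 : QuadraticMap.polar Q r p' = 0) (c d : F) :
    tg hQ p r c * tg hQ p' r' d * (tg hQ p r c)⁻¹ * (tg hQ p' r' d)⁻¹
      = tg hQ p p' (c * d * QuadraticMap.polar Q r r') := by
  have h0 : SP Q p p' := ⟨h.1, h'.1, h11⟩
  have key : tg hQ p r c * tg hQ p' r' d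
      = tg hQ p p' (c * d * QuadraticMap.polar Q r r') * tg hQ p' r' d * tg hQ p r c := by
    apply iso_ext
    intro x
    rw [act_mul, act_mul, act_mul, act_tg hQ h, act_tg hQ h', act_tg hQ h0, act_tg hQ h',
      act_tg hQ h]
    simp only [B_add_right hQ, B_sub_right hQ, B_smul_right hQ, h11, h12, h21,
      B_comm p' p, B_comm r' p, B_comm p' r, B_comm r' r, h.2.2, h'.2.2, h.symm.2.2, h'.symm.2.2,
      h.self_left hQ, h.self_right hQ, h'.self_left hQ, h'.self_right hQ]
    module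
  rw [key]
  group

/-- rank one Gram matrix with a common point: the groups commute -/
theorem T_commute_of_dep (hQ : IsNondegenerateQuadraticForm Q) {p r p' r' : ι → F} (h : SP Q p r)
    (h' : SP Q p' r') (h11 : QuadraticMap.polar Q p p' = 0) (h12 : QuadraticMap.polar Q p r' = 0)
    (h21 : QuadraticMap.polar Q r p' = 0) {lam : F} (hdep : p' = lam • p) :
    ⁅T hQ p r, T hQ p' r'⁆ = ⊥ := by
  apply commutator_eq_bot_of_commute
  intro a ha b hb
  obtain ⟨c, rfl⟩ := (mem_T_iff hQ h).1 ha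
  obtain ⟨d, rfl⟩ := (mem_T_iff hQ h').1 hb
  have h1 := tg_comm_formula hQ h h' h11 h12 h21 c d
  have h2 : tg hQ p p' (c * d * QuadraticMap.polar Q r r') = 1 := by
    unfold tg
    rw [hdep, smul_smul, sg_self hQ h.1]
  rw [h2] at h1
  have h3 : tg hQ p r c * tg hQ p' r' d * (tg hQ p r c)⁻¹ = tg hQ p' r' d := by
    rw [mul_inv_eq_one] at h1
    exact h1
  exact mul_inv_eq_iff_eq_mul.mp h3

/-- the commutator subgroup in the commutator case -/
theorem commutator_T (hQ : IsNondegenerateQuadraticForm Q) {p r p' r' : ι → F} (h : SP Q p r)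
    (h' : SP Q p' r') (h11 : QuadraticMap.polar Q p p' = 0) (h12 : QuadraticMap.polar Q p r' = 0)
    (h21 : QuadraticMap.polar Q r p' = 0) (h22 : QuadraticMap.polar Q r r' ≠ 0) :
    ⁅T hQ p r, T hQ p' r'⁆ = T hQ p p' := by
  have h0 : SP Q p p' := ⟨h.1, h'.1, h11⟩
  apply le_antisymm
  · rw [Subgroup.commutator_le]
    intro a ha b hb
    obtain ⟨c, rfl⟩ := (mem_T_iff hQ h).1 ha
    obtain ⟨d, rfl⟩ := (mem_T_iff hQ h').1 hb
    rw [commutatorElement_def, tg_comm_formula hQ h h' h11 h12 h21]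
    exact tg_mem_T hQ _ _ _
  · intro g hg
    obtain ⟨t, rfl⟩ := (mem_T_iff hQ h0).1 hg
    have h3 := tg_comm_formula hQ h h' h11 h12 h21 1 (t / QuadraticMap.polar Q r r')
    rw [one_mul, div_mul_cancel₀ _ h22] at h3
    rw [← h3, ← commutatorElement_def]
    exact Subgroup.commutator_mem_commutator (tg_mem_T hQ _ _ _) (tg_mem_T hQ _ _ _)

/-- the commutator case -/
theorem commCase_T (hQ : IsNondegenerateQuadraticForm Q) {p r p' r' : ι → F} (h : SP Q p r)
    (h' : SP Q p' r') (hli : LinearIndependent F ![p, r]) (hli' : LinearIndependent F ![p', r'])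
    (h11 : QuadraticMap.polar Q p p' = 0) (h12 : QuadraticMap.polar Q p r' = 0)
    (h21 : QuadraticMap.polar Q r p' = 0) (h22 : QuadraticMap.polar Q r r' ≠ 0)
    (hli0 : LinearIndependent F ![p, p']) :
    Cfsg.RootCommutatorCase (Sig hQ) (T hQ p r) (T hQ p' r') := by
  have h0 : SP Q p p' := ⟨h.1, h'.1, h11⟩
  have hcomm := commutator_T hQ h h' h11 h12 h21 h22
  refine ⟨hcomm ▸ T_mem_Sig hQ h0 hli0, ?_, ?_, ?_⟩
  · intro z hz x hx
    rw [hcomm] at hz
    have hle : T hQ p r ⊔ T hQ p' r' ≤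
        Subgroup.centralizer (T hQ p p' : Set ↥(isometryGroup F Q)) := by
      refine sup_le ?_ ?_
      · intro a ha
        rw [Subgroup.mem_centralizer_iff]
        intro b hb
        exact T_commute hQ h0 h (h.self_left hQ) h.2.2 (by rw [B_comm]; exact h11)
          (by rw [B_comm]; exact h21) b hb a ha
      · intro a ha
        rw [Subgroup.mem_centralizer_iff]
        intro b hb
        exact T_commute hQ h0 h' h11 h12 (h'.self_left hQ) h'.2.2 b hb a ha
    have := hle hx
    rw [Subgroup.mem_centralizer_iff] at this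
    exact this z hz
  · intro a ha ha1
    obtain ⟨c, rfl⟩ := (mem_T_iff hQ h).1 ha
    have hc : c ≠ 0 := by
      rintro rfl
      exact ha1 (tg_zero hQ h)
    rw [hcomm]
    apply le_antisymm
    · rw [Subgroup.closure_le]
      rintro _ ⟨b, hb, rfl⟩
      obtain ⟨d, rfl⟩ := (mem_T_iff hQ h').1 hb
      show tg hQ p r c * tg hQ p' r' d * (tg hQ p r c)⁻¹ * (tg hQ p' r' d)⁻¹ ∈ T hQ p p'
      rw [tg_comm_formula hQ h h' h11 h12 h21]
      exact tg_mem_T hQ _ _ _
    · intro g hg
      obtain ⟨t, rfl⟩ := (mem_T_iff hQ h0).1 hg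
      refine Subgroup.subset_closure ⟨tg hQ p' r' (t / (c * QuadraticMap.polar Q r r')),
        tg_mem_T hQ _ _ _, ?_⟩
      show tg hQ p r c * tg hQ p' r' _ * (tg hQ p r c)⁻¹ * (tg hQ p' r' _)⁻¹ = _
      rw [tg_comm_formula hQ h h' h11 h12 h21]
      congr 1
      field_simp
  · intro b hb hb1
    obtain ⟨d, rfl⟩ := (mem_T_iff hQ h').1 hb
    have hd : d ≠ 0 := by
      rintro rfl
      exact hb1 (tg_zero hQ h')
    rw [hcomm]
    apply le_antisymm
    · rw [Subgroup.closure_le]
      rintro _ ⟨a, ha, rfl⟩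
      obtain ⟨c, rfl⟩ := (mem_T_iff hQ h).1 ha
      show tg hQ p r c * tg hQ p' r' d * (tg hQ p r c)⁻¹ * (tg hQ p' r' d)⁻¹ ∈ T hQ p p'
      rw [tg_comm_formula hQ h h' h11 h12 h21]
      exact tg_mem_T hQ _ _ _
    · intro g hg
      obtain ⟨t, rfl⟩ := (mem_T_iff hQ h0).1 hg
      refine Subgroup.subset_closure ⟨tg hQ p r (t / (d * QuadraticMap.polar Q r r')),
        tg_mem_T hQ _ _ _, ?_⟩
      show tg hQ p r _ * tg hQ p' r' d * (tg hQ p r _)⁻¹ * (tg hQ p' r' d)⁻¹ = _
      rw [tg_comm_formula hQ h h' h11 h12 h21]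
      congr 1
      field_simp

end Cfsg.Agent.Helper94.ORoot
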