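import Mathlib
import Cfsg.Agent.Helper94.ORootD

set_option autoImplicit false
set_option linter.unusedSectionVars false
set_option linter.unusedVariables false
set_option linter.unusedSimpArgs false

/-!
# The `SL₂` generated by the Siegel transvection groups of two opposite singular lines
-/

namespace Cfsg.Agent.Helper94.ORoot

open Matrix Cfsg Cfsg.Geo Cfsg.Agent.Helper94
open scoped commutatorElement

variable {ι : Type} [Fintype ι] [DecidableEq ι] {F : Type*} [Field F]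
variable {Q : (ι → F) → F}

/-- a hyperbolic quadruple `e₁, e₂, f₁, f₂` -/
structure Hyp4 (Q : (ι → F) → F) (e1 e2 f1 f2 : ι → F) : Prop where
  Qe1 : Q e1 = 0
  Qe2 : Q e2 = 0
  Qf1 : Q f1 = 0
  Qf2 : Q f2 = 0
  e1e2 : QuadraticMap.polar Q e1 e2 = 0
  f1f2 : QuadraticMap.polar Q f1 f2 = 0
  e1f1 : QuadraticMap.polar Q e1 f1 = 1
  e2f2 : QuadraticMap.polar Q e2 f2 = 1
  e1f2 : QuadraticMap.polar Q e1 f2 = 0
  e2f1 : QuadraticMap.polar Q e2 f1 = 0

/-- the linear map attached to `g ∈ SL₂` -/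
noncomputable def slLin (hQ : IsNondegenerateQuadraticForm Q) (e1 e2 f1 f2 : ι → F)
    (g : Matrix.SpecialLinearGroup (Fin 2) F) : (ι → F) →ₗ[F] (ι → F) :=
  LinearMap.id
    + ((g 0 0 - 1) • polarLin hQ f1 + g 0 1 • polarLin hQ e2).smulRight e1
    + ((g 0 0 - 1) • polarLin hQ f2 - g 0 1 • polarLin hQ e1).smulRight e2
    + ((g 1 1 - 1) • polarLin hQ e1 - g 1 0 • polarLin hQ f2).smulRight f1
    + ((g 1 1 - 1) • polarLin hQ e2 + g 1 0 • polarLin hQ f1).smulRight f2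

theorem slLin_apply (hQ : IsNondegenerateQuadraticForm Q) (e1 e2 f1 f2 : ι → F)
    (g : Matrix.SpecialLinearGroup (Fin 2) F) (x : ι → F) :
    slLin hQ e1 e2 f1 f2 g x = x
      + ((g 0 0 - 1) * QuadraticMap.polar Q f1 x + g 0 1 * QuadraticMap.polar Q e2 x) • e1
      + ((g 0 0 - 1) * QuadraticMap.polar Q f2 x - g 0 1 * QuadraticMap.polar Q e1 x) • e2
      + ((g 1 1 - 1) * QuadraticMap.polar Q e1 x - g 1 0 * QuadraticMap.polar Q f2 x) • f1
      + ((g 1 1 - 1) * QuadraticMap.polar Q e2 x + g 1 0 * QuadraticMap.polar Q f1 x) • f2 := rfl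

theorem sl2_det' (g : Matrix.SpecialLinearGroup (Fin 2) F) :
    g 0 0 * g 1 1 - g 0 1 * g 1 0 = 1 := by
  have := g.det_coe
  rwa [Matrix.det_fin_two] at this

section
variable (hQ : IsNondegenerateQuadraticForm Q) {e1 e2 f1 f2 : ι → F} (hh : Hyp4 Q e1 e2 f1 f2)
include hh

theorem slLin_mul (g g' : Matrix.SpecialLinearGroup (Fin 2) F) :
    slLin hQ e1 e2 f1 f2 (g * g') = slLin hQ e1 e2 f1 f2 g ∘ₗ slLin hQ e1 e2 f1 f2 g' := by
  have e1e1 : QuadraticMap.polar Q e1 e1 = 0 := by rw [B_self hQ, hh.Qe1, mul_zero]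
  have e2e2 : QuadraticMap.polar Q e2 e2 = 0 := by rw [B_self hQ, hh.Qe2, mul_zero]
  have f1f1 : QuadraticMap.polar Q f1 f1 = 0 := by rw [B_self hQ, hh.Qf1, mul_zero]
  have f2f2 : QuadraticMap.polar Q f2 f2 = 0 := by rw [B_self hQ, hh.Qf2, mul_zero]
  apply LinearMap.ext
  intro x
  rw [LinearMap.comp_apply, slLin_apply, slLin_apply, slLin_apply]
  simp only [B_add_right hQ, B_smul_right hQ, hh.e1e2, hh.f1f2, hh.e1f1, hh.e2f2, hh.e1f2,
    hh.e2f1, B_comm e2 e1, B_comm f2 f1, B_comm f1 e1, B_comm f2 e2, B_comm f2 e1, B_comm f1 e2,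
    e1e1, e2e2, f1f1, f2f2, Matrix.SpecialLinearGroup.coe_mul, Matrix.mul_apply,
    Fin.sum_univ_two]
  module

omit hh in
theorem slLin_one : slLin hQ e1 e2 f1 f2 1 = LinearMap.id := by
  apply LinearMap.ext
  intro x
  rw [slLin_apply]
  simp

/-- the matrix group element attached to `g ∈ SL₂` -/
noncomputable def slGL (g : Matrix.SpecialLinearGroup (Fin 2) F) :
    Matrix.GeneralLinearGroup ι F :=
  ⟨LinearMap.toMatrix' (slLin hQ e1 e2 f1 f2 g), LinearMap.toMatrix' (slLin hQ e1 e2 f1 f2 g⁻¹),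
    by rw [← LinearMap.toMatrix'_comp, ← slLin_mul hQ hh, mul_inv_cancel, slLin_one,
      LinearMap.toMatrix'_id],
    by rw [← LinearMap.toMatrix'_comp, ← slLin_mul hQ hh, inv_mul_cancel, slLin_one,
      LinearMap.toMatrix'_id]⟩

theorem slGL_mulVec (g : Matrix.SpecialLinearGroup (Fin 2) F) (x : ι → F) :
    ((slGL hQ hh g : Matrix.GeneralLinearGroup ι F) : Matrix ι ι F) *ᵥ x
      = slLin hQ e1 e2 f1 f2 g x := by
  show LinearMap.toMatrix' (slLin hQ e1 e2 f1 f2 g) *ᵥ x = _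
  rw [LinearMap.toMatrix'_mulVec]

theorem Q_slLin (g : Matrix.SpecialLinearGroup (Fin 2) F) (x : ι → F) :
    Q (slLin hQ e1 e2 f1 f2 g x) = Q x := by
  have e1e1 : QuadraticMap.polar Q e1 e1 = 0 := by rw [B_self hQ, hh.Qe1, mul_zero]
  have e2e2 : QuadraticMap.polar Q e2 e2 = 0 := by rw [B_self hQ, hh.Qe2, mul_zero]
  have f1f1 : QuadraticMap.polar Q f1 f1 = 0 := by rw [B_self hQ, hh.Qf1, mul_zero]
  have f2f2 : QuadraticMap.polar Q f2 f2 = 0 := by rw [B_self hQ, hh.Qf2, mul_zero]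
  have hdet := sl2_det' g
  rw [slLin_apply]
  obtain ⟨α, hα⟩ : ∃ α, α = ((g 0 0 - 1) * QuadraticMap.polar Q f1 x
    + g 0 1 * QuadraticMap.polar Q e2 x) := ⟨_, rfl⟩
  obtain ⟨β, hβ⟩ : ∃ β, β = ((g 0 0 - 1) * QuadraticMap.polar Q f2 x
    - g 0 1 * QuadraticMap.polar Q e1 x) := ⟨_, rfl⟩
  obtain ⟨γ, hγ⟩ : ∃ γ, γ = ((g 1 1 - 1) * QuadraticMap.polar Q e1 x
    - g 1 0 * QuadraticMap.polar Q f2 x) := ⟨_, rfl⟩
  obtain ⟨δ, hδ⟩ : ∃ δ, δ = ((g 1 1 - 1) * QuadraticMap.polar Q e2 x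
    + g 1 0 * QuadraticMap.polar Q f1 x) := ⟨_, rfl⟩
  rw [← hα, ← hβ, ← hγ, ← hδ]
  simp only [Q_add (Q := Q), Q_smul hQ, hh.Qe1, hh.Qe2, hh.Qf1, hh.Qf2, B_add_left hQ,
    B_add_right hQ, B_smul_left hQ, B_smul_right hQ, hh.e1e2, hh.f1f2, hh.e1f1, hh.e2f2, hh.e1f2,
    hh.e2f1, B_comm e2 e1, B_comm f2 f1, B_comm f1 e1, B_comm f2 e2, B_comm f2 e1, B_comm f1 e2,
    e1e1, e2e2, f1f1, f2f2, B_comm x e1, B_comm x e2, B_comm x f1, B_comm x f2]
  rw [hα, hβ, hγ, hδ]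
  linear_combination (QuadraticMap.polar Q e1 x * QuadraticMap.polar Q f1 x
    + QuadraticMap.polar Q e2 x * QuadraticMap.polar Q f2 x) * hdet

/-- the isometry attached to `g ∈ SL₂` -/
noncomputable def slIso (g : Matrix.SpecialLinearGroup (Fin 2) F) : ↥(isometryGroup F Q) :=
  ⟨slGL hQ hh g, by
    rw [mem_isometryGroup_iff]
    intro x
    rw [slGL_mulVec, Q_slLin hQ hh]⟩

theorem act_slIso (g : Matrix.SpecialLinearGroup (Fin 2) F) (x : ι → F) :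
    act (slIso hQ hh g) x = slLin hQ e1 e2 f1 f2 g x := slGL_mulVec hQ hh g x

/-- the homomorphism `SL₂(F) → O(Q)` of a hyperbolic quadruple -/
noncomputable def slHom : Matrix.SpecialLinearGroup (Fin 2) F →* ↥(isometryGroup F Q) :=
  MonoidHom.mk' (slIso hQ hh) (by
    intro g g'
    apply iso_ext
    intro x
    rw [act_mul, act_slIso, act_slIso, act_slIso, slLin_mul hQ hh, LinearMap.comp_apply])

theorem act_slHom (g : Matrix.SpecialLinearGroup (Fin 2) F) (x : ι → F) :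
    act (slHom hQ hh g) x = slLin hQ e1 e2 f1 f2 g x := act_slIso hQ hh g x

theorem sp12 : SP Q e1 e2 := ⟨hh.Qe1, hh.Qe2, hh.e1e2⟩

theorem sp12' : SP Q f1 f2 := ⟨hh.Qf1, hh.Qf2, hh.f1f2⟩

theorem slHom_U (b : F) : slHom hQ hh (Cfsg.Agent.S5016.U b) = tg hQ e1 e2 (-b) := by
  apply iso_ext
  intro x
  rw [act_slHom, slLin_apply, act_tg hQ (sp12 hh), Cfsg.Agent.S5016.U_apply]
  simp
  module

theorem slHom_L (c : F) : slHom hQ hh (Cfsg.Agent.S5016.L c) = tg hQ f1 f2 c := by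
  apply iso_ext
  intro x
  rw [act_slHom, slLin_apply, act_tg hQ (sp12' hh), Cfsg.Agent.S5016.L_apply]
  simp
  module

theorem map_upper : (Cfsg.upperUnipotentSL2 F).map (slHom hQ hh) = T hQ e1 e2 := by
  ext x
  rw [Subgroup.mem_map, mem_T_iff hQ (sp12 hh)]
  constructor
  · rintro ⟨g, hg, rfl⟩
    rw [Cfsg.Agent.S5016.eq_U_of_mem hg, slHom_U]
    exact ⟨_, rfl⟩
  · rintro ⟨c, rfl⟩
    refine ⟨Cfsg.Agent.S5016.U (-c), Cfsg.Agent.S5016.U_mem _, ?_⟩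
    rw [slHom_U, neg_neg]

theorem map_lower : (Cfsg.lowerUnipotentSL2 F).map (slHom hQ hh) = T hQ f1 f2 := by
  ext x
  rw [Subgroup.mem_map, mem_T_iff hQ (sp12' hh)]
  constructor
  · rintro ⟨g, hg, rfl⟩
    rw [Cfsg.Agent.S5016.eq_L_of_mem hg, slHom_L]
    exact ⟨_, rfl⟩
  · rintro ⟨c, rfl⟩
    exact ⟨Cfsg.Agent.S5016.L c, Cfsg.Agent.S5016.L_mem _, slHom_L hQ hh c⟩

theorem slHom_injective : Function.Injective (slHom hQ hh) := by
  have e1e1 : QuadraticMap.polar Q e1 e1 = 0 := by rw [B_self hQ, hh.Qe1, mul_zero]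
  have e2e2 : QuadraticMap.polar Q e2 e2 = 0 := by rw [B_self hQ, hh.Qe2, mul_zero]
  have f1f1 : QuadraticMap.polar Q f1 f1 = 0 := by rw [B_self hQ, hh.Qf1, mul_zero]
  have f2f2 : QuadraticMap.polar Q f2 f2 = 0 := by rw [B_self hQ, hh.Qf2, mul_zero]
  rw [injective_iff_map_eq_one]
  intro g hg
  have k1 : act (slHom hQ hh g) f1 = f1 := by rw [hg, act_one]
  have k2 : act (slHom hQ hh g) e1 = e1 := by rw [hg, act_one]
  rw [act_slHom, slLin_apply] at k1 k2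
  simp only [hh.e1e2, hh.f1f2, hh.e1f1, hh.e2f2, hh.e1f2,
    hh.e2f1, B_comm e2 e1, B_comm f2 f1, B_comm f1 e1, B_comm f2 e2, B_comm f2 e1, B_comm f1 e2,
    e1e1, e2e2, f1f1, f2f2, mul_zero, mul_one, add_zero, zero_add, zero_smul, sub_zero,
    zero_sub] at k1 k2
  -- k1 : f1 + (-g 0 1) • e2 + (g 1 1 - 1) • f1 = f1 ; k2 : e1 + (g 0 0 - 1) • e1 + (g 1 0) • f2 = e1
  have m1 : (-(g 0 1)) • e2 + (g 1 1 - 1) • f1 = 0 := by
    have : f1 + ((-(g 0 1)) • e2 + (g 1 1 - 1) • f1) = f1 := by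
      rw [← add_assoc]; exact k1
    rwa [add_eq_left] at this
  have m2 : (g 0 0 - 1) • e1 + (g 1 0) • f2 = 0 := by
    have : e1 + ((g 0 0 - 1) • e1 + (g 1 0) • f2) = e1 := by
      rw [← add_assoc]; exact k2
    rwa [add_eq_left] at this
  have a1 := congrArg (fun z => QuadraticMap.polar Q z f2) m1
  have a2 := congrArg (fun z => QuadraticMap.polar Q e1 z) m1
  have a3 := congrArg (fun z => QuadraticMap.polar Q z f1) m2
  have a4 := congrArg (fun z => QuadraticMap.polar Q e2 z) m2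
  simp only [B_add_left hQ, B_add_right hQ, B_smul_left hQ, B_smul_right hQ, hh.e1e2, hh.f1f2,
    hh.e1f1, hh.e2f2, hh.e1f2, hh.e2f1, B_comm e2 e1, B_comm f2 f1, B_comm f1 e1, B_comm f2 e2,
    B_comm f2 e1, B_comm f1 e2, e1e1, e2e2, f1f1, f2f2, B_zero_left hQ, B_zero_right hQ, mul_zero,
    mul_one, add_zero, zero_add] at a1 a2 a3 a4
  apply Matrix.SpecialLinearGroup.ext
  intro i j
  fin_cases i <;> fin_cases j
  · show g 0 0 = 1
    exact sub_eq_zero.mp a3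
  · show g 0 1 = 0
    exact neg_eq_zero.mp a1
  · show g 1 0 = 0
    exact a4
  · show g 1 1 = 1
    exact sub_eq_zero.mp a2

theorem T_ne_of_hyp : T hQ e1 e2 ≠ T hQ f1 f2 := by
  have f1f1 : QuadraticMap.polar Q f1 f1 = 0 := by rw [B_self hQ, hh.Qf1, mul_zero]
  intro hT
  have h1 : tg hQ e1 e2 1 ∈ T hQ f1 f2 := hT ▸ tg_mem_T hQ e1 e2 1
  obtain ⟨s, hs⟩ := (mem_T_iff hQ (sp12' hh)).1 h1
  have h2 := congrArg (fun g => act g f1) hs
  simp only [act_tg hQ (sp12 hh), act_tg hQ (sp12' hh), hh.e1f1, hh.e2f1, f1f1, B_comm f2 f1,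
    hh.f1f2, mul_zero, mul_one, zero_smul, one_smul, sub_zero, add_zero] at h2
  have h3 : e2 = 0 := by rwa [add_eq_left] at h2
  have h4 := hh.e2f2
  rw [h3, B_zero_left hQ] at h4
  exact zero_ne_one h4

/-- opposite lines generate an image of `SL₂` -/
theorem isSL2Image_of_hyp :
    Cfsg.Agent.Helper94.IsSL2Image F (T hQ e1 e2) (T hQ f1 f2) := by
  refine ⟨slHom hQ hh, ?_, map_upper hQ hh, map_lower hQ hh⟩
  rw [(MonoidHom.ker_eq_bot_iff _).mpr (slHom_injective hQ hh)]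
  exact bot_le

end

end Cfsg.Agent.Helper94.ORoot
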