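import Mathlib
import Cfsg.Agent.Helper94.ORootE

set_option autoImplicit false
set_option linter.unusedSectionVars false
set_option linter.unusedVariables false
set_option linter.unusedSimpArgs false

/-!
# The three alternatives for two Siegel transvection groups
-/

namespace Cfsg.Agent.Helper94.ORoot

open Matrix Cfsg Cfsg.Geo Cfsg.Agent.Helper94
open scoped commutatorElement

variable {ι : Type} [Fintype ι] [DecidableEq ι] {F : Type*} [Field F]
variable {Q : (ι → F) → F}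

theorem li_swap {p r : ι → F} (hli : LinearIndependent F ![p, r]) :
    LinearIndependent F ![r, p] := by
  have := li_comb hli 0 1 1 0 (by norm_num)
  simpa using this

/-- lines with invertible Gram matrix generate an image of `SL₂` -/
theorem isSL2Image_of_det (hQ : IsNondegenerateQuadraticForm Q) {p r p' r' : ι → F}
    (h : SP Q p r) (h' : SP Q p' r')
    (hdet : QuadraticMap.polar Q p p' * QuadraticMap.polar Q r r'
      - QuadraticMap.polar Q p r' * QuadraticMap.polar Q r p' ≠ 0) :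
    T hQ p r ≠ T hQ p' r' ∧ Cfsg.Agent.Helper94.IsSL2Image F (T hQ p r) (T hQ p' r') := by
  obtain ⟨m11, h11⟩ : ∃ m, m = QuadraticMap.polar Q p p' := ⟨_, rfl⟩
  obtain ⟨m12, h12⟩ : ∃ m, m = QuadraticMap.polar Q p r' := ⟨_, rfl⟩
  obtain ⟨m21, h21⟩ : ∃ m, m = QuadraticMap.polar Q r p' := ⟨_, rfl⟩
  obtain ⟨m22, h22⟩ : ∃ m, m = QuadraticMap.polar Q r r' := ⟨_, rfl⟩
  rw [← h11, ← h12, ← h21, ← h22] at hdet
  obtain ⟨Δ, hΔ⟩ : ∃ Δ, Δ = m11 * m22 - m12 * m21 := ⟨_, rfl⟩
  rw [← hΔ] at hdet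
  have hT : T hQ ((m22 / Δ) • p' + (-m21 / Δ) • r') ((-m12 / Δ) • p' + (m11 / Δ) • r')
      = T hQ p' r' := by
    apply T_comb hQ h'
    have : m22 / Δ * (m11 / Δ) - -m21 / Δ * (-m12 / Δ) = 1 / Δ := by
      field_simp
      rw [hΔ]; ring
    rw [this]
    exact one_div_ne_zero hdet
  have hsp := h'.comb hQ (m22 / Δ) (-m21 / Δ) (-m12 / Δ) (m11 / Δ)
  have hh : Hyp4 Q p r ((m22 / Δ) • p' + (-m21 / Δ) • r') ((-m12 / Δ) • p' + (m11 / Δ) • r') := by
    refine ⟨h.1, h.2.1, hsp.1, hsp.2.1, h.2.2, hsp.2.2, ?_, ?_, ?_, ?_⟩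
    · rw [B_add_right hQ, B_smul_right hQ, B_smul_right hQ, ← h11, ← h12]
      field_simp
      rw [hΔ]; ring
    · rw [B_add_right hQ, B_smul_right hQ, B_smul_right hQ, ← h21, ← h22]
      field_simp
      rw [hΔ]; ring
    · rw [B_add_right hQ, B_smul_right hQ, B_smul_right hQ, ← h11, ← h12]
      field_simp
      ring
    · rw [B_add_right hQ, B_smul_right hQ, B_smul_right hQ, ← h21, ← h22]
      field_simp
      ring
  rw [← hT]
  exact ⟨T_ne_of_hyp hQ hh, isSL2Image_of_hyp hQ hh⟩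

/-- singular Gram matrix with non-zero lower right entry -/
theorem pair_of_m22 (hQ : IsNondegenerateQuadraticForm Q) {p r p' r' : ι → F}
    (h : SP Q p r) (h' : SP Q p' r') (hli : LinearIndependent F ![p, r])
    (hli' : LinearIndependent F ![p', r'])
    (hdet : QuadraticMap.polar Q p p' * QuadraticMap.polar Q r r'
      - QuadraticMap.polar Q p r' * QuadraticMap.polar Q r p' = 0)
    (hne : QuadraticMap.polar Q r r' ≠ 0) :
    ⁅T hQ p r, T hQ p' r'⁆ = ⊥ ∨ Cfsg.RootCommutatorCase (Sig hQ) (T hQ p r) (T hQ p' r') := by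
  obtain ⟨m11, h11⟩ : ∃ m, m = QuadraticMap.polar Q p p' := ⟨_, rfl⟩
  obtain ⟨m12, h12⟩ : ∃ m, m = QuadraticMap.polar Q p r' := ⟨_, rfl⟩
  obtain ⟨m21, h21⟩ : ∃ m, m = QuadraticMap.polar Q r p' := ⟨_, rfl⟩
  obtain ⟨m22, h22⟩ : ∃ m, m = QuadraticMap.polar Q r r' := ⟨_, rfl⟩
  rw [← h11, ← h12, ← h21, ← h22] at hdet
  rw [← h22] at hne
  have hT : T hQ ((1 : F) • p + (-m12 / m22) • r) ((0 : F) • p + (1 : F) • r) = T hQ p r :=
    T_comb hQ h _ _ _ _ (by simp)
  have hT' : T hQ ((1 : F) • p' + (-m21 / m22) • r') ((0 : F) • p' + (1 / m22) • r')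
      = T hQ p' r' :=
    T_comb hQ h' _ _ _ _ (by simp [hne])
  have hsp := h.comb hQ 1 (-m12 / m22) 0 1
  have hsp' := h'.comb hQ 1 (-m21 / m22) 0 (1 / m22)
  have hl := li_comb hli 1 (-m12 / m22) 0 1 (by simp)
  have hl' := li_comb hli' 1 (-m21 / m22) 0 (1 / m22) (by simp [hne])
  obtain ⟨P, hP⟩ : ∃ P, P = (1 : F) • p + (-m12 / m22) • r := ⟨_, rfl⟩
  obtain ⟨R, hR⟩ : ∃ R, R = (0 : F) • p + (1 : F) • r := ⟨_, rfl⟩
  obtain ⟨P', hP'⟩ : ∃ P', P' = (1 : F) • p' + (-m21 / m22) • r' := ⟨_, rfl⟩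
  obtain ⟨R', hR'⟩ : ∃ R', R' = (0 : F) • p' + (1 / m22) • r' := ⟨_, rfl⟩
  have b11 : QuadraticMap.polar Q P P' = 0 := by
    rw [hP, hP']
    simp only [B_add_left hQ, B_add_right hQ, B_smul_left hQ, B_smul_right hQ, ← h11, ← h12,
      ← h21, ← h22]
    field_simp
    linear_combination hdet
  have b12 : QuadraticMap.polar Q P R' = 0 := by
    rw [hP, hR']
    simp only [B_add_left hQ, B_add_right hQ, B_smul_left hQ, B_smul_right hQ, ← h11, ← h12,
      ← h21, ← h22]
    field_simp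
    ring
  have b21 : QuadraticMap.polar Q R P' = 0 := by
    rw [hR, hP']
    simp only [B_add_left hQ, B_add_right hQ, B_smul_left hQ, B_smul_right hQ, ← h11, ← h12,
      ← h21, ← h22]
    field_simp
    ring
  have b22 : QuadraticMap.polar Q R R' ≠ 0 := by
    rw [hR, hR']
    simp only [B_add_left hQ, B_add_right hQ, B_smul_left hQ, B_smul_right hQ, ← h11, ← h12,
      ← h21, ← h22]
    field_simp
    simp [hne]
  rw [← hP, ← hR] at hT hsp hl
  rw [← hP', ← hR'] at hT' hsp' hl'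
  rw [← hT, ← hT']
  by_cases hind : LinearIndependent F ![P, P']
  · right
    exact commCase_T hQ hsp hsp' hl hl' b11 b12 b21 b22 hind
  · left
    rw [LinearIndependent.pair_iff' (li_ne_zero_left hl)] at hind
    push Not at hind
    obtain ⟨lam, hlam⟩ := hind
    exact T_commute_of_dep hQ hsp hsp' b11 b12 b21 hlam.symm

/-- the three alternatives -/
theorem T_pair (hQ : IsNondegenerateQuadraticForm Q) {p r p' r' : ι → F}
    (h : SP Q p r) (h' : SP Q p' r') (hli : LinearIndependent F ![p, r])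
    (hli' : LinearIndependent F ![p', r']) :
    ⁅T hQ p r, T hQ p' r'⁆ = ⊥ ∨
      (T hQ p r ≠ T hQ p' r' ∧ Cfsg.Agent.Helper94.IsSL2Image F (T hQ p r) (T hQ p' r')) ∨
      Cfsg.RootCommutatorCase (Sig hQ) (T hQ p r) (T hQ p' r') := by
  by_cases hdet : QuadraticMap.polar Q p p' * QuadraticMap.polar Q r r'
      - QuadraticMap.polar Q p r' * QuadraticMap.polar Q r p' = 0
  swap
  · right; left
    exact isSL2Image_of_det hQ h h' hdet
  by_cases h22 : QuadraticMap.polar Q r r' = 0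
  swap
  · rcases pair_of_m22 hQ h h' hli hli' hdet h22 with h1 | h1
    · exact Or.inl h1
    · exact Or.inr (Or.inr h1)
  by_cases h21 : QuadraticMap.polar Q r p' = 0
  swap
  · have := pair_of_m22 hQ h h'.symm hli (li_swap hli') (by linear_combination -hdet) h21
    rw [T_swap hQ h'] at this
    rcases this with h1 | h1
    · exact Or.inl h1
    · exact Or.inr (Or.inr h1)
  by_cases h12 : QuadraticMap.polar Q p r' = 0
  swap
  · have := pair_of_m22 hQ h.symm h' (li_swap hli) hli' (by linear_combination -hdet) h12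
    rw [T_swap hQ h] at this
    rcases this with h1 | h1
    · exact Or.inl h1
    · exact Or.inr (Or.inr h1)
  by_cases h11 : QuadraticMap.polar Q p p' = 0
  swap
  · have := pair_of_m22 hQ h.symm h'.symm (li_swap hli) (li_swap hli')
      (by linear_combination hdet) h11
    rw [T_swap hQ h, T_swap hQ h'] at this
    rcases this with h1 | h1
    · exact Or.inl h1
    · exact Or.inr (Or.inr h1)
  left
  exact commutator_eq_bot_of_commute (T_commute hQ h h' h11 h12 h21 h22)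

theorem Sig_pair (hQ : IsNondegenerateQuadraticForm Q) :
    ∀ A ∈ Sig hQ, ∀ B ∈ Sig hQ, ⁅A, B⁆ = ⊥ ∨
      (A ≠ B ∧ Cfsg.Agent.Helper94.IsSL2Image F A B) ∨ Cfsg.RootCommutatorCase (Sig hQ) A B := by
  rintro _ ⟨p, r, hli, h, rfl⟩ _ ⟨p', r', hli', h', rfl⟩
  exact T_pair hQ h h' hli hli'

end Cfsg.Agent.Helper94.ORoot
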