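import Mathlib
import Cfsg.Agent.Helper94.ORootF

set_option autoImplicit false
set_option linter.unusedSectionVars false
set_option linter.unusedVariables false
set_option linter.unusedSimpArgs false

/-!
# Two singular lines have a common opposite line (dimension at least six)
-/

namespace Cfsg.Agent.Helper94.ORoot

open Matrix Cfsg Cfsg.Geo Cfsg.Agent.Helper94
open scoped commutatorElement

variable {ι : Type} [Fintype ι] [DecidableEq ι] {F : Type*} [Field F]
variable {Q : (ι → F) → F}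

theorem exists_B_ne_both (hQ : IsNondegenerateQuadraticForm Q) {a b : ι → F} (ha : a ≠ 0)
    (hb : b ≠ 0) : ∃ z, QuadraticMap.polar Q a z ≠ 0 ∧ QuadraticMap.polar Q b z ≠ 0 := by
  obtain ⟨z₁, h1⟩ := exists_B_ne_zero hQ ha
  obtain ⟨z₂, h2⟩ := exists_B_ne_zero hQ hb
  by_cases h3 : QuadraticMap.polar Q b z₁ = 0
  swap
  · exact ⟨z₁, h1, h3⟩
  by_cases h4 : QuadraticMap.polar Q a z₂ = 0
  swap
  · exact ⟨z₂, h4, h2⟩
  refine ⟨z₁ + z₂, ?_, ?_⟩
  · rw [B_add_right hQ, h4, add_zero]; exact h1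
  · rw [B_add_right hQ, h3, zero_add]; exact h2

/-- a subspace of at most half the dimension on which the polar form does not vanish has a
non-singular vector in its perpendicular -/
theorem exists_nonsing_perp (hQ : IsNondegenerateQuadraticForm Q) (U : Submodule F (ι → F))
    (hU : 2 * Module.finrank F U ≤ Fintype.card ι) {a b : ι → F} (ha : a ∈ U) (hb : b ∈ U)
    (hab : QuadraticMap.polar Q a b ≠ 0) : ∃ t ∈ qperp hQ U, Q t ≠ 0 := by
  by_contra hcon
  push Not at hcon
  have hS : qperp hQ U ≤ qperp hQ (qperp hQ U) := by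
    intro y hy
    rw [mem_qperp]
    intro s hs
    unfold QuadraticMap.polar
    rw [hcon _ ((qperp hQ U).add_mem hs hy), hcon _ hs, hcon _ hy]
    ring
  rw [qperp_qperp] at hS
  have hd := finrank_add_finrank_qperp hQ U
  have hSU : qperp hQ U = U := by
    apply Submodule.eq_of_le_of_finrank_le hS
    omega
  have hb' : b ∈ qperp hQ U := by rw [hSU]; exact hb
  rw [mem_qperp] at hb'
  exact hab (hb' a ha)

theorem finrank_span_pair_le' (u v : ι → F) :
    Module.finrank F (Submodule.span F (Set.range ![u, v])) ≤ 2 := by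
  have := finrank_range_le_card (R := F) ![u, v]
  simpa [Set.finrank] using this

theorem finrank_span_triple_le' (u v w : ι → F) :
    Module.finrank F (Submodule.span F (Set.range ![u, v, w])) ≤ 3 := by
  have := finrank_range_le_card (R := F) ![u, v, w]
  simpa [Set.finrank] using this

/-- two singular points have a common singular non-neighbour -/
theorem exists_sing_both (hQ : IsNondegenerateQuadraticForm Q) (hcard : 5 ≤ Fintype.card ι)
    {u v : ι → F} (hu : Q u = 0) (hv : Q v = 0) (hu0 : u ≠ 0) (hv0 : v ≠ 0) :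
    ∃ z, Q z = 0 ∧ QuadraticMap.polar Q z u ≠ 0 ∧ QuadraticMap.polar Q z v ≠ 0 := by
  have huu : QuadraticMap.polar Q u u = 0 := by rw [B_self hQ, hu, mul_zero]
  have hvv : QuadraticMap.polar Q v v = 0 := by rw [B_self hQ, hv, mul_zero]
  by_cases huv : QuadraticMap.polar Q u v = 0
  · obtain ⟨z, hzu, hzv⟩ := exists_B_ne_both hQ hu0 hv0
    refine ⟨z + (-(Q z / QuadraticMap.polar Q u z)) • u, ?_, ?_, ?_⟩
    · rw [Q_add (Q := Q), Q_smul hQ, hu, B_smul_right hQ, B_comm z u]
      field_simp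
      ring
    · rw [B_add_left hQ, B_smul_left hQ, huu, mul_zero, add_zero, B_comm]
      exact hzu
    · rw [B_add_left hQ, B_smul_left hQ, huv, mul_zero, add_zero, B_comm]
      exact hzv
  · obtain ⟨t, ht, hQt⟩ := exists_nonsing_perp hQ (Submodule.span F (Set.range ![u, v]))
      (by have := finrank_span_pair_le' (F := F) u v; omega)
      (Submodule.subset_span ⟨0, rfl⟩) (Submodule.subset_span ⟨1, rfl⟩) huv
    rw [mem_qperp] at ht
    have htu : QuadraticMap.polar Q u t = 0 := ht u (Submodule.subset_span ⟨0, rfl⟩)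
    have htv : QuadraticMap.polar Q v t = 0 := ht v (Submodule.subset_span ⟨1, rfl⟩)
    refine ⟨u + (-(Q t) / QuadraticMap.polar Q u v) • v + t, ?_, ?_, ?_⟩
    · rw [Q_add3 hQ, Q_smul hQ, hu, hv, B_smul_right hQ, B_smul_left hQ, htu, htv]
      field_simp
      ring
    · simp only [B_add_left hQ, B_smul_left hQ, huu, B_comm t u, htu, B_comm v u]
      field_simp
      simpa using hQt
    · simp only [B_add_left hQ, B_smul_left hQ, hvv, B_comm t v, htv]
      simpa using huv

/-- a vector outside the line `⟨d⟩` is detected by some vector of `d^⟂` -/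
theorem exists_perp_ne (hQ : IsNondegenerateQuadraticForm Q) {a d : ι → F}
    (hind : a ∉ Submodule.span F ({d} : Set (ι → F))) :
    ∃ v, QuadraticMap.polar Q d v = 0 ∧ QuadraticMap.polar Q a v ≠ 0 := by
  by_contra hcon
  push Not at hcon
  apply hind
  rw [← qperp_qperp hQ (Submodule.span F ({d} : Set (ι → F))), mem_qperp]
  intro s hs
  rw [mem_qperp] at hs
  rw [B_comm]
  exact hcon s (hs d (Submodule.mem_span_singleton_self d))

theorem exists_perp_ne_both (hQ : IsNondegenerateQuadraticForm Q) {a z d : ι → F}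
    (ha : a ∉ Submodule.span F ({d} : Set (ι → F)))
    (hz : z ∉ Submodule.span F ({d} : Set (ι → F))) :
    ∃ v, QuadraticMap.polar Q d v = 0 ∧ QuadraticMap.polar Q a v ≠ 0 ∧
      QuadraticMap.polar Q z v ≠ 0 := by
  obtain ⟨v₁, h1d, h1a⟩ := exists_perp_ne hQ ha
  obtain ⟨v₂, h2d, h2z⟩ := exists_perp_ne hQ hz
  by_cases h1z : QuadraticMap.polar Q z v₁ = 0
  swap
  · exact ⟨v₁, h1d, h1a, h1z⟩
  by_cases h2a : QuadraticMap.polar Q a v₂ = 0
  swap
  · exact ⟨v₂, h2d, h2a, h2z⟩
  refine ⟨v₁ + v₂, ?_, ?_, ?_⟩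
  · rw [B_add_right hQ, h1d, h2d, add_zero]
  · rw [B_add_right hQ, h2a, add_zero]; exact h1a
  · rw [B_add_right hQ, h1z, zero_add]; exact h2z

/-- inside `u^⟂`, two singular points off `⟨u⟩` have a common singular non-neighbour -/
theorem exists_sing_perp_both (hQ : IsNondegenerateQuadraticForm Q) (hcard : 6 ≤ Fintype.card ι)
    {u q₁ q₂ : ι → F} (hq₁ : Q q₁ = 0) (hq₂ : Q q₂ = 0)
    (hu₁ : QuadraticMap.polar Q u q₁ = 0) (hu₂ : QuadraticMap.polar Q u q₂ = 0)
    (h₁ : q₁ ∉ Submodule.span F ({u} : Set (ι → F)))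
    (h₂ : q₂ ∉ Submodule.span F ({u} : Set (ι → F))) :
    ∃ v, Q v = 0 ∧ QuadraticMap.polar Q u v = 0 ∧ QuadraticMap.polar Q v q₁ ≠ 0 ∧
      QuadraticMap.polar Q v q₂ ≠ 0 := by
  have h11 : QuadraticMap.polar Q q₁ q₁ = 0 := by rw [B_self hQ, hq₁, mul_zero]
  have h22 : QuadraticMap.polar Q q₂ q₂ = 0 := by rw [B_self hQ, hq₂, mul_zero]
  by_cases h12 : QuadraticMap.polar Q q₁ q₂ = 0
  · obtain ⟨z, hzu, hz1, hz2⟩ := exists_perp_ne_both hQ h₁ h₂
    refine ⟨z + (-(Q z / QuadraticMap.polar Q q₁ z)) • q₁, ?_, ?_, ?_, ?_⟩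
    · rw [Q_add (Q := Q), Q_smul hQ, hq₁, B_smul_right hQ, B_comm z q₁]
      field_simp
      ring
    · rw [B_add_right hQ, B_smul_right hQ, hzu, hu₁, mul_zero, add_zero]
    · rw [B_add_left hQ, B_smul_left hQ, h11, mul_zero, add_zero, B_comm]
      exact hz1
    · rw [B_add_left hQ, B_smul_left hQ, h12, mul_zero, add_zero, B_comm]
      exact hz2
  · obtain ⟨t, ht, hQt⟩ := exists_nonsing_perp hQ (Submodule.span F (Set.range ![u, q₁, q₂]))
      (by have := finrank_span_triple_le' (F := F) u q₁ q₂; omega)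
      (Submodule.subset_span ⟨1, rfl⟩) (Submodule.subset_span ⟨2, rfl⟩) h12
    rw [mem_qperp] at ht
    have htu : QuadraticMap.polar Q u t = 0 := ht u (Submodule.subset_span ⟨0, rfl⟩)
    have ht1 : QuadraticMap.polar Q q₁ t = 0 := ht q₁ (Submodule.subset_span ⟨1, rfl⟩)
    have ht2 : QuadraticMap.polar Q q₂ t = 0 := ht q₂ (Submodule.subset_span ⟨2, rfl⟩)
    refine ⟨q₁ + (-(Q t) / QuadraticMap.polar Q q₁ q₂) • q₂ + t, ?_, ?_, ?_, ?_⟩
    · rw [Q_add3 hQ, Q_smul hQ, hq₁, hq₂, B_smul_right hQ, B_smul_left hQ, ht1, ht2]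
      field_simp
      ring
    · rw [B_add_right hQ, B_add_right hQ, B_smul_right hQ, hu₁, hu₂, htu]
      ring
    · simp only [B_add_left hQ, B_smul_left hQ, h11, B_comm t q₁, ht1, B_comm q₂ q₁]
      field_simp
      simpa using hQt
    · simp only [B_add_left hQ, B_smul_left hQ, h22, B_comm t q₂, ht2]
      simpa using h12

/-- two singular lines have a common opposite line -/
theorem exists_common_opp (hQ : IsNondegenerateQuadraticForm Q) (hcard : 6 ≤ Fintype.card ι)
    {p₁ r₁ p₂ r₂ : ι → F} (h₁ : SP Q p₁ r₁) (h₂ : SP Q p₂ r₂)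
    (hli₁ : LinearIndependent F ![p₁, r₁]) (hli₂ : LinearIndependent F ![p₂, r₂]) :
    ∃ u v, SP Q u v ∧
      QuadraticMap.polar Q u p₁ * QuadraticMap.polar Q v r₁
        - QuadraticMap.polar Q u r₁ * QuadraticMap.polar Q v p₁ ≠ 0 ∧
      QuadraticMap.polar Q u p₂ * QuadraticMap.polar Q v r₂
        - QuadraticMap.polar Q u r₂ * QuadraticMap.polar Q v p₂ ≠ 0 := by
  obtain ⟨u, hu, hup₁, hup₂⟩ := exists_sing_both hQ (by omega) h₁.1 h₂.1 (li_ne_zero_left hli₁)
    (li_ne_zero_left hli₂)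
  -- the points of the two lines perpendicular to `u`
  have aux : ∀ {p r : ι → F}, SP Q p r → LinearIndependent F ![p, r] →
      QuadraticMap.polar Q u p ≠ 0 →
      ∃ q, Q q = 0 ∧ QuadraticMap.polar Q u q = 0 ∧ q ∉ Submodule.span F ({u} : Set (ι → F)) ∧
        ∀ v, QuadraticMap.polar Q u p * QuadraticMap.polar Q v r
          - QuadraticMap.polar Q u r * QuadraticMap.polar Q v p
          = QuadraticMap.polar Q u p * QuadraticMap.polar Q v q := by
    intro p r h hli hup
    refine ⟨(-(QuadraticMap.polar Q u r / QuadraticMap.polar Q u p)) • p + (1 : F) • r,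
      Q_comb hQ h _ _, ?_, ?_, ?_⟩
    · rw [B_add_right hQ, B_smul_right hQ, B_smul_right hQ]
      field_simp
      ring
    · intro hmem
      obtain ⟨t, ht⟩ := Submodule.mem_span_singleton.mp hmem
      have h3 := congrArg (fun z => QuadraticMap.polar Q p z) ht
      simp only [B_add_right hQ, B_smul_right hQ, h.self_left hQ, h.2.2, mul_zero, add_zero] at h3
      have ht0 : t = 0 := by
        rcases mul_eq_zero.mp h3 with h4 | h4
        · exact h4
        · rw [B_comm] at h4; exact absurd h4 hup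
      rw [ht0, zero_smul] at ht
      have := (li_pair hli ht.symm).2
      exact one_ne_zero this
    · intro v
      rw [B_add_right hQ, B_smul_right hQ, B_smul_right hQ]
      field_simp
      ring
  obtain ⟨q₁, hq₁, huq₁, hq₁u, hdet₁⟩ := aux h₁ hli₁ hup₁
  obtain ⟨q₂, hq₂, huq₂, hq₂u, hdet₂⟩ := aux h₂ hli₂ hup₂
  obtain ⟨v, hv, huv, hv₁, hv₂⟩ := exists_sing_perp_both hQ hcard hq₁ hq₂ huq₁ huq₂ hq₁u hq₂u
  refine ⟨u, v, ⟨hu, hv, huv⟩, ?_, ?_⟩
  · rw [hdet₁ v]
    exact mul_ne_zero hup₁ hv₁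
  · rw [hdet₂ v]
    exact mul_ne_zero hup₂ hv₂

/-- independence from an invertible Gram matrix -/
theorem li_of_det (hQ : IsNondegenerateQuadraticForm Q) {u v p r : ι → F}
    (hdet : QuadraticMap.polar Q u p * QuadraticMap.polar Q v r
        - QuadraticMap.polar Q u r * QuadraticMap.polar Q v p ≠ 0) :
    LinearIndependent F ![u, v] := by
  rw [LinearIndependent.pair_iff]
  intro s t hst
  have h1 := congrArg (fun z => QuadraticMap.polar Q z p) hst
  have h2 := congrArg (fun z => QuadraticMap.polar Q z r) hst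
  simp only [B_add_left hQ, B_smul_left hQ, B_zero_left hQ] at h1 h2
  have hs : s * (QuadraticMap.polar Q u p * QuadraticMap.polar Q v r
        - QuadraticMap.polar Q u r * QuadraticMap.polar Q v p) = 0 := by
    linear_combination QuadraticMap.polar Q v r * h1 - QuadraticMap.polar Q v p * h2
  have ht : t * (QuadraticMap.polar Q u p * QuadraticMap.polar Q v r
        - QuadraticMap.polar Q u r * QuadraticMap.polar Q v p) = 0 := by
    linear_combination QuadraticMap.polar Q u p * h2 - QuadraticMap.polar Q u r * h1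
  exact ⟨(mul_eq_zero.mp hs).resolve_right hdet, (mul_eq_zero.mp ht).resolve_right hdet⟩

/-- the connectedness input for the glue lemma -/
theorem Sig_reach (hQ : IsNondegenerateQuadraticForm Q) (hcard : 6 ≤ Fintype.card ι) :
    ∀ A ∈ Sig hQ, ∀ B ∈ Sig hQ, Relation.ReflTransGen
      (fun X Y => X ∈ Sig hQ ∧ Y ∈ Sig hQ ∧ X ≠ Y ∧ Cfsg.Agent.Helper94.IsSL2Image F X Y) A B := by
  rintro _ ⟨p₁, r₁, hli₁, h₁, rfl⟩ _ ⟨p₂, r₂, hli₂, h₂, rfl⟩
  obtain ⟨u, v, huv, hd₁, hd₂⟩ := exists_common_opp hQ hcard h₁ h₂ hli₁ hli₂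
  have hli := li_of_det hQ hd₁
  have hmem := T_mem_Sig hQ huv hli
  have s1 := isSL2Image_of_det hQ h₁ huv (by
    rw [B_comm p₁ u, B_comm r₁ v, B_comm p₁ v, B_comm r₁ u]
    intro h0
    apply hd₁
    linear_combination h0)
  have s2 := isSL2Image_of_det hQ huv h₂ hd₂
  exact Relation.ReflTransGen.head ⟨T_mem_Sig hQ h₁ hli₁, hmem, s1.1, s1.2⟩
    (Relation.ReflTransGen.single ⟨hmem, T_mem_Sig hQ h₂ hli₂, s2.1, s2.2⟩)

theorem Sig_connected (hQ : IsNondegenerateQuadraticForm Q) (hcard : 6 ≤ Fintype.card ι) :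
    Cfsg.IsConnectedFamily (Cfsg.FAdj (Sig hQ)) (Sig hQ) := by
  intro A hA B hB
  refine Relation.ReflTransGen.mono ?_ _ _ (Sig_reach hQ hcard A hA B hB)
  rintro X Y ⟨hX, hY, hne, him⟩
  exact ⟨hX, hY, Cfsg.Agent.Helper94.isRankOnePair_of_image F him hne⟩

/-- the Siegel transvection groups form a set of `F`-root subgroups of the group they generate,
with connected graph of rank one pairs -/
theorem Sig_all (hQ : IsNondegenerateQuadraticForm Q) (hcard : 6 ≤ Fintype.card ι) :
    Cfsg.IsKRootSubgroupSet F (Cfsg.Agent.Helper94.relFam (Sig0 Q)) ∧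
    Cfsg.IsConnectedFamily (Cfsg.FAdj (Sig0 Q)) (Sig0 Q) := by
  rw [Sig0_eq hQ]
  refine ⟨Cfsg.Agent.Helper94.relFam_kroot F (Sig_comm hQ) (Sig_ne_bot hQ)
    (fun A hA g _ => Sig_conj hQ A hA g) (Sig_pair hQ), Sig_connected hQ hcard⟩

end Cfsg.Agent.Helper94.ORoot
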