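import Mathlib

set_option autoImplicit false
set_option linter.unusedSectionVars false
set_option linter.style.haveILetI false

/-!
# Common isotropic vectors of a family of bilinear forms over a finite field
(Chevalley–Warning), and totally isotropic subspaces of alternating spaces.
-/

namespace Cfsg.Agent.Helper94.Ti

open Module MvPolynomial

section cw

variable {F : Type*} [Field F] [Fintype F] {V : Type*} [AddCommGroup V] [Module F V]
  [FiniteDimensional F V]

/-- the quadratic polynomial attached to a bilinear form and a finite family of vectors -/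
noncomputable def quadPoly {n : ℕ} (β : LinearMap.BilinForm F V) (b : Fin n → V) :
    MvPolynomial (Fin n) F :=
  ∑ j, ∑ l, C (β (b j) (b l)) * X j * X l

theorem totalDegree_quadPoly_le {n : ℕ} (β : LinearMap.BilinForm F V) (b : Fin n → V) :
    (quadPoly β b).totalDegree ≤ 2 := by
  unfold quadPoly
  refine (totalDegree_finsetSum_le (fun j _ => ?_))
  refine (totalDegree_finsetSum_le (fun l _ => ?_))
  calc (C (β (b j) (b l)) * X j * X l).totalDegree
      ≤ (C (β (b j) (b l)) * X j).totalDegree + (X l : MvPolynomial (Fin n) F).totalDegree :=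
        totalDegree_mul _ _
    _ ≤ ((C (β (b j) (b l)) : MvPolynomial (Fin n) F).totalDegree +
          (X j : MvPolynomial (Fin n) F).totalDegree) +
          (X l : MvPolynomial (Fin n) F).totalDegree :=
        Nat.add_le_add_right (totalDegree_mul _ _) _
    _ = 2 := by rw [totalDegree_C, totalDegree_X, totalDegree_X]

theorem eval_quadPoly {n : ℕ} (β : LinearMap.BilinForm F V) (b : Fin n → V) (x : Fin n → F) :
    eval x (quadPoly β b) = β (∑ j, x j • b j) (∑ l, x l • b l) := by
  unfold quadPoly
  rw [LinearMap.BilinForm.sum_left, map_sum]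
  apply Finset.sum_congr rfl
  intro j _
  rw [LinearMap.BilinForm.sum_right, map_sum]
  apply Finset.sum_congr rfl
  intro l _
  rw [LinearMap.BilinForm.smul_left, LinearMap.BilinForm.smul_right, map_mul, map_mul, eval_C,
    eval_X, eval_X]
  ring

/-- **Chevalley–Warning for bilinear forms**: `N` bilinear forms have a common nonzero
isotropic vector in any subspace of dimension `> 2N`. -/
theorem exists_ne_zero_isotropic (W : Submodule F V) (N : ℕ)
    (β : Fin N → LinearMap.BilinForm F V) (h : 2 * N < finrank F ↥W) :
    ∃ u ∈ W, u ≠ 0 ∧ ∀ k, β k u u = 0 := by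
  classical
  obtain ⟨p, hp⟩ := CharP.exists F
  have hpp : p.Prime := CharP.char_is_prime F p
  set n := finrank F ↥W with hn
  let b : Basis (Fin n) F ↥W := Module.finBasis F ↥W
  let f : Fin N → MvPolynomial (Fin n) F := fun k => quadPoly (β k) (fun j => (b j : V))
  have hdeg : (∑ k, (f k).totalDegree) < Fintype.card (Fin n) := by
    rw [Fintype.card_fin]
    calc (∑ k, (f k).totalDegree) ≤ ∑ _k : Fin N, 2 :=
          Finset.sum_le_sum (fun k _ => totalDegree_quadPoly_le _ _)
      _ = 2 * N := by simp [mul_comm]
      _ < n := h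
  have hdvd : p ∣ Nat.card {x : Fin n → F // ∀ k, eval x (f k) = 0} := by
    rw [Nat.card_eq_fintype_card]
    convert char_dvd_card_solutions_of_fintype_sum_lt p hdeg
  have hzero : ∀ k, eval (0 : Fin n → F) (f k) = 0 := by
    intro k
    rw [eval_quadPoly]
    simp
  haveI : Nonempty {x : Fin n → F // ∀ k, eval x (f k) = 0} := ⟨⟨0, hzero⟩⟩
  have hpos : 0 < Nat.card {x : Fin n → F // ∀ k, eval x (f k) = 0} := Nat.card_pos
  have h2 : 1 < Nat.card {x : Fin n → F // ∀ k, eval x (f k) = 0} := by
    have := Nat.le_of_dvd hpos hdvd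
    have := hpp.two_le
    omega
  haveI : Nontrivial {x : Fin n → F // ∀ k, eval x (f k) = 0} :=
    Finite.one_lt_card_iff_nontrivial.mp h2
  obtain ⟨⟨x, hx⟩, hne⟩ := exists_ne (⟨0, hzero⟩ : {x : Fin n → F // ∀ k, eval x (f k) = 0})
  have hx0 : x ≠ 0 := fun h0 => hne (Subtype.ext h0)
  refine ⟨((b.equivFun.symm x : ↥W) : V), (b.equivFun.symm x).2, ?_, ?_⟩
  · intro h0
    apply hx0
    have h1 : b.equivFun.symm x = 0 := Subtype.ext h0
    have := congrArg b.equivFun h1
    rwa [LinearEquiv.apply_symm_apply, map_zero] at this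
  · intro k
    have h1 := hx k
    rw [eval_quadPoly] at h1
    have h2 : ((b.equivFun.symm x : ↥W) : V) = ∑ j, x j • (b j : V) := by
      rw [Basis.equivFun_symm_apply]
      simp
    rw [h2]
    exact h1

end cw

end Cfsg.Agent.Helper94.Ti
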