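import Mathlib
import Cfsg.Agent.Helper99.SpStructD
import Cfsg.Agent.Helper94.TiA

set_option autoImplicit false
set_option linter.unusedSectionVars false
set_option linter.style.haveILetI false

/-!
# Totally isotropic invariant subspaces for semisimple isometries of alternating spaces
-/

namespace Cfsg.Agent.Helper94.Ti

open Module Polynomial
open Cfsg.Agent.Helper59.InvChain Cfsg.Agent.Helper59.Elusive
open Cfsg.Agent.Helper99.RDecomp Cfsg.Agent.Helper99.SpStruct

universe u v

variable {F : Type u} [Field F] {V : Type v} [AddCommGroup V] [Module F V] [FiniteDimensional F V]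
variable {B : LinearMap.BilinForm F V}

/-- totally isotropic subspaces of every dimension up to half, inside a nondegenerate subspace -/
theorem exists_ti_sub (hB : B.IsAlt) : ∀ k : ℕ, ∀ W : Submodule F V, Nd B W →
    2 * k ≤ finrank F ↥W → ∃ U : Submodule F V, U ≤ W ∧ Orth B U U ∧ finrank F ↥U = k := by
  intro k
  induction k with
  | zero =>
    intro W _ _
    exact ⟨⊥, bot_le, fun u hu _ _ => by rw [(Submodule.mem_bot F).mp hu]; simp, by simp⟩
  | succ k ih =>
    intro W hW hdim
    have hWne : W ≠ ⊥ := by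
      intro h
      rw [h, finrank_bot] at hdim
      omega
    obtain ⟨u, hu, hu0⟩ := Submodule.exists_mem_ne_zero_of_ne_bot hWne
    obtain ⟨P, hPW, huP, hPnd, hPdim⟩ := exists_plane hB hW hu hu0
    have hfr := hPnd.finrank_inf_orth hB.isRefl hPW
    obtain ⟨U', hU'le, hU'ti, hU'dim⟩ := ih (W ⊓ B.orthogonal P)
      (hPnd.inf_orth hB.isRefl hPW hW) (by omega)
    have hPU' : Orth B P U' := orth_inf_orth.mono le_rfl hU'le
    have hspanP : Submodule.span F {u} ≤ P := by
      rw [Submodule.span_singleton_le_iff_mem]; exact huP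
    have huu : Orth B (Submodule.span F {u}) (Submodule.span F {u}) := by
      intro a ha b hb
      obtain ⟨s, rfl⟩ := Submodule.mem_span_singleton.mp ha
      obtain ⟨t, rfl⟩ := Submodule.mem_span_singleton.mp hb
      rw [map_smul, map_smul, LinearMap.smul_apply, hB.self_eq_zero, smul_zero, smul_zero]
    have huU' : Orth B (Submodule.span F {u}) U' := hPU'.mono hspanP le_rfl
    have hdis : Disjoint (Submodule.span F {u}) U' := (hPU'.disjoint hPnd).mono_left hspanP
    refine ⟨Submodule.span F {u} ⊔ U', sup_le (hspanP.trans hPW) (hU'le.trans inf_le_left), ?_, ?_⟩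
    · exact Orth.sup_left (Orth.sup_right huu huU')
        (Orth.sup_right (huU'.symm hB.isRefl) hU'ti)
    · rw [finrank_sup_of_disjoint hdis, finrank_span_singleton hu0, hU'dim]
      omega

/-- a totally isotropic subspace of a nondegenerate subspace has at most half the dimension -/
theorem ti_finrank_le (hB : B.IsRefl) (hnd : B.Nondegenerate) {U W : Submodule F V}
    (hUW : U ≤ W) (hW : Nd B W) (hU : Orth B U U) : 2 * finrank F ↥U ≤ finrank F ↥W := by
  have h1 := finrank_inf_orth_of_le hB hnd hUW hW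
  have h2 : U ≤ W ⊓ B.orthogonal U := le_inf hUW (orth_iff_le.mp hU)
  have h3 := Submodule.finrank_mono h2
  omega

/-- a semisimple isometry of a nondegenerate alternating space -/
structure IsoSetup (B : LinearMap.BilinForm F V) (y : Module.End F V) (n : ℕ) : Prop where
  alt : B.IsAlt
  nondeg : B.Nondegenerate
  isom : ∀ u v, B (y u) (y v) = B u v
  ne_zero : (n : F) ≠ 0
  pow_eq : y ^ n = 1

variable {y : Module.End F V} {n : ℕ}

theorem toIso {r i : ℕ} (h : SpSetup B r y i) : IsoSetup B y r :=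
  ⟨h.alt, h.nondeg, h.isom, h.setup.ne_zero, h.setup.pow_eq⟩

theorem IsoSetup.pos (h : IsoSetup B y n) : 0 < n := by
  rcases Nat.eq_zero_or_pos n with h0 | h0
  · exfalso
    apply h.ne_zero
    rw [h0, Nat.cast_zero]
  · exact h0

theorem IsoSetup.isom_pow (h : IsoSetup B y n) (k : ℕ) (u v : V) :
    B ((y ^ k) u) ((y ^ k) v) = B u v := by
  induction k with
  | zero => simp
  | succ k ih => rw [pow_succ', Module.End.mul_apply, Module.End.mul_apply, h.isom, ih]

theorem IsoSetup.inv_orthogonal (h : IsoSetup B y n) {W : Submodule F V} (hW : Inv y W) :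
    Inv y (B.orthogonal W) := by
  rw [inv_iff]
  intro m hm
  rw [LinearMap.BilinForm.mem_orthogonal_iff] at hm ⊢
  intro w hw
  have hn := h.pos
  have h1 : w = y ((y ^ (n - 1)) w) := by
    rw [← Module.End.mul_apply, ← pow_succ', Nat.sub_add_cancel hn, h.pow_eq]
    rfl
  rw [h1, h.isom]
  exact hm _ (pow_mem_of_inv hW _ hw)

/-- splitting off a totally isotropic invariant subspace: a nondegenerate invariant
complement of `U` in `U^⊥ ∩ W`. -/
theorem IsoSetup.exists_compl_ti (h : IsoSetup B y n) {W U : Submodule F V} (hWinv : Inv y W)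
    (hW : Nd B W) (hUW : U ≤ W) (hUinv : Inv y U) (hU : Orth B U U) :
    ∃ C : Submodule F V, C ≤ W ∧ Inv y C ∧ Nd B C ∧ Orth B U C ∧ Disjoint U C ∧
      finrank F ↥C + 2 * finrank F ↥U = finrank F ↥W := by
  have hrefl := h.alt.isRefl
  set M := W ⊓ B.orthogonal U with hM
  have hMinv : Inv y M := inv_inf hWinv (h.inv_orthogonal hUinv)
  have hUM : U ≤ M := le_inf hUW (orth_iff_le.mp hU)
  have hMW : M ≤ W := inf_le_left
  have hMdim : finrank F ↥M + finrank F ↥U = finrank F ↥W :=
    finrank_inf_orth_of_le hrefl h.nondeg hUW hW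
  obtain ⟨C'', hC''c, hC''inv⟩ := Cfsg.Agent.Helper99.SemiCompl.exists_invariant_compl n
    h.ne_zero y 1 one_ne_zero (by rw [h.pow_eq, one_smul]) U hUinv
  obtain ⟨hdUC, hsUC⟩ := exists_rel_compl hUM C'' hC''c
  set C := C'' ⊓ M with hC
  have hCorth : Orth B U C := orth_iff_le.mpr (inf_le_right.trans inf_le_right)
  have hCdim : finrank F ↥U + finrank F ↥C = finrank F ↥M := by
    rw [← finrank_sup_of_disjoint hdUC, hsUC]
  refine ⟨C, inf_le_right.trans hMW, inv_inf hC''inv hMinv, ?_, hCorth, hdUC, by omega⟩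
  -- nondegeneracy
  have hUeq : W ⊓ B.orthogonal M = U := by
    symm
    apply Submodule.eq_of_le_of_finrank_eq
    · refine le_inf hUW ?_
      intro u hu
      rw [LinearMap.BilinForm.mem_orthogonal_iff]
      intro m hm
      have hm' : m ∈ B.orthogonal U := (Submodule.mem_inf.mp hm).2
      rw [LinearMap.BilinForm.mem_orthogonal_iff] at hm'
      exact hrefl _ _ (hm' u hu)
    · have := finrank_inf_orth_of_le hrefl h.nondeg hMW hW
      omega
  rw [nd_iff]
  intro x hx hx'
  have hxW : x ∈ W := (inf_le_right.trans hMW) hx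
  have hxM : x ∈ B.orthogonal M := by
    rw [LinearMap.BilinForm.mem_orthogonal_iff]
    intro m hm
    rw [← hsUC] at hm
    obtain ⟨a, ha, c, hc, rfl⟩ := Submodule.mem_sup.mp hm
    rw [map_add, LinearMap.add_apply, hx' c hc, add_zero]
    exact hCorth a ha x hx
  have hxU : x ∈ U := by
    rw [← hUeq]; exact ⟨hxW, hxM⟩
  have : x ∈ U ⊓ C := ⟨hxU, hx⟩
  rw [hdUC.eq_bot] at this
  exact (Submodule.mem_bot F).mp this

/-- stacking totally isotropic invariant pieces -/
theorem IsoSetup.stack (h : IsoSetup B y n) (S : Submodule F V) (i thr : ℕ)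
    (hex : ∀ W : Submodule F V, Inv y W → Nd B W → W ≤ S → thr ≤ finrank F ↥W →
      ∃ U₀ : Submodule F V, U₀ ≤ W ∧ Inv y U₀ ∧ Orth B U₀ U₀ ∧ finrank F ↥U₀ = i) :
    ∀ b : ℕ, ∀ W : Submodule F V, Inv y W → Nd B W → W ≤ S →
      thr + 2 * (b * i) ≤ finrank F ↥W →
      ∃ U : Submodule F V, U ≤ W ∧ Inv y U ∧ Orth B U U ∧ finrank F ↥U = (b + 1) * i := by
  intro b
  induction b with
  | zero =>
    intro W hWinv hW hWS hdim
    obtain ⟨U₀, h1, h2, h3, h4⟩ := hex W hWinv hW hWS (by omega)
    exact ⟨U₀, h1, h2, h3, by rw [h4]; ring⟩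
  | succ b ih =>
    intro W hWinv hW hWS hdim
    obtain ⟨U₀, hU₀W, hU₀inv, hU₀ti, hU₀dim⟩ := hex W hWinv hW hWS (by omega)
    obtain ⟨C, hCW, hCinv, hCnd, hUC, hdis, hCdim⟩ :=
      h.exists_compl_ti hWinv hW hU₀W hU₀inv hU₀ti
    have h1 : (b + 1) * i = b * i + i := by ring
    obtain ⟨U', hU'C, hU'inv, hU'ti, hU'dim⟩ := ih C hCinv hCnd (hCW.trans hWS) (by omega)
    have hUU' : Orth B U₀ U' := hUC.mono le_rfl hU'C
    refine ⟨U₀ ⊔ U', sup_le hU₀W (hU'C.trans hCW), inv_sup hU₀inv hU'inv, ?_, ?_⟩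
    · exact Orth.sup_left (Orth.sup_right hU₀ti hUU')
        (Orth.sup_right (hUU'.symm h.alt.isRefl) hU'ti)
    · rw [finrank_sup_of_disjoint (hdis.mono_right hU'C), hU₀dim, hU'dim]
      ring

end Cfsg.Agent.Helper94.Ti
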