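import Mathlib
import Cfsg.Agent.Helper94.TiB

set_option autoImplicit false
set_option linter.unusedSectionVars false
set_option linter.style.haveILetI false

/-!
# Totally isotropic invariant subspaces of the cyclotomic part
-/

namespace Cfsg.Agent.Helper94.Ti

open Module Polynomial
open Cfsg.Agent.Helper59.InvChain Cfsg.Agent.Helper59.Elusive
open Cfsg.Agent.Helper99.RDecomp Cfsg.Agent.Helper99.SpStruct

universe u v

variable {F : Type u} [Field F] {V : Type v} [AddCommGroup V] [Module F V] [FiniteDimensional F V]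
variable {B : LinearMap.BilinForm F V} {r : ℕ} {y : Module.End F V} {i : ℕ}

/-- a nonzero invariant subspace of the cyclotomic part contains an invariant subspace of
dimension `i` -/
theorem exists_irr (h : SpSetup B r y i) {W : Submodule F V} (hWinv : Inv y W)
    (hWc : W ≤ cycSp r y) (hne : W ≠ ⊥) :
    ∃ U₀ : Submodule F V, U₀ ≤ W ∧ Inv y U₀ ∧ finrank F ↥U₀ = i := by
  have hipos := h.setup.c_pos
  obtain ⟨m, hm⟩ := h.setup.dvd W hWinv hWc
  have hWpos : 0 < finrank F ↥W := by
    rw [Nat.pos_iff_ne_zero]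
    intro h0
    exact hne (Submodule.finrank_eq_zero.mp h0)
  have hile : 1 * i ≤ finrank F ↥W := by
    rw [one_mul]
    exact Nat.le_of_dvd hWpos ⟨m, hm⟩
  obtain ⟨U₀, h1, h2, h3⟩ := chain_exists y (cyclotomic r F) i h.hp W hWinv
    (fun u hu => hWc hu) 1 hile
  exact ⟨U₀, h1, h2, by rw [h3, one_mul]⟩

/-- for odd `i`, invariant subspaces of dimension `i` of the cyclotomic part are totally
isotropic -/
theorem ti_of_irr_odd (h : SpSetup B r y i) (hi : ¬ Even i) {U₀ : Submodule F V}
    (hU₀inv : Inv y U₀) (hU₀c : U₀ ≤ cycSp r y) (hU₀dim : finrank F ↥U₀ = i) :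
    Orth B U₀ U₀ := by
  have hRinv : Inv y (U₀ ⊓ B.orthogonal U₀) := inv_inf hU₀inv (h.inv_orthogonal hU₀inv)
  obtain ⟨m', hm'⟩ := h.setup.dvd (U₀ ⊓ B.orthogonal U₀) hRinv (inf_le_left.trans hU₀c)
  have hRle : finrank F ↥(U₀ ⊓ B.orthogonal U₀) ≤ i := by
    rw [← hU₀dim]; exact Submodule.finrank_mono inf_le_left
  rw [orth_iff_le]
  rcases Nat.eq_zero_or_pos m' with h0 | hpos
  · exfalso
    rw [h0, mul_zero] at hm'
    have hnd : Nd B U₀ := by
      unfold Nd
      rw [disjoint_iff]
      exact Submodule.finrank_eq_zero.mp hm'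
    have := even_finrank h.alt hnd
    rw [hU₀dim] at this
    exact hi this
  · have h1 : i ≤ i * m' := Nat.le_mul_of_pos_right i hpos
    have h2 : finrank F ↥(U₀ ⊓ B.orthogonal U₀) = finrank F ↥U₀ := by omega
    have h3 : U₀ ⊓ B.orthogonal U₀ = U₀ := Submodule.eq_of_le_of_finrank_eq inf_le_left h2
    intro x hx
    rw [← h3] at hx
    exact hx.2

theorem exists_ti_irr_odd (h : SpSetup B r y i) (hi : ¬ Even i) {W : Submodule F V}
    (hWinv : Inv y W) (hWc : W ≤ cycSp r y) (hdim : 1 ≤ finrank F ↥W) :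
    ∃ U₀ : Submodule F V, U₀ ≤ W ∧ Inv y U₀ ∧ Orth B U₀ U₀ ∧ finrank F ↥U₀ = i := by
  have hne : W ≠ ⊥ := by
    intro h0
    rw [h0, finrank_bot] at hdim
    omega
  obtain ⟨U₀, h1, h2, h3⟩ := exists_irr h hWinv hWc hne
  exact ⟨U₀, h1, h2, ti_of_irr_odd h hi h2 (h1.trans hWc) h3, h3⟩

/-- totally isotropic invariant subspaces of the cyclotomic part, `i` odd -/
theorem exists_ti_cyc_odd (h : SpSetup B r y i) (hi : ¬ Even i) (b : ℕ)
    (hb : 2 * (b * i) ≤ finrank F ↥(cycSp r y)) :
    ∃ U : Submodule F V, U ≤ cycSp r y ∧ Inv y U ∧ Orth B U U ∧ finrank F ↥U = b * i := by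
  rcases Nat.eq_zero_or_pos b with h0 | hpos
  · subst h0
    exact ⟨⊥, bot_le, inv_bot y, fun u hu _ _ => by rw [(Submodule.mem_bot F).mp hu]; simp,
      by simp⟩
  · obtain ⟨b', rfl⟩ : ∃ b', b = b' + 1 := ⟨b - 1, by omega⟩
    have hipos := h.setup.c_pos
    have hcnd : Nd B (cycSp r y) := by
      have := h.nd_inf_cyc (inv_top y) (by
        rw [nd_iff]
        intro u _ hu
        exact h.nondeg.2 u (fun w => hu w trivial))
      rwa [top_inf_eq] at this
    have h1 : (b' + 1) * i = b' * i + i := by ring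
    exact (toIso h).stack (cycSp r y) i 1
      (fun W hWinv _ hWc hdim => exists_ti_irr_odd h hi hWinv hWc hdim) b' (cycSp r y)
      (inv_cycSp r y) hcnd le_rfl (by omega)

section finite

variable [Fintype F]

/-- Chevalley–Warning: an invariant subspace of the cyclotomic part of dimension at least `r`
contains a totally isotropic invariant subspace of dimension `i` (`r` odd) -/
theorem exists_ti_irr_even (h : SpSetup B r y i) (hodd : Odd r) {W : Submodule F V}
    (hWinv : Inv y W) (hWc : W ≤ cycSp r y) (hdim : r ≤ finrank F ↥W) :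
    ∃ U₀ : Submodule F V, U₀ ≤ W ∧ Inv y U₀ ∧ Orth B U₀ U₀ ∧ finrank F ↥U₀ = i := by
  obtain ⟨m, hm⟩ := hodd
  obtain ⟨u, huW, hu0, hu⟩ := exists_ne_zero_isotropic W m
    (fun k : Fin m => B.compRight (y ^ (k.val + 1))) (by omega)
  have hk : ∀ k : ℕ, 1 ≤ k → k ≤ m → B u ((y ^ k) u) = 0 := by
    intro k hk1 hkm
    have := hu ⟨k - 1, by omega⟩
    rw [LinearMap.BilinForm.compRight_apply] at this
    have h1 : k - 1 + 1 = k := by omega
    simpa only [h1] using this
  have hred : ∀ k : ℕ, (y ^ k) u = (y ^ (k % r)) u := by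
    intro k
    conv_lhs => rw [← Nat.div_add_mod k r, pow_add, pow_mul, h.setup.pow_eq, one_pow, one_mul]
  have hall : ∀ k : ℕ, B u ((y ^ k) u) = 0 := by
    intro k
    rw [hred k]
    have hlt : k % r < r := Nat.mod_lt _ h.setup.prime.pos
    set k' := k % r with hk'
    rcases Nat.eq_zero_or_pos k' with h0 | hpos
    · rw [h0, pow_zero]
      exact h.alt.self_eq_zero u
    · by_cases hle : k' ≤ m
      · exact hk k' hpos hle
      · push Not at hle
        have hj1 : 1 ≤ r - k' := by omega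
        have hjm : r - k' ≤ m := by omega
        have h1 : B u ((y ^ k') u) = B ((y ^ (r - k')) u) ((y ^ (r - k')) ((y ^ k') u)) :=
          (h.isom_pow (r - k') _ _).symm
        rw [h1, ← Module.End.mul_apply, ← pow_add, Nat.sub_add_cancel (le_of_lt hlt),
          h.setup.pow_eq, ← h.alt.neg_eq]
        rw [Module.End.one_apply, hk (r - k') hj1 hjm, neg_zero]
  have hall2 : ∀ a b : ℕ, B ((y ^ a) u) ((y ^ b) u) = 0 := by
    intro a b
    rcases le_total a b with hab | hab
    · obtain ⟨c, rfl⟩ := Nat.exists_eq_add_of_le hab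
      rw [pow_add, Module.End.mul_apply, h.isom_pow]
      exact hall c
    · obtain ⟨c, rfl⟩ := Nat.exists_eq_add_of_le hab
      apply h.alt.isRefl
      rw [pow_add, Module.End.mul_apply, h.isom_pow]
      exact hall c
  have hZinv := inv_cycSub y u
  have hZW : cycSub y u ≤ W := cycSub_le y hWinv huW
  have hZti : Orth B (cycSub y u) (cycSub y u) := by
    intro x hx x' hx'
    obtain ⟨g, rfl⟩ := mem_cycSub.mp hx
    obtain ⟨g', rfl⟩ := mem_cycSub.mp hx'
    rw [aeval_eq_sum_range, aeval_eq_sum_range]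
    simp only [LinearMap.sum_apply, LinearMap.smul_apply, LinearMap.BilinForm.sum_left,
      LinearMap.BilinForm.sum_right, LinearMap.BilinForm.smul_left,
      LinearMap.BilinForm.smul_right, hall2, mul_zero, Finset.sum_const_zero]
  have hZne : cycSub y u ≠ ⊥ := by
    intro h0
    have := self_mem_cycSub y u
    rw [h0] at this
    exact hu0 ((Submodule.mem_bot F).mp this)
  obtain ⟨U₀, h1, h2, h3⟩ := exists_irr h hZinv (hZW.trans hWc) hZne
  exact ⟨U₀, h1.trans hZW, h2, hZti.mono h1 h1, h3⟩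

/-- totally isotropic invariant subspaces of the cyclotomic part, `r` odd (used for even `i`) -/
theorem exists_ti_cyc_even (h : SpSetup B r y i) (hodd : Odd r) (b : ℕ)
    (hb : b = 0 ∨ r + 2 * ((b - 1) * i) ≤ finrank F ↥(cycSp r y)) :
    ∃ U : Submodule F V, U ≤ cycSp r y ∧ Inv y U ∧ Orth B U U ∧ finrank F ↥U = b * i := by
  rcases Nat.eq_zero_or_pos b with h0 | hpos
  · subst h0
    exact ⟨⊥, bot_le, inv_bot y, fun u hu _ _ => by rw [(Submodule.mem_bot F).mp hu]; simp,
      by simp⟩
  · obtain ⟨b', rfl⟩ : ∃ b', b = b' + 1 := ⟨b - 1, by omega⟩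
    have hb' : r + 2 * (b' * i) ≤ finrank F ↥(cycSp r y) := by
      rcases hb with hb | hb
      · omega
      · simpa using hb
    have hcnd : Nd B (cycSp r y) := by
      have := h.nd_inf_cyc (inv_top y) (by
        rw [nd_iff]
        intro u _ hu
        exact h.nondeg.2 u (fun w => hu w trivial))
      rwa [top_inf_eq] at this
    exact (toIso h).stack (cycSp r y) i r
      (fun W hWinv _ hWc hdim => exists_ti_irr_even h hodd hWinv hWc hdim) b' (cycSp r y)
      (inv_cycSp r y) hcnd le_rfl hb'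

end finite

end Cfsg.Agent.Helper94.Ti
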