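import Mathlib
import Cfsg.Agent.Helper94.TiC

set_option autoImplicit false
set_option linter.unusedSectionVars false
set_option linter.style.haveILetI false

/-!
# Existence of totally isotropic invariant `m`-spaces for isometries of odd prime order
-/

namespace Cfsg.Agent.Helper94.Ti

open Module Polynomial
open Cfsg.Agent.Helper59.InvChain Cfsg.Agent.Helper59.Elusive
open Cfsg.Agent.Helper99.RDecomp Cfsg.Agent.Helper99.SpStruct

universe u v

theorem arith_even (i m n k' t' f : ℕ) (hi : 0 < i) (hf : f + k' * i = n) (hfge : n % i ≤ f)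
    (h2l : 2 * (m % i) ≤ n % i) (hcond : t' + 2 * (m / i) ≤ n / i) :
    ∃ b : ℕ, (b = 0 ∨ t' + 2 * b ≤ k' + 1) ∧ b * i ≤ m ∧ 2 * (m - b * i) ≤ f := by
  have hm := Nat.div_add_mod m i
  have hn := Nat.div_add_mod n i
  set m' := m / i with hm'
  set ℓ := m % i with hℓ
  set n' := n / i with hn'
  set kk := n % i with hkk
  have hmi : m' * i ≤ m := Nat.div_mul_le_self m i
  by_cases hcase : 2 * m' + t' ≤ k' + 1
  · refine ⟨m', Or.inr (by omega), hmi, ?_⟩
    have : m - m' * i = ℓ := by
      have : i * m' = m' * i := mul_comm _ _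
      omega
    rw [this]
    omega
  · push Not at hcase
    set b := (k' + 1 - t') / 2 with hb
    have hbm : b ≤ m' := by omega
    have hbi : b * i ≤ m' * i := Nat.mul_le_mul_right i hbm
    refine ⟨b, by omega, hbi.trans hmi, ?_⟩
    have hkey : 2 * m' + k' ≤ n' + 2 * b := by omega
    have hkey' : (2 * m' + k') * i ≤ (n' + 2 * b) * i := Nat.mul_le_mul_right i hkey
    have e1 : (2 * m' + k') * i = 2 * (m' * i) + k' * i := by ring
    have e2 : (n' + 2 * b) * i = n' * i + 2 * (b * i) := by ring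
    have e3 : i * m' = m' * i := mul_comm _ _
    have e4 : i * n' = n' * i := mul_comm _ _
    omega

theorem arith_odd (i m n k' f : ℕ) (hi : 0 < i) (hf : f + k' * (2 * i) = n)
    (hfge : n % (2 * i) ≤ f) (h2l : 2 * (m % i) ≤ n % (2 * i)) (hmn : 2 * m ≤ n) :
    ∃ b : ℕ, 2 * (b * i) ≤ k' * (2 * i) ∧ b * i ≤ m ∧ 2 * (m - b * i) ≤ f := by
  have hm := Nat.div_add_mod m i
  set m' := m / i with hm'
  set ℓ := m % i with hℓ
  have hmi : m' * i ≤ m := Nat.div_mul_le_self m i
  have e3 : i * m' = m' * i := mul_comm _ _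
  by_cases hcase : k' ≤ m'
  · have h1 : k' * i ≤ m' * i := Nat.mul_le_mul_right i hcase
    refine ⟨k', by rw [mul_left_comm], h1.trans hmi, ?_⟩
    have e1 : k' * (2 * i) = 2 * (k' * i) := by ring
    omega
  · push Not at hcase
    have h1 : m' * i ≤ k' * i := Nat.mul_le_mul_right i (le_of_lt hcase)
    refine ⟨m', ?_, hmi, ?_⟩
    · have e1 : k' * (2 * i) = 2 * (k' * i) := by ring
      omega
    · have : m - m' * i = ℓ := by omega
      rw [this]
      omega

variable {F : Type u} [Field F] {V : Type v} [AddCommGroup V] [Module F V] [FiniteDimensional F V]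
variable {B : LinearMap.BilinForm F V} {r : ℕ} {y : Module.End F V} {i : ℕ}

theorem nd_top_of_nondeg (hnd : B.Nondegenerate) : Nd B (⊤ : Submodule F V) := by
  rw [nd_iff]
  intro u _ hu
  exact hnd.2 u (fun w => hu w trivial)

theorem nd_fix (h : SpSetup B r y i) : Nd B (fixSp y) := by
  have := h.nd_inf_fix (inv_top y) (nd_top_of_nondeg h.nondeg)
  rwa [top_inf_eq] at this

theorem nd_cyc (h : SpSetup B r y i) : Nd B (cycSp r y) := by
  have := h.nd_inf_cyc (inv_top y) (nd_top_of_nondeg h.nondeg)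
  rwa [top_inf_eq] at this

/-- glue a totally isotropic subspace of the fixed space and one of the cyclotomic part -/
theorem exists_ti_of_parts (h : SpSetup B r y i) {a e : ℕ} (ha : 2 * a ≤ finrank F ↥(fixSp y))
    {U : Submodule F V} (hUc : U ≤ cycSp r y) (hUinv : Inv y U) (hUti : Orth B U U)
    (hUdim : finrank F ↥U = e) :
    ∃ W : Submodule F V, finrank F ↥W = a + e ∧ Orth B W W ∧ Inv y W := by
  obtain ⟨A, hAle, hAti, hAdim⟩ := exists_ti_sub h.alt a (fixSp y) (nd_fix h) ha
  have hAU : Orth B A U := h.orth_fix_cyc.mono hAle hUc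
  have hdis : Disjoint A U := by
    have : Fact r.Prime := ⟨h.setup.prime⟩
    have hd : Disjoint (fixSp y) (cycSp r y) := by
      rw [disjoint_iff]
      exact disjoint_fix_cyc r h.setup.ne_zero y
    exact hd.mono hAle hUc
  refine ⟨A ⊔ U, ?_, ?_, inv_sup (inv_of_le_fixSp hAle) hUinv⟩
  · rw [finrank_sup_of_disjoint hdis, hAdim, hUdim]
  · exact Orth.sup_left (Orth.sup_right hAti hAU)
      (Orth.sup_right (hAU.symm h.alt.isRefl) hUti)

/-- dimension bookkeeping: `finrank V = finrank Fix + k' * blockSize i` -/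
theorem exists_blocks_eq (h : SpSetup B r y i) :
    ∃ k' : ℕ, finrank F ↥(fixSp y) + k' * blockSize i = finrank F V ∧
      finrank F ↥(cycSp r y) = k' * blockSize i ∧
      finrank F V % blockSize i ≤ finrank F ↥(fixSp y) := by
  obtain ⟨k', hk'⟩ := h.blockSize_dvd (inv_cycSp r y) (nd_cyc h) le_rfl
  have htot := h.setup.total
  refine ⟨k', by rw [htot, hk', mul_comm], by rw [hk', mul_comm], ?_⟩
  have h1 : finrank F V % blockSize i = finrank F ↥(fixSp y) % blockSize i := by
    rw [htot, hk', Nat.add_mul_mod_self_left]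
  rw [h1]
  exact Nat.mod_le _ _

section finite

variable [Fintype F]

/-- (⇐) for odd `r`: the arithmetic criterion gives a totally isotropic invariant `m`-space -/
theorem exists_ti_inv_of_cond (h : SpSetup B r y i) (hodd : Odd r) (hir : i ∣ r - 1) (m : ℕ)
    (hm : 2 * m ≤ finrank F V)
    (h2l : 2 * (m % i) ≤ finrank F V % blockSize i)
    (hcond : ¬ Even i ∨ (r - 1) / i + 2 * (m / i) ≤ finrank F V / i) :
    ∃ W : Submodule F V, finrank F ↥W = m ∧ Orth B W W ∧ Inv y W := by
  have hipos := h.setup.c_pos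
  obtain ⟨k', hk1, hk2, hk3⟩ := exists_blocks_eq h
  by_cases hi : Even i
  · rw [blockSize_even hi] at hk1 hk2 hk3 h2l
    have hcond' : (r - 1) / i + 2 * (m / i) ≤ finrank F V / i := by
      rcases hcond with hc | hc
      · exact absurd hi hc
      · exact hc
    obtain ⟨b, hb1, hb2, hb3⟩ := arith_even i m (finrank F V) k' ((r - 1) / i)
      (finrank F ↥(fixSp y)) hipos hk1 hk3 h2l hcond'
    have hr1 : (r - 1) / i * i = r - 1 := Nat.div_mul_cancel hir
    have hrpos := h.setup.prime.pos
    obtain ⟨U, hUc, hUinv, hUti, hUdim⟩ := exists_ti_cyc_even h hodd b (by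
      rcases hb1 with hb1 | hb1
      · exact Or.inl hb1
      · rcases Nat.eq_zero_or_pos b with h0 | hpos
        · exact Or.inl h0
        · right
          rw [hk2]
          have h1 : (r - 1) / i + 2 * (b - 1) + 1 ≤ k' := by omega
          have h2 := Nat.mul_le_mul_right i h1
          have e1 : ((r - 1) / i + 2 * (b - 1) + 1) * i =
              (r - 1) / i * i + 2 * ((b - 1) * i) + i := by ring
          omega)
    obtain ⟨W, hW1, hW2, hW3⟩ := exists_ti_of_parts h (a := m - b * i) (by omega) hUc hUinv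
      hUti hUdim
    exact ⟨W, by rw [hW1]; omega, hW2, hW3⟩
  · rw [blockSize_odd hi] at hk1 hk2 hk3 h2l
    obtain ⟨b, hb1, hb2, hb3⟩ := arith_odd i m (finrank F V) k' (finrank F ↥(fixSp y)) hipos
      hk1 hk3 h2l hm
    obtain ⟨U, hUc, hUinv, hUti, hUdim⟩ := exists_ti_cyc_odd h hi b (by rw [hk2]; exact hb1)
    obtain ⟨W, hW1, hW2, hW3⟩ := exists_ti_of_parts h (a := m - b * i) (by omega) hUc hUinv
      hUti hUdim
    exact ⟨W, by rw [hW1]; omega, hW2, hW3⟩

end finite

end Cfsg.Agent.Helper94.Ti
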