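import Mathlib
import Cfsg.Agent.Helper94.TiD

set_option autoImplicit false
set_option linter.unusedSectionVars false
set_option linter.style.haveILetI false

/-!
# Obstructions to totally isotropic invariant `m`-spaces
-/

namespace Cfsg.Agent.Helper94.Ti

open Module Polynomial
open Cfsg.Agent.Helper59.InvChain Cfsg.Agent.Helper59.Elusive
open Cfsg.Agent.Helper99.RDecomp Cfsg.Agent.Helper99.SpStruct

universe u v

variable {F : Type u} [Field F] {V : Type v} [AddCommGroup V] [Module F V] [FiniteDimensional F V]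
variable {B : LinearMap.BilinForm F V} {r : ℕ} {y : Module.End F V} {i : ℕ}

/-- decomposition of a totally isotropic invariant subspace -/
theorem ti_inv_split (h : SpSetup B r y i) {W : Submodule F V} (hWinv : Inv y W)
    (hWti : Orth B W W) :
    finrank F ↥W = finrank F ↥(W ⊓ fixSp y) + finrank F ↥(W ⊓ cycSp r y) ∧
      2 * finrank F ↥(W ⊓ fixSp y) ≤ finrank F ↥(fixSp y) ∧
      i ∣ finrank F ↥(W ⊓ cycSp r y) ∧
      2 * finrank F ↥(W ⊓ cycSp r y) ≤ finrank F ↥(cycSp r y) := by
  refine ⟨h.setup.split W hWinv, ?_, h.setup.dvd_inf W hWinv, ?_⟩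
  · exact ti_finrank_le h.alt.isRefl h.nondeg inf_le_right (nd_fix h)
      (hWti.mono inf_le_left inf_le_left)
  · exact ti_finrank_le h.alt.isRefl h.nondeg inf_le_right (nd_cyc h)
      (hWti.mono inf_le_left inf_le_left)

/-- obstruction: the fixed space is too small for the residue of `m` modulo `i` -/
theorem no_ti_of_mod (h : SpSetup B r y i) {W : Submodule F V} (hWinv : Inv y W)
    (hWti : Orth B W W) (hf : finrank F ↥(fixSp y) < 2 * (finrank F ↥W % i)) : False := by
  obtain ⟨h1, h2, ⟨e, he⟩, -⟩ := ti_inv_split h hWinv hWti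
  have hipos := h.setup.c_pos
  have hlt : finrank F ↥W % i < i := Nat.mod_lt _ hipos
  have ha : finrank F ↥(W ⊓ fixSp y) < i := by omega
  have h3 : finrank F ↥W % i = finrank F ↥(W ⊓ fixSp y) := by
    rw [h1, he, Nat.add_mul_mod_self_left, Nat.mod_eq_of_lt ha]
  omega

/-- small totally isotropic invariant subspaces lie in the fixed space -/
theorem two_mul_le_fix_of_lt (h : SpSetup B r y i) {W : Submodule F V} (hWinv : Inv y W)
    (hWti : Orth B W W) (hm : finrank F ↥W < i) : 2 * finrank F ↥W ≤ finrank F ↥(fixSp y) := by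
  obtain ⟨h1, h2, ⟨e, he⟩, -⟩ := ti_inv_split h hWinv hWti
  rcases Nat.eq_zero_or_pos e with h0 | hpos
  · rw [h0, mul_zero] at he
    omega
  · have : i ≤ i * e := Nat.le_mul_of_pos_right i hpos
    omega

/-- if the cyclotomic part has no totally isotropic invariant subspace, totally isotropic
invariant subspaces lie in the fixed space -/
theorem two_mul_le_fix_of_aniso (h : SpSetup B r y i)
    (han : ∀ U : Submodule F V, U ≤ cycSp r y → Inv y U → Orth B U U → U = ⊥)
    {W : Submodule F V} (hWinv : Inv y W) (hWti : Orth B W W) :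
    2 * finrank F ↥W ≤ finrank F ↥(fixSp y) := by
  obtain ⟨h1, h2, -, -⟩ := ti_inv_split h hWinv hWti
  have h0 := han (W ⊓ cycSp r y) inf_le_right (inv_inf hWinv (inv_cycSp r y))
    (hWti.mono inf_le_left inf_le_left)
  rw [h0, finrank_bot] at h1
  omega

section finite

variable [Fintype F]

/-- a multiplicity-free cyclotomic part (even `i`) has no totally isotropic invariant
subspaces -/
theorem aniso_of_ker_le {y : Module.End F V} {r : ℕ}
    (h : SpSetup B r y (orderOf ((Fintype.card F : ℕ) : ZMod r)))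
    (hi : Even (orderOf ((Fintype.card F : ℕ) : ZMod r)))
    (hker : ∀ P : F[X], Irreducible P → P ∣ cyclotomic r F →
      finrank F ↥(LinearMap.ker (aeval y P)) ≤ orderOf ((Fintype.card F : ℕ) : ZMod r))
    (U : Submodule F V) (hUc : U ≤ cycSp r y) (hUinv : Inv y U) (hUti : Orth B U U) : U = ⊥ := by
  set i := orderOf ((Fintype.card F : ℕ) : ZMod r) with hidef
  by_contra hne
  obtain ⟨U₀, hU₀U, hU₀inv, hU₀dim⟩ := exists_irr h hUinv hUc hne
  have hipos := h.setup.c_pos
  have hU₀c : U₀ ≤ cycSp r y := hU₀U.trans hUc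
  have hU₀ne : U₀ ≠ ⊥ := by
    intro h0
    rw [h0, finrank_bot] at hU₀dim
    omega
  obtain ⟨P, hPirr, hPdvd, hPne⟩ := exists_irreducible_ker_ne_bot y _ (cyclotomic r F) rfl
    (cyclotomic_ne_zero r F) U₀ hU₀inv hU₀ne (fun w hw => hU₀c hw)
  -- U₀ ≤ ker P(y)
  have hRinv : Inv y (U₀ ⊓ LinearMap.ker (aeval y P)) := inv_inf hU₀inv (inv_ker_aeval y P)
  obtain ⟨e, he⟩ := h.setup.dvd _ hRinv (inf_le_left.trans hU₀c)
  have hRle : finrank F ↥(U₀ ⊓ LinearMap.ker (aeval y P)) ≤ i := by
    rw [← hU₀dim]; exact Submodule.finrank_mono inf_le_left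
  have hRpos : 0 < finrank F ↥(U₀ ⊓ LinearMap.ker (aeval y P)) := by
    rw [Nat.pos_iff_ne_zero]
    intro h0
    exact hPne (Submodule.finrank_eq_zero.mp h0)
  have hReq : U₀ ⊓ LinearMap.ker (aeval y P) = U₀ := by
    apply Submodule.eq_of_le_of_finrank_eq inf_le_left
    rcases Nat.eq_zero_or_pos e with h0 | hpos
    · rw [h0, mul_zero] at he; omega
    · have : i ≤ i * e := Nat.le_mul_of_pos_right i hpos
      omega
  have hU₀K : U₀ ≤ LinearMap.ker (aeval y P) := by
    rw [← hReq]; exact inf_le_right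
  have hKeq : U₀ = LinearMap.ker (aeval y P) := by
    apply Submodule.eq_of_le_of_finrank_eq hU₀K
    have := hker P hPirr hPdvd
    have := Submodule.finrank_mono hU₀K
    omega
  -- ker P(y) is nondegenerate
  obtain ⟨P', hP'⟩ := hPdvd
  have hsq : Squarefree (cyclotomic r F) := by
    have hsep : (X ^ r - 1 : F[X]).Separable := by
      have := Polynomial.separable_X_pow_sub_C (1 : F) h.setup.ne_zero one_ne_zero
      simpa using this
    exact (hsep.of_dvd (cyclotomic.dvd_X_pow_sub_one r F)).squarefree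
  have hcop : IsCoprime P P' := by
    rw [hPirr.coprime_iff_not_dvd]
    rintro ⟨P'', hP''⟩
    have h1 : P * P ∣ cyclotomic r F := ⟨P'', by rw [hP', hP'']; ring⟩
    exact hPirr.not_isUnit (hsq P h1)
  have hKnd : Nd B (cycSp r y ⊓ LinearMap.ker (aeval y P)) :=
    h.nd_inf_ker hi hcop (inv_cycSp r y) (nd_cyc h) (fun w hw => by rw [← hP']; exact hw)
  have hKle : LinearMap.ker (aeval y P) ≤ cycSp r y := by
    rw [← hKeq]; exact hU₀c
  rw [inf_eq_right.mpr hKle, ← hKeq] at hKnd
  obtain ⟨u, hu, hu0⟩ := Submodule.exists_mem_ne_zero_of_ne_bot hU₀ne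
  exact hu0 (nd_iff.mp hKnd u hu (fun w hw => hUti w (hU₀U hw) u (hU₀U hu)))

end finite

end Cfsg.Agent.Helper94.Ti
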