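import Cfsg.Agent.Helper94.Frame

set_option autoImplicit false
set_option linter.unusedSectionVars false

namespace Cfsg.Agent.Helper94

open Cfsg Cfsg.Geo
open scoped Matrix

section Weight

variable {ι : Type} [Fintype ι] [DecidableEq ι] {F : Type*} [Field F]
variable {t : ℕ} {D : Fin t → Submodule F (ι → F)}

open Classical in
/-- The number of non-zero components of `v` in the decomposition, as an element of `F`. -/
noncomputable def wt (h : DirectSum.IsInternal D) (v : ι → F) : F :=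
  ∑ i, if comp h i v = 0 then (0 : F) else 1

theorem wt_mulVec_of_mem (h : DirectSum.IsInternal D) {g : Matrix.GeneralLinearGroup ι F}
    (hg : g ∈ decompositionStabilizer D) (v : ι → F) :
    wt h ((g : Matrix ι ι F) *ᵥ v) = wt h v := by
  obtain ⟨σ, hσ⟩ := hg
  unfold wt
  rw [← Equiv.sum_comp σ]
  apply Finset.sum_congr rfl
  intro i _
  rw [comp_mulVec_of_perm h _ σ hσ]
  have hiff : (g : Matrix ι ι F) *ᵥ comp h i v = 0 ↔ comp h i v = 0 := by
    constructor
    · intro h0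
      exact gl_mulVec_injective g (by rw [h0, Matrix.mulVec_zero])
    · intro h0
      rw [h0, Matrix.mulVec_zero]
  by_cases hc : comp h i v = 0
  · rw [if_pos hc, if_pos (hiff.2 hc)]
  · rw [if_neg hc, if_neg (mt hiff.1 hc)]

/-- Non-maximality of the decomposition stabiliser in `SL` from two witnesses. -/
theorem exists_between_of_weight (h : DirectSum.IsInternal D) (g₁ g₂ : Matrix.GeneralLinearGroup ι F)
    (hg₁ : g₁ ∈ specialLinear ι F) (hg₂ : g₂ ∈ specialLinear ι F)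
    (h2 : ∀ v, wt h ((g₂ : Matrix ι ι F) *ᵥ v) = wt h v)
    (h2' : g₂ ∉ decompositionStabilizer D)
    (v₁ : ι → F) (hv₁ : wt h v₁ = 1) (hv₁' : wt h ((g₁ : Matrix ι ι F) *ᵥ v₁) ≠ 1) :
    ∃ K : Subgroup (Matrix.GeneralLinearGroup ι F),
      decompositionStabilizer D ⊓ specialLinear ι F < K ∧ K < specialLinear ι F := by
  refine ⟨stabilizing (glToMat ι F) {v | wt h v = 1} ⊓ specialLinear ι F, ?_, ?_⟩
  · apply lt_of_le_of_ne
    · intro g hg
      refine ⟨?_, hg.2⟩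
      intro v
      show wt h v = 1 ↔ wt h ((g : Matrix ι ι F) *ᵥ v) = 1
      rw [wt_mulVec_of_mem h hg.1]
    · intro heq
      apply h2'
      have hmem : g₂ ∈ stabilizing (glToMat ι F) {v | wt h v = 1} ⊓ specialLinear ι F := by
        refine ⟨?_, hg₂⟩
        intro v
        show wt h v = 1 ↔ wt h ((g₂ : Matrix ι ι F) *ᵥ v) = 1
        rw [h2]
      rw [← heq] at hmem
      exact hmem.1
  · apply lt_of_le_of_ne inf_le_right
    intro heq
    have hmem : g₁ ∈ stabilizing (glToMat ι F) {v | wt h v = 1} ⊓ specialLinear ι F := by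
      rw [heq]; exact hg₁
    exact hv₁' ((hmem.1 v₁).1 hv₁)

end Weight

section Coords

variable {ι : Type} [Fintype ι] [DecidableEq ι] {F : Type*} [Field F]
variable {t m : ℕ} {D : Fin t → Submodule F (ι → F)}

/-- A basis adapted to the decomposition. -/
noncomputable def cbasis (hD : IsMDecomposition m D) : Module.Basis (Σ _ : Fin t, Fin m) F (ι → F) :=
  (isInternal_of_isMDecomposition hD).collectedBasis
    (fun i => Module.finBasisOfFinrankEq F (D i) (hD.finrank_eq i))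

theorem cbasis_mem (hD : IsMDecomposition m D) (j : Σ _ : Fin t, Fin m) : cbasis hD j ∈ D j.1 :=
  DirectSum.IsInternal.collectedBasis_mem _ _ j

theorem comp_eq_sum_cbasis (hD : IsMDecomposition m D) (i : Fin t) (v : ι → F) :
    comp (isInternal_of_isMDecomposition hD) i v
      = ∑ k : Fin m, (cbasis hD).repr v ⟨i, k⟩ • cbasis hD ⟨i, k⟩ := by
  have hv : v = ∑ i : Fin t, ∑ k : Fin m, (cbasis hD).repr v ⟨i, k⟩ • cbasis hD ⟨i, k⟩ := by
    conv_lhs => rw [← (cbasis hD).sum_repr v]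
    rw [Fintype.sum_sigma]
  conv_lhs => rw [hv]
  exact comp_eq_of_sum _ (fun i => ∑ k : Fin m, (cbasis hD).repr v ⟨i, k⟩ • cbasis hD ⟨i, k⟩)
    (fun i => Submodule.sum_mem _ (fun k _ => Submodule.smul_mem _ _ (cbasis_mem hD ⟨i, k⟩))) i

theorem comp_eq_zero_iff (hD : IsMDecomposition m D) (i : Fin t) (v : ι → F) :
    comp (isInternal_of_isMDecomposition hD) i v = 0 ↔ ∀ k, (cbasis hD).repr v ⟨i, k⟩ = 0 := by
  rw [comp_eq_sum_cbasis hD]
  constructor
  · intro h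
    have hinj : Function.Injective (fun k : Fin m => (⟨i, k⟩ : Σ _ : Fin t, Fin m)) := by
      intro k k' hk
      simpa using hk
    have hli : LinearIndependent F (fun k : Fin m => cbasis hD ⟨i, k⟩) :=
      (cbasis hD).linearIndependent.comp (fun k : Fin m => (⟨i, k⟩ : Σ _ : Fin t, Fin m)) hinj
    exact Fintype.linearIndependent_iff.mp hli _ h
  · intro h
    apply Finset.sum_eq_zero
    intro k _
    rw [h k, zero_smul]

open Classical in
/-- The weight in coordinates. -/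
noncomputable def Wc (ξ : (Σ _ : Fin t, Fin m) → F) : F :=
  ∑ i : Fin t, if (∀ k, ξ ⟨i, k⟩ = 0) then (0 : F) else 1

theorem wt_eq_Wc (hD : IsMDecomposition m D) (v : ι → F) :
    wt (isInternal_of_isMDecomposition hD) v = Wc (fun j => (cbasis hD).repr v j) := by
  unfold wt Wc
  apply Finset.sum_congr rfl
  intro i _
  by_cases hc : comp (isInternal_of_isMDecomposition hD) i v = 0
  · rw [if_pos hc, if_pos ((comp_eq_zero_iff hD i v).1 hc)]
  · rw [if_neg hc, if_neg (mt (comp_eq_zero_iff hD i v).2 hc)]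

/-- Membership in a member of the decomposition, in coordinates. -/
theorem repr_eq_zero_of_mem (hD : IsMDecomposition m D) {v : ι → F} {j : Fin t} (hv : v ∈ D j)
    {i : Fin t} (hij : i ≠ j) (k : Fin m) : (cbasis hD).repr v ⟨i, k⟩ = 0 := by
  have := comp_of_mem_ne (isInternal_of_isMDecomposition hD) hv (Ne.symm hij)
  exact (comp_eq_zero_iff hD i v).1 this k

end Coords

section Tv

variable {ι : Type} [Fintype ι] [DecidableEq ι] {F : Type*} [Field F]

/-- `x ↦ x + ψ(x) a` as an element of `GL`. -/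
noncomputable def tvGL (ψ : (ι → F) →ₗ[F] F) (a : ι → F) (h : 1 + ψ a ≠ 0) :
    Matrix.GeneralLinearGroup ι F :=
  Matrix.GeneralLinearGroup.mkOfDetNeZero (LinearMap.toMatrix' (LinearMap.transvection ψ a))
    (by rw [LinearMap.det_toMatrix', LinearMap.transvection.det]; exact h)

theorem tvGL_mulVec (ψ : (ι → F) →ₗ[F] F) (a : ι → F) (h : 1 + ψ a ≠ 0) (x : ι → F) :
    ((tvGL ψ a h : Matrix.GeneralLinearGroup ι F) : Matrix ι ι F) *ᵥ x = x + ψ x • a := by
  show LinearMap.toMatrix' (LinearMap.transvection ψ a) *ᵥ x = _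
  rw [LinearMap.toMatrix'_mulVec]
  rfl

theorem tvGL_det (ψ : (ι → F) →ₗ[F] F) (a : ι → F) (h : 1 + ψ a ≠ 0) :
    ((tvGL ψ a h : Matrix.GeneralLinearGroup ι F) : Matrix ι ι F).det = 1 + ψ a := by
  show (LinearMap.toMatrix' (LinearMap.transvection ψ a)).det = _
  rw [LinearMap.det_toMatrix', LinearMap.transvection.det]

theorem mem_specialLinear_iff (g : Matrix.GeneralLinearGroup ι F) :
    g ∈ specialLinear ι F ↔ (g : Matrix ι ι F).det = 1 := by
  unfold specialLinear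
  rw [MonoidHom.mem_ker, Units.ext_iff]
  rfl

end Tv

section CoordTv

variable {ι : Type} [Fintype ι] [DecidableEq ι] {F : Type*} [Field F]
variable {κ : Type} [Fintype κ] [DecidableEq κ]

/-- A rank-one perturbation of the identity, on coordinate vectors. -/
def Tc (α β : κ → F) (ξ : κ → F) : κ → F := ξ + (β ⬝ᵥ ξ) • α

/-- The functional with coordinate vector `β` in the basis `b`. -/
noncomputable def cfun (b : Module.Basis κ F (ι → F)) (β : κ → F) : (ι → F) →ₗ[F] F where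
  toFun x := β ⬝ᵥ b.equivFun x
  map_add' x y := by rw [map_add, dotProduct_add]
  map_smul' c x := by rw [map_smul, dotProduct_smul]; rfl

theorem cfun_apply (b : Module.Basis κ F (ι → F)) (β : κ → F) (x : ι → F) :
    cfun b β x = β ⬝ᵥ b.equivFun x := rfl

/-- The element of `GL` acting as `Tc α β` in the coordinates of the basis `b`. -/
noncomputable def ctv (b : Module.Basis κ F (ι → F)) (α β : κ → F) (h : 1 + β ⬝ᵥ α ≠ 0) :
    Matrix.GeneralLinearGroup ι F :=
  tvGL (cfun b β) (b.equivFun.symm α) (by rw [cfun_apply, LinearEquiv.apply_symm_apply]; exact h)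

theorem equivFun_ctv (b : Module.Basis κ F (ι → F)) (α β : κ → F) (h : 1 + β ⬝ᵥ α ≠ 0) (x : ι → F) :
    b.equivFun (((ctv b α β h : Matrix.GeneralLinearGroup ι F) : Matrix ι ι F) *ᵥ x)
      = Tc α β (b.equivFun x) := by
  unfold ctv Tc
  rw [tvGL_mulVec, map_add, map_smul, LinearEquiv.apply_symm_apply, cfun_apply]

theorem det_ctv (b : Module.Basis κ F (ι → F)) (α β : κ → F) (h : 1 + β ⬝ᵥ α ≠ 0) :
    ((ctv b α β h : Matrix.GeneralLinearGroup ι F) : Matrix ι ι F).det = 1 + β ⬝ᵥ α := by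
  unfold ctv
  rw [tvGL_det, cfun_apply, LinearEquiv.apply_symm_apply]

end CoordTv

section CoordMain

variable {ι : Type} [Fintype ι] [DecidableEq ι] {F : Type*} [Field F]
variable {t m : ℕ} {D : Fin t → Submodule F (ι → F)}

theorem wt_eq_Wc' (hD : IsMDecomposition m D) (v : ι → F) :
    wt (isInternal_of_isMDecomposition hD) v = Wc ((cbasis hD).equivFun v) :=
  wt_eq_Wc hD v

theorem exists_between_of_coords (hD : IsMDecomposition m D)
    (α₁ β₁ α₂ β₂ α₃ β₃ : (Σ _ : Fin t, Fin m) → F)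
    (hdet₁ : β₁ ⬝ᵥ α₁ = 0)
    (hdet₂ : (1 + β₂ ⬝ᵥ α₂) * (1 + β₃ ⬝ᵥ α₃) = 1)
    (hW : ∀ ξ, Wc (Tc α₂ β₂ (Tc α₃ β₃ ξ)) = Wc ξ)
    (ξ₂ : (Σ _ : Fin t, Fin m) → F) (i₂ : Fin t) (hξ₂ : ∀ i, i ≠ i₂ → ∀ k, ξ₂ ⟨i, k⟩ = 0)
    (j j' : Σ _ : Fin t, Fin m) (hjj' : j.1 ≠ j'.1)
    (hj : Tc α₂ β₂ (Tc α₃ β₃ ξ₂) j ≠ 0) (hj' : Tc α₂ β₂ (Tc α₃ β₃ ξ₂) j' ≠ 0)
    (ξ₁ : (Σ _ : Fin t, Fin m) → F) (hξ₁ : Wc ξ₁ = 1) (hξ₁' : Wc (Tc α₁ β₁ ξ₁) ≠ 1) :
    ∃ K : Subgroup (Matrix.GeneralLinearGroup ι F),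
      decompositionStabilizer D ⊓ specialLinear ι F < K ∧ K < specialLinear ι F := by
  have h₁ne : 1 + β₁ ⬝ᵥ α₁ ≠ 0 := by rw [hdet₁, add_zero]; exact one_ne_zero
  have h₂ne : 1 + β₂ ⬝ᵥ α₂ ≠ 0 := left_ne_zero_of_mul_eq_one hdet₂
  have h₃ne : 1 + β₃ ⬝ᵥ α₃ ≠ 0 := right_ne_zero_of_mul_eq_one hdet₂
  have hg₂v : ∀ v, (cbasis hD).equivFun
      (((ctv (cbasis hD) α₂ β₂ h₂ne * ctv (cbasis hD) α₃ β₃ h₃ne : Matrix.GeneralLinearGroup ι F) :
        Matrix ι ι F) *ᵥ v) = Tc α₂ β₂ (Tc α₃ β₃ ((cbasis hD).equivFun v)) := by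
    intro v
    rw [Units.val_mul, ← Matrix.mulVec_mulVec, equivFun_ctv, equivFun_ctv]
  refine exists_between_of_weight (isInternal_of_isMDecomposition hD) (ctv (cbasis hD) α₁ β₁ h₁ne)
    (ctv (cbasis hD) α₂ β₂ h₂ne * ctv (cbasis hD) α₃ β₃ h₃ne) ?_ ?_ ?_ ?_
    ((cbasis hD).equivFun.symm ξ₁) ?_ ?_
  · rw [mem_specialLinear_iff, det_ctv, hdet₁, add_zero]
  · rw [mem_specialLinear_iff, Units.val_mul, Matrix.det_mul, det_ctv, det_ctv, hdet₂]
  · intro v
    rw [wt_eq_Wc' hD, wt_eq_Wc' hD, hg₂v, hW]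
  · rintro ⟨σ, hσ⟩
    -- the vector with coordinates ξ₂ lies in D i₂
    have hv₂ : (cbasis hD).equivFun.symm ξ₂ ∈ D i₂ := by
      rw [Module.Basis.equivFun_symm_apply]
      apply Submodule.sum_mem
      intro j _
      by_cases hji : j.1 = i₂
      · apply Submodule.smul_mem
        rw [← hji]
        exact cbasis_mem hD j
      · have : ξ₂ j = 0 := by
          obtain ⟨i, k⟩ := j
          exact hξ₂ i hji k
        rw [this, zero_smul]
        exact Submodule.zero_mem _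
    have hmem : ((ctv (cbasis hD) α₂ β₂ h₂ne * ctv (cbasis hD) α₃ β₃ h₃ne :
        Matrix.GeneralLinearGroup ι F) : Matrix ι ι F) *ᵥ ((cbasis hD).equivFun.symm ξ₂)
          ∈ D (σ i₂) := by
      rw [← hσ i₂]
      exact ⟨_, hv₂, Matrix.toLin'_apply _ _⟩
    have hzero : ∀ i, i ≠ σ i₂ → ∀ k, Tc α₂ β₂ (Tc α₃ β₃ ξ₂) ⟨i, k⟩ = 0 := by
      intro i hi k
      have := repr_eq_zero_of_mem hD hmem hi k
      have h2 := congrFun (hg₂v ((cbasis hD).equivFun.symm ξ₂)) ⟨i, k⟩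
      rw [LinearEquiv.apply_symm_apply] at h2
      rw [← h2]
      exact this
    obtain ⟨i, k⟩ := j
    obtain ⟨i', k'⟩ := j'
    by_cases hi : i = σ i₂
    · have hi' : i' ≠ σ i₂ := fun h => hjj' (hi.trans h.symm)
      exact hj' (hzero i' hi' k')
    · exact hj (hzero i hi k)
  · rw [wt_eq_Wc' hD, LinearEquiv.apply_symm_apply]
    exact hξ₁
  · rw [wt_eq_Wc' hD, equivFun_ctv, LinearEquiv.apply_symm_apply]
    exact hξ₁'

end CoordMain

section Ext

variable {F : Type*} [Field F] {s t' m : ℕ}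

/-- Extend a pattern on the first `s` blocks by zero. -/
def extc (u : Fin s → Fin m → F) : (Σ _ : Fin (s + t'), Fin m) → F :=
  fun j => Fin.addCases (fun r => u r j.2) (fun _ => 0) j.1

/-- Restrict to the first `s` blocks. -/
def headc (ξ : (Σ _ : Fin (s + t'), Fin m) → F) : Fin s → Fin m → F :=
  fun r k => ξ ⟨Fin.castAdd t' r, k⟩

/-- The rank-one perturbation on patterns. -/
def Th (u w : Fin s → Fin m → F) (η : Fin s → Fin m → F) : Fin s → Fin m → F :=
  fun r k => η r k + (∑ r', ∑ k', w r' k' * η r' k') * u r k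

theorem extc_castAdd (u : Fin s → Fin m → F) (r : Fin s) (k : Fin m) :
    extc (t' := t') u ⟨Fin.castAdd t' r, k⟩ = u r k := by
  simp [extc]

theorem extc_natAdd (u : Fin s → Fin m → F) (r : Fin t') (k : Fin m) :
    extc (t' := t') u ⟨Fin.natAdd s r, k⟩ = 0 := by
  simp [extc]

theorem headc_extc (u : Fin s → Fin m → F) : headc (extc (t' := t') u) = u := by
  funext r k
  exact extc_castAdd u r k

theorem extc_dotProduct (w : Fin s → Fin m → F) (ξ : (Σ _ : Fin (s + t'), Fin m) → F) :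
    extc w ⬝ᵥ ξ = ∑ r, ∑ k, w r k * headc ξ r k := by
  unfold dotProduct
  rw [Fintype.sum_sigma, Fin.sum_univ_add]
  simp only [extc_castAdd, extc_natAdd, zero_mul, Finset.sum_const_zero, add_zero]
  rfl

theorem headc_Tc (u w : Fin s → Fin m → F) (ξ : (Σ _ : Fin (s + t'), Fin m) → F) :
    headc (Tc (extc u) (extc w) ξ) = Th u w (headc ξ) := by
  funext r k
  simp only [headc, Tc, Th, Pi.add_apply, Pi.smul_apply, smul_eq_mul, extc_castAdd, extc_dotProduct]

theorem Tc_extc_natAdd (u w : Fin s → Fin m → F) (ξ : (Σ _ : Fin (s + t'), Fin m) → F) (r : Fin t')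
    (k : Fin m) : Tc (extc u) (extc w) ξ ⟨Fin.natAdd s r, k⟩ = ξ ⟨Fin.natAdd s r, k⟩ := by
  simp only [Tc, Pi.add_apply, Pi.smul_apply, smul_eq_mul, extc_natAdd, mul_zero, add_zero]

theorem Tc_extc_extc (u w x : Fin s → Fin m → F) :
    Tc (extc u) (extc w) (extc (t' := t') x) = extc (Th u w x) := by
  funext ⟨i, k⟩
  refine Fin.addCases (fun r => ?_) (fun r => ?_) i
  · have := congrFun (congrFun (headc_Tc u w (extc (t' := t') x)) r) k
    rw [headc_extc] at this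
    rw [extc_castAdd]
    exact this
  · rw [Tc_extc_natAdd, extc_natAdd, extc_natAdd]

open Classical in
/-- Indicator of a non-zero block. -/
noncomputable def indc (f : Fin m → F) : F := if (∀ k, f k = 0) then 0 else 1

theorem indc_zero : indc (fun _ : Fin m => (0 : F)) = 0 := by
  unfold indc
  rw [if_pos (fun _ => rfl)]

theorem Wc_eq_head_add_tail (ξ : (Σ _ : Fin (s + t'), Fin m) → F) :
    Wc ξ = ∑ r : Fin s, indc (headc ξ r)
      + ∑ r : Fin t', indc (fun k => ξ ⟨Fin.natAdd s r, k⟩) := by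
  unfold Wc
  rw [Fin.sum_univ_add]
  rfl

theorem Wc_extc (x : Fin s → Fin m → F) : Wc (extc (t' := t') x) = ∑ r, indc (x r) := by
  rw [Wc_eq_head_add_tail, headc_extc]
  simp only [extc_natAdd, indc_zero, Finset.sum_const_zero, add_zero]

theorem Wc_Tc_extc (u₂ w₂ u₃ w₃ : Fin s → Fin m → F)
    (hfin : ∀ η : Fin s → Fin m → F, ∑ r, indc (Th u₂ w₂ (Th u₃ w₃ η) r) = ∑ r, indc (η r))
    (ξ : (Σ _ : Fin (s + t'), Fin m) → F) :
    Wc (Tc (extc u₂) (extc w₂) (Tc (extc u₃) (extc w₃) ξ)) = Wc ξ := by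
  rw [Wc_eq_head_add_tail, Wc_eq_head_add_tail ξ, headc_Tc, headc_Tc, hfin]
  congr 1
  apply Finset.sum_congr rfl
  intro r _
  congr 1
  funext k
  rw [Tc_extc_natAdd, Tc_extc_natAdd]

end Ext

section Patterns

variable {ι : Type} [Fintype ι] [DecidableEq ι] {F : Type*} [Field F]
variable {s t' m : ℕ} {D : Fin (s + t') → Submodule F (ι → F)}

/-- Non-maximality of the decomposition stabiliser in `SL` from finite patterns on the first `s`
blocks. -/
theorem exists_between_of_patterns (hD : IsMDecomposition m D)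
    (u₁ w₁ u₂ w₂ u₃ w₃ x₁ x₂ : Fin s → Fin m → F)
    (hdet₁ : ∑ r, ∑ k, w₁ r k * u₁ r k = 0)
    (hdet₂ : (1 + ∑ r, ∑ k, w₂ r k * u₂ r k) * (1 + ∑ r, ∑ k, w₃ r k * u₃ r k) = 1)
    (hfin : ∀ η : Fin s → Fin m → F, ∑ r, indc (Th u₂ w₂ (Th u₃ w₃ η) r) = ∑ r, indc (η r))
    (r₂ : Fin s) (hx₂ : ∀ r, r ≠ r₂ → ∀ k, x₂ r k = 0)
    (r r' : Fin s) (hrr' : r ≠ r') (k k' : Fin m)
    (hr : Th u₂ w₂ (Th u₃ w₃ x₂) r k ≠ 0) (hr' : Th u₂ w₂ (Th u₃ w₃ x₂) r' k' ≠ 0)
    (hx₁ : ∑ r, indc (x₁ r) = 1) (hx₁' : ∑ r, indc (Th u₁ w₁ x₁ r) ≠ 1) :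
    ∃ K : Subgroup (Matrix.GeneralLinearGroup ι F),
      decompositionStabilizer D ⊓ specialLinear ι F < K ∧ K < specialLinear ι F := by
  have hdot : ∀ u w : Fin s → Fin m → F,
      extc (t' := t') w ⬝ᵥ extc (t' := t') u = ∑ r, ∑ k, w r k * u r k := by
    intro u w
    rw [extc_dotProduct, headc_extc]
  refine exists_between_of_coords hD (extc u₁) (extc w₁) (extc u₂) (extc w₂) (extc u₃) (extc w₃)
    ?_ ?_ (Wc_Tc_extc u₂ w₂ u₃ w₃ hfin) (extc x₂) (Fin.castAdd t' r₂) ?_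
    ⟨Fin.castAdd t' r, k⟩ ⟨Fin.castAdd t' r', k'⟩ ?_ ?_ ?_ (extc x₁) ?_ ?_
  · rw [hdot, hdet₁]
  · rw [hdot, hdot, hdet₂]
  · intro i hi k
    revert hi
    refine Fin.addCases (fun r => ?_) (fun r => ?_) i
    · intro hi
      rw [extc_castAdd]
      apply hx₂
      intro h
      exact hi (by rw [h])
    · intro _
      rw [extc_natAdd]
  · intro h
    exact hrr' (Fin.castAdd_injective _ _ h)
  · rw [Tc_extc_extc, Tc_extc_extc, extc_castAdd]
    exact hr
  · rw [Tc_extc_extc, Tc_extc_extc, extc_castAdd]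
    exact hr'
  · rw [Wc_extc]
    exact hx₁
  · rw [Tc_extc_extc, Wc_extc]
    exact hx₁'

end Patterns

end Cfsg.Agent.Helper94
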