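import Mathlib
import Cfsg.Agent.Helper94.TiE
import Cfsg.Agent.Helper99.SpMain

set_option autoImplicit false
set_option linter.unusedSectionVars false
set_option linter.style.haveILetI false

/-!
# Test elements of `Sp_{2d}(F)` with multiplicity-free cyclotomic part
-/

namespace Cfsg.Agent.Helper94.Ti

open Module Polynomial
open Cfsg.Agent.Helper59.InvChain Cfsg.Agent.Helper59.Elusive
open Cfsg.Agent.Helper99.RDecomp Cfsg.Agent.Helper99.SpStruct Cfsg.Agent.Helper99.SpElt
open Cfsg.Agent.Helper43.SpPrime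

universe u

section general

variable {F : Type u} [Field F] {V : Type*} [AddCommGroup V] [Module F V] [FiniteDimensional F V]

/-- kernels of pairwise coprime polynomials: dimensions add up -/
theorem sum_finrank_ker (y : Module.End F V) (T : Finset F[X])
    (hcop : ∀ P ∈ T, ∀ Q ∈ T, P ≠ Q → IsCoprime P Q) :
    ∑ P ∈ T, finrank F ↥(LinearMap.ker (aeval y P)) =
      finrank F ↥(LinearMap.ker (aeval y (∏ P ∈ T, P))) := by
  classical
  induction T using Finset.induction_on with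
  | empty =>
    rw [Finset.sum_empty, Finset.prod_empty, map_one]
    have : LinearMap.ker (1 : Module.End F V) = ⊥ := LinearMap.ker_id
    rw [this, finrank_bot]
  | insert P T hP ih =>
    rw [Finset.sum_insert hP, Finset.prod_insert hP]
    have hc : IsCoprime P (∏ Q ∈ T, Q) := by
      apply IsCoprime.prod_right
      intro Q hQ
      exact hcop P (Finset.mem_insert_self _ _) Q (Finset.mem_insert_of_mem hQ)
        (fun h => hP (h ▸ hQ))
    rw [← sup_ker_aeval_eq_ker_aeval_mul_of_coprime y hc,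
      finrank_sup_of_disjoint (disjoint_ker_aeval_of_isCoprime y hc),
      ih (fun A hA Q hQ => hcop A (Finset.mem_insert_of_mem hA) Q (Finset.mem_insert_of_mem hQ))]

theorem isCoprime_of_monic_irreducible {P Q : F[X]} (hPm : P.Monic) (hPi : Irreducible P)
    (hQm : Q.Monic) (hQi : Irreducible Q) (hne : P ≠ Q) : IsCoprime P Q := by
  rw [hPi.coprime_iff_not_dvd]
  intro hdvd
  exact hne (eq_of_monic_of_associated hPm hQm (hPi.associated_of_dvd hQi hdvd))

/-- the finite set of monic irreducible factors of a monic squarefree polynomial -/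
theorem exists_factor_finset (Φ : F[X]) (hΦm : Φ.Monic) (hsq : Squarefree Φ) :
    ∃ 𝔉 : Finset F[X], (∀ P ∈ 𝔉, P.Monic ∧ Irreducible P ∧ P ∣ Φ) ∧
      (∀ P : F[X], P.Monic → Irreducible P → P ∣ Φ → P ∈ 𝔉) ∧ ∏ P ∈ 𝔉, P = Φ := by
  classical
  have hΦ0 : Φ ≠ 0 := hΦm.ne_zero
  refine ⟨(UniqueFactorizationMonoid.normalizedFactors Φ).toFinset, ?_, ?_, ?_⟩
  · intro P hP
    rw [Multiset.mem_toFinset, Polynomial.mem_normalizedFactors_iff hΦ0] at hP
    exact ⟨hP.2.1, hP.1, hP.2.2⟩
  · intro P hPm hPi hPd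
    rw [Multiset.mem_toFinset, Polynomial.mem_normalizedFactors_iff hΦ0]
    exact ⟨hPi, hPm, hPd⟩
  · have hnodup : (UniqueFactorizationMonoid.normalizedFactors Φ).Nodup :=
      (UniqueFactorizationMonoid.squarefree_iff_nodup_normalizedFactors hΦ0).mp hsq
    have h1 : ∏ P ∈ (UniqueFactorizationMonoid.normalizedFactors Φ).toFinset, P =
        (UniqueFactorizationMonoid.normalizedFactors Φ).prod := by
      rw [Finset.prod_eq_multiset_prod, Multiset.toFinset_val, Multiset.dedup_eq_self.mpr hnodup,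
        Multiset.map_id']
    rw [h1]
    apply eq_of_monic_of_associated _ hΦm (UniqueFactorizationMonoid.prod_normalizedFactors hΦ0)
    have hmon := monic_multiset_prod_of_monic (UniqueFactorizationMonoid.normalizedFactors Φ) id
      (fun P hP => ((Polynomial.mem_normalizedFactors_iff hΦ0).mp hP).2.1)
    rwa [Multiset.map_id] at hmon

end general

section matrix

variable {F : Type u} [Field F] {ι : Type*} [Fintype ι] [DecidableEq ι]

/-- an irreducible factor of the characteristic polynomial of a matrix of order prime to the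
characteristic has a nonzero kernel -/
theorem ker_ne_bot_of_dvd_charpoly (A : Matrix ι ι F) (r : ℕ) (hr : (r : F) ≠ 0)
    (hA : A ^ r = 1) (Q : F[X]) (hQm : Q.Monic) (hQi : Irreducible Q) (hQ : Q ∣ A.charpoly) :
    LinearMap.ker (aeval (Matrix.toLin' A) Q) ≠ ⊥ := by
  intro hker
  have hsep : (X ^ r - 1 : F[X]).Separable := by
    have := Polynomial.separable_X_pow_sub_C (1 : F) hr one_ne_zero
    simpa using this
  have hsq : Squarefree (X ^ r - 1 : F[X]) := hsep.squarefree
  have hAX : aeval A (X ^ r - 1 : F[X]) = 0 := by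
    rw [map_sub, map_pow, aeval_X, map_one, hA, sub_self]
  obtain ⟨G, hG⟩ := dvd_of_dvd_charpoly_gen A _ hsq hAX Q hQm hQi hQ
  have hGsq : Squarefree G := hsq.squarefree_of_dvd ⟨Q, by rw [hG]; ring⟩
  have hAG : aeval A G = 0 := by
    have h1 : aeval (Matrix.toLin' A) Q * aeval (Matrix.toLin' A) G = 0 := by
      rw [← map_mul, ← hG, aeval_toLin'_gen, hAX, map_zero]
    have h2 : aeval (Matrix.toLin' A) G = 0 := by
      refine LinearMap.ext fun v => ?_
      have h3 : (aeval (Matrix.toLin' A) Q) ((aeval (Matrix.toLin' A) G) v) = 0 := by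
        rw [← Module.End.mul_apply, h1]; rfl
      have h4 : (aeval (Matrix.toLin' A) G) v ∈ LinearMap.ker (aeval (Matrix.toLin' A) Q) :=
        LinearMap.mem_ker.mpr h3
      rw [hker] at h4
      rw [(Submodule.mem_bot F).mp h4]; rfl
    rw [aeval_toLin'_gen] at h2
    exact (Matrix.toLin' (R := F)).injective (h2.trans (map_zero _).symm)
  obtain ⟨G', hG'⟩ := dvd_of_dvd_charpoly_gen A G hGsq hAG Q hQm hQi hQ
  have h5 : Q * Q ∣ (X ^ r - 1 : F[X]) := ⟨G', by rw [hG, hG']; ring⟩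
  exact hQi.not_isUnit (hsq Q h5)

end matrix

section elt

variable {F : Type u} [Field F] [Fintype F] {p : ℕ} [Fact p.Prime] [CharP F p]

/-- test elements of `Sp_{2d}(F)` (even `i`): `u` pairwise distinct irreducible constituents,
each with multiplicity one. -/
theorem exists_sp_elt_aniso (d r : ℕ) [Fact r.Prime] (hrp : r ≠ p)
    (hi : Even (orderOf ((Fintype.card F : ℕ) : ZMod r))) (u : ℕ) (hu : 0 < u)
    (hut : u * orderOf ((Fintype.card F : ℕ) : ZMod r) ≤ r - 1)
    (hud : u * orderOf ((Fintype.card F : ℕ) : ZMod r) ≤ 2 * d) :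
    ∃ x : ↥(Matrix.symplecticGroup (Fin d) F), x ^ r = 1 ∧
      finrank F ↥(fixSp (Matrix.toLin' (x : Matrix (Fin d ⊕ Fin d) (Fin d ⊕ Fin d) F))) =
        2 * d - u * orderOf ((Fintype.card F : ℕ) : ZMod r) ∧
      ∀ P : F[X], Irreducible P → P ∣ cyclotomic r F →
        finrank F ↥(LinearMap.ker (aeval (Matrix.toLin'
          (x : Matrix (Fin d ⊕ Fin d) (Fin d ⊕ Fin d) F)) P)) ≤
          orderOf ((Fintype.card F : ℕ) : ZMod r) := by
  classical
  have hr : r.Prime := Fact.out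
  have hrF : (r : F) ≠ 0 := natCast_ne_zero_of_ne r hrp
  set i := orderOf ((Fintype.card F : ℕ) : ZMod r) with hidef
  have hipos : 0 < i := orderOf_card_pos r hrp
  have hHP := HP_cyclotomic (F := F) r hrp
  have hsep : (X ^ r - 1 : F[X]).Separable := by
    have := Polynomial.separable_X_pow_sub_C (1 : F) hrF one_ne_zero
    simpa using this
  have hsq : Squarefree (cyclotomic r F) :=
    (hsep.of_dvd (cyclotomic.dvd_X_pow_sub_one r F)).squarefree
  obtain ⟨𝔉, h𝔉1, h𝔉2, h𝔉prod⟩ := exists_factor_finset (cyclotomic r F)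
    (cyclotomic.monic r F) hsq
  have hdeg : ∀ P ∈ 𝔉, P.natDegree = i := fun P hP =>
    hHP.2 P (h𝔉1 P hP).2.1 (h𝔉1 P hP).2.2
  have hcard : 𝔉.card * i = r - 1 := by
    have h1 : (∏ P ∈ 𝔉, P).natDegree = ∑ P ∈ 𝔉, P.natDegree :=
      natDegree_prod_of_monic _ _ (fun P hP => (h𝔉1 P hP).1)
    rw [h𝔉prod, natDegree_cyclotomic, Nat.totient_prime hr, Finset.sum_congr rfl hdeg,
      Finset.sum_const, smul_eq_mul] at h1
    exact h1.symm
  have hule : u ≤ 𝔉.card := by
    by_contra hcon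
    push Not at hcon
    have : (𝔉.card + 1) * i ≤ u * i := Nat.mul_le_mul_right i hcon
    have e1 : (𝔉.card + 1) * i = 𝔉.card * i + i := by ring
    omega
  obtain ⟨S, hS𝔉, hScard⟩ := Finset.exists_subset_card_eq hule
  have hSne : S.Nonempty := by
    rw [← Finset.card_pos, hScard]; exact hu
  set G := ∏ P ∈ S, P with hG
  have hGm : G.Monic := monic_prod_of_monic _ _ (fun P hP => (h𝔉1 P (hS𝔉 hP)).1)
  have hGd : G.natDegree = u * i := by
    rw [hG, natDegree_prod_of_monic _ _ (fun P hP => (h𝔉1 P (hS𝔉 hP)).1),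
      Finset.sum_congr rfl (fun P hP => hdeg P (hS𝔉 hP)), Finset.sum_const, smul_eq_mul, hScard]
  have hcycdvd : cyclotomic r F ∣ (X ^ r - 1 : F[X]) := cyclotomic.dvd_X_pow_sub_one r F
  have hGdvd : G ∣ cyclotomic r F := by
    rw [← h𝔉prod]
    exact Finset.prod_dvd_prod_of_subset _ _ _ hS𝔉
  have hG1 : G.eval 1 ≠ 0 := eval_one_ne_zero_of_dvd_cyclotomic r hrF hGdvd
  set e := 2 * d - u * i with he
  -- PrimePred
  have hLm : (X - 1 : F[X]).Monic := Cfsg.Agent.Helper43.Lagr.X_sub_one_monic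
  have hLd : (X - 1 : F[X]).natDegree = 1 := by
    rw [X_sub_one_eq]; exact natDegree_X_sub_C 1
  have hLdvd : (X - 1 : F[X]) ∣ X ^ r - 1 := by
    have := sub_dvd_pow_sub_pow (X : F[X]) 1 r
    rwa [one_pow] at this
  have hrm : rootMultiplicity 1 (G * (X - 1) ^ e) = e := by
    have := rootMultiplicity_model G hGm.ne_zero hG1 1 e
    rwa [pow_one] at this
  have hpp : Cfsg.Agent.Helper43.SS.PrimePred (2 * d) r (G * (X - 1) ^ e) := by
    refine ⟨hGm.mul (hLm.pow e), ?_, ?_, ?_⟩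
    · rw [hGm.natDegree_mul (hLm.pow e), hLm.natDegree_pow, hLd, hGd, mul_one]
      omega
    · intro Q hQm hQi hQ
      rcases hQi.prime.dvd_or_dvd hQ with h | h
      · exact h.trans (hGdvd.trans hcycdvd)
      · exact (hQi.prime.dvd_of_dvd_pow h).trans hLdvd
    · intro h
      rw [h, X_sub_one_eq, rootMultiplicity_X_sub_C_pow] at hrm
      have : 0 < u * i := Nat.mul_pos hu hipos
      omega
  have hfrev := reverse_eq_of_even p rfl d r i hr hrp hidef hi hipos hpp
  obtain ⟨hfm, hfd, hfac, hfne⟩ := hpp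
  have hsp : SpPrimePred d r (G * (X - 1) ^ e) := ⟨hfm, hfd, hfrev, hfac, hfne⟩
  obtain ⟨x, hxord, hxch⟩ := Cfsg.Agent.Helper43.Lagr.exists_prime_order_charpoly p d r hr hrp _ hsp
  have hxr : x ^ r = 1 := by rw [← hxord]; exact pow_orderOf_eq_one x
  have hAr : (x : Matrix (Fin d ⊕ Fin d) (Fin d ⊕ Fin d) F) ^ r = 1 := by
    have := congrArg Subtype.val hxr
    rwa [SubmonoidClass.coe_pow] at this
  set y := Matrix.toLin' (x : Matrix (Fin d ⊕ Fin d) (Fin d ⊕ Fin d) F) with hy
  have hyr : y ^ r = 1 := by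
    rw [hy, ← Matrix.toLin'_pow, hAr, Matrix.toLin'_one]
    rfl
  have hfix : finrank F ↥(fixSp y) = e := by
    rw [finrank_fixSp_eq_rootMultiplicity r hrF _ hyr, hy, Matrix.charpoly_toLin', hxch, hrm]
  refine ⟨x, hxr, hfix, ?_⟩
  -- the kernel bound
  have hsetup : Setup r y i := setup_of (F := F) r hrp y hyr
  have htot := hsetup.total
  rw [Cfsg.Agent.Helper99.SpMain.finrank_space, hfix] at htot
  have hcyc : finrank F ↥(cycSp r y) = u * i := by omega
  have hcop : ∀ P ∈ 𝔉, ∀ Q ∈ 𝔉, P ≠ Q → IsCoprime P Q := fun P hP Q hQ hne =>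
    isCoprime_of_monic_irreducible (h𝔉1 P hP).1 (h𝔉1 P hP).2.1 (h𝔉1 Q hQ).1 (h𝔉1 Q hQ).2.1 hne
  have hsum := sum_finrank_ker y 𝔉 hcop
  rw [h𝔉prod] at hsum
  have hsum' : ∑ P ∈ 𝔉, finrank F ↥(LinearMap.ker (aeval y P)) = u * i := by
    rw [hsum]; exact hcyc
  have hge : ∀ Q ∈ S, i ≤ finrank F ↥(LinearMap.ker (aeval y Q)) := by
    intro Q hQ
    have hQ𝔉 := hS𝔉 hQ
    have hQdvd : Q ∣ (x : Matrix (Fin d ⊕ Fin d) (Fin d ⊕ Fin d) F).charpoly := by
      rw [hxch]
      exact (Finset.dvd_prod_of_mem _ hQ).mul_right _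
    have hne := ker_ne_bot_of_dvd_charpoly _ r hrF hAr Q (h𝔉1 Q hQ𝔉).1 (h𝔉1 Q hQ𝔉).2.1 hQdvd
    have hle : LinearMap.ker (aeval y Q) ≤ cycSp r y := by
      intro v hv
      obtain ⟨Q', hQ'⟩ := (h𝔉1 Q hQ𝔉).2.2
      show v ∈ LinearMap.ker (aeval y (cyclotomic r F))
      rw [LinearMap.mem_ker, hQ', mul_comm, map_mul, Module.End.mul_apply,
        LinearMap.mem_ker.mp hv, map_zero]
    obtain ⟨c, hc⟩ := hsetup.dvd _ (inv_ker_aeval y Q) hle
    have hpos : 0 < finrank F ↥(LinearMap.ker (aeval y Q)) := by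
      rw [Nat.pos_iff_ne_zero]
      intro h0
      exact hne (Submodule.finrank_eq_zero.mp h0)
    rcases Nat.eq_zero_or_pos c with h0 | hcpos
    · rw [h0, mul_zero] at hc; omega
    · have : i ≤ i * c := Nat.le_mul_of_pos_right i hcpos
      omega
  intro P hPi hPd
  -- normalize
  have hP0 : P ≠ 0 := hPi.ne_zero
  set P₀ := P * C P.leadingCoeff⁻¹ with hP₀
  have hP₀m : P₀.Monic := monic_mul_leadingCoeff_inv hP0
  have hlc : P.leadingCoeff⁻¹ ≠ 0 := inv_ne_zero (leadingCoeff_ne_zero.mpr hP0)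
  have hunit : IsUnit (C P.leadingCoeff⁻¹ : F[X]) := isUnit_C.mpr (isUnit_iff_ne_zero.mpr hlc)
  have hP₀i : Irreducible P₀ := (irreducible_mul_isUnit hunit).mpr hPi
  have hP₀d : P₀ ∣ cyclotomic r F := (IsUnit.mul_right_dvd hunit).mpr hPd
  have hP₀𝔉 : P₀ ∈ 𝔉 := h𝔉2 P₀ hP₀m hP₀i hP₀d
  have hkereq : LinearMap.ker (aeval y P) = LinearMap.ker (aeval y P₀) := by
    ext v
    rw [LinearMap.mem_ker, LinearMap.mem_ker, hP₀, mul_comm, map_mul, aeval_C,
      Module.End.mul_apply, Module.algebraMap_end_apply]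
    constructor
    · intro h; rw [h, smul_zero]
    · intro h
      rcases smul_eq_zero.mp h with h' | h'
      · exact absurd h' hlc
      · exact h'
  rw [hkereq]
  -- the sum bound
  have hsplit : finrank F ↥(LinearMap.ker (aeval y P₀)) +
      ∑ Q ∈ S.erase P₀, finrank F ↥(LinearMap.ker (aeval y Q)) ≤ u * i := by
    rw [← hsum']
    have hsub : insert P₀ (S.erase P₀) ⊆ 𝔉 := by
      intro Q hQ
      rcases Finset.mem_insert.mp hQ with rfl | hQ
      · exact hP₀𝔉
      · exact hS𝔉 (Finset.mem_of_mem_erase hQ)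
    calc finrank F ↥(LinearMap.ker (aeval y P₀)) +
          ∑ Q ∈ S.erase P₀, finrank F ↥(LinearMap.ker (aeval y Q))
        = ∑ Q ∈ insert P₀ (S.erase P₀), finrank F ↥(LinearMap.ker (aeval y Q)) := by
          rw [Finset.sum_insert (Finset.notMem_erase _ _)]
      _ ≤ ∑ Q ∈ 𝔉, finrank F ↥(LinearMap.ker (aeval y Q)) :=
          Finset.sum_le_sum_of_subset hsub
  have hrest : (u - 1) * i ≤ ∑ Q ∈ S.erase P₀, finrank F ↥(LinearMap.ker (aeval y Q)) := by
    have h1 : (S.erase P₀).card * i ≤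
        ∑ Q ∈ S.erase P₀, finrank F ↥(LinearMap.ker (aeval y Q)) := by
      rw [← smul_eq_mul, ← Finset.sum_const]
      exact Finset.sum_le_sum (fun Q hQ => hge Q (Finset.mem_of_mem_erase hQ))
    have h2 : u - 1 ≤ (S.erase P₀).card := by
      have := Finset.pred_card_le_card_erase (s := S) (a := P₀)
      rw [hScard] at this
      exact this
    exact (Nat.mul_le_mul_right i h2).trans h1
  have e1 : u * i = (u - 1) * i + i := by
    have : u = (u - 1) + 1 := by omega
    conv_lhs => rw [this]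
    ring
  omega

end elt

end Cfsg.Agent.Helper94.Ti
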