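import Mathlib
import Cfsg.Agent.Helper59.SubspaceCount

set_option autoImplicit false
set_option linter.unusedSectionVars false
set_option linter.style.haveILetI false

/-!
# Counting totally isotropic subspaces of a nondegenerate alternating space
-/

namespace Cfsg.Agent.Helper94.Ti

open Module

variable {F V : Type*} [Field F] [Fintype F] [AddCommGroup V] [Module F V] [FiniteDimensional F V]

/-- totally isotropic frames -/
def IsTiFrame (B : LinearMap.BilinForm F V) {m : ℕ} (s : Fin m → V) : Prop :=
  LinearIndependent F s ∧ ∀ a b, B (s a) (s b) = 0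

/-- totally isotropic subspaces (pointwise form) -/
def IsTi (B : LinearMap.BilinForm F V) (W : Submodule F V) : Prop :=
  ∀ u ∈ W, ∀ v ∈ W, B u v = 0

variable (B : LinearMap.BilinForm F V)

theorem mem_orthogonal_span_iff {m : ℕ} (s : Fin m → V) (v : V) :
    v ∈ B.orthogonal (Submodule.span F (Set.range s)) ↔ ∀ b, B (s b) v = 0 := by
  rw [LinearMap.BilinForm.mem_orthogonal_iff]
  constructor
  · intro h b
    exact h _ (Submodule.subset_span ⟨b, rfl⟩)
  · intro h n hn
    have hle : Submodule.span F (Set.range s) ≤ LinearMap.ker (B.flip v) := by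
      rw [Submodule.span_le]
      rintro _ ⟨b, rfl⟩
      rw [SetLike.mem_coe, LinearMap.mem_ker]
      show B (s b) v = 0
      exact h b
    have := hle hn
    rw [LinearMap.mem_ker] at this
    exact this

theorem isTiFrame_cons (hB : B.IsAlt) {m : ℕ} (v : V) (s : Fin m → V) :
    IsTiFrame B (Fin.cons v s : Fin (m + 1) → V) ↔
      IsTiFrame B s ∧ v ∈ B.orthogonal (Submodule.span F (Set.range s)) ∧
        v ∉ Submodule.span F (Set.range s) := by
  unfold IsTiFrame
  rw [linearIndependent_finCons, mem_orthogonal_span_iff]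
  constructor
  · rintro ⟨⟨h1, h2⟩, h3⟩
    refine ⟨⟨h1, fun a b => ?_⟩, fun b => ?_, h2⟩
    · have := h3 a.succ b.succ
      rwa [Fin.cons_succ, Fin.cons_succ] at this
    · have := h3 b.succ 0
      rwa [Fin.cons_succ, Fin.cons_zero] at this
  · rintro ⟨⟨h1, h2⟩, h3, h4⟩
    refine ⟨⟨h1, h4⟩, fun a b => ?_⟩
    refine Fin.cases ?_ (fun a' => ?_) a <;> refine Fin.cases ?_ (fun b' => ?_) b
    · rw [Fin.cons_zero]; exact hB.self_eq_zero v
    · rw [Fin.cons_zero, Fin.cons_succ]
      exact hB.isRefl _ _ (h3 b')
    · rw [Fin.cons_zero, Fin.cons_succ]; exact h3 a'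
    · rw [Fin.cons_succ, Fin.cons_succ]; exact h2 a' b'

/-- forgetting the first vector of a frame -/
noncomputable def tailMap (hB : B.IsAlt) (m : ℕ) :
    {s : Fin (m + 1) → V // IsTiFrame B s} → {s : Fin m → V // IsTiFrame B s} :=
  fun s => ⟨Fin.tail s.1, by
    have h := s.2
    rw [← Fin.cons_self_tail s.1] at h
    exact ((isTiFrame_cons B hB _ _).mp h).1⟩

/-- the fibre of `tailMap` -/
noncomputable def tailFiberEquiv (hB : B.IsAlt) (m : ℕ) (s : {s : Fin m → V // IsTiFrame B s}) :
    {s' : {s' : Fin (m + 1) → V // IsTiFrame B s'} // tailMap B hB m s' = s} ≃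
      {v : V // v ∈ B.orthogonal (Submodule.span F (Set.range s.1)) ∧
        v ∉ Submodule.span F (Set.range s.1)} where
  toFun s' := ⟨s'.1.1 0, by
    have h := s'.1.2
    rw [← Fin.cons_self_tail s'.1.1] at h
    have h2 := ((isTiFrame_cons B hB _ _).mp h).2
    have h3 : Fin.tail s'.1.1 = s.1 := congrArg Subtype.val s'.2
    rwa [h3] at h2⟩
  invFun v := ⟨⟨Fin.cons v.1 s.1, (isTiFrame_cons B hB _ _).mpr ⟨s.2, v.2⟩⟩, by
    apply Subtype.ext
    show Fin.tail (Fin.cons v.1 s.1 : Fin (m + 1) → V) = s.1
    exact Fin.tail_cons _ _⟩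
  left_inv s' := by
    apply Subtype.ext; apply Subtype.ext
    have h3 : Fin.tail s'.1.1 = s.1 := congrArg Subtype.val s'.2
    show Fin.cons (s'.1.1 0) s.1 = s'.1.1
    rw [← h3]
    exact Fin.cons_self_tail _
  right_inv v := by
    apply Subtype.ext
    show (Fin.cons v.1 s.1 : Fin (m + 1) → V) 0 = v.1
    exact Fin.cons_zero _ _

theorem card_fiber (hnd : B.Nondegenerate) {m : ℕ} (s : Fin m → V) (hs : IsTiFrame B s) :
    Nat.card {v : V // v ∈ B.orthogonal (Submodule.span F (Set.range s)) ∧
        v ∉ Submodule.span F (Set.range s)} =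
      Fintype.card F ^ (finrank F V - m) - Fintype.card F ^ m := by
  classical
  haveI : Finite V := Module.finite_of_finite F
  set S := Submodule.span F (Set.range s) with hS
  have hSdim : finrank F ↥S = m := by
    rw [hS, finrank_span_eq_card hs.1, Fintype.card_fin]
  have hAdim : finrank F ↥(B.orthogonal S) = finrank F V - m := by
    rw [LinearMap.BilinForm.finrank_orthogonal hnd, hSdim]
  have hSA : S ≤ B.orthogonal S := by
    intro x hx
    rw [hS, mem_orthogonal_span_iff]
    intro b
    have hle : S ≤ LinearMap.ker (B (s b)) := by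
      rw [hS, Submodule.span_le]
      rintro _ ⟨a, rfl⟩
      rw [SetLike.mem_coe, LinearMap.mem_ker]
      exact hs.2 b a
    exact LinearMap.mem_ker.mp (hle hx)
  have h1 : Nat.card {v : V // v ∈ B.orthogonal S ∧ v ∉ S} =
      ((B.orthogonal S : Set V) \ (S : Set V)).ncard := by
    rw [← Nat.card_coe_set_eq]
    rfl
  rw [h1, Set.ncard_sdiff (fun x hx => hSA hx) (Set.toFinite _), ← Nat.card_coe_set_eq,
    ← Nat.card_coe_set_eq]
  have e1 : Nat.card ↥(B.orthogonal S : Set V) = Nat.card ↥(B.orthogonal S) := rfl
  have e2 : Nat.card ↥(S : Set V) = Nat.card ↥S := rfl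
  have e3 : Nat.card ↥(B.orthogonal S) = Fintype.card F ^ (finrank F V - m) := by
    rw [Module.natCard_eq_pow_finrank (K := F) (V := ↥(B.orthogonal S)), hAdim,
      Nat.card_eq_fintype_card]
  have e4 : Nat.card ↥S = Fintype.card F ^ m := by
    rw [Module.natCard_eq_pow_finrank (K := F) (V := ↥S), hSdim, Nat.card_eq_fintype_card]
  rw [e1, e2, e3, e4]

/-- the number of totally isotropic frames -/
theorem card_tiFrame (hB : B.IsAlt) (hnd : B.Nondegenerate) (m : ℕ) :
    Nat.card {s : Fin m → V // IsTiFrame B s} =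
      ∏ k : Fin m, (Fintype.card F ^ (finrank F V - k.val) - Fintype.card F ^ k.val) := by
  classical
  haveI : Finite V := Module.finite_of_finite F
  induction m with
  | zero =>
    rw [Finset.univ_eq_empty, Finset.prod_empty]
    haveI : Unique {s : Fin 0 → V // IsTiFrame B s} :=
      { default := ⟨Fin.elim0, linearIndependent_empty_type, fun a => a.elim0⟩
        uniq := fun s => Subtype.ext (funext fun a => a.elim0) }
    exact Nat.card_unique
  | succ m ih =>
    haveI : Fintype {s : Fin m → V // IsTiFrame B s} := Fintype.ofFinite _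
    rw [Nat.card_congr (Equiv.sigmaFiberEquiv (tailMap B hB m)).symm, Nat.card_sigma]
    have hfib : ∀ s : {s : Fin m → V // IsTiFrame B s},
        Nat.card {s' : {s' : Fin (m + 1) → V // IsTiFrame B s'} // tailMap B hB m s' = s} =
          Fintype.card F ^ (finrank F V - m) - Fintype.card F ^ m := by
      intro s
      rw [Nat.card_congr (tailFiberEquiv B hB m s), card_fiber B hnd s.1 s.2]
    rw [Finset.sum_congr rfl (fun s _ => hfib s), Finset.sum_const, Finset.card_univ,
      ← Nat.card_eq_fintype_card, ih, smul_eq_mul, Fin.prod_univ_castSucc]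
    simp only [Fin.val_castSucc, Fin.val_last]

/-- the span map on totally isotropic frames -/
noncomputable def tiSpanMap (m : ℕ) :
    {s : Fin m → V // IsTiFrame B s} → {W : Submodule F V // finrank F ↥W = m ∧ IsTi B W} :=
  fun s => ⟨Submodule.span F (Set.range s.1), by
    rw [finrank_span_eq_card s.2.1]; simp, by
    intro u hu v hv
    have hv' : v ∈ B.orthogonal (Submodule.span F (Set.range s.1)) := by
      rw [mem_orthogonal_span_iff]
      intro b
      have hle : Submodule.span F (Set.range s.1) ≤ LinearMap.ker (B (s.1 b)) := by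
        rw [Submodule.span_le]
        rintro _ ⟨a, rfl⟩
        rw [SetLike.mem_coe, LinearMap.mem_ker]
        exact s.2.2 b a
      exact LinearMap.mem_ker.mp (hle hv)
    rw [LinearMap.BilinForm.mem_orthogonal_iff] at hv'
    exact hv' u hu⟩

/-- the fibre of the span map over `W` is the set of bases of `W` -/
noncomputable def tiFiberEquiv (m : ℕ)
    (W : {W : Submodule F V // finrank F ↥W = m ∧ IsTi B W}) :
    {s : {s : Fin m → V // IsTiFrame B s} // tiSpanMap B m s = W} ≃
      {s' : Fin m → ↥W.1 // LinearIndependent F s'} where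
  toFun s := ⟨fun k => ⟨s.1.1 k, by
      have h := congrArg Subtype.val s.2
      simp only [tiSpanMap] at h
      rw [← h]
      exact Submodule.subset_span ⟨k, rfl⟩⟩, by
    have := s.1.2.1
    exact LinearIndependent.of_comp W.1.subtype (by simpa [Function.comp_def] using this)⟩
  invFun s' := ⟨⟨fun k => (s'.1 k : V), by
      have := s'.2.map' W.1.subtype (Submodule.ker_subtype _)
      simpa [Function.comp_def] using this, fun a b => W.2.2 _ (s'.1 a).2 _ (s'.1 b).2⟩, by
    apply Subtype.ext
    simp only [tiSpanMap]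
    have hspan : Submodule.span F (Set.range s'.1) = ⊤ := by
      apply LinearIndependent.span_eq_top_of_card_eq_finrank' s'.2
      rw [Fintype.card_fin, W.2.1]
    have : Submodule.span F (Set.range fun k => (s'.1 k : V)) =
        (Submodule.span F (Set.range s'.1)).map W.1.subtype := by
      rw [Submodule.map_span, ← Set.range_comp]; rfl
    rw [this, hspan, Submodule.map_top, Submodule.range_subtype]⟩
  left_inv s := by
    apply Subtype.ext; apply Subtype.ext; rfl
  right_inv s' := by
    apply Subtype.ext; funext k; rfl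

/-- **counting identity** for totally isotropic `m`-spaces -/
theorem card_ti_mul (hB : B.IsAlt) (hnd : B.Nondegenerate) (m : ℕ) :
    Nat.card {W : Submodule F V // finrank F ↥W = m ∧ IsTi B W} *
        ∏ k : Fin m, (Fintype.card F ^ m - Fintype.card F ^ k.val) =
      ∏ k : Fin m, (Fintype.card F ^ (finrank F V - k.val) - Fintype.card F ^ k.val) := by
  classical
  haveI : Finite V := Module.finite_of_finite F
  haveI : Fintype {W : Submodule F V // finrank F ↥W = m ∧ IsTi B W} := Fintype.ofFinite _
  rw [← card_tiFrame B hB hnd m,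
    Nat.card_congr (Equiv.sigmaFiberEquiv (tiSpanMap B m)).symm, Nat.card_sigma]
  have hfib : ∀ W : {W : Submodule F V // finrank F ↥W = m ∧ IsTi B W},
      Nat.card {s : {s : Fin m → V // IsTiFrame B s} // tiSpanMap B m s = W} =
        ∏ k : Fin m, (Fintype.card F ^ m - Fintype.card F ^ k.val) := by
    intro W
    rw [Nat.card_congr (tiFiberEquiv B m W),
      card_linearIndependent (K := F) (V := ↥W.1) (by rw [W.2.1]), W.2.1]
  rw [Finset.sum_congr rfl (fun W _ => hfib W), Finset.sum_const, Finset.card_univ,
    Nat.card_eq_fintype_card, smul_eq_mul]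

end Cfsg.Agent.Helper94.Ti
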