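import Mathlib
import Cfsg.Agent.Helper94.TiF

set_option autoImplicit false
set_option linter.unusedSectionVars false
set_option linter.style.haveILetI false

/-!
# Divisibility consequences of the count of totally isotropic subspaces
-/

namespace Cfsg.Agent.Helper94.Ti

open Module
open Cfsg.Agent.Helper59.SubCount

theorem prod_sub_eq_ti (q n m : ℕ) (hm : 2 * m ≤ n) :
    ∏ k : Fin m, (q ^ (n - k.val) - q ^ k.val) =
      (∏ k : Fin m, q ^ k.val) * ∏ k : Fin m, (q ^ (n - 2 * k.val) - 1) := by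
  rw [← Finset.prod_mul_distrib]
  apply Finset.prod_congr rfl
  intro k _
  have hk : 2 * k.val ≤ n := by have := k.2; omega
  rw [Nat.mul_sub, mul_one, ← pow_add]
  congr 2
  omega

variable {F V : Type*} [Field F] [Fintype F] [AddCommGroup V] [Module F V] [FiniteDimensional F V]
variable (B : LinearMap.BilinForm F V)

/-- the reduced counting identity -/
theorem card_ti_mul' (hB : B.IsAlt) (hnd : B.Nondegenerate) (m : ℕ)
    (hm : 2 * m ≤ finrank F V) :
    Nat.card {W : Submodule F V // finrank F ↥W = m ∧ IsTi B W} *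
        ∏ k : Fin m, (Fintype.card F ^ (m - k.val) - 1) =
      ∏ k : Fin m, (Fintype.card F ^ (finrank F V - 2 * k.val) - 1) := by
  have h := card_ti_mul B hB hnd m
  rw [prod_sub_eq _ _ m le_rfl, prod_sub_eq_ti _ _ m hm] at h
  have hpos : 0 < ∏ k : Fin m, Fintype.card F ^ k.val := by
    apply Finset.prod_pos
    intro k _
    exact pow_pos Fintype.card_pos _
  apply Nat.eq_of_mul_eq_mul_left hpos
  linarith [h, mul_comm (∏ k : Fin m, Fintype.card F ^ k.val)
    (Nat.card {W : Submodule F V // finrank F ↥W = m ∧ IsTi B W} *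
      ∏ k : Fin m, (Fintype.card F ^ (m - k.val) - 1))]

/-- a prime dividing the number of totally isotropic `m`-spaces divides some `q^(n-2k) - 1`,
`k < m`. -/
theorem exists_dvd_of_dvd_card_ti (hB : B.IsAlt) (hnd : B.Nondegenerate) (m : ℕ)
    (hm : 2 * m ≤ finrank F V) (r : ℕ) (hr : r.Prime)
    (hdvd : r ∣ Nat.card {W : Submodule F V // finrank F ↥W = m ∧ IsTi B W}) :
    ∃ k : ℕ, k < m ∧ r ∣ Fintype.card F ^ (finrank F V - 2 * k) - 1 := by
  have h := card_ti_mul' B hB hnd m hm
  have h1 : r ∣ ∏ k : Fin m, (Fintype.card F ^ (finrank F V - 2 * k.val) - 1) := by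
    rw [← h]; exact Dvd.dvd.mul_right hdvd _
  obtain ⟨k, -, hk⟩ := (hr.prime.dvd_finsetProd_iff _).mp h1
  exact ⟨k.val, k.2, hk⟩

/-- the characteristic does not divide the number of totally isotropic `m`-spaces. -/
theorem char_not_dvd_card_ti (hB : B.IsAlt) (hnd : B.Nondegenerate) (m : ℕ)
    (hm : 2 * m ≤ finrank F V) (p : ℕ) [Fact p.Prime] [CharP F p] :
    ¬ p ∣ Nat.card {W : Submodule F V // finrank F ↥W = m ∧ IsTi B W} := by
  intro hdvd
  obtain ⟨k, hk, hd⟩ := exists_dvd_of_dvd_card_ti B hB hnd m hm p Fact.out hdvd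
  have hpq : p ∣ Fintype.card F := by
    obtain ⟨e, -, he⟩ := FiniteField.card F p
    rw [he]; exact dvd_pow_self p e.pos.ne'
  have hj : finrank F V - 2 * k ≠ 0 := by omega
  have h1 : p ∣ Fintype.card F ^ (finrank F V - 2 * k) := Dvd.dvd.trans hpq (dvd_pow_self _ hj)
  have hpos : 1 ≤ Fintype.card F ^ (finrank F V - 2 * k) := Nat.one_le_pow _ _ Fintype.card_pos
  have h2 : p ∣ 1 := by
    have := Nat.dvd_sub h1 hd
    rwa [Nat.sub_sub_self hpos] at this
  exact (Fact.out : p.Prime).one_lt.ne' (Nat.dvd_one.mp h2)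

end Cfsg.Agent.Helper94.Ti
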