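import Mathlib
import Cfsg.Agent.Helper94.TiE

set_option autoImplicit false
set_option linter.unusedSectionVars false
set_option linter.style.haveILetI false

/-!
# Isometries of odd prime order of a symmetric bilinear space: fixed part ⊥ cyclotomic part
(the symmetric counterpart of `Helper99.SpStruct`)
-/

namespace Cfsg.Agent.Helper94.Ts

open Module Polynomial
open Cfsg.Agent.Helper59.InvChain Cfsg.Agent.Helper59.Elusive
open Cfsg.Agent.Helper99.RDecomp Cfsg.Agent.Helper99.SpStruct

universe u v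

variable {F : Type u} [Field F] {V : Type v} [AddCommGroup V] [Module F V] [FiniteDimensional F V]

/-- the data: a nondegenerate symmetric form, an isometry `y` with `y ^ r = 1`, `r` odd. -/
structure OSetup (B : LinearMap.BilinForm F V) (r : ℕ) (y : Module.End F V) (i : ℕ) : Prop where
  symm : B.IsSymm
  nondeg : B.Nondegenerate
  isom : ∀ u v, B (y u) (y v) = B u v
  setup : Setup r y i
  hp : HP (cyclotomic r F) i
  odd : Odd r

variable {B : LinearMap.BilinForm F V} {r : ℕ} {y : Module.End F V} {i : ℕ}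

theorem OSetup.refl (h : OSetup B r y i) : B.IsRefl := h.symm.isRefl

theorem OSetup.isom_pow (h : OSetup B r y i) (k : ℕ) (u v : V) :
    B ((y ^ k) u) ((y ^ k) v) = B u v := by
  induction k with
  | zero => simp
  | succ k ih => rw [pow_succ', Module.End.mul_apply, Module.End.mul_apply, h.isom, ih]

theorem OSetup.y_inv (h : OSetup B r y i) (w : V) : y ((y ^ (r - 1)) w) = w := by
  have hr := h.setup.prime.pos
  rw [← Module.End.mul_apply, ← pow_succ', Nat.sub_add_cancel hr, h.setup.pow_eq]
  rfl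

theorem OSetup.inv_y (h : OSetup B r y i) (w : V) : (y ^ (r - 1)) (y w) = w := by
  have hr := h.setup.prime.pos
  rw [← Module.End.mul_apply, ← pow_succ, Nat.sub_add_cancel hr, h.setup.pow_eq]
  rfl

/-- orthogonals of invariant subspaces are invariant -/
theorem OSetup.inv_orthogonal (h : OSetup B r y i) {W : Submodule F V} (hW : Inv y W) :
    Inv y (B.orthogonal W) := by
  rw [inv_iff]
  intro m hm
  rw [LinearMap.BilinForm.mem_orthogonal_iff] at hm ⊢
  intro n hn
  rw [← h.y_inv n, h.isom]
  exact hm _ (pow_mem_of_inv hW _ hn)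

/-- the fixed part is orthogonal to the cyclotomic part -/
theorem OSetup.orth_fix_cyc (h : OSetup B r y i) : Orth B (fixSp y) (cycSp r y) := by
  intro u hu v hv
  have hu' : ∀ k : ℕ, (y ^ k) u = u := by
    intro k
    induction k with
    | zero => simp
    | succ k ih => rw [pow_succ, Module.End.mul_apply, mem_fixSp.mp hu, ih]
  have h1 : ∀ k : ℕ, B u ((y ^ k) v) = B u v := by
    intro k
    conv_lhs => rw [← hu' k]
    exact h.isom_pow k u v
  have h2 : avg r y v = 0 := by
    rw [← aeval_cyclotomic_eq_avg h.setup.prime]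
    exact hv
  have h3 : B u (avg r y v) = (r : F) * B u v := by
    rw [avg_apply, map_sum, Finset.sum_congr rfl (fun k _ => h1 k), Finset.sum_const,
      Finset.card_range, nsmul_eq_mul]
  rw [h2, map_zero] at h3
  rcases mul_eq_zero.mp h3.symm with h4 | h4
  · exact absurd h4 h.setup.ne_zero
  · exact h4

theorem OSetup.nd_inf_fix (h : OSetup B r y i) {W : Submodule F V} (hWinv : Inv y W)
    (hW : Nd B W) : Nd B (W ⊓ fixSp y) := by
  rw [nd_iff]
  intro u hu hu'
  apply nd_iff.mp hW u hu.1
  intro w hw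
  rw [← h.setup.sup_parts W hWinv] at hw
  obtain ⟨a, ha, b, hb, rfl⟩ := Submodule.mem_sup.mp hw
  rw [map_add, LinearMap.add_apply, hu' a ha, zero_add]
  exact (h.orth_fix_cyc.symm h.refl) b hb.2 u hu.2

theorem OSetup.nd_inf_cyc (h : OSetup B r y i) {W : Submodule F V} (hWinv : Inv y W)
    (hW : Nd B W) : Nd B (W ⊓ cycSp r y) := by
  rw [nd_iff]
  intro u hu hu'
  apply nd_iff.mp hW u hu.1
  intro w hw
  rw [← h.setup.sup_parts W hWinv] at hw
  obtain ⟨a, ha, b, hb, rfl⟩ := Submodule.mem_sup.mp hw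
  rw [map_add, LinearMap.add_apply, hu' b hb, add_zero]
  exact h.orth_fix_cyc a ha.2 u hu.2

theorem nd_top_of_nondeg' (hnd : B.Nondegenerate) : Nd B (⊤ : Submodule F V) := by
  rw [nd_iff]
  intro u _ hu
  exact hnd.2 u (fun w => hu w trivial)

theorem OSetup.nd_fix (h : OSetup B r y i) : Nd B (fixSp y) := by
  have := h.nd_inf_fix (inv_top y) (nd_top_of_nondeg' h.nondeg)
  rwa [top_inf_eq] at this

theorem OSetup.nd_cyc (h : OSetup B r y i) : Nd B (cycSp r y) := by
  have := h.nd_inf_cyc (inv_top y) (nd_top_of_nondeg' h.nondeg)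
  rwa [top_inf_eq] at this

theorem OSetup.disjoint_fix_cyc (h : OSetup B r y i) : Disjoint (fixSp y) (cycSp r y) := by
  have : Fact r.Prime := ⟨h.setup.prime⟩
  rw [disjoint_iff]
  exact Cfsg.Agent.Helper59.Elusive.disjoint_fix_cyc r h.setup.ne_zero y

/-- `y² v = v` forces `y v = v` (odd order) -/
theorem OSetup.fixed_of_sq (h : OSetup B r y i) {v : V} (h4 : y (y v) = v) : y v = v := by
  obtain ⟨m, hm⟩ := h.odd
  have h5 : ∀ j : ℕ, ((y ^ 2) ^ j) v = v := by
    intro j
    induction j with
    | zero => simp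
    | succ j ih =>
      have hsq : (y ^ 2) v = v := by rw [pow_two, Module.End.mul_apply, h4]
      rw [pow_succ, Module.End.mul_apply, hsq, ih]
  have h7 : (y ^ r) v = v := by rw [h.setup.pow_eq]; rfl
  rw [hm, pow_succ', pow_mul, Module.End.mul_apply, h5] at h7
  exact h7

/-- the alternating companion form `B'(u, v) = B(u, y v - y⁻¹ v)` -/
noncomputable def altForm (B : LinearMap.BilinForm F V) (r : ℕ) (y : Module.End F V) :
    LinearMap.BilinForm F V :=
  B.compRight (y - y ^ (r - 1))

theorem altForm_apply (u v : V) : altForm B r y u v = B u (y v) - B u ((y ^ (r - 1)) v) := by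
  unfold altForm
  rw [LinearMap.BilinForm.compRight_apply, LinearMap.sub_apply, map_sub]

theorem OSetup.altForm_isAlt (h : OSetup B r y i) : (altForm B r y).IsAlt := by
  intro u
  rw [altForm_apply]
  have h1 : B u ((y ^ (r - 1)) u) = B (y u) u := by
    rw [← h.isom u ((y ^ (r - 1)) u), h.y_inv]
  rw [h1, h.symm.eq (y u) u, sub_self]

/-- nondegenerate invariant subspaces of the cyclotomic part are nondegenerate for the
alternating companion -/
theorem OSetup.nd_altForm (h : OSetup B r y i) {W : Submodule F V} (hWinv : Inv y W)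
    (hW : Nd B W) (hWc : W ≤ cycSp r y) : Nd (altForm B r y) W := by
  rw [nd_iff]
  intro u hu hu'
  have hmem : y u - (y ^ (r - 1)) u ∈ W :=
    W.sub_mem (hWinv.apply_mem hu) (pow_mem_of_inv hWinv _ hu)
  have h3 : y u - (y ^ (r - 1)) u = 0 := by
    apply nd_iff.mp hW _ hmem
    intro w hw
    have := hu' w hw
    rwa [altForm_apply, ← map_sub] at this
  have h4 : y (y u) = u := by
    have := congrArg y h3
    rw [map_sub, h.y_inv, map_zero, sub_eq_zero] at this
    exact this
  have h6 := h.fixed_of_sq h4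
  have h8 : u ∈ fixSp y ⊓ cycSp r y := ⟨mem_fixSp.mpr h6, hWc hu⟩
  rw [h.disjoint_fix_cyc.eq_bot] at h8
  exact (Submodule.mem_bot F).mp h8

/-- nondegenerate invariant subspaces of the cyclotomic part have even dimension -/
theorem OSetup.even_finrank (h : OSetup B r y i) {W : Submodule F V} (hWinv : Inv y W)
    (hW : Nd B W) (hWc : W ≤ cycSp r y) : Even (finrank F ↥W) :=
  Cfsg.Agent.Helper99.SpStruct.even_finrank h.altForm_isAlt (h.nd_altForm hWinv hW hWc)

theorem OSetup.blockSize_dvd (h : OSetup B r y i) {W : Submodule F V} (hWinv : Inv y W)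
    (hW : Nd B W) (hWc : W ≤ cycSp r y) : blockSize i ∣ finrank F ↥W := by
  have h1 := h.setup.dvd W hWinv hWc
  by_cases hi : Even i
  · rw [blockSize_even hi]; exact h1
  · rw [blockSize_odd hi]
    have h2 : 2 ∣ finrank F ↥W := (h.even_finrank hWinv hW hWc).two_dvd
    have hcop : Nat.Coprime 2 i := by
      rw [Nat.coprime_two_left]
      exact Nat.not_even_iff_odd.mp hi
    exact hcop.mul_dvd_of_dvd_of_dvd h2 h1

/-- dimension bookkeeping: `finrank V = finrank Fix + k' * blockSize i` -/
theorem OSetup.exists_blocks_eq (h : OSetup B r y i) :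
    ∃ k' : ℕ, finrank F ↥(fixSp y) + k' * blockSize i = finrank F V ∧
      finrank F ↥(cycSp r y) = k' * blockSize i ∧
      finrank F V % blockSize i ≤ finrank F ↥(fixSp y) := by
  obtain ⟨k', hk'⟩ := h.blockSize_dvd (inv_cycSp r y) h.nd_cyc le_rfl
  have htot := h.setup.total
  refine ⟨k', by rw [htot, hk', mul_comm], by rw [hk', mul_comm], ?_⟩
  have h1 : finrank F V % blockSize i = finrank F ↥(fixSp y) % blockSize i := by
    rw [htot, hk', Nat.add_mul_mod_self_left]
  rw [h1]
  exact Nat.mod_le _ _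

/-! ### adjoints -/

theorem OSetup.pow_mul_inv (h : OSetup B r y i) (k : ℕ) : y ^ k * (y ^ (r - 1)) ^ k = 1 := by
  have hr := h.setup.prime.pos
  have h1 : y * y ^ (r - 1) = 1 := by
    rw [← pow_succ', Nat.sub_add_cancel hr, h.setup.pow_eq]
  have hc : Commute y (y ^ (r - 1)) := Commute.pow_right (Commute.refl y) _
  rw [← hc.mul_pow, h1, one_pow]

theorem OSetup.adjoint_pow (h : OSetup B r y i) (k : ℕ) (u v : V) :
    B ((y ^ k) u) v = B u (((y ^ (r - 1)) ^ k) v) := by
  have h1 : v = (y ^ k) (((y ^ (r - 1)) ^ k) v) := by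
    rw [← Module.End.mul_apply, h.pow_mul_inv k]
    rfl
  conv_lhs => rw [h1]
  exact h.isom_pow k _ _

theorem OSetup.adjoint_aeval (h : OSetup B r y i) (g : F[X]) (u v : V) :
    B ((aeval y g) u) v = B u ((aeval (y ^ (r - 1)) g) v) := by
  rw [aeval_eq_sum_range, aeval_eq_sum_range]
  simp only [LinearMap.sum_apply, LinearMap.smul_apply, map_sum, map_smul, smul_eq_mul]
  apply Finset.sum_congr rfl
  intro k _
  rw [h.adjoint_pow]

section finite

variable [Fintype F]

/-- in the even case `y⁻¹` is a Frobenius power of `y` -/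
theorem OSetup.inv_eq_pow (h : OSetup B r y (orderOf ((Fintype.card F : ℕ) : ZMod r)))
    (hi : Even (orderOf ((Fintype.card F : ℕ) : ZMod r))) :
    y ^ (r - 1) = y ^ (Fintype.card F ^ (orderOf ((Fintype.card F : ℕ) : ZMod r) / 2)) := by
  have hr := h.setup.prime.pos
  obtain ⟨t, ht⟩ := dvd_pow_half_add_one' h.setup.prime rfl hi
    h.setup.c_pos
  set s := Fintype.card F ^ (orderOf ((Fintype.card F : ℕ) : ZMod r) / 2) with hs
  have h1 : y ^ (s + 1) = 1 := by rw [ht, pow_mul, h.setup.pow_eq, one_pow]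
  have h2 : y * y ^ (r - 1) = 1 := by
    rw [← pow_succ', Nat.sub_add_cancel hr, h.setup.pow_eq]
  calc y ^ (r - 1) = y ^ (s + 1) * y ^ (r - 1) := by rw [h1, one_mul]
    _ = y ^ s * (y * y ^ (r - 1)) := by rw [pow_succ, mul_assoc]
    _ = y ^ s := by rw [h2, mul_one]

/-- self-duality: in the even case, `g(y) u = 0` implies `u ⊥ g(y) V`. -/
theorem OSetup.orth_of_aeval_eq_zero
    (h : OSetup B r y (orderOf ((Fintype.card F : ℕ) : ZMod r)))
    (hi : Even (orderOf ((Fintype.card F : ℕ) : ZMod r))) (g : F[X]) {u : V}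
    (hu : (aeval y g) u = 0) (v : V) : B u ((aeval y g) v) = 0 := by
  apply h.refl
  rw [h.adjoint_aeval, h.inv_eq_pow hi, ← aeval_pow_card_pow]
  have hspos : 0 < Fintype.card F ^ (orderOf ((Fintype.card F : ℕ) : ZMod r) / 2) :=
    pow_pos Fintype.card_pos _
  obtain ⟨s', hs'⟩ : ∃ s', Fintype.card F ^ (orderOf ((Fintype.card F : ℕ) : ZMod r) / 2) =
      s' + 1 := ⟨_, (Nat.succ_pred_eq_of_pos hspos).symm⟩
  rw [hs', pow_succ, Module.End.mul_apply, hu, map_zero, map_zero]

theorem OSetup.orth_ker_of_coprime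
    (h : OSetup B r y (orderOf ((Fintype.card F : ℕ) : ZMod r)))
    (hi : Even (orderOf ((Fintype.card F : ℕ) : ZMod r))) {P P' : F[X]} (hcop : IsCoprime P P') :
    Orth B (LinearMap.ker (aeval y P)) (LinearMap.ker (aeval y P')) := by
  intro u hu v hv
  obtain ⟨a, b, hab⟩ := hcop
  have h1 : v = (aeval y P) ((aeval y a) v) := by
    have h2 : (aeval y (a * P + b * P')) v = v := by rw [hab, map_one]; rfl
    rw [map_add, LinearMap.add_apply, map_mul, map_mul, Module.End.mul_apply, Module.End.mul_apply,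
      LinearMap.mem_ker.mp hv, map_zero, add_zero] at h2
    rw [← Module.End.mul_apply, ← map_mul, mul_comm, map_mul, Module.End.mul_apply]
    exact h2.symm
  rw [h1]
  exact h.orth_of_aeval_eq_zero hi P (LinearMap.mem_ker.mp hu) _

theorem OSetup.nd_inf_ker
    (h : OSetup B r y (orderOf ((Fintype.card F : ℕ) : ZMod r)))
    (hi : Even (orderOf ((Fintype.card F : ℕ) : ZMod r))) {P P' : F[X]} (hcop : IsCoprime P P')
    {W : Submodule F V} (hWinv : Inv y W) (hW : Nd B W)
    (hkill : ∀ w ∈ W, (aeval y (P * P')) w = 0) : Nd B (W ⊓ LinearMap.ker (aeval y P)) := by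
  rw [nd_iff]
  intro u hu hu'
  apply nd_iff.mp hW u hu.1
  intro w hw
  obtain ⟨a, b, hab⟩ := hcop
  have h2 : w = (aeval y (b * P')) w + (aeval y (a * P)) w := by
    rw [← LinearMap.add_apply, ← map_add, add_comm, hab, map_one]
    rfl
  rw [h2, map_add, LinearMap.add_apply]
  have h3 : (aeval y (b * P')) w ∈ W ⊓ LinearMap.ker (aeval y P) := by
    refine Submodule.mem_inf.mpr ⟨hWinv.aeval_mem _ hw, ?_⟩
    rw [LinearMap.mem_ker, ← Module.End.mul_apply, ← map_mul]
    have h4 : P * (b * P') = b * (P * P') := by ring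
    rw [h4, map_mul, Module.End.mul_apply, hkill w hw, map_zero]
  have h5 : (aeval y (a * P)) w ∈ LinearMap.ker (aeval y P') := by
    rw [LinearMap.mem_ker, ← Module.End.mul_apply, ← map_mul]
    have h4 : P' * (a * P) = a * (P * P') := by ring
    rw [h4, map_mul, Module.End.mul_apply, hkill w hw, map_zero]
  rw [hu' _ h3, zero_add]
  exact ((h.orth_ker_of_coprime hi ⟨a, b, hab⟩).symm h.refl) _ h5 u hu.2

end finite

end Cfsg.Agent.Helper94.Ts
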