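import Mathlib
import Cfsg.Agent.Helper94.TsA

set_option autoImplicit false
set_option linter.unusedSectionVars false
set_option linter.style.haveILetI false

/-!
# Totally isotropic invariant subspaces of the cyclotomic part (symmetric forms)
-/

namespace Cfsg.Agent.Helper94.Ts

open Module Polynomial
open Cfsg.Agent.Helper59.InvChain Cfsg.Agent.Helper59.Elusive
open Cfsg.Agent.Helper99.RDecomp Cfsg.Agent.Helper99.SpStruct
open Cfsg.Agent.Helper94.Ti

universe u v

variable {F : Type u} [Field F] {V : Type v} [AddCommGroup V] [Module F V] [FiniteDimensional F V]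
variable {B : LinearMap.BilinForm F V}

/-- a semisimple isometry of a nondegenerate reflexive space -/
structure RIso (B : LinearMap.BilinForm F V) (y : Module.End F V) (n : ℕ) : Prop where
  refl : B.IsRefl
  nondeg : B.Nondegenerate
  isom : ∀ u v, B (y u) (y v) = B u v
  ne_zero : (n : F) ≠ 0
  pow_eq : y ^ n = 1

variable {y : Module.End F V} {n : ℕ}

theorem toRIso {r i : ℕ} (h : OSetup B r y i) : RIso B y r :=
  ⟨h.refl, h.nondeg, h.isom, h.setup.ne_zero, h.setup.pow_eq⟩

theorem RIso.pos (h : RIso B y n) : 0 < n := by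
  rcases Nat.eq_zero_or_pos n with h0 | h0
  · exfalso
    apply h.ne_zero
    rw [h0, Nat.cast_zero]
  · exact h0

theorem RIso.inv_orthogonal (h : RIso B y n) {W : Submodule F V} (hW : Inv y W) :
    Inv y (B.orthogonal W) := by
  rw [inv_iff]
  intro m hm
  rw [LinearMap.BilinForm.mem_orthogonal_iff] at hm ⊢
  intro w hw
  have hn := h.pos
  have h1 : w = y ((y ^ (n - 1)) w) := by
    rw [← Module.End.mul_apply, ← pow_succ', Nat.sub_add_cancel hn, h.pow_eq]
    rfl
  rw [h1, h.isom]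
  exact hm _ (pow_mem_of_inv hW _ hw)

/-- splitting off a totally isotropic invariant subspace: a nondegenerate invariant
complement of `U` in `U^⊥ ∩ W`. -/
theorem RIso.exists_compl_ti (h : RIso B y n) {W U : Submodule F V} (hWinv : Inv y W)
    (hW : Nd B W) (hUW : U ≤ W) (hUinv : Inv y U) (hU : Orth B U U) :
    ∃ C : Submodule F V, C ≤ W ∧ Inv y C ∧ Nd B C ∧ Orth B U C ∧ Disjoint U C ∧
      finrank F ↥C + 2 * finrank F ↥U = finrank F ↥W := by
  have hrefl := h.refl
  set M := W ⊓ B.orthogonal U with hM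
  have hMinv : Inv y M := inv_inf hWinv (h.inv_orthogonal hUinv)
  have hUM : U ≤ M := le_inf hUW (orth_iff_le.mp hU)
  have hMW : M ≤ W := inf_le_left
  have hMdim : finrank F ↥M + finrank F ↥U = finrank F ↥W :=
    finrank_inf_orth_of_le hrefl h.nondeg hUW hW
  obtain ⟨C'', hC''c, hC''inv⟩ := Cfsg.Agent.Helper99.SemiCompl.exists_invariant_compl n
    h.ne_zero y 1 one_ne_zero (by rw [h.pow_eq, one_smul]) U hUinv
  obtain ⟨hdUC, hsUC⟩ := exists_rel_compl hUM C'' hC''c
  set C := C'' ⊓ M with hC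
  have hCorth : Orth B U C := orth_iff_le.mpr (inf_le_right.trans inf_le_right)
  have hCdim : finrank F ↥U + finrank F ↥C = finrank F ↥M := by
    rw [← finrank_sup_of_disjoint hdUC, hsUC]
  refine ⟨C, inf_le_right.trans hMW, inv_inf hC''inv hMinv, ?_, hCorth, hdUC, by omega⟩
  -- nondegeneracy
  have hUeq : W ⊓ B.orthogonal M = U := by
    symm
    apply Submodule.eq_of_le_of_finrank_eq
    · refine le_inf hUW ?_
      intro u hu
      rw [LinearMap.BilinForm.mem_orthogonal_iff]
      intro m hm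
      have hm' : m ∈ B.orthogonal U := (Submodule.mem_inf.mp hm).2
      rw [LinearMap.BilinForm.mem_orthogonal_iff] at hm'
      exact hrefl _ _ (hm' u hu)
    · have := finrank_inf_orth_of_le hrefl h.nondeg hMW hW
      omega
  rw [nd_iff]
  intro x hx hx'
  have hxW : x ∈ W := (inf_le_right.trans hMW) hx
  have hxM : x ∈ B.orthogonal M := by
    rw [LinearMap.BilinForm.mem_orthogonal_iff]
    intro m hm
    rw [← hsUC] at hm
    obtain ⟨a, ha, c, hc, rfl⟩ := Submodule.mem_sup.mp hm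
    rw [map_add, LinearMap.add_apply, hx' c hc, add_zero]
    exact hCorth a ha x hx
  have hxU : x ∈ U := by
    rw [← hUeq]; exact ⟨hxW, hxM⟩
  have : x ∈ U ⊓ C := ⟨hxU, hx⟩
  rw [hdUC.eq_bot] at this
  exact (Submodule.mem_bot F).mp this

/-- stacking totally isotropic invariant pieces -/
theorem RIso.stack (h : RIso B y n) (S : Submodule F V) (i thr : ℕ)
    (hex : ∀ W : Submodule F V, Inv y W → Nd B W → W ≤ S → thr ≤ finrank F ↥W →
      ∃ U₀ : Submodule F V, U₀ ≤ W ∧ Inv y U₀ ∧ Orth B U₀ U₀ ∧ finrank F ↥U₀ = i) :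
    ∀ b : ℕ, ∀ W : Submodule F V, Inv y W → Nd B W → W ≤ S →
      thr + 2 * (b * i) ≤ finrank F ↥W →
      ∃ U : Submodule F V, U ≤ W ∧ Inv y U ∧ Orth B U U ∧ finrank F ↥U = (b + 1) * i := by
  intro b
  induction b with
  | zero =>
    intro W hWinv hW hWS hdim
    obtain ⟨U₀, h1, h2, h3, h4⟩ := hex W hWinv hW hWS (by omega)
    exact ⟨U₀, h1, h2, h3, by rw [h4]; ring⟩
  | succ b ih =>
    intro W hWinv hW hWS hdim
    obtain ⟨U₀, hU₀W, hU₀inv, hU₀ti, hU₀dim⟩ := hex W hWinv hW hWS (by omega)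
    obtain ⟨C, hCW, hCinv, hCnd, hUC, hdis, hCdim⟩ :=
      h.exists_compl_ti hWinv hW hU₀W hU₀inv hU₀ti
    have h1 : (b + 1) * i = b * i + i := by ring
    obtain ⟨U', hU'C, hU'inv, hU'ti, hU'dim⟩ := ih C hCinv hCnd (hCW.trans hWS) (by omega)
    have hUU' : Orth B U₀ U' := hUC.mono le_rfl hU'C
    refine ⟨U₀ ⊔ U', sup_le hU₀W (hU'C.trans hCW), inv_sup hU₀inv hU'inv, ?_, ?_⟩
    · exact Orth.sup_left (Orth.sup_right hU₀ti hUU')
        (Orth.sup_right (hUU'.symm h.refl) hU'ti)
    · rw [finrank_sup_of_disjoint (hdis.mono_right hU'C), hU₀dim, hU'dim]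
      ring

variable {r i : ℕ}

/-- a nonzero invariant subspace of the cyclotomic part contains an invariant subspace of
dimension `i` -/
theorem exists_irr' (h : OSetup B r y i) {W : Submodule F V} (hWinv : Inv y W)
    (hWc : W ≤ cycSp r y) (hne : W ≠ ⊥) :
    ∃ U₀ : Submodule F V, U₀ ≤ W ∧ Inv y U₀ ∧ finrank F ↥U₀ = i := by
  have hipos := h.setup.c_pos
  obtain ⟨m, hm⟩ := h.setup.dvd W hWinv hWc
  have hWpos : 0 < finrank F ↥W := by
    rw [Nat.pos_iff_ne_zero]
    intro h0
    exact hne (Submodule.finrank_eq_zero.mp h0)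
  have hile : 1 * i ≤ finrank F ↥W := by
    rw [one_mul]
    exact Nat.le_of_dvd hWpos ⟨m, hm⟩
  obtain ⟨U₀, h1, h2, h3⟩ := chain_exists y (cyclotomic r F) i h.hp W hWinv
    (fun u hu => hWc hu) 1 hile
  exact ⟨U₀, h1, h2, by rw [h3, one_mul]⟩

/-- for odd `i`, invariant subspaces of dimension `i` of the cyclotomic part are totally
isotropic -/
theorem ts_of_irr_odd (h : OSetup B r y i) (hi : ¬ Even i) {U₀ : Submodule F V}
    (hU₀inv : Inv y U₀) (hU₀c : U₀ ≤ cycSp r y) (hU₀dim : finrank F ↥U₀ = i) :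
    Orth B U₀ U₀ := by
  have hRinv : Inv y (U₀ ⊓ B.orthogonal U₀) := inv_inf hU₀inv (h.inv_orthogonal hU₀inv)
  obtain ⟨m', hm'⟩ := h.setup.dvd (U₀ ⊓ B.orthogonal U₀) hRinv (inf_le_left.trans hU₀c)
  have hRle : finrank F ↥(U₀ ⊓ B.orthogonal U₀) ≤ i := by
    rw [← hU₀dim]; exact Submodule.finrank_mono inf_le_left
  rw [orth_iff_le]
  rcases Nat.eq_zero_or_pos m' with h0 | hpos
  · exfalso
    rw [h0, mul_zero] at hm'
    have hnd : Nd B U₀ := by
      unfold Nd
      rw [disjoint_iff]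
      exact Submodule.finrank_eq_zero.mp hm'
    have := h.even_finrank hU₀inv hnd hU₀c
    rw [hU₀dim] at this
    exact hi this
  · have h1 : i ≤ i * m' := Nat.le_mul_of_pos_right i hpos
    have h2 : finrank F ↥(U₀ ⊓ B.orthogonal U₀) = finrank F ↥U₀ := by omega
    have h3 : U₀ ⊓ B.orthogonal U₀ = U₀ := Submodule.eq_of_le_of_finrank_eq inf_le_left h2
    intro x hx
    rw [← h3] at hx
    exact hx.2

theorem exists_ts_irr_odd (h : OSetup B r y i) (hi : ¬ Even i) {W : Submodule F V}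
    (hWinv : Inv y W) (hWc : W ≤ cycSp r y) (hdim : 1 ≤ finrank F ↥W) :
    ∃ U₀ : Submodule F V, U₀ ≤ W ∧ Inv y U₀ ∧ Orth B U₀ U₀ ∧ finrank F ↥U₀ = i := by
  have hne : W ≠ ⊥ := by
    intro h0
    rw [h0, finrank_bot] at hdim
    omega
  obtain ⟨U₀, h1, h2, h3⟩ := exists_irr' h hWinv hWc hne
  exact ⟨U₀, h1, h2, ts_of_irr_odd h hi h2 (h1.trans hWc) h3, h3⟩

theorem orth_bot : Orth B (⊥ : Submodule F V) ⊥ :=
  fun u hu _ _ => by rw [(Submodule.mem_bot F).mp hu]; simp

/-- totally isotropic invariant subspaces of the cyclotomic part, `i` odd -/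
theorem exists_ts_cyc_odd (h : OSetup B r y i) (hi : ¬ Even i) (b : ℕ)
    (hb : 2 * (b * i) ≤ finrank F ↥(cycSp r y)) :
    ∃ U : Submodule F V, U ≤ cycSp r y ∧ Inv y U ∧ Orth B U U ∧ finrank F ↥U = b * i := by
  rcases Nat.eq_zero_or_pos b with h0 | hpos
  · subst h0
    exact ⟨⊥, bot_le, inv_bot y, orth_bot, by simp⟩
  · obtain ⟨b', rfl⟩ : ∃ b', b = b' + 1 := ⟨b - 1, by omega⟩
    have hipos := h.setup.c_pos
    have h1 : (b' + 1) * i = b' * i + i := by ring
    exact (toRIso h).stack (cycSp r y) i 1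
      (fun W hWinv _ hWc hdim => exists_ts_irr_odd h hi hWinv hWc hdim) b' (cycSp r y)
      (inv_cycSp r y) h.nd_cyc le_rfl (by omega)

section finite

variable [Fintype F]

/-- Chevalley–Warning: an invariant subspace of the cyclotomic part of dimension at least `r`
contains a totally isotropic invariant subspace of dimension `i` -/
theorem exists_ts_irr_even (h : OSetup B r y i) {W : Submodule F V}
    (hWinv : Inv y W) (hWc : W ≤ cycSp r y) (hdim : r ≤ finrank F ↥W) :
    ∃ U₀ : Submodule F V, U₀ ≤ W ∧ Inv y U₀ ∧ Orth B U₀ U₀ ∧ finrank F ↥U₀ = i := by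
  obtain ⟨m, hm⟩ := h.odd
  obtain ⟨u, huW, hu0, hu⟩ := exists_ne_zero_isotropic W m
    (fun k : Fin m => B.compRight (y ^ (k.val + 1))) (by omega)
  have hk : ∀ k : ℕ, 1 ≤ k → k ≤ m → B u ((y ^ k) u) = 0 := by
    intro k hk1 hkm
    have := hu ⟨k - 1, by omega⟩
    rw [LinearMap.BilinForm.compRight_apply] at this
    have h1 : k - 1 + 1 = k := by omega
    simpa only [h1] using this
  have hred : ∀ k : ℕ, (y ^ k) u = (y ^ (k % r)) u := by
    intro k
    conv_lhs => rw [← Nat.div_add_mod k r, pow_add, pow_mul, h.setup.pow_eq, one_pow, one_mul]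
  have hpos' : ∀ k' : ℕ, 0 < k' → k' < r → B u ((y ^ k') u) = 0 := by
    intro k' hpos hlt
    by_cases hle : k' ≤ m
    · exact hk k' hpos hle
    · push Not at hle
      have hj1 : 1 ≤ r - k' := by omega
      have hjm : r - k' ≤ m := by omega
      have h1 : B u ((y ^ k') u) = B ((y ^ (r - k')) u) ((y ^ (r - k')) ((y ^ k') u)) :=
        (h.isom_pow (r - k') _ _).symm
      rw [h1, ← Module.End.mul_apply, ← pow_add, Nat.sub_add_cancel (le_of_lt hlt),
        h.setup.pow_eq, Module.End.one_apply, h.symm.eq, hk (r - k') hj1 hjm]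
  have h00 : B u u = 0 := by
    have h2 : avg r y u = 0 := by
      rw [← aeval_cyclotomic_eq_avg h.setup.prime]
      exact hWc huW
    have h3 : B u (avg r y u) = B u u := by
      rw [avg_apply, map_sum]
      have hr := h.setup.prime.pos
      rw [Finset.sum_eq_single_of_mem 0 (Finset.mem_range.mpr hr)]
      · simp
      · intro k hk hk0
        exact hpos' k (Nat.pos_of_ne_zero hk0) (Finset.mem_range.mp hk)
    rw [← h3, h2, map_zero]
  have hall : ∀ k : ℕ, B u ((y ^ k) u) = 0 := by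
    intro k
    rw [hred k]
    have hlt : k % r < r := Nat.mod_lt _ h.setup.prime.pos
    rcases Nat.eq_zero_or_pos (k % r) with h0 | hpos
    · rw [h0, pow_zero]
      exact h00
    · exact hpos' _ hpos hlt
  have hall2 : ∀ a b : ℕ, B ((y ^ a) u) ((y ^ b) u) = 0 := by
    intro a b
    rcases le_total a b with hab | hab
    · obtain ⟨c, rfl⟩ := Nat.exists_eq_add_of_le hab
      rw [pow_add, Module.End.mul_apply, h.isom_pow]
      exact hall c
    · obtain ⟨c, rfl⟩ := Nat.exists_eq_add_of_le hab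
      apply h.refl
      rw [pow_add, Module.End.mul_apply, h.isom_pow]
      exact hall c
  have hZinv := inv_cycSub y u
  have hZW : cycSub y u ≤ W := cycSub_le y hWinv huW
  have hZti : Orth B (cycSub y u) (cycSub y u) := by
    intro x hx x' hx'
    obtain ⟨g, rfl⟩ := mem_cycSub.mp hx
    obtain ⟨g', rfl⟩ := mem_cycSub.mp hx'
    rw [aeval_eq_sum_range, aeval_eq_sum_range]
    simp only [LinearMap.sum_apply, LinearMap.smul_apply, LinearMap.BilinForm.sum_left,
      LinearMap.BilinForm.sum_right, LinearMap.BilinForm.smul_left,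
      LinearMap.BilinForm.smul_right, hall2, mul_zero, Finset.sum_const_zero]
  have hZne : cycSub y u ≠ ⊥ := by
    intro h0
    have := self_mem_cycSub y u
    rw [h0] at this
    exact hu0 ((Submodule.mem_bot F).mp this)
  obtain ⟨U₀, h1, h2, h3⟩ := exists_irr' h hZinv (hZW.trans hWc) hZne
  exact ⟨U₀, h1.trans hZW, h2, hZti.mono h1 h1, h3⟩

/-- totally isotropic invariant subspaces of the cyclotomic part (used for even `i`) -/
theorem exists_ts_cyc_even (h : OSetup B r y i) (b : ℕ)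
    (hb : b = 0 ∨ r + 2 * ((b - 1) * i) ≤ finrank F ↥(cycSp r y)) :
    ∃ U : Submodule F V, U ≤ cycSp r y ∧ Inv y U ∧ Orth B U U ∧ finrank F ↥U = b * i := by
  rcases Nat.eq_zero_or_pos b with h0 | hpos
  · subst h0
    exact ⟨⊥, bot_le, inv_bot y, orth_bot, by simp⟩
  · obtain ⟨b', rfl⟩ : ∃ b', b = b' + 1 := ⟨b - 1, by omega⟩
    have hb' : r + 2 * (b' * i) ≤ finrank F ↥(cycSp r y) := by
      rcases hb with hb | hb
      · omega
      · simpa using hb
    exact (toRIso h).stack (cycSp r y) i r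
      (fun W hWinv _ hWc hdim => exists_ts_irr_even h hWinv hWc hdim) b' (cycSp r y)
      (inv_cycSp r y) h.nd_cyc le_rfl hb'

end finite

end Cfsg.Agent.Helper94.Ts
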