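import Mathlib
import Cfsg.Agent.Helper94.TsB

set_option autoImplicit false
set_option linter.unusedSectionVars false
set_option linter.style.haveILetI false

/-!
# Existence of totally isotropic invariant `m`-spaces for isometries of odd prime order
of a symmetric bilinear space over a finite field
-/

namespace Cfsg.Agent.Helper94.Ts

open Module Polynomial
open Cfsg.Agent.Helper59.InvChain Cfsg.Agent.Helper59.Elusive
open Cfsg.Agent.Helper99.RDecomp Cfsg.Agent.Helper99.SpStruct
open Cfsg.Agent.Helper94.Ti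

universe u v

theorem arith_even' (i m n k' t' f ε : ℕ) (hi : 0 < i) (hf : f + k' * i = n) (hfge : n % i ≤ f)
    (h2l : 2 * (m % i) + ε ≤ n % i) (hcond : t' + 2 * (m / i) ≤ n / i) :
    ∃ b : ℕ, (b = 0 ∨ t' + 2 * b ≤ k' + 1) ∧ b * i ≤ m ∧ 2 * (m - b * i) + ε ≤ f := by
  have hm := Nat.div_add_mod m i
  have hn := Nat.div_add_mod n i
  set m' := m / i with hm'
  set ℓ := m % i with hℓ
  set n' := n / i with hn'
  set kk := n % i with hkk
  have hmi : m' * i ≤ m := Nat.div_mul_le_self m i
  by_cases hcase : 2 * m' + t' ≤ k' + 1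
  · refine ⟨m', Or.inr (by omega), hmi, ?_⟩
    have : m - m' * i = ℓ := by
      have : i * m' = m' * i := mul_comm _ _
      omega
    rw [this]
    omega
  · push Not at hcase
    set b := (k' + 1 - t') / 2 with hb
    have hbm : b ≤ m' := by omega
    have hbi : b * i ≤ m' * i := Nat.mul_le_mul_right i hbm
    refine ⟨b, by omega, hbi.trans hmi, ?_⟩
    have hkey : 2 * m' + k' ≤ n' + 2 * b := by omega
    have hkey' : (2 * m' + k') * i ≤ (n' + 2 * b) * i := Nat.mul_le_mul_right i hkey
    have e1 : (2 * m' + k') * i = 2 * (m' * i) + k' * i := by ring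
    have e2 : (n' + 2 * b) * i = n' * i + 2 * (b * i) := by ring
    have e3 : i * m' = m' * i := mul_comm _ _
    have e4 : i * n' = n' * i := mul_comm _ _
    omega

theorem arith_odd' (i m n k' f ε : ℕ) (hi : 0 < i) (hf : f + k' * (2 * i) = n)
    (hfge : n % (2 * i) ≤ f) (h2l : 2 * (m % i) + ε ≤ n % (2 * i)) (hmn : 2 * m + ε ≤ n) :
    ∃ b : ℕ, 2 * (b * i) ≤ k' * (2 * i) ∧ b * i ≤ m ∧ 2 * (m - b * i) + ε ≤ f := by
  have hm := Nat.div_add_mod m i
  set m' := m / i with hm'
  set ℓ := m % i with hℓ
  have hmi : m' * i ≤ m := Nat.div_mul_le_self m i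
  have e3 : i * m' = m' * i := mul_comm _ _
  by_cases hcase : k' ≤ m'
  · have h1 : k' * i ≤ m' * i := Nat.mul_le_mul_right i hcase
    refine ⟨k', by rw [mul_left_comm], h1.trans hmi, ?_⟩
    have e1 : k' * (2 * i) = 2 * (k' * i) := by ring
    omega
  · push Not at hcase
    have h1 : m' * i ≤ k' * i := Nat.mul_le_mul_right i (le_of_lt hcase)
    refine ⟨m', ?_, hmi, ?_⟩
    · have e1 : k' * (2 * i) = 2 * (k' * i) := by ring
      omega
    · have : m - m' * i = ℓ := by omega
      rw [this]
      omega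

variable {F : Type u} [Field F] {V : Type v} [AddCommGroup V] [Module F V] [FiniteDimensional F V]
variable {B : LinearMap.BilinForm F V}

/-- a nondegenerate plane through a given nonzero isotropic vector -/
theorem exists_plane_of_isotropic (hB : B.IsSymm) {W : Submodule F V} (hW : Nd B W) {u : V}
    (hu : u ∈ W) (hu0 : u ≠ 0) (huu : B u u = 0) :
    ∃ P : Submodule F V, P ≤ W ∧ u ∈ P ∧ Nd B P ∧ finrank F ↥P = 2 := by
  have hex : ∃ w ∈ W, B w u ≠ 0 := by
    by_contra hcon
    push Not at hcon
    exact hu0 (nd_iff.mp hW u hu hcon)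
  obtain ⟨w, hw, hwu⟩ := hex
  have huw : B u w ≠ 0 := by rwa [hB.eq]
  have hli : LinearIndependent F ![u, w] := by
    rw [LinearIndependent.pair_iff]
    intro s t hst
    have h1 : B u (s • u + t • w) = 0 := by rw [hst, map_zero]
    rw [map_add, map_smul, map_smul, huu, smul_zero, zero_add, smul_eq_mul] at h1
    have ht : t = 0 := by
      rcases mul_eq_zero.mp h1 with h | h
      · exact h
      · exact absurd h huw
    rw [ht, zero_smul, add_zero] at hst
    have hs : s = 0 := by
      rcases smul_eq_zero.mp hst with h | h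
      · exact h
      · exact absurd h hu0
    exact ⟨hs, ht⟩
  have hrange : Set.range ![u, w] = {u, w} := by
    ext z
    simp only [Set.mem_range, Set.mem_insert_iff, Set.mem_singleton_iff]
    constructor
    · rintro ⟨j, rfl⟩
      fin_cases j
      · left; rfl
      · right; rfl
    · rintro (rfl | rfl)
      · exact ⟨0, rfl⟩
      · exact ⟨1, rfl⟩
  refine ⟨Submodule.span F (Set.range ![u, w]), ?_, ?_, ?_, ?_⟩
  · rw [Submodule.span_le]
    rintro _ ⟨j, rfl⟩
    fin_cases j
    · exact hu
    · exact hw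
  · exact Submodule.subset_span ⟨0, rfl⟩
  · rw [nd_iff]
    intro x hx hx'
    rw [hrange] at hx hx'
    obtain ⟨s, t, rfl⟩ := Submodule.mem_span_pair.mp hx
    have h1 := hx' u (Submodule.subset_span (by simp))
    rw [map_add, map_smul, map_smul, huu, smul_zero, zero_add, smul_eq_mul] at h1
    have ht : t = 0 := by
      rcases mul_eq_zero.mp h1 with h | h
      · exact h
      · exact absurd h huw
    have h2 := hx' w (Submodule.subset_span (by simp))
    rw [ht, zero_smul, add_zero, map_smul, smul_eq_mul] at h2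
    have hs : s = 0 := by
      rcases mul_eq_zero.mp h2 with h | h
      · exact h
      · exact absurd h hwu
    rw [hs, ht, zero_smul, zero_smul, add_zero]
  · rw [finrank_span_eq_card hli, Fintype.card_fin]

section finite

variable [Fintype F]

/-- Witt index over a finite field: a nondegenerate subspace of dimension at least `2 k + 1`
contains a totally isotropic subspace of dimension `k`. -/
theorem exists_ts_sub (hB : B.IsSymm) : ∀ k : ℕ, ∀ W : Submodule F V, Nd B W →
    2 * k + 1 ≤ finrank F ↥W → ∃ U : Submodule F V, U ≤ W ∧ Orth B U U ∧ finrank F ↥U = k := by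
  intro k
  induction k with
  | zero =>
    intro W _ _
    exact ⟨⊥, bot_le, orth_bot, by simp⟩
  | succ k ih =>
    intro W hW hdim
    obtain ⟨u, hu, hu0, huu⟩ := exists_ne_zero_isotropic W 1 (fun _ => B) (by omega)
    have huu' : B u u = 0 := huu 0
    obtain ⟨P, hPW, huP, hPnd, hPdim⟩ := exists_plane_of_isotropic hB hW hu hu0 huu'
    have hfr := hPnd.finrank_inf_orth hB.isRefl hPW
    obtain ⟨U', hU'le, hU'ti, hU'dim⟩ := ih (W ⊓ B.orthogonal P)
      (hPnd.inf_orth hB.isRefl hPW hW) (by omega)
    have hPU' : Orth B P U' := orth_inf_orth.mono le_rfl hU'le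
    have hspanP : Submodule.span F {u} ≤ P := by
      rw [Submodule.span_singleton_le_iff_mem]; exact huP
    have huu2 : Orth B (Submodule.span F {u}) (Submodule.span F {u}) := by
      intro a ha b hb
      obtain ⟨s, rfl⟩ := Submodule.mem_span_singleton.mp ha
      obtain ⟨t, rfl⟩ := Submodule.mem_span_singleton.mp hb
      rw [map_smul, map_smul, LinearMap.smul_apply, huu', smul_zero, smul_zero]
    have huU' : Orth B (Submodule.span F {u}) U' := hPU'.mono hspanP le_rfl
    have hdis : Disjoint (Submodule.span F {u}) U' := (hPU'.disjoint hPnd).mono_left hspanP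
    refine ⟨Submodule.span F {u} ⊔ U', sup_le (hspanP.trans hPW) (hU'le.trans inf_le_left), ?_, ?_⟩
    · exact Orth.sup_left (Orth.sup_right huu2 huU')
        (Orth.sup_right (huU'.symm hB.isRefl) hU'ti)
    · rw [finrank_sup_of_disjoint hdis, finrank_span_singleton hu0, hU'dim]
      omega

end finite

variable {r : ℕ} {y : Module.End F V} {i : ℕ}

/-- glue a totally isotropic subspace of the fixed space and one of the cyclotomic part -/
theorem exists_ts_of_parts (h : OSetup B r y i) {a e : ℕ}
    {A : Submodule F V} (hAle : A ≤ fixSp y) (hAti : Orth B A A) (hAdim : finrank F ↥A = a)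
    {U : Submodule F V} (hUc : U ≤ cycSp r y) (hUinv : Inv y U) (hUti : Orth B U U)
    (hUdim : finrank F ↥U = e) :
    ∃ W : Submodule F V, finrank F ↥W = a + e ∧ Orth B W W ∧ Inv y W := by
  have hAU : Orth B A U := h.orth_fix_cyc.mono hAle hUc
  have hdis : Disjoint A U := h.disjoint_fix_cyc.mono hAle hUc
  refine ⟨A ⊔ U, ?_, ?_, inv_sup (inv_of_le_fixSp hAle) hUinv⟩
  · rw [finrank_sup_of_disjoint hdis, hAdim, hUdim]
  · exact Orth.sup_left (Orth.sup_right hAti hAU)
      (Orth.sup_right (hAU.symm h.refl) hUti)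

section finite

variable [Fintype F]

/-- (⇐) for odd `r`: the arithmetic criterion gives a totally isotropic invariant `m`-space.
The parameter `ε` records how good the fixed space is: it contains totally isotropic
subspaces of every dimension `a` with `2 a + ε ≤ dim Fix`. -/
theorem exists_ts_inv_of_cond (h : OSetup B r y i) (hir : i ∣ r - 1) (m ε : ℕ)
    (hfix : ∀ a : ℕ, 2 * a + ε ≤ finrank F ↥(fixSp y) →
      ∃ A : Submodule F V, A ≤ fixSp y ∧ Orth B A A ∧ finrank F ↥A = a)
    (hm : 2 * m + ε ≤ finrank F V)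
    (h2l : 2 * (m % i) + ε ≤ finrank F V % blockSize i)
    (hcond : ¬ Even i ∨ (r - 1) / i + 2 * (m / i) ≤ finrank F V / i) :
    ∃ W : Submodule F V, finrank F ↥W = m ∧ Orth B W W ∧ Inv y W := by
  have hipos := h.setup.c_pos
  obtain ⟨k', hk1, hk2, hk3⟩ := h.exists_blocks_eq
  by_cases hi : Even i
  · rw [blockSize_even hi] at hk1 hk2 hk3 h2l
    have hcond' : (r - 1) / i + 2 * (m / i) ≤ finrank F V / i := by
      rcases hcond with hc | hc
      · exact absurd hi hc
      · exact hc
    obtain ⟨b, hb1, hb2, hb3⟩ := arith_even' i m (finrank F V) k' ((r - 1) / i)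
      (finrank F ↥(fixSp y)) ε hipos hk1 hk3 h2l hcond'
    have hr1 : (r - 1) / i * i = r - 1 := Nat.div_mul_cancel hir
    have hrpos := h.setup.prime.pos
    obtain ⟨U, hUc, hUinv, hUti, hUdim⟩ := exists_ts_cyc_even h b (by
      rcases hb1 with hb1 | hb1
      · exact Or.inl hb1
      · rcases Nat.eq_zero_or_pos b with h0 | hpos
        · exact Or.inl h0
        · right
          rw [hk2]
          have h1 : (r - 1) / i + 2 * (b - 1) + 1 ≤ k' := by omega
          have h2 := Nat.mul_le_mul_right i h1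
          have e1 : ((r - 1) / i + 2 * (b - 1) + 1) * i =
              (r - 1) / i * i + 2 * ((b - 1) * i) + i := by ring
          omega)
    obtain ⟨A, hAle, hAti, hAdim⟩ := hfix (m - b * i) hb3
    obtain ⟨W, hW1, hW2, hW3⟩ := exists_ts_of_parts h hAle hAti hAdim hUc hUinv hUti hUdim
    exact ⟨W, by rw [hW1]; omega, hW2, hW3⟩
  · rw [blockSize_odd hi] at hk1 hk2 hk3 h2l
    obtain ⟨b, hb1, hb2, hb3⟩ := arith_odd' i m (finrank F V) k' (finrank F ↥(fixSp y)) ε hipos
      hk1 hk3 h2l hm
    obtain ⟨U, hUc, hUinv, hUti, hUdim⟩ := exists_ts_cyc_odd h hi b (by rw [hk2]; exact hb1)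
    obtain ⟨A, hAle, hAti, hAdim⟩ := hfix (m - b * i) hb3
    obtain ⟨W, hW1, hW2, hW3⟩ := exists_ts_of_parts h hAle hAti hAdim hUc hUinv hUti hUdim
    exact ⟨W, by rw [hW1]; omega, hW2, hW3⟩

/-- the odd-dimensional case: `ε = 1` always works -/
theorem exists_ts_inv_of_cond_one (h : OSetup B r y i) (hir : i ∣ r - 1) (m : ℕ)
    (hm : 2 * m + 1 ≤ finrank F V)
    (h2l : 2 * (m % i) + 1 ≤ finrank F V % blockSize i)
    (hcond : ¬ Even i ∨ (r - 1) / i + 2 * (m / i) ≤ finrank F V / i) :
    ∃ W : Submodule F V, finrank F ↥W = m ∧ Orth B W W ∧ Inv y W :=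
  exists_ts_inv_of_cond h hir m 1
    (fun a ha => exists_ts_sub h.symm a (fixSp y) h.nd_fix ha) hm h2l hcond

end finite

end Cfsg.Agent.Helper94.Ts
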