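import Mathlib
import Cfsg.Agent.Helper94.TsD
import Cfsg.Agent.Helper44.OrthOddA
import Cfsg.Agent.Helper44.ZeroCount

set_option autoImplicit false
set_option linter.unusedSectionVars false
set_option linter.style.haveILetI false

/-!
# Counting isotropic vectors of odd-dimensional symmetric spaces over finite fields
-/

namespace Cfsg.Agent.Helper94.Ts

open Module
open Cfsg.Agent.Helper99.SpStruct
open Cfsg.Agent.Helper94.Ti

universe u v

variable {F : Type u} [Field F] [Fintype F]

/-- the number of zeros of `x₀² + Σ xᵢ yᵢ` -/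
theorem card_zeros_quadFormOdd (e : ℕ) :
    Nat.card {w : Unit ⊕ (Fin e ⊕ Fin e) → F // Cfsg.quadFormOdd e F w = 0} =
      Fintype.card F ^ (2 * e) := by
  classical
  have key := Cfsg.Agent.Helper44.card_zeros_dot_add (F := F) (ι := Fin e) (fun z : F => z ^ 2)
  let E : (Unit ⊕ (Fin e ⊕ Fin e) → F) ≃ ((Fin e → F) × F) × (Fin e → F) :=
    { toFun := fun v => ((fun j => v (.inr (.inl j)), v (.inl ())), fun j => v (.inr (.inr j)))
      invFun := fun p => Sum.elim (fun _ => p.1.2) (Sum.elim p.1.1 p.2)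
      left_inv := fun v => by
        funext k
        rcases k with ⟨⟩ | k | k <;> rfl
      right_inv := fun p => rfl }
  have e1 : Nat.card {w : Unit ⊕ (Fin e ⊕ Fin e) → F // Cfsg.quadFormOdd e F w = 0} =
      Fintype.card {p : ((Fin e → F) × F) × (Fin e → F) // p.1.1 ⬝ᵥ p.2 + p.1.2 ^ 2 = 0} := by
    rw [Nat.card_eq_fintype_card]
    refine Fintype.card_congr (E.subtypeEquiv ?_)
    intro v
    show Cfsg.quadFormOdd e F v = 0 ↔
      (∑ j, v (.inr (.inl j)) * v (.inr (.inr j))) + v (.inl ()) ^ 2 = 0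
    unfold Cfsg.quadFormOdd
    rw [add_comm]
  have hz : Fintype.card {z : F // z ^ 2 = 0} = 1 := by
    rw [Fintype.card_eq_one_iff]
    refine ⟨⟨0, by simp⟩, ?_⟩
    rintro ⟨z, hz⟩
    apply Subtype.ext
    exact pow_eq_zero_iff (two_ne_zero) |>.mp hz
  rw [e1]
  rw [hz, mul_one, Fintype.card_fin] at key
  have hq : 0 < Fintype.card F := Fintype.card_pos
  set q := Fintype.card F with hqdef
  have hqe : 1 ≤ q ^ e := Nat.one_le_pow _ _ hq
  have h3 : (q ^ e - 1) * (q ^ e * q) + q ^ (e + 1) = q ^ (2 * e) * q := by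
    have e2 : q ^ (2 * e) * q = q ^ e * (q ^ e * q) := by
      rw [two_mul, pow_add]; ring
    have e3 : q ^ (e + 1) = 1 * (q ^ e * q) := by rw [pow_succ, one_mul]
    rw [e2, e3, ← Nat.add_mul, Nat.sub_add_cancel hqe]
  apply Nat.eq_of_mul_eq_mul_right hq
  rw [key]
  omega

variable {V : Type v} [AddCommGroup V] [Module F V] [FiniteDimensional F V]
variable {B : LinearMap.BilinForm F V}

/-- isotropic vectors of a nondegenerate subspace of odd dimension `2 e + 1` -/
theorem card_isotropic_of_nd_odd (hB : B.IsSymm) (h2 : (2 : F) ≠ 0) {C : Submodule F V}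
    (hC : Nd B C) {e : ℕ} (hdim : finrank F ↥C = 2 * e + 1) :
    Nat.card {v : V // v ∈ C ∧ B v v = 0} = Fintype.card F ^ (2 * e) := by
  classical
  set Q : QuadraticForm F ↥C := LinearMap.BilinMap.toQuadraticMap (B.restrict C) with hQ
  have hQapp : ∀ c : ↥C, Q c = B c c := fun c => rfl
  have hnd : ∀ x : ↥C, (∀ y, QuadraticMap.polar Q x y = 0) → x = 0 := by
    intro x hx
    apply Subtype.ext
    apply nd_iff.mp hC x.1 x.2
    intro w hw
    have := hx ⟨w, hw⟩
    rw [hQ, LinearMap.BilinMap.polar_toQuadraticMap] at this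
    have h3 : B w x + B w x = 0 := by
      have h4 : B.restrict C x ⟨w, hw⟩ = B x w := rfl
      have h5 : B.restrict C ⟨w, hw⟩ x = B w x := rfl
      rw [h4, h5, hB.eq x w] at this
      exact this
    have h4 : (2 : F) * B w x = 0 := by rw [two_mul]; exact h3
    exact (mul_eq_zero.mp h4).resolve_left h2
  obtain ⟨a, g, ha, hg⟩ := Cfsg.Agent.Helper44.QType.exists_similarity_odd Q hdim hnd
  rw [← card_zeros_quadFormOdd (F := F) e]
  apply Nat.card_congr
  refine
    { toFun := fun v => ⟨g ⟨v.1, v.2.1⟩, ?_⟩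
      invFun := fun w => ⟨(g.symm w.1 : V), (g.symm w.1).2, ?_⟩
      left_inv := ?_
      right_inv := ?_ }
  · have h1 := hg ⟨v.1, v.2.1⟩
    rw [hQapp] at h1
    have h3 : a * Cfsg.quadFormOdd e F (g ⟨v.1, v.2.1⟩) = 0 := by rw [h1]; exact v.2.2
    exact (mul_eq_zero.mp h3).resolve_left ha
  · have h1 := hg (g.symm w.1)
    rw [hQapp, LinearEquiv.apply_symm_apply, w.2, mul_zero] at h1
    exact h1.symm
  · intro v
    apply Subtype.ext
    show ((g.symm (g ⟨v.1, v.2.1⟩) : ↥C) : V) = v.1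
    rw [LinearEquiv.symm_apply_apply]
  · intro w
    apply Subtype.ext
    show g ⟨(g.symm w.1 : V), (g.symm w.1).2⟩ = w.1
    exact LinearEquiv.apply_symm_apply g w.1

end Cfsg.Agent.Helper94.Ts
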