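import Mathlib
import Cfsg.Agent.Helper94.TsE
import Cfsg.Agent.Helper94.TiG

set_option autoImplicit false
set_option linter.unusedSectionVars false
set_option linter.style.haveILetI false

/-!
# Counting totally singular subspaces of an odd-dimensional symmetric space
-/

namespace Cfsg.Agent.Helper94.Ts

open Module
open Cfsg.Agent.Helper99.SpStruct Cfsg.Agent.Helper99.RDecomp
open Cfsg.Agent.Helper94.Ti
open Cfsg.Agent.Helper59.SubCount

universe u v

variable {F : Type u} [Field F] [Fintype F]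
variable {V : Type v} [AddCommGroup V] [Module F V] [FiniteDimensional F V]
variable {B : LinearMap.BilinForm F V}

/-- the trivial isometry -/
theorem rIso_one (hB : B.IsRefl) (hnd : B.Nondegenerate) : RIso B (1 : Module.End F V) 1 :=
  ⟨hB, hnd, fun _ _ => rfl, by simp, by simp⟩

/-- isotropic vectors orthogonal to a totally isotropic subspace -/
theorem card_isotropic_orth (hB : B.IsSymm) (h2 : (2 : F) ≠ 0) (hnd : B.Nondegenerate) {d : ℕ}
    (hodd : finrank F V = 2 * d + 1) {S : Submodule F V} (hS : Orth B S S) {m : ℕ}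
    (hSdim : finrank F ↥S = m) :
    Nat.card {v : V // v ∈ B.orthogonal S ∧ B v v = 0} = Fintype.card F ^ (2 * d - m) := by
  classical
  haveI : Finite V := Module.finite_of_finite F
  have hone : Cfsg.Agent.Helper59.InvChain.Inv (1 : Module.End F V) S := by
    rw [Cfsg.Agent.Helper59.InvChain.inv_iff]
    intro x hx
    exact hx
  obtain ⟨C, -, -, hCnd, hSC, hdis, hCdim⟩ := (rIso_one hB.isRefl hnd).exists_compl_ti
    (Cfsg.Agent.Helper59.InvChain.inv_top _) (nd_top_of_nondeg' hnd) (le_top : S ≤ ⊤) hone hS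
  rw [finrank_top, hodd, hSdim] at hCdim
  have hmd : m ≤ d := by omega
  have hCdim' : finrank F ↥C = 2 * (d - m) + 1 := by omega
  have hSle : S ≤ B.orthogonal S := orth_iff_le.mp hS
  have hCle : C ≤ B.orthogonal S := orth_iff_le.mp hSC
  have hsup : S ⊔ C = B.orthogonal S := by
    apply Submodule.eq_of_le_of_finrank_eq (sup_le hSle hCle)
    rw [finrank_sup_of_disjoint hdis, LinearMap.BilinForm.finrank_orthogonal hnd, hSdim, hodd]
    omega
  have hcardC := card_isotropic_of_nd_odd hB h2 hCnd hCdim'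
  have hcardS : Nat.card ↥S = Fintype.card F ^ m := by
    rw [Module.natCard_eq_pow_finrank (K := F) (V := ↥S), hSdim, Nat.card_eq_fintype_card]
  have hkey : ∀ s ∈ S, ∀ c ∈ C, B (s + c) (s + c) = B c c := by
    intro s hs c hc
    rw [map_add, map_add, LinearMap.add_apply, LinearMap.add_apply, hS s hs s hs,
      hSC s hs c hc, (hSC.symm hB.isRefl) c hc s hs]
    simp
  let φ : ↥S × {c : V // c ∈ C ∧ B c c = 0} → {v : V // v ∈ B.orthogonal S ∧ B v v = 0} :=
    fun p => ⟨(p.1 : V) + p.2.1, by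
      rw [← hsup]
      exact Submodule.add_mem_sup p.1.2 p.2.2.1, by
      rw [hkey _ p.1.2 _ p.2.2.1]; exact p.2.2.2⟩
  have hφ : Function.Bijective φ := by
    constructor
    · rintro ⟨s, c⟩ ⟨s', c'⟩ h
      have h1 : (s : V) + c.1 = (s' : V) + c'.1 := congrArg Subtype.val h
      have h3 : (s : V) - (s' : V) = c'.1 - c.1 := by
        rw [sub_eq_sub_iff_add_eq_add, h1, add_comm]
      have h4 : (s : V) - (s' : V) ∈ S ⊓ C :=
        ⟨S.sub_mem s.2 s'.2, by rw [h3]; exact C.sub_mem c'.2.1 c.2.1⟩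
      rw [hdis.eq_bot, Submodule.mem_bot] at h4
      have h5 : (s : V) = s' := sub_eq_zero.mp h4
      have h6 : c.1 = c'.1 := by
        rw [h5] at h1
        exact add_left_cancel h1
      exact Prod.ext (Subtype.ext h5) (Subtype.ext h6)
    · rintro ⟨v, hv, hvv⟩
      rw [← hsup] at hv
      obtain ⟨s, hs, c, hc, rfl⟩ := Submodule.mem_sup.mp hv
      refine ⟨(⟨s, hs⟩, ⟨c, hc, ?_⟩), rfl⟩
      rw [← hkey s hs c hc]; exact hvv
  rw [← Nat.card_congr (Equiv.ofBijective φ hφ), Nat.card_prod, hcardS, hcardC, ← pow_add]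
  congr 1
  omega

variable (B)

theorem isTsFrame_cons (hB : B.IsSymm) {m : ℕ} (v : V) (s : Fin m → V) :
    IsTiFrame B (Fin.cons v s : Fin (m + 1) → V) ↔
      IsTiFrame B s ∧ (v ∈ B.orthogonal (Submodule.span F (Set.range s)) ∧ B v v = 0) ∧
        v ∉ Submodule.span F (Set.range s) := by
  unfold IsTiFrame
  rw [linearIndependent_finCons, mem_orthogonal_span_iff]
  constructor
  · rintro ⟨⟨h1, h2⟩, h3⟩
    refine ⟨⟨h1, fun a b => ?_⟩, ⟨fun b => ?_, ?_⟩, h2⟩
    · have := h3 a.succ b.succ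
      rwa [Fin.cons_succ, Fin.cons_succ] at this
    · have := h3 b.succ 0
      rwa [Fin.cons_succ, Fin.cons_zero] at this
    · have := h3 0 0
      rwa [Fin.cons_zero] at this
  · rintro ⟨⟨h1, h2⟩, ⟨h3, h5⟩, h4⟩
    refine ⟨⟨h1, h4⟩, fun a b => ?_⟩
    refine Fin.cases ?_ (fun a' => ?_) a <;> refine Fin.cases ?_ (fun b' => ?_) b
    · rw [Fin.cons_zero]; exact h5
    · rw [Fin.cons_zero, Fin.cons_succ]
      exact hB.isRefl _ _ (h3 b')
    · rw [Fin.cons_zero, Fin.cons_succ]; exact h3 a'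
    · rw [Fin.cons_succ, Fin.cons_succ]; exact h2 a' b'

/-- forgetting the first vector of a frame -/
noncomputable def tailMap' (hB : B.IsSymm) (m : ℕ) :
    {s : Fin (m + 1) → V // IsTiFrame B s} → {s : Fin m → V // IsTiFrame B s} :=
  fun s => ⟨Fin.tail s.1, by
    have h := s.2
    rw [← Fin.cons_self_tail s.1] at h
    exact ((isTsFrame_cons B hB _ _).mp h).1⟩

/-- the fibre of `tailMap'` -/
noncomputable def tailFiberEquiv' (hB : B.IsSymm) (m : ℕ)
    (s : {s : Fin m → V // IsTiFrame B s}) :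
    {s' : {s' : Fin (m + 1) → V // IsTiFrame B s'} // tailMap' B hB m s' = s} ≃
      {v : V // (v ∈ B.orthogonal (Submodule.span F (Set.range s.1)) ∧ B v v = 0) ∧
        v ∉ Submodule.span F (Set.range s.1)} where
  toFun s' := ⟨s'.1.1 0, by
    have h := s'.1.2
    rw [← Fin.cons_self_tail s'.1.1] at h
    have h2 := ((isTsFrame_cons B hB _ _).mp h).2
    have h3 : Fin.tail s'.1.1 = s.1 := congrArg Subtype.val s'.2
    rwa [h3] at h2⟩
  invFun v := ⟨⟨Fin.cons v.1 s.1, (isTsFrame_cons B hB _ _).mpr ⟨s.2, v.2⟩⟩, by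
    apply Subtype.ext
    show Fin.tail (Fin.cons v.1 s.1 : Fin (m + 1) → V) = s.1
    exact Fin.tail_cons _ _⟩
  left_inv s' := by
    apply Subtype.ext; apply Subtype.ext
    have h3 : Fin.tail s'.1.1 = s.1 := congrArg Subtype.val s'.2
    show Fin.cons (s'.1.1 0) s.1 = s'.1.1
    rw [← h3]
    exact Fin.cons_self_tail _
  right_inv v := by
    apply Subtype.ext
    show (Fin.cons v.1 s.1 : Fin (m + 1) → V) 0 = v.1
    exact Fin.cons_zero _ _

theorem card_fiber' (hB : B.IsSymm) (h2 : (2 : F) ≠ 0) (hnd : B.Nondegenerate) {d : ℕ}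
    (hodd : finrank F V = 2 * d + 1) {m : ℕ} (s : Fin m → V) (hs : IsTiFrame B s) :
    Nat.card {v : V // (v ∈ B.orthogonal (Submodule.span F (Set.range s)) ∧ B v v = 0) ∧
        v ∉ Submodule.span F (Set.range s)} =
      Fintype.card F ^ (2 * d - m) - Fintype.card F ^ m := by
  classical
  haveI : Finite V := Module.finite_of_finite F
  set S := Submodule.span F (Set.range s) with hS
  have hSdim : finrank F ↥S = m := by
    rw [hS, finrank_span_eq_card hs.1, Fintype.card_fin]
  have hSti : Orth B S S := by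
    intro x hx x' hx'
    have hx'' : x' ∈ B.orthogonal S := by
      rw [hS, mem_orthogonal_span_iff]
      intro b
      have hle : S ≤ LinearMap.ker (B (s b)) := by
        rw [hS, Submodule.span_le]
        rintro _ ⟨a, rfl⟩
        rw [SetLike.mem_coe, LinearMap.mem_ker]
        exact hs.2 b a
      exact LinearMap.mem_ker.mp (hle hx')
    rw [LinearMap.BilinForm.mem_orthogonal_iff] at hx''
    exact hx'' x hx
  have hSA : ∀ x ∈ S, x ∈ B.orthogonal S ∧ B x x = 0 := by
    intro x hx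
    exact ⟨orth_iff_le.mp hSti hx, hSti x hx x hx⟩
  have h1 : Nat.card {v : V // (v ∈ B.orthogonal S ∧ B v v = 0) ∧ v ∉ S} =
      ({v : V | v ∈ B.orthogonal S ∧ B v v = 0} \ (S : Set V)).ncard := by
    rw [← Nat.card_coe_set_eq]
    rfl
  rw [h1, Set.ncard_sdiff (s := (S : Set V)) (t := {v : V | v ∈ B.orthogonal S ∧ B v v = 0})
    (fun x hx => hSA x hx) (Set.toFinite _), ← Nat.card_coe_set_eq,
    ← Nat.card_coe_set_eq]
  have e1 : Nat.card ↥{v : V | v ∈ B.orthogonal S ∧ B v v = 0} =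
      Nat.card {v : V // v ∈ B.orthogonal S ∧ B v v = 0} := rfl
  have e2 : Nat.card ↥(S : Set V) = Nat.card ↥S := rfl
  have e4 : Nat.card ↥S = Fintype.card F ^ m := by
    rw [Module.natCard_eq_pow_finrank (K := F) (V := ↥S), hSdim, Nat.card_eq_fintype_card]
  rw [e1, e2, card_isotropic_orth hB h2 hnd hodd hSti hSdim, e4]

/-- the number of totally singular frames -/
theorem card_tsFrame (hB : B.IsSymm) (h2 : (2 : F) ≠ 0) (hnd : B.Nondegenerate) {d : ℕ}
    (hodd : finrank F V = 2 * d + 1) (m : ℕ) :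
    Nat.card {s : Fin m → V // IsTiFrame B s} =
      ∏ k : Fin m, (Fintype.card F ^ (2 * d - k.val) - Fintype.card F ^ k.val) := by
  classical
  haveI : Finite V := Module.finite_of_finite F
  induction m with
  | zero =>
    rw [Finset.univ_eq_empty, Finset.prod_empty]
    haveI : Unique {s : Fin 0 → V // IsTiFrame B s} :=
      { default := ⟨Fin.elim0, linearIndependent_empty_type, fun a => a.elim0⟩
        uniq := fun s => Subtype.ext (funext fun a => a.elim0) }
    exact Nat.card_unique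
  | succ m ih =>
    haveI : Fintype {s : Fin m → V // IsTiFrame B s} := Fintype.ofFinite _
    rw [Nat.card_congr (Equiv.sigmaFiberEquiv (tailMap' B hB m)).symm, Nat.card_sigma]
    have hfib : ∀ s : {s : Fin m → V // IsTiFrame B s},
        Nat.card {s' : {s' : Fin (m + 1) → V // IsTiFrame B s'} // tailMap' B hB m s' = s} =
          Fintype.card F ^ (2 * d - m) - Fintype.card F ^ m := by
      intro s
      rw [Nat.card_congr (tailFiberEquiv' B hB m s), card_fiber' B hB h2 hnd hodd s.1 s.2]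
    rw [Finset.sum_congr rfl (fun s _ => hfib s), Finset.sum_const, Finset.card_univ,
      ← Nat.card_eq_fintype_card, ih, smul_eq_mul, Fin.prod_univ_castSucc]
    simp only [Fin.val_castSucc, Fin.val_last]

/-- **counting identity** for totally singular `m`-spaces -/
theorem card_ts_mul (hB : B.IsSymm) (h2 : (2 : F) ≠ 0) (hnd : B.Nondegenerate) {d : ℕ}
    (hodd : finrank F V = 2 * d + 1) (m : ℕ) :
    Nat.card {W : Submodule F V // finrank F ↥W = m ∧ IsTi B W} *
        ∏ k : Fin m, (Fintype.card F ^ m - Fintype.card F ^ k.val) =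
      ∏ k : Fin m, (Fintype.card F ^ (2 * d - k.val) - Fintype.card F ^ k.val) := by
  classical
  haveI : Finite V := Module.finite_of_finite F
  haveI : Fintype {W : Submodule F V // finrank F ↥W = m ∧ IsTi B W} := Fintype.ofFinite _
  rw [← card_tsFrame B hB h2 hnd hodd m,
    Nat.card_congr (Equiv.sigmaFiberEquiv (tiSpanMap B m)).symm, Nat.card_sigma]
  have hfib : ∀ W : {W : Submodule F V // finrank F ↥W = m ∧ IsTi B W},
      Nat.card {s : {s : Fin m → V // IsTiFrame B s} // tiSpanMap B m s = W} =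
        ∏ k : Fin m, (Fintype.card F ^ m - Fintype.card F ^ k.val) := by
    intro W
    rw [Nat.card_congr (tiFiberEquiv B m W),
      card_linearIndependent (K := F) (V := ↥W.1) (by rw [W.2.1]), W.2.1]
  rw [Finset.sum_congr rfl (fun W _ => hfib W), Finset.sum_const, Finset.card_univ,
    Nat.card_eq_fintype_card, smul_eq_mul]

/-- the reduced counting identity -/
theorem card_ts_mul' (hB : B.IsSymm) (h2 : (2 : F) ≠ 0) (hnd : B.Nondegenerate) {d : ℕ}
    (hodd : finrank F V = 2 * d + 1) (m : ℕ) (hm : m ≤ d) :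
    Nat.card {W : Submodule F V // finrank F ↥W = m ∧ IsTi B W} *
        ∏ k : Fin m, (Fintype.card F ^ (m - k.val) - 1) =
      ∏ k : Fin m, (Fintype.card F ^ (2 * d - 2 * k.val) - 1) := by
  have h := card_ts_mul B hB h2 hnd hodd m
  rw [prod_sub_eq _ _ m le_rfl, prod_sub_eq_ti _ _ m (by omega)] at h
  have hpos : 0 < ∏ k : Fin m, Fintype.card F ^ k.val := by
    apply Finset.prod_pos
    intro k _
    exact pow_pos Fintype.card_pos _
  apply Nat.eq_of_mul_eq_mul_left hpos
  linarith [h, mul_comm (∏ k : Fin m, Fintype.card F ^ k.val)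
    (Nat.card {W : Submodule F V // finrank F ↥W = m ∧ IsTi B W} *
      ∏ k : Fin m, (Fintype.card F ^ (m - k.val) - 1))]

/-- a prime dividing the number of totally singular `m`-spaces divides some `q^(2d-2k) - 1`,
`k < m`. -/
theorem exists_dvd_of_dvd_card_ts (hB : B.IsSymm) (h2 : (2 : F) ≠ 0) (hnd : B.Nondegenerate)
    {d : ℕ} (hodd : finrank F V = 2 * d + 1) (m : ℕ) (hm : m ≤ d) (r : ℕ) (hr : r.Prime)
    (hdvd : r ∣ Nat.card {W : Submodule F V // finrank F ↥W = m ∧ IsTi B W}) :
    ∃ k : ℕ, k < m ∧ r ∣ Fintype.card F ^ (2 * d - 2 * k) - 1 := by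
  have h := card_ts_mul' B hB h2 hnd hodd m hm
  have h1 : r ∣ ∏ k : Fin m, (Fintype.card F ^ (2 * d - 2 * k.val) - 1) := by
    rw [← h]; exact Dvd.dvd.mul_right hdvd _
  obtain ⟨k, -, hk⟩ := (hr.prime.dvd_finsetProd_iff _).mp h1
  exact ⟨k.val, k.2, hk⟩

/-- the characteristic does not divide the number of totally singular `m`-spaces. -/
theorem char_not_dvd_card_ts (hB : B.IsSymm) (h2 : (2 : F) ≠ 0) (hnd : B.Nondegenerate)
    {d : ℕ} (hodd : finrank F V = 2 * d + 1) (m : ℕ) (hm : m ≤ d) (p : ℕ) [Fact p.Prime]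
    [CharP F p] :
    ¬ p ∣ Nat.card {W : Submodule F V // finrank F ↥W = m ∧ IsTi B W} := by
  intro hdvd
  obtain ⟨k, hk, hd⟩ := exists_dvd_of_dvd_card_ts B hB h2 hnd hodd m hm p Fact.out hdvd
  have hpq : p ∣ Fintype.card F := by
    obtain ⟨e, -, he⟩ := FiniteField.card F p
    rw [he]; exact dvd_pow_self p e.pos.ne'
  have hj : 2 * d - 2 * k ≠ 0 := by omega
  have h1 : p ∣ Fintype.card F ^ (2 * d - 2 * k) := Dvd.dvd.trans hpq (dvd_pow_self _ hj)
  have hpos : 1 ≤ Fintype.card F ^ (2 * d - 2 * k) := Nat.one_le_pow _ _ Fintype.card_pos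
  have h2' : p ∣ 1 := by
    have := Nat.dvd_sub h1 hd
    rwa [Nat.sub_sub_self hpos] at this
  exact (Fact.out : p.Prime).one_lt.ne' (Nat.dvd_one.mp h2')

end Cfsg.Agent.Helper94.Ts
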