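import Mathlib
import Cfsg.Agent.Helper94.TsF
import Cfsg.Agent.Helper94.TiH
import Cfsg.Agent.Helper44.OrthOddC

set_option autoImplicit false
set_option linter.unusedSectionVars false
set_option linter.style.haveILetI false

/-!
# Test elements of the isometry group of `x₀² + Σ xᵢ yᵢ`
-/

namespace Cfsg.Agent.Helper94.Ts

open Module Polynomial
open Cfsg.Agent.Helper59.InvChain Cfsg.Agent.Helper59.Elusive
open Cfsg.Agent.Helper99.RDecomp Cfsg.Agent.Helper99.SpStruct Cfsg.Agent.Helper99.SpElt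
open Cfsg.Agent.Helper43.SpPrime
open Cfsg.Agent.Helper94.Ti

universe u

section poly

variable {F : Type u} [Field F] [Fintype F] {p : ℕ} [Fact p.Prime] [CharP F p]

/-- the block polynomial: `k` blocks and a fixed space of dimension `2 d - k c`. -/
theorem exists_block_poly (d r : ℕ) [Fact r.Prime] (hrp : r ≠ p) (k : ℕ) (hk : 0 < k)
    (hkc : k * blockSize (orderOf ((Fintype.card F : ℕ) : ZMod r)) ≤ 2 * d) :
    ∃ f : F[X], SpPrimePred d r f ∧
      rootMultiplicity 1 f = 2 * d - k * blockSize (orderOf ((Fintype.card F : ℕ) : ZMod r)) := by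
  classical
  have hr : r.Prime := Fact.out
  have hrF : (r : F) ≠ 0 := natCast_ne_zero_of_ne r hrp
  have hipos : 0 < orderOf ((Fintype.card F : ℕ) : ZMod r) := orderOf_card_pos r hrp
  have hcpos := blockSize_pos hipos
  obtain ⟨x, hxr, hfix⟩ := exists_sp_elt (F := F) d r hrp k hk hkc
  have hAr : (x : Matrix (Fin d ⊕ Fin d) (Fin d ⊕ Fin d) F) ^ r = 1 := by
    have := congrArg Subtype.val hxr
    rwa [SubmonoidClass.coe_pow] at this
  have hyr : (Matrix.toLin' (x : Matrix (Fin d ⊕ Fin d) (Fin d ⊕ Fin d) F)) ^ r = 1 := by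
    rw [← Matrix.toLin'_pow, hAr, Matrix.toLin'_one]
    rfl
  have hrm : rootMultiplicity 1 (x : Matrix (Fin d ⊕ Fin d) (Fin d ⊕ Fin d) F).charpoly =
      2 * d - k * blockSize (orderOf ((Fintype.card F : ℕ) : ZMod r)) := by
    rw [← hfix, finrank_fixSp_eq_rootMultiplicity r hrF _ hyr, Matrix.charpoly_toLin']
  have hsep : (X ^ r - 1 : F[X]).Separable := by
    have := Polynomial.separable_X_pow_sub_C (1 : F) hrF one_ne_zero
    simpa using this
  refine ⟨_, ⟨Matrix.charpoly_monic _, ?_, Cfsg.Agent.Helper43.SpCount.charpoly_reverse_of_mem_symplectic x, ?_, ?_⟩, hrm⟩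
  · rw [Matrix.charpoly_natDegree_eq_dim, Fintype.card_sum, Fintype.card_fin, two_mul]
  · intro P hPm hPi hP
    apply dvd_of_dvd_charpoly_gen (x : Matrix (Fin d ⊕ Fin d) (Fin d ⊕ Fin d) F) _
      hsep.squarefree ?_ P hPm hPi hP
    rw [map_sub, map_pow, aeval_X, map_one, hAr, sub_self]
  · intro hc
    rw [hc, X_sub_one_eq, rootMultiplicity_X_sub_C_pow] at hrm
    have : 0 < k * blockSize (orderOf ((Fintype.card F : ℕ) : ZMod r)) := Nat.mul_pos hk hcpos
    omega

/-- the multiplicity-free polynomial (even `i`) -/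
theorem exists_aniso_poly (d r : ℕ) [Fact r.Prime] (hrp : r ≠ p)
    (hi : Even (orderOf ((Fintype.card F : ℕ) : ZMod r))) (u : ℕ) (hu : 0 < u)
    (hut : u * orderOf ((Fintype.card F : ℕ) : ZMod r) ≤ r - 1)
    (hud : u * orderOf ((Fintype.card F : ℕ) : ZMod r) ≤ 2 * d) :
    ∃ S : Finset F[X], (∀ P ∈ S, P.Monic ∧ Irreducible P ∧ P ∣ cyclotomic r F) ∧ S.card = u ∧
      SpPrimePred d r ((∏ P ∈ S, P) *
        (X - 1) ^ (2 * d - u * orderOf ((Fintype.card F : ℕ) : ZMod r))) := by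
  classical
  have hr : r.Prime := Fact.out
  have hrF : (r : F) ≠ 0 := natCast_ne_zero_of_ne r hrp
  set i := orderOf ((Fintype.card F : ℕ) : ZMod r) with hidef
  have hipos : 0 < i := orderOf_card_pos r hrp
  have hHP := HP_cyclotomic (F := F) r hrp
  have hsep : (X ^ r - 1 : F[X]).Separable := by
    have := Polynomial.separable_X_pow_sub_C (1 : F) hrF one_ne_zero
    simpa using this
  have hsq : Squarefree (cyclotomic r F) :=
    (hsep.of_dvd (cyclotomic.dvd_X_pow_sub_one r F)).squarefree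
  obtain ⟨𝔉, h𝔉1, h𝔉2, h𝔉prod⟩ := exists_factor_finset (cyclotomic r F)
    (cyclotomic.monic r F) hsq
  have hdeg : ∀ P ∈ 𝔉, P.natDegree = i := fun P hP =>
    hHP.2 P (h𝔉1 P hP).2.1 (h𝔉1 P hP).2.2
  have hcard : 𝔉.card * i = r - 1 := by
    have h1 : (∏ P ∈ 𝔉, P).natDegree = ∑ P ∈ 𝔉, P.natDegree :=
      natDegree_prod_of_monic _ _ (fun P hP => (h𝔉1 P hP).1)
    rw [h𝔉prod, natDegree_cyclotomic, Nat.totient_prime hr, Finset.sum_congr rfl hdeg,
      Finset.sum_const, smul_eq_mul] at h1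
    exact h1.symm
  have hule : u ≤ 𝔉.card := by
    by_contra hcon
    push Not at hcon
    have : (𝔉.card + 1) * i ≤ u * i := Nat.mul_le_mul_right i hcon
    have e1 : (𝔉.card + 1) * i = 𝔉.card * i + i := by ring
    omega
  obtain ⟨S, hS𝔉, hScard⟩ := Finset.exists_subset_card_eq hule
  refine ⟨S, fun P hP => h𝔉1 P (hS𝔉 hP), hScard, ?_⟩
  set G := ∏ P ∈ S, P with hG
  have hGm : G.Monic := monic_prod_of_monic _ _ (fun P hP => (h𝔉1 P (hS𝔉 hP)).1)
  have hGd : G.natDegree = u * i := by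
    rw [hG, natDegree_prod_of_monic _ _ (fun P hP => (h𝔉1 P (hS𝔉 hP)).1),
      Finset.sum_congr rfl (fun P hP => hdeg P (hS𝔉 hP)), Finset.sum_const, smul_eq_mul, hScard]
  have hcycdvd : cyclotomic r F ∣ (X ^ r - 1 : F[X]) := cyclotomic.dvd_X_pow_sub_one r F
  have hGdvd : G ∣ cyclotomic r F := by
    rw [← h𝔉prod]
    exact Finset.prod_dvd_prod_of_subset _ _ _ hS𝔉
  have hG1 : G.eval 1 ≠ 0 := eval_one_ne_zero_of_dvd_cyclotomic r hrF hGdvd
  set e := 2 * d - u * i with he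
  have hLm : (X - 1 : F[X]).Monic := Cfsg.Agent.Helper43.Lagr.X_sub_one_monic
  have hLd : (X - 1 : F[X]).natDegree = 1 := by
    rw [X_sub_one_eq]; exact natDegree_X_sub_C 1
  have hLdvd : (X - 1 : F[X]) ∣ X ^ r - 1 := by
    have := sub_dvd_pow_sub_pow (X : F[X]) 1 r
    rwa [one_pow] at this
  have hrm : rootMultiplicity 1 (G * (X - 1) ^ e) = e := by
    have := rootMultiplicity_model G hGm.ne_zero hG1 1 e
    rwa [pow_one] at this
  have hpp : Cfsg.Agent.Helper43.SS.PrimePred (2 * d) r (G * (X - 1) ^ e) := by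
    refine ⟨hGm.mul (hLm.pow e), ?_, ?_, ?_⟩
    · rw [hGm.natDegree_mul (hLm.pow e), hLm.natDegree_pow, hLd, hGd, mul_one]
      omega
    · intro Q hQm hQi hQ
      rcases hQi.prime.dvd_or_dvd hQ with h | h
      · exact h.trans (hGdvd.trans hcycdvd)
      · exact (hQi.prime.dvd_of_dvd_pow h).trans hLdvd
    · intro h
      rw [h, X_sub_one_eq, rootMultiplicity_X_sub_C_pow] at hrm
      have : 0 < u * i := Nat.mul_pos hu hipos
      omega
  have hfrev := reverse_eq_of_even p rfl d r i hr hrp hidef hi hipos hpp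
  obtain ⟨hfm, hfd, hfac, hfne⟩ := hpp
  exact ⟨hfm, hfd, hfrev, hfac, hfne⟩

end poly

section matrix

variable {F : Type u} [Field F] [Fintype F] {p : ℕ} [Fact p.Prime] [CharP F p]
variable {ι : Type} [Fintype ι] [DecidableEq ι]

/-- a matrix of order `r` whose characteristic polynomial is a product of distinct irreducible
factors of `Φ_r` times a power of `X - 1`: fixed space and kernel bounds -/
theorem ker_le_of_charpoly (A : Matrix ι ι F) (r : ℕ) [Fact r.Prime] (hrp : r ≠ p)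
    (hAr : A ^ r = 1) (S : Finset F[X])
    (hS : ∀ P ∈ S, P.Monic ∧ Irreducible P ∧ P ∣ cyclotomic r F) (e : ℕ)
    (hch : A.charpoly = (∏ P ∈ S, P) * (X - 1) ^ e) :
    finrank F ↥(fixSp (Matrix.toLin' A)) = e ∧
      ∀ P : F[X], Irreducible P → P ∣ cyclotomic r F →
        finrank F ↥(LinearMap.ker (aeval (Matrix.toLin' A) P)) ≤
          orderOf ((Fintype.card F : ℕ) : ZMod r) := by
  classical
  have hr : r.Prime := Fact.out
  have hrF : (r : F) ≠ 0 := natCast_ne_zero_of_ne r hrp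
  set i := orderOf ((Fintype.card F : ℕ) : ZMod r) with hidef
  have hipos : 0 < i := orderOf_card_pos r hrp
  have hHP := HP_cyclotomic (F := F) r hrp
  have hsep : (X ^ r - 1 : F[X]).Separable := by
    have := Polynomial.separable_X_pow_sub_C (1 : F) hrF one_ne_zero
    simpa using this
  have hsq : Squarefree (cyclotomic r F) :=
    (hsep.of_dvd (cyclotomic.dvd_X_pow_sub_one r F)).squarefree
  obtain ⟨𝔉, h𝔉1, h𝔉2, h𝔉prod⟩ := exists_factor_finset (cyclotomic r F)
    (cyclotomic.monic r F) hsq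
  have hS𝔉 : S ⊆ 𝔉 := fun P hP => h𝔉2 P (hS P hP).1 (hS P hP).2.1 (hS P hP).2.2
  have hdeg : ∀ P ∈ 𝔉, P.natDegree = i := fun P hP =>
    hHP.2 P (h𝔉1 P hP).2.1 (h𝔉1 P hP).2.2
  set u := S.card with hu
  set G := ∏ P ∈ S, P with hG
  have hGm : G.Monic := monic_prod_of_monic _ _ (fun P hP => (hS P hP).1)
  have hGd : G.natDegree = u * i := by
    rw [hG, natDegree_prod_of_monic _ _ (fun P hP => (hS P hP).1),
      Finset.sum_congr rfl (fun P hP => hdeg P (hS𝔉 hP)), Finset.sum_const, smul_eq_mul]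
  have hGdvd : G ∣ cyclotomic r F := by
    rw [← h𝔉prod]
    exact Finset.prod_dvd_prod_of_subset _ _ _ hS𝔉
  have hG1 : G.eval 1 ≠ 0 := eval_one_ne_zero_of_dvd_cyclotomic r hrF hGdvd
  have hLm : (X - 1 : F[X]).Monic := Cfsg.Agent.Helper43.Lagr.X_sub_one_monic
  have hLd : (X - 1 : F[X]).natDegree = 1 := by
    rw [X_sub_one_eq]; exact natDegree_X_sub_C 1
  have hrm : rootMultiplicity 1 (G * (X - 1) ^ e) = e := by
    have := rootMultiplicity_model G hGm.ne_zero hG1 1 e
    rwa [pow_one] at this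
  set y := Matrix.toLin' A with hy
  have hyr : y ^ r = 1 := by
    rw [hy, ← Matrix.toLin'_pow, hAr, Matrix.toLin'_one]
    rfl
  have hfix : finrank F ↥(fixSp y) = e := by
    rw [finrank_fixSp_eq_rootMultiplicity r hrF _ hyr, hy, Matrix.charpoly_toLin', hch, hrm]
  refine ⟨hfix, ?_⟩
  have hcardι : Fintype.card ι = u * i + e := by
    have h1 := Matrix.charpoly_natDegree_eq_dim A
    rw [hch, hGm.natDegree_mul (hLm.pow e), hLm.natDegree_pow, hLd, hGd, mul_one] at h1
    exact h1.symm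
  have hsetup : Setup r y i := setup_of (F := F) r hrp y hyr
  have htot := hsetup.total
  rw [Module.finrank_fintype_fun_eq_card, hfix, hcardι] at htot
  have hcyc : finrank F ↥(cycSp r y) = u * i := by omega
  have hcop : ∀ P ∈ 𝔉, ∀ Q ∈ 𝔉, P ≠ Q → IsCoprime P Q := fun P hP Q hQ hne =>
    isCoprime_of_monic_irreducible (h𝔉1 P hP).1 (h𝔉1 P hP).2.1 (h𝔉1 Q hQ).1 (h𝔉1 Q hQ).2.1 hne
  have hsum := sum_finrank_ker y 𝔉 hcop
  rw [h𝔉prod] at hsum
  have hsum' : ∑ P ∈ 𝔉, finrank F ↥(LinearMap.ker (aeval y P)) = u * i := by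
    rw [hsum]; exact hcyc
  have hge : ∀ Q ∈ S, i ≤ finrank F ↥(LinearMap.ker (aeval y Q)) := by
    intro Q hQ
    have hQ𝔉 := hS𝔉 hQ
    have hQdvd : Q ∣ A.charpoly := by
      rw [hch]
      exact (Finset.dvd_prod_of_mem _ hQ).mul_right _
    have hne := ker_ne_bot_of_dvd_charpoly _ r hrF hAr Q (h𝔉1 Q hQ𝔉).1 (h𝔉1 Q hQ𝔉).2.1 hQdvd
    have hle : LinearMap.ker (aeval y Q) ≤ cycSp r y := by
      intro v hv
      obtain ⟨Q', hQ'⟩ := (h𝔉1 Q hQ𝔉).2.2
      show v ∈ LinearMap.ker (aeval y (cyclotomic r F))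
      rw [LinearMap.mem_ker, hQ', mul_comm, map_mul, Module.End.mul_apply,
        LinearMap.mem_ker.mp hv, map_zero]
    obtain ⟨c, hc⟩ := hsetup.dvd _ (inv_ker_aeval y Q) hle
    have hpos : 0 < finrank F ↥(LinearMap.ker (aeval y Q)) := by
      rw [Nat.pos_iff_ne_zero]
      intro h0
      exact hne (Submodule.finrank_eq_zero.mp h0)
    rcases Nat.eq_zero_or_pos c with h0 | hcpos
    · rw [h0, mul_zero] at hc; omega
    · have : i ≤ i * c := Nat.le_mul_of_pos_right i hcpos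
      omega
  intro P hPi hPd
  -- normalize
  have hP0 : P ≠ 0 := hPi.ne_zero
  set P₀ := P * C P.leadingCoeff⁻¹ with hP₀
  have hP₀m : P₀.Monic := monic_mul_leadingCoeff_inv hP0
  have hlc : P.leadingCoeff⁻¹ ≠ 0 := inv_ne_zero (leadingCoeff_ne_zero.mpr hP0)
  have hunit : IsUnit (C P.leadingCoeff⁻¹ : F[X]) := isUnit_C.mpr (isUnit_iff_ne_zero.mpr hlc)
  have hP₀i : Irreducible P₀ := (irreducible_mul_isUnit hunit).mpr hPi
  have hP₀d : P₀ ∣ cyclotomic r F := (IsUnit.mul_right_dvd hunit).mpr hPd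
  have hP₀𝔉 : P₀ ∈ 𝔉 := h𝔉2 P₀ hP₀m hP₀i hP₀d
  have hkereq : LinearMap.ker (aeval y P) = LinearMap.ker (aeval y P₀) := by
    ext v
    rw [LinearMap.mem_ker, LinearMap.mem_ker, hP₀, mul_comm, map_mul, aeval_C,
      Module.End.mul_apply, Module.algebraMap_end_apply]
    constructor
    · intro h; rw [h, smul_zero]
    · intro h
      rcases smul_eq_zero.mp h with h' | h'
      · exact absurd h' hlc
      · exact h'
  rw [hkereq]
  -- the sum bound
  have hsplit : finrank F ↥(LinearMap.ker (aeval y P₀)) +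
      ∑ Q ∈ S.erase P₀, finrank F ↥(LinearMap.ker (aeval y Q)) ≤ u * i := by
    rw [← hsum']
    have hsub : insert P₀ (S.erase P₀) ⊆ 𝔉 := by
      intro Q hQ
      rcases Finset.mem_insert.mp hQ with rfl | hQ
      · exact hP₀𝔉
      · exact hS𝔉 (Finset.mem_of_mem_erase hQ)
    calc finrank F ↥(LinearMap.ker (aeval y P₀)) +
          ∑ Q ∈ S.erase P₀, finrank F ↥(LinearMap.ker (aeval y Q))
        = ∑ Q ∈ insert P₀ (S.erase P₀), finrank F ↥(LinearMap.ker (aeval y Q)) := by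
          rw [Finset.sum_insert (Finset.notMem_erase _ _)]
      _ ≤ ∑ Q ∈ 𝔉, finrank F ↥(LinearMap.ker (aeval y Q)) :=
          Finset.sum_le_sum_of_subset hsub
  have hrest : (u - 1) * i ≤ ∑ Q ∈ S.erase P₀, finrank F ↥(LinearMap.ker (aeval y Q)) := by
    have h1 : (S.erase P₀).card * i ≤
        ∑ Q ∈ S.erase P₀, finrank F ↥(LinearMap.ker (aeval y Q)) := by
      rw [← smul_eq_mul, ← Finset.sum_const]
      exact Finset.sum_le_sum (fun Q hQ => hge Q (Finset.mem_of_mem_erase hQ))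
    have h2 : u - 1 ≤ (S.erase P₀).card := Finset.pred_card_le_card_erase
    exact (Nat.mul_le_mul_right i h2).trans h1
  rcases Nat.eq_zero_or_pos u with hu0 | hupos
  · rw [hu0, zero_mul] at hsplit
    omega
  · have e1 : u * i = (u - 1) * i + i := by
      have : u = (u - 1) + 1 := by omega
      conv_lhs => rw [this]
      ring
    omega

end matrix

end Cfsg.Agent.Helper94.Ts
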