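import Mathlib
import Cfsg.Agent.Helper94.TsG
import Cfsg.Agent.Helper44.OrthRealizeC
import Cfsg.Agent.Helper44.CartanDieudonne

set_option autoImplicit false
set_option linter.unusedSectionVars false
set_option linter.style.haveILetI false

/-!
# The concrete space `x₀² + Σ xᵢ yᵢ`: setup, `Ω`-membership, test elements
-/

namespace Cfsg.Agent.Helper94.Ts

open Module Polynomial Matrix
open Cfsg
open Cfsg.Agent.Helper44 Cfsg.Agent.Helper44.QType
open Cfsg.Agent.Helper59.InvChain Cfsg.Agent.Helper59.Elusive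
open Cfsg.Agent.Helper99.RDecomp Cfsg.Agent.Helper99.SpStruct Cfsg.Agent.Helper99.SpElt
open Cfsg.Agent.Helper43.SpPrime
open Cfsg.Agent.Helper94.Ti

universe u

variable {F : Type u} [Field F] {d : ℕ}

/-- the polar form of `x₀² + Σ xᵢ yᵢ` -/
noncomputable def oB (d : ℕ) (F : Type u) [Field F] :
    LinearMap.BilinForm F (Unit ⊕ (Fin d ⊕ Fin d) → F) :=
  QuadraticMap.polarBilin (oddForm d F)

theorem oB_apply (u v : Unit ⊕ (Fin d ⊕ Fin d) → F) :
    oB d F u v = QuadraticMap.polar (Cfsg.quadFormOdd d F) u v := rfl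

theorem oB_self (u : Unit ⊕ (Fin d ⊕ Fin d) → F) :
    oB d F u u = 2 * Cfsg.quadFormOdd d F u := by
  rw [oB_apply, ← oddForm_coe, QuadraticMap.polar_self]
  simp

theorem oB_symm : (oB d F).IsSymm :=
  ⟨fun x y => by rw [oB_apply, oB_apply, QuadraticMap.polar_comm]⟩

theorem oB_nondeg (h2 : (2 : F) ≠ 0) : (oB d F).Nondegenerate :=
  (nondeg_iff (oddForm d F)).mpr (nondeg_oddForm h2 d)

theorem finrank_oV : finrank F (Unit ⊕ (Fin d ⊕ Fin d) → F) = 2 * d + 1 := by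
  rw [Module.finrank_fintype_fun_eq_card, Fintype.card_sum, Fintype.card_sum, Fintype.card_fin,
    Fintype.card_unit]
  ring

/-- totally singular for `Q` is totally isotropic for the polar form -/
theorem orth_self_iff_q (h2 : (2 : F) ≠ 0) {W : Submodule F (Unit ⊕ (Fin d ⊕ Fin d) → F)} :
    Orth (oB d F) W W ↔ ∀ w ∈ W, Cfsg.quadFormOdd d F w = 0 := by
  constructor
  · intro h w hw
    have := h w hw w hw
    rw [oB_self] at this
    exact (mul_eq_zero.mp this).resolve_left h2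
  · intro h u hu v hv
    rw [oB_apply]
    unfold QuadraticMap.polar
    rw [h _ (W.add_mem hu hv), h u hu, h v hv]
    simp

theorem isTi_iff_q (h2 : (2 : F) ≠ 0) {W : Submodule F (Unit ⊕ (Fin d ⊕ Fin d) → F)} :
    IsTi (oB d F) W ↔ ∀ w ∈ W, Cfsg.quadFormOdd d F w = 0 :=
  orth_self_iff_q h2

theorem oB_isom {y : Module.End F (Unit ⊕ (Fin d ⊕ Fin d) → F)}
    (hiso : ∀ u, Cfsg.quadFormOdd d F (y u) = Cfsg.quadFormOdd d F u)
    (u v : Unit ⊕ (Fin d ⊕ Fin d) → F) : oB d F (y u) (y v) = oB d F u v := by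
  rw [oB_apply, oB_apply]
  unfold QuadraticMap.polar
  rw [← map_add, hiso, hiso, hiso]

section finite

variable [Fintype F] {p : ℕ} [Fact p.Prime] [CharP F p]

/-- the setup for an isometry `y` with `y ^ r = 1` -/
theorem oSetup_of (h2 : (2 : F) ≠ 0) (r : ℕ) [Fact r.Prime] (hrp : r ≠ p) (hr2 : r ≠ 2)
    (y : Module.End F (Unit ⊕ (Fin d ⊕ Fin d) → F))
    (hiso : ∀ u, Cfsg.quadFormOdd d F (y u) = Cfsg.quadFormOdd d F u) (hy : y ^ r = 1) :
    OSetup (oB d F) r y (orderOf ((Fintype.card F : ℕ) : ZMod r)) where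
  symm := oB_symm
  nondeg := oB_nondeg h2
  isom := oB_isom hiso
  setup := setup_of r hrp y hy
  hp := HP_cyclotomic r hrp
  odd := (Fact.out : r.Prime).odd_of_ne_two hr2

end finite

section group

variable {ι : Type} [Fintype ι] [DecidableEq ι]

theorem toLin_iso {Q : (ι → F) → F} (g : ↥(Cfsg.isometryGroup F Q)) (u : ι → F) :
    Q (Matrix.toLin' ((g : GL ι F) : Matrix ι ι F) u) = Q u := by
  rw [Matrix.toLin'_apply]
  exact isometryGroup_apply g u

theorem toLin_pow_eq_one' {Q : (ι → F) → F} (g : ↥(Cfsg.isometryGroup F Q)) {r : ℕ}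
    (hg : g ^ r = 1) : (Matrix.toLin' ((g : GL ι F) : Matrix ι ι F)) ^ r = 1 := by
  rw [← Matrix.toLin'_pow]
  have h1 : ((g : GL ι F) : Matrix ι ι F) ^ r = 1 := by
    have h3 : ((g ^ r : ↥(Cfsg.isometryGroup F Q)) : GL ι F) = 1 := by rw [hg]; rfl
    have h4 := congrArg (fun z : GL ι F => (z : Matrix ι ι F)) h3
    simpa using h4
  rw [h1, Matrix.toLin'_one]
  rfl

/-- elements of odd order lie in `Ω` (odd characteristic) -/
theorem mem_Omega_of_odd_order' (Q : QuadraticForm F (ι → F)) (h2 : (2 : F) ≠ 0)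
    (hQ : (QuadraticMap.polarBilin Q).Nondegenerate)
    (g : ↥(Cfsg.isometryGroup F ⇑Q)) {r : ℕ} (hr : Odd r) (hg : g ^ r = 1) :
    g ∈ Cfsg.Omega F ⇑Q := by
  obtain ⟨vs, hvs, hgv⟩ := cartan_dieudonne Q h2 hQ g
  show g ∈ commutator (Cfsg.isometryGroup F ⇑Q)
  rw [← Abelianization.ker_of, MonoidHom.mem_ker]
  have hsq : ∀ l : List (ι → F), (l.map (rho Q)).prod * (l.map (rho Q)).prod = 1 := by
    intro l
    induction l with
    | nil => simp
    | cons a l ih =>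
      rw [List.map_cons, List.prod_cons, mul_mul_mul_comm, rho_mul_self, ih, one_mul]
  have h1 : Abelianization.of g = (vs.map (rho Q)).prod := by
    rw [hgv, map_list_prod, List.map_map]
    rfl
  have h3 : (Abelianization.of g) ^ r = 1 := by rw [← map_pow, hg, map_one]
  obtain ⟨k, rfl⟩ := hr
  have h4 : (Abelianization.of g) ^ 2 = 1 := by rw [pow_two, h1]; exact hsq vs
  rw [pow_succ, pow_mul, h4, one_pow, one_mul] at h3
  exact h3

end group

section elt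

variable [Fintype F] {p : ℕ} [Fact p.Prime] [CharP F p]

/-- test elements: `k` blocks -/
theorem exists_o_elt (h2 : (2 : F) ≠ 0) (d r : ℕ) [Fact r.Prime] (hrp : r ≠ p) (hr2 : r ≠ 2)
    (k : ℕ) (hk : 0 < k)
    (hkc : k * blockSize (orderOf ((Fintype.card F : ℕ) : ZMod r)) ≤ 2 * d) :
    ∃ y : ↥(Cfsg.isometryGroup F (Cfsg.quadFormOdd d F)), orderOf y = r ∧
      finrank F ↥(fixSp (Matrix.toLin' ((y : GL (Unit ⊕ (Fin d ⊕ Fin d)) F) :
        Matrix (Unit ⊕ (Fin d ⊕ Fin d)) (Unit ⊕ (Fin d ⊕ Fin d)) F))) =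
        2 * d + 1 - k * blockSize (orderOf ((Fintype.card F : ℕ) : ZMod r)) := by
  classical
  have hr : r.Prime := Fact.out
  have hrF : (r : F) ≠ 0 := natCast_ne_zero_of_ne r hrp
  obtain ⟨f, hf, hrm⟩ := exists_block_poly (F := F) d r hrp k hk hkc
  obtain ⟨y, hyord, hych⟩ := exists_isometry_of_poly_odd p h2 d r hr hr2 hrp hf
  refine ⟨y, hyord, ?_⟩
  have hyr : y ^ r = 1 := by rw [← hyord]; exact pow_orderOf_eq_one y
  have hlin := toLin_pow_eq_one' y hyr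
  rw [finrank_fixSp_eq_rootMultiplicity r hrF _ hlin, Matrix.charpoly_toLin', hych]
  have hf0 : f ≠ 0 := hf.1.ne_zero
  have hX : (X - 1 : F[X]) ≠ 0 := by rw [X_sub_one_eq]; exact X_sub_C_ne_zero 1
  rw [rootMultiplicity_mul (mul_ne_zero hX hf0), hrm]
  have h1 : rootMultiplicity 1 (X - 1 : F[X]) = 1 := by
    rw [X_sub_one_eq]; exact rootMultiplicity_X_sub_C_self
  rw [h1]
  omega

/-- test elements (even `i`): `u` pairwise distinct irreducible constituents, each with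
multiplicity one. -/
theorem exists_o_elt_aniso (h2 : (2 : F) ≠ 0) (d r : ℕ) [Fact r.Prime] (hrp : r ≠ p)
    (hr2 : r ≠ 2)
    (hi : Even (orderOf ((Fintype.card F : ℕ) : ZMod r))) (u : ℕ) (hu : 0 < u)
    (hut : u * orderOf ((Fintype.card F : ℕ) : ZMod r) ≤ r - 1)
    (hud : u * orderOf ((Fintype.card F : ℕ) : ZMod r) ≤ 2 * d) :
    ∃ y : ↥(Cfsg.isometryGroup F (Cfsg.quadFormOdd d F)), orderOf y = r ∧
      finrank F ↥(fixSp (Matrix.toLin' ((y : GL (Unit ⊕ (Fin d ⊕ Fin d)) F) :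
        Matrix (Unit ⊕ (Fin d ⊕ Fin d)) (Unit ⊕ (Fin d ⊕ Fin d)) F))) =
        2 * d + 1 - u * orderOf ((Fintype.card F : ℕ) : ZMod r) ∧
      ∀ P : F[X], Irreducible P → P ∣ cyclotomic r F →
        finrank F ↥(LinearMap.ker (aeval (Matrix.toLin'
          ((y : GL (Unit ⊕ (Fin d ⊕ Fin d)) F) :
            Matrix (Unit ⊕ (Fin d ⊕ Fin d)) (Unit ⊕ (Fin d ⊕ Fin d)) F)) P)) ≤
          orderOf ((Fintype.card F : ℕ) : ZMod r) := by
  classical
  have hr : r.Prime := Fact.out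
  obtain ⟨S, hS, hScard, hf⟩ := exists_aniso_poly (F := F) d r hrp hi u hu hut hud
  obtain ⟨y, hyord, hych⟩ := exists_isometry_of_poly_odd p h2 d r hr hr2 hrp hf
  have hyr : y ^ r = 1 := by rw [← hyord]; exact pow_orderOf_eq_one y
  have hAr : ((y : GL (Unit ⊕ (Fin d ⊕ Fin d)) F) :
      Matrix (Unit ⊕ (Fin d ⊕ Fin d)) (Unit ⊕ (Fin d ⊕ Fin d)) F) ^ r = 1 := by
    have h3 : ((y ^ r : ↥(Cfsg.isometryGroup F (Cfsg.quadFormOdd d F))) :
        GL (Unit ⊕ (Fin d ⊕ Fin d)) F) = 1 := by rw [hyr]; rfl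
    have h4 := congrArg (fun z : GL (Unit ⊕ (Fin d ⊕ Fin d)) F =>
      (z : Matrix (Unit ⊕ (Fin d ⊕ Fin d)) (Unit ⊕ (Fin d ⊕ Fin d)) F)) h3
    simpa using h4
  have hch : ((y : GL (Unit ⊕ (Fin d ⊕ Fin d)) F) :
      Matrix (Unit ⊕ (Fin d ⊕ Fin d)) (Unit ⊕ (Fin d ⊕ Fin d)) F).charpoly =
      (∏ P ∈ S, P) *
        (X - 1) ^ (2 * d - u * orderOf ((Fintype.card F : ℕ) : ZMod r) + 1) := by
    rw [hych, pow_succ]
    ring
  obtain ⟨h1, h3⟩ := ker_le_of_charpoly _ r hrp hAr S hS _ hch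
  refine ⟨y, hyord, ?_, h3⟩
  rw [h1]
  omega

end elt

end Cfsg.Agent.Helper94.Ts
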