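import Mathlib
import Cfsg.Agent.Helper94.TsC

set_option autoImplicit false
set_option linter.unusedSectionVars false
set_option linter.style.haveILetI false

/-!
# Involutory isometries of symmetric spaces; pairing orthogonal vectors into isotropic ones
-/

namespace Cfsg.Agent.Helper94.Ts

open Module
open Cfsg.Agent.Helper59.InvChain Cfsg.Agent.Helper59.Elusive
open Cfsg.Agent.Helper99.RDecomp Cfsg.Agent.Helper99.SpStruct
open Cfsg.Agent.Helper94.Ti

universe u v

variable {F : Type u} [Field F] {V : Type v} [AddCommGroup V] [Module F V] [FiniteDimensional F V]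
variable {B : LinearMap.BilinForm F V}

/-- the `-1`-eigenspace -/
def negSp (y : Module.End F V) : Submodule F V := LinearMap.ker (y + 1)

theorem mem_negSp {y : Module.End F V} {v : V} : v ∈ negSp y ↔ y v = -v := by
  unfold negSp
  rw [LinearMap.mem_ker, LinearMap.add_apply, Module.End.one_apply, add_eq_zero_iff_eq_neg]

/-- an involutory isometry of a nondegenerate symmetric space, `2 ≠ 0` -/
structure InvolSetup (B : LinearMap.BilinForm F V) (y : Module.End F V) : Prop where
  symm : B.IsSymm
  nondeg : B.Nondegenerate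
  two_ne : (2 : F) ≠ 0
  isom : ∀ u v, B (y u) (y v) = B u v
  sq : ∀ v, y (y v) = v

variable {y : Module.End F V}

theorem InvolSetup.orth (h : InvolSetup B y) : Orth B (fixSp y) (negSp y) := by
  intro u hu v hv
  have h1 := h.isom u v
  rw [mem_fixSp.mp hu, mem_negSp.mp hv, map_neg] at h1
  have h3 : (2 : F) * B u v = 0 := by linear_combination -h1
  exact (mul_eq_zero.mp h3).resolve_left h.two_ne

theorem InvolSetup.add_mem_fix (h : InvolSetup B y) (v : V) : v + y v ∈ fixSp y := by
  rw [mem_fixSp, map_add, h.sq, add_comm]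

theorem InvolSetup.sub_mem_neg (h : InvolSetup B y) (v : V) : v - y v ∈ negSp y := by
  rw [mem_negSp, map_sub, h.sq, neg_sub]

theorem InvolSetup.decomp (h : InvolSetup B y) (v : V) :
    v = (2 : F)⁻¹ • (v + y v) + (2 : F)⁻¹ • (v - y v) := by
  rw [← smul_add]
  have : v + y v + (v - y v) = (2 : F) • v := by rw [two_smul]; abel
  rw [this, smul_smul, inv_mul_cancel₀ h.two_ne, one_smul]

theorem InvolSetup.sup_eq_top (h : InvolSetup B y) : fixSp y ⊔ negSp y = ⊤ := by
  rw [eq_top_iff]
  intro v _
  rw [h.decomp v]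
  exact Submodule.add_mem_sup ((fixSp y).smul_mem _ (h.add_mem_fix v))
    ((negSp y).smul_mem _ (h.sub_mem_neg v))

theorem InvolSetup.disjoint (h : InvolSetup B y) : Disjoint (fixSp y) (negSp y) := by
  rw [Submodule.disjoint_def]
  intro v hv hv'
  have h1 := mem_fixSp.mp hv
  rw [mem_negSp.mp hv'] at h1
  have h3 : (2 : F) • v = 0 := by
    rw [two_smul]
    nth_rewrite 1 [← h1]
    exact neg_add_cancel v
  exact (smul_eq_zero.mp h3).resolve_left h.two_ne

theorem InvolSetup.finrank_add (h : InvolSetup B y) :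
    finrank F ↥(fixSp y) + finrank F ↥(negSp y) = finrank F V := by
  rw [← finrank_sup_of_disjoint h.disjoint, h.sup_eq_top, finrank_top]

theorem InvolSetup.nd_fix (h : InvolSetup B y) : Nd B (fixSp y) := by
  rw [nd_iff]
  intro u hu hu'
  apply h.nondeg.2 u
  intro w
  have hw : w ∈ fixSp y ⊔ negSp y := by rw [h.sup_eq_top]; trivial
  obtain ⟨a, ha, b, hb, rfl⟩ := Submodule.mem_sup.mp hw
  rw [map_add, LinearMap.add_apply, hu' a ha, zero_add]
  exact (h.orth.symm h.symm.isRefl) b hb u hu

theorem InvolSetup.nd_neg (h : InvolSetup B y) : Nd B (negSp y) := by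
  rw [nd_iff]
  intro u hu hu'
  apply h.nondeg.2 u
  intro w
  have hw : w ∈ fixSp y ⊔ negSp y := by rw [h.sup_eq_top]; trivial
  obtain ⟨a, ha, b, hb, rfl⟩ := Submodule.mem_sup.mp hw
  rw [map_add, LinearMap.add_apply, hu' b hb, add_zero]
  exact h.orth a ha u hu

theorem inv_of_le_negSp {U : Submodule F V} (hU : U ≤ negSp y) : Inv y U := by
  rw [inv_iff]
  intro v hv
  rw [mem_negSp.mp (hU hv)]
  exact U.neg_mem hv

/-- glue totally isotropic subspaces of the two eigenspaces -/
theorem InvolSetup.glue (h : InvolSetup B y) {A A' : Submodule F V} (hA : A ≤ fixSp y)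
    (hA' : A' ≤ negSp y) (hAti : Orth B A A) (hA'ti : Orth B A' A') :
    Orth B (A ⊔ A') (A ⊔ A') ∧ Inv y (A ⊔ A') ∧
      finrank F ↥(A ⊔ A') = finrank F ↥A + finrank F ↥A' := by
  have hAA' : Orth B A A' := h.orth.mono hA hA'
  refine ⟨?_, inv_sup (inv_of_le_fixSp hA) (inv_of_le_negSp hA'), ?_⟩
  · exact Orth.sup_left (Orth.sup_right hAti hAA')
      (Orth.sup_right (hAA'.symm h.symm.isRefl) hA'ti)
  · exact finrank_sup_of_disjoint (h.disjoint.mono hA hA')

/-- an invariant subspace splits along the eigenspaces -/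
theorem InvolSetup.split (h : InvolSetup B y) {W : Submodule F V} (hW : Inv y W) :
    finrank F ↥W = finrank F ↥(W ⊓ fixSp y) + finrank F ↥(W ⊓ negSp y) := by
  have hdis : Disjoint (W ⊓ fixSp y) (W ⊓ negSp y) := h.disjoint.mono inf_le_right inf_le_right
  have hsup : W ⊓ fixSp y ⊔ W ⊓ negSp y = W := by
    apply le_antisymm
    · exact sup_le inf_le_left inf_le_left
    · intro w hw
      rw [h.decomp w]
      have hyw : y w ∈ W := hW.apply_mem hw
      exact Submodule.add_mem_sup
        ⟨W.smul_mem _ (W.add_mem hw hyw), (fixSp y).smul_mem _ (h.add_mem_fix w)⟩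
        ⟨W.smul_mem _ (W.sub_mem hw hyw), (negSp y).smul_mem _ (h.sub_mem_neg w)⟩
  rw [← finrank_sup_of_disjoint hdis, hsup]

section finite

variable [Fintype F]

theorem exists_ts_sub' (hB : B.IsSymm) (k : ℕ) (W : Submodule F V) (hW : Nd B W)
    (hk : k = 0 ∨ 2 * k + 1 ≤ finrank F ↥W) :
    ∃ U : Submodule F V, U ≤ W ∧ Orth B U U ∧ finrank F ↥U = k := by
  rcases hk with rfl | hk
  · exact ⟨⊥, bot_le, orth_bot, by simp⟩
  · exact exists_ts_sub hB k W hW hk

/-- an involutory isometry of a space of dimension `2 d + 1` fixes a totally isotropic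
subspace of every dimension `m < d` -/
theorem InvolSetup.exists_ts_lt (h : InvolSetup B y) {d m : ℕ} (hdim : finrank F V = 2 * d + 1)
    (hm : m < d) : ∃ W : Submodule F V, finrank F ↥W = m ∧ Orth B W W ∧ Inv y W := by
  have hadd := h.finrank_add
  set a := finrank F ↥(fixSp y) with ha
  set b := finrank F ↥(negSp y) with hb
  obtain ⟨A, hAle, hAti, hAdim⟩ := exists_ts_sub' h.symm (min m ((a - 1) / 2)) (fixSp y) h.nd_fix
    (by rw [← ha]; omega)
  obtain ⟨A', hA'le, hA'ti, hA'dim⟩ := exists_ts_sub' h.symm (m - min m ((a - 1) / 2))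
    (negSp y) h.nd_neg (by rw [← hb]; omega)
  obtain ⟨h1, h2, h3⟩ := h.glue hAle hA'le hAti hA'ti
  exact ⟨A ⊔ A', by rw [h3, hAdim, hA'dim]; omega, h1, h2⟩

/-- pairing orthogonal nonisotropic vectors into isotropic ones when `-1` is a square -/
theorem exists_ts_of_orthogonal_family (hB : B.IsSymm) {ι₀ : F} (hι : ι₀ * ι₀ = -1)
    {κ : Type*} [DecidableEq κ] (v : κ → V) (horth : ∀ i j, i ≠ j → B (v i) (v j) = 0)
    (hne : ∀ i, B (v i) (v i) ≠ 0) :
    ∀ n : ℕ, ∀ S : Finset κ, S.card = 2 * n → IsSquare (∏ k ∈ S, B (v k) (v k)) →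
      ∃ U : Submodule F V, U ≤ Submodule.span F (v '' (S : Set κ)) ∧ Orth B U U ∧
        finrank F ↥U = n := by
  classical
  intro n
  induction n with
  | zero =>
    intro S _ _
    exact ⟨⊥, bot_le, orth_bot, by simp⟩
  | succ n ih =>
    intro S hcard hsq
    have hSne : S.Nonempty := by
      rw [← Finset.card_pos, hcard]; omega
    obtain ⟨a, ha⟩ := hSne
    have hprodne : ∀ T : Finset κ, ∏ k ∈ T, B (v k) (v k) ≠ 0 := fun T =>
      Finset.prod_ne_zero_iff.mpr (fun k _ => hne k)
    -- a partner for `a`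
    have hclaim : ∃ b ∈ S.erase a, IsSquare (B (v a) (v a) * B (v b) (v b)) := by
      by_contra hcon
      push Not at hcon
      have hχ : ∀ b ∈ S.erase a, quadraticChar F (B (v b) (v b)) =
          -quadraticChar F (B (v a) (v a)) := by
        intro b hb
        have h1 : quadraticChar F (B (v a) (v a) * B (v b) (v b)) = -1 :=
          quadraticChar_neg_one_iff_not_isSquare.mpr (hcon b hb)
        rw [map_mul] at h1
        rcases quadraticChar_dichotomy (hne a) with h2 | h2 <;> rw [h2] at h1 ⊢ <;> omega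
      have h3 : quadraticChar F (∏ k ∈ S, B (v k) (v k)) = 1 :=
        (quadraticChar_one_iff_isSquare (hprodne S)).mpr hsq
      rw [map_prod, ← Finset.mul_prod_erase S _ ha, Finset.prod_congr rfl hχ, Finset.prod_const,
        Finset.card_erase_of_mem ha, hcard] at h3
      have h4 : 2 * (n + 1) - 1 = 2 * n + 1 := by omega
      rw [h4] at h3
      rcases quadraticChar_dichotomy (hne a) with h2 | h2 <;> rw [h2] at h3
      · rw [one_mul, Odd.neg_one_pow ⟨n, rfl⟩] at h3
        omega
      · rw [neg_neg, one_pow] at h3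
        omega
    obtain ⟨b, hb, t, ht⟩ := hclaim
    have hbS : b ∈ S := Finset.mem_of_mem_erase hb
    have hba : b ≠ a := Finset.ne_of_mem_erase hb
    set S' := (S.erase a).erase b with hS'
    have hcard' : S'.card = 2 * n := by
      rw [hS', Finset.card_erase_of_mem hb, Finset.card_erase_of_mem ha, hcard]
      omega
    have hprod : B (v a) (v a) * (B (v b) (v b) * ∏ k ∈ S', B (v k) (v k)) =
        ∏ k ∈ S, B (v k) (v k) := by
      rw [hS', Finset.mul_prod_erase (S.erase a) (fun k => B (v k) (v k)) hb,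
        Finset.mul_prod_erase S (fun k => B (v k) (v k)) ha]
    have ht0 : t ≠ 0 := by
      rintro rfl
      rw [mul_zero] at ht
      exact mul_ne_zero (hne a) (hne b) ht
    have hsq' : IsSquare (∏ k ∈ S', B (v k) (v k)) := by
      obtain ⟨s, hs⟩ := hsq
      refine ⟨s / t, ?_⟩
      have hs' : t * t * ∏ k ∈ S', B (v k) (v k) = s * s := by
        rw [← ht, mul_assoc, hprod]; exact hs
      field_simp
      linear_combination hs'
    obtain ⟨U', hU'le, hU'ti, hU'dim⟩ := ih S' hcard' hsq'
    have hS'sub : S' ⊆ S := (Finset.erase_subset _ _).trans (Finset.erase_subset _ _)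
    have hspan_le : Submodule.span F (v '' (S' : Set κ)) ≤ Submodule.span F (v '' (S : Set κ)) :=
      Submodule.span_mono (Set.image_mono (by exact_mod_cast hS'sub))
    -- `v a` and `v b` are orthogonal to the span of the rest
    have hperp : ∀ c : κ, c ∉ S' → ∀ w ∈ Submodule.span F (v '' (S' : Set κ)), B (v c) w = 0 := by
      intro c hc w hw
      have hle : Submodule.span F (v '' (S' : Set κ)) ≤ LinearMap.ker (B (v c)) := by
        rw [Submodule.span_le]
        rintro _ ⟨k, hk, rfl⟩
        rw [SetLike.mem_coe, LinearMap.mem_ker]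
        apply horth
        rintro rfl
        exact hc (by exact_mod_cast hk)
      exact LinearMap.mem_ker.mp (hle hw)
    have haS' : a ∉ S' := by
      rw [hS']
      intro h
      exact Finset.notMem_erase a S (Finset.mem_of_mem_erase h)
    have hbS' : b ∉ S' := by
      rw [hS']
      exact Finset.notMem_erase b _
    set u := t • v a + (ι₀ * B (v a) (v a)) • v b with hu
    have hab : B (v a) (v b) = 0 := horth a b (fun h => hba h.symm)
    have hba' : B (v b) (v a) = 0 := horth b a hba
    have huu : B u u = 0 := by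
      rw [hu]
      simp only [map_add, map_smul, LinearMap.add_apply, LinearMap.smul_apply, smul_eq_mul, hab,
        hba', mul_zero, add_zero, zero_add]
      have : t * (t * B (v a) (v a)) + ι₀ * B (v a) (v a) * (ι₀ * B (v a) (v a) * B (v b) (v b)) =
          B (v a) (v a) * (t * t + (ι₀ * ι₀) * (B (v a) (v a) * B (v b) (v b))) := by ring
      rw [this, hι, ht]
      ring
    have hub : B u (v b) = ι₀ * B (v a) (v a) * B (v b) (v b) := by
      rw [hu]
      simp only [map_add, map_smul, LinearMap.add_apply, LinearMap.smul_apply, smul_eq_mul, hab,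
        mul_zero, zero_add]
    have hι0 : ι₀ ≠ 0 := by
      rintro rfl
      rw [mul_zero] at hι
      exact one_ne_zero (neg_eq_zero.mp hι.symm)
    have hubne : B u (v b) ≠ 0 := by
      rw [hub]
      exact mul_ne_zero (mul_ne_zero hι0 (hne a)) (hne b)
    have hu0 : u ≠ 0 := by
      intro h0
      apply hubne
      rw [h0, map_zero, LinearMap.zero_apply]
    have huperp : ∀ w ∈ Submodule.span F (v '' (S' : Set κ)), B u w = 0 := by
      intro w hw
      rw [hu]
      simp only [map_add, map_smul, LinearMap.add_apply, LinearMap.smul_apply, smul_eq_mul,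
        hperp a haS' w hw, hperp b hbS' w hw, mul_zero, add_zero]
    have huu2 : Orth B (Submodule.span F {u}) (Submodule.span F {u}) := by
      intro x hx x' hx'
      obtain ⟨s, rfl⟩ := Submodule.mem_span_singleton.mp hx
      obtain ⟨s', rfl⟩ := Submodule.mem_span_singleton.mp hx'
      rw [map_smul, map_smul, LinearMap.smul_apply, huu, smul_zero, smul_zero]
    have huU' : Orth B (Submodule.span F {u}) U' := by
      intro x hx w hw
      obtain ⟨s, rfl⟩ := Submodule.mem_span_singleton.mp hx
      rw [map_smul, LinearMap.smul_apply, huperp w (hU'le hw), smul_zero]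
    have hdis : Disjoint (Submodule.span F {u}) U' := by
      rw [Submodule.disjoint_def]
      intro x hx hx'
      obtain ⟨s, rfl⟩ := Submodule.mem_span_singleton.mp hx
      have h1 : B (v b) (s • u) = 0 := hperp b hbS' _ (hU'le hx')
      rw [map_smul, smul_eq_mul, hB.eq (v b) u] at h1
      rcases mul_eq_zero.mp h1 with h0 | h0
      · rw [h0, zero_smul]
      · exact absurd h0 hubne
    have huS : u ∈ Submodule.span F (v '' (S : Set κ)) := by
      rw [hu]
      exact Submodule.add_mem _
        (Submodule.smul_mem _ _ (Submodule.subset_span ⟨a, by exact_mod_cast ha, rfl⟩))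
        (Submodule.smul_mem _ _ (Submodule.subset_span ⟨b, by exact_mod_cast hbS, rfl⟩))
    refine ⟨Submodule.span F {u} ⊔ U', sup_le ?_ (hU'le.trans hspan_le), ?_, ?_⟩
    · rw [Submodule.span_singleton_le_iff_mem]; exact huS
    · exact Orth.sup_left (Orth.sup_right huu2 huU')
        (Orth.sup_right (huU'.symm hB.isRefl) hU'ti)
    · rw [finrank_sup_of_disjoint hdis, finrank_span_singleton hu0, hU'dim]
      omega

end finite

end Cfsg.Agent.Helper94.Ts
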