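import Mathlib
import Cfsg.Agent.Helper94.TsJ
import Cfsg.Agent.Helper94.TsH
import Cfsg.Agent.Helper44.OrthBasis
import Cfsg.Agent.Helper44.StdHyp

set_option autoImplicit false
set_option linter.unusedSectionVars false
set_option linter.style.haveILetI false

/-!
# Involutions of `Ω_{2d+1}(q)` and totally singular subspaces
-/

namespace Cfsg.Agent.Helper94.Ts

open Module Matrix
open Cfsg
open Cfsg.Agent.Helper44 Cfsg.Agent.Helper44.QType
open Cfsg.Agent.Helper59.InvChain Cfsg.Agent.Helper59.Elusive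
open Cfsg.Agent.Helper99.RDecomp Cfsg.Agent.Helper99.SpStruct
open Cfsg.Agent.Helper94.Ti

universe u

variable {F : Type u} [Field F] {d : ℕ}

/-- the setup for an involution of the isometry group -/
theorem involSetup_of (h2 : (2 : F) ≠ 0) (g : ↥(Cfsg.isometryGroup F (Cfsg.quadFormOdd d F)))
    (hg : g * g = 1) :
    InvolSetup (oB d F) (Matrix.toLin' ((g : GL (Unit ⊕ (Fin d ⊕ Fin d)) F) :
      Matrix (Unit ⊕ (Fin d ⊕ Fin d)) (Unit ⊕ (Fin d ⊕ Fin d)) F)) where
  symm := oB_symm
  nondeg := oB_nondeg h2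
  two_ne := h2
  isom := oB_isom (toLin_iso g)
  sq := by
    intro v
    have h1 := toLin_pow_eq_one' g (r := 2) (by rw [pow_two]; exact hg)
    rw [pow_two] at h1
    have := congrArg (fun L : Module.End F (Unit ⊕ (Fin d ⊕ Fin d) → F) => L v) h1
    simpa using this

section finite

variable [Fintype F]

/-- every involution of `Ω` fixes a totally singular `m`-space when `m < d` or `-1` is a
square -/
theorem ts_of_invol (h2 : (2 : F) ≠ 0) {m : ℕ} (hmd : m ≤ d)
    (hcase : m < d ∨ IsSquare (-1 : F))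
    (g : ↥(Cfsg.isometryGroup F (Cfsg.quadFormOdd d F)))
    (hgΩ : g ∈ Cfsg.Omega F (Cfsg.quadFormOdd d F)) (hg : g * g = 1) :
    ∃ W : Submodule F (Unit ⊕ (Fin d ⊕ Fin d) → F), finrank F ↥W = m ∧
      (∀ w ∈ W, Cfsg.quadFormOdd d F w = 0) ∧
      Inv (Matrix.toLin' ((g : GL (Unit ⊕ (Fin d ⊕ Fin d)) F) :
        Matrix (Unit ⊕ (Fin d ⊕ Fin d)) (Unit ⊕ (Fin d ⊕ Fin d)) F)) W := by
  classical
  have hS := involSetup_of h2 g hg
  set y := Matrix.toLin' ((g : GL (Unit ⊕ (Fin d ⊕ Fin d)) F) :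
    Matrix (Unit ⊕ (Fin d ⊕ Fin d)) (Unit ⊕ (Fin d ⊕ Fin d)) F) with hy
  by_cases hlt : m < d
  · obtain ⟨W, hW1, hW2, hW3⟩ := hS.exists_ts_lt finrank_oV hlt
    exact ⟨W, hW1, (orth_self_iff_q h2).mp hW2, hW3⟩
  · have hmeq : m = d := by omega
    have hsq : IsSquare (-1 : F) := by
      rcases hcase with h | h
      · exact absurd h hlt
      · exact h
    obtain ⟨ι₀, hι⟩ := hsq
    -- an orthogonal basis of the (-1)-eigenspace
    haveI : Invertible (2 : F) := invertibleOfNonzero h2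
    have hsymmR : LinearMap.IsSymm ((oB d F).restrict (negSp y)) :=
      ⟨fun a b => oB_symm.eq (a : Unit ⊕ (Fin d ⊕ Fin d) → F) b⟩
    set b := finrank F ↥(negSp y) with hb
    obtain ⟨bv, hbv⟩ : ∃ bv : Module.Basis (Fin b) F ↥(negSp y),
        LinearMap.IsOrthoᵢ ((oB d F).restrict (negSp y)) bv :=
      LinearMap.BilinForm.exists_orthogonal_basis hsymmR
    set v : Fin b → (Unit ⊕ (Fin d ⊕ Fin d) → F) := fun k => (bv k : Unit ⊕ (Fin d ⊕ Fin d) → F)
      with hv
    have hvmem : ∀ k, v k ∈ negSp y := fun k => (bv k).2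
    have horth : ∀ i j, i ≠ j → oB d F (v i) (v j) = 0 := by
      intro i j hij
      have := hbv hij
      exact this
    have hsepL : ((oB d F).restrict (negSp y)).SeparatingLeft := by
      intro x hx
      apply Subtype.ext
      apply nd_iff.mp hS.nd_neg x.1 x.2
      intro w hw
      have := hx ⟨w, hw⟩
      rw [oB_symm.eq]
      exact this
    have hne : ∀ i, oB d F (v i) (v i) ≠ 0 := by
      intro i hi
      exact hbv.not_isOrtho_basis_self_of_separatingLeft hsepL i hi
    have hQne : ∀ i, (oddForm d F) (v i) ≠ 0 := by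
      intro i hi
      apply hne i
      rw [oB_self]
      have : Cfsg.quadFormOdd d F (v i) = 0 := hi
      rw [this, mul_zero]
    have hpol : ∀ i j, i ≠ j → QuadraticMap.polar ⇑(oddForm d F) (v i) (v j) = 0 :=
      fun i j hij => horth i j hij
    -- `g` is the product of the reflections in the basis vectors
    set R := ((List.finRange b).map (fun k => Cfsg.reflectionMatrix ⇑(oddForm d F) (v k))).prod
      with hR
    have hRneg : ∀ x ∈ negSp y, R *ᵥ x = -x := by
      have hL : (Matrix.toLin' R).comp (negSp y).subtype = -(negSp y).subtype := by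
        apply bv.ext
        intro k
        show Matrix.toLin' R (v k) = -(v k)
        rw [Matrix.toLin'_apply, hR,
          prod_reflection_mulVec (oddForm d F) v hpol hQne _ (List.nodup_finRange b) k,
          if_pos (List.mem_finRange k)]
      intro x hx
      have := congrArg (fun L : ↥(negSp y) →ₗ[F] (Unit ⊕ (Fin d ⊕ Fin d) → F) => L ⟨x, hx⟩) hL
      simpa using this
    have hRfix : ∀ x ∈ fixSp y, R *ᵥ x = x := by
      intro x hx
      have hgen : ∀ l : List (Fin b),
          (l.map (fun k => Cfsg.reflectionMatrix ⇑(oddForm d F) (v k))).prod *ᵥ x = x := by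
        intro l
        induction l with
        | nil => simp
        | cons k l ih =>
          rw [List.map_cons, List.prod_cons, ← Matrix.mulVec_mulVec, ih]
          apply Cfsg.Agent.Helper13.reflectionMatrix_mulVec_of_polar_eq_zero
          exact (hS.orth.symm oB_symm.isRefl) (v k) (hvmem k) x hx
      exact hgen _
    have hgR : ((g : GL (Unit ⊕ (Fin d ⊕ Fin d)) F) :
        Matrix (Unit ⊕ (Fin d ⊕ Fin d)) (Unit ⊕ (Fin d ⊕ Fin d)) F) = R := by
      apply Matrix.toLin'.injective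
      refine LinearMap.ext fun x => ?_
      have hx : x ∈ fixSp y ⊔ negSp y := by rw [hS.sup_eq_top]; trivial
      obtain ⟨a, ha, c, hc, rfl⟩ := Submodule.mem_sup.mp hx
      rw [map_add, map_add]
      have e1 : Matrix.toLin' ((g : GL (Unit ⊕ (Fin d ⊕ Fin d)) F) :
          Matrix (Unit ⊕ (Fin d ⊕ Fin d)) (Unit ⊕ (Fin d ⊕ Fin d)) F) a = a := mem_fixSp.mp ha
      have e2 : Matrix.toLin' ((g : GL (Unit ⊕ (Fin d ⊕ Fin d)) F) :
          Matrix (Unit ⊕ (Fin d ⊕ Fin d)) (Unit ⊕ (Fin d ⊕ Fin d)) F) c = -c := mem_negSp.mp hc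
      rw [e1, e2, Matrix.toLin'_apply, Matrix.toLin'_apply, hRfix a ha, hRneg c hc]
    -- the spinor norm criterion
    set vs := (List.finRange b).map v with hvs
    have hvsne : ∀ x ∈ vs, (oddForm d F) x ≠ 0 := by
      intro x hx
      obtain ⟨k, -, rfl⟩ := List.mem_map.mp hx
      exact hQne k
    have hgvs : ((g : GL (Unit ⊕ (Fin d ⊕ Fin d)) F) :
        Matrix (Unit ⊕ (Fin d ⊕ Fin d)) (Unit ⊕ (Fin d ⊕ Fin d)) F) =
        (vs.map (fun x => Cfsg.reflectionMatrix ⇑(oddForm d F) x)).prod := by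
      rw [hgR, hR, hvs, List.map_map]
      rfl
    obtain ⟨heven, hsqQ⟩ := (mem_Omega_iff_of_prod_reflections (oddForm d F) h2 g vs hvsne
      hgvs).mp hgΩ
    have hlen : vs.length = b := by rw [hvs, List.length_map, List.length_finRange]
    rw [hlen] at heven
    have hprodQ : (vs.map (fun x => (oddForm d F) x)).prod = ∏ k : Fin b, (oddForm d F) (v k) := by
      rw [hvs, List.map_map, Fin.prod_univ_def]
      rfl
    rw [hprodQ] at hsqQ
    obtain ⟨b', hb'⟩ := heven
    have hsqB : IsSquare (∏ k ∈ (Finset.univ : Finset (Fin b)), oB d F (v k) (v k)) := by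
      have h1 : ∀ k : Fin b, oB d F (v k) (v k) = 2 * (oddForm d F) (v k) := fun k => oB_self (v k)
      rw [Finset.prod_congr rfl (fun k _ => h1 k), Finset.prod_mul_distrib, Finset.prod_const,
        Finset.card_univ, Fintype.card_fin]
      obtain ⟨s, hs⟩ := hsqQ
      refine ⟨2 ^ b' * s, ?_⟩
      rw [hs, hb', pow_add]
      ring
    obtain ⟨U, hUle, hUti, hUdim⟩ := exists_ts_of_orthogonal_family oB_symm hι.symm v horth hne b'
      Finset.univ (by rw [Finset.card_univ, Fintype.card_fin, hb']; ring) hsqB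
    have hUneg : U ≤ negSp y := by
      refine hUle.trans ?_
      rw [Submodule.span_le]
      rintro _ ⟨k, -, rfl⟩
      exact hvmem k
    -- the fixed part
    have hadd := hS.finrank_add
    rw [finrank_oV, ← hb, hb'] at hadd
    obtain ⟨A, hAle, hAti, hAdim⟩ := exists_ts_sub' oB_symm (d - b') (fixSp y) hS.nd_fix
      (by right; omega)
    obtain ⟨h1, h3, h4⟩ := hS.glue hAle hUneg hAti hUti
    refine ⟨A ⊔ U, ?_, (orth_self_iff_q h2).mp h1, h3⟩
    rw [h4, hAdim, hUdim]
    omega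

end finite

/-- an involution of `Ω` negating an anisotropic plane (when `-1` is not a square) fixes no
totally singular `d`-space -/
theorem exists_invol_no_ts [Finite F] (h2 : (2 : F) ≠ 0) (hd : 1 ≤ d)
    (hns : ¬ IsSquare (-1 : F)) :
    ∃ g : ↥(Cfsg.isometryGroup F (Cfsg.quadFormOdd d F)),
      g ∈ Cfsg.Omega F (Cfsg.quadFormOdd d F) ∧ orderOf g = 2 ∧
      ∀ W : Submodule F (Unit ⊕ (Fin d ⊕ Fin d) → F), finrank F ↥W = d →
        (∀ w ∈ W, Cfsg.quadFormOdd d F w = 0) →
        Inv (Matrix.toLin' ((g : GL (Unit ⊕ (Fin d ⊕ Fin d)) F) :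
          Matrix (Unit ⊕ (Fin d ⊕ Fin d)) (Unit ⊕ (Fin d ⊕ Fin d)) F)) W → False := by
  classical
  set Q := oddForm d F with hQ
  set j : Fin d := ⟨0, hd⟩ with hj
  have hH := isHypPair_oddForm (F := F) d j
  set e₀ : Unit ⊕ (Fin d ⊕ Fin d) → F := Pi.single (Sum.inl ()) 1 with he₀
  set f : Unit ⊕ (Fin d ⊕ Fin d) → F :=
    Pi.single (Sum.inr (Sum.inl j)) 1 + Pi.single (Sum.inr (Sum.inr j)) 1 with hf
  have hQe : Q e₀ = 1 := oddForm_single_inl d
  have hQf : Q f = 1 := hH.Q_add
  have hpfe : QuadraticMap.polar ⇑Q f e₀ = 0 := by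
    rw [hf, QuadraticMap.polar_add_left, hH.polar_a, hH.polar_b, he₀]
    simp
  have hpef : QuadraticMap.polar ⇑Q e₀ f = 0 := by rw [QuadraticMap.polar_comm]; exact hpfe
  have hQe0 : Q e₀ ≠ 0 := by rw [hQe]; exact one_ne_zero
  have hQf0 : Q f ≠ 0 := by rw [hQf]; exact one_ne_zero
  set g : ↥(Cfsg.isometryGroup F ⇑Q) := refl Q e₀ hQe0 * refl Q f hQf0 with hg
  have hgΩ : g ∈ Cfsg.Omega F ⇑Q :=
    refl_mul_refl_mem_Omega Q h2 e₀ f hQe0 hQf0 ⟨1, by rw [hQe, hQf]⟩
  -- the action of `g`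
  have hact : ∀ x, ((g : GL (Unit ⊕ (Fin d ⊕ Fin d)) F) :
      Matrix (Unit ⊕ (Fin d ⊕ Fin d)) (Unit ⊕ (Fin d ⊕ Fin d)) F) *ᵥ x =
      x - QuadraticMap.polar ⇑Q f x • f - QuadraticMap.polar ⇑Q e₀ x • e₀ := by
    intro x
    rw [hg, isometryGroup_mul_mulVec, refl_mulVec, refl_mulVec, hQe, hQf, inv_one, one_mul,
      one_mul, QuadraticMap.polar_sub_right, QuadraticMap.polar_smul_right, hpef, smul_zero,
      sub_zero]
  have hpee : QuadraticMap.polar ⇑Q e₀ e₀ = 2 := by
    rw [QuadraticMap.polar_self, hQe]; simp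
  have hpff : QuadraticMap.polar ⇑Q f f = 2 := by
    rw [QuadraticMap.polar_self, hQf]; simp
  have hgg : g * g = 1 := by
    apply isometryGroup_ext
    intro x
    rw [isometryGroup_mul_mulVec, isometryGroup_one_mulVec, hact, hact]
    simp only [QuadraticMap.polar_sub_right, QuadraticMap.polar_smul_right, hpef, hpfe, hpee, hpff,
      smul_eq_mul, mul_zero, sub_zero]
    module
  have hge : ((g : GL (Unit ⊕ (Fin d ⊕ Fin d)) F) :
      Matrix (Unit ⊕ (Fin d ⊕ Fin d)) (Unit ⊕ (Fin d ⊕ Fin d)) F) *ᵥ e₀ = -e₀ := by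
    rw [hact, hpfe, hpee]
    module
  have hgf : ((g : GL (Unit ⊕ (Fin d ⊕ Fin d)) F) :
      Matrix (Unit ⊕ (Fin d ⊕ Fin d)) (Unit ⊕ (Fin d ⊕ Fin d)) F) *ᵥ f = -f := by
    rw [hact, hpef, hpff]
    module
  have he₀ne : e₀ ≠ 0 := by
    intro h
    rw [h, map_zero] at hQe
    exact one_ne_zero hQe.symm
  have hg1 : g ≠ 1 := by
    intro h
    have h1 := hge
    rw [h, isometryGroup_one_mulVec] at h1
    have h3 : (2 : F) • e₀ = 0 := by
      rw [two_smul]
      nth_rewrite 1 [h1]
      exact neg_add_cancel e₀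
    exact he₀ne ((smul_eq_zero.mp h3).resolve_left h2)
  have hord : orderOf g = 2 := by
    have : Fact (Nat.Prime 2) := ⟨Nat.prime_two⟩
    apply orderOf_eq_prime
    · rw [pow_two]; exact hgg
    · exact hg1
  refine ⟨g, hgΩ, hord, ?_⟩
  intro W hWdim hWts hWinv
  have hS := involSetup_of h2 g hgg
  set y := Matrix.toLin' ((g : GL (Unit ⊕ (Fin d ⊕ Fin d)) F) :
    Matrix (Unit ⊕ (Fin d ⊕ Fin d)) (Unit ⊕ (Fin d ⊕ Fin d)) F) with hy
  -- the (-1)-eigenspace is anisotropic
  have haniso : ∀ w ∈ negSp y, Cfsg.quadFormOdd d F w = 0 → w = 0 := by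
    intro w hw hw0
    have h1 : y w = -w := mem_negSp.mp hw
    rw [hy, Matrix.toLin'_apply, hact] at h1
    set α := QuadraticMap.polar ⇑Q e₀ w with hα
    set β := QuadraticMap.polar ⇑Q f w with hβ
    have h3 : w = (2 : F)⁻¹ • (β • f + α • e₀) := by
      have h4 : (2 : F) • w = β • f + α • e₀ := by
        rw [two_smul]
        have h5 : w - β • f - α • e₀ + w = 0 := by rw [h1]; exact neg_add_cancel w
        have h6 : w + w = (w - β • f - α • e₀ + w) + (β • f + α • e₀) := by abel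
        rw [h6, h5, zero_add]
      rw [← h4, smul_smul, inv_mul_cancel₀ h2, one_smul]
    have h5 : Q w = (2 : F)⁻¹ ^ 2 * (β ^ 2 + α ^ 2) := by
      rw [h3, QuadraticMap.map_smul, QuadraticMap.map_add ⇑Q, QuadraticMap.map_smul,
        QuadraticMap.map_smul, hQe, hQf, QuadraticMap.polar_smul_left,
        QuadraticMap.polar_smul_right, hpfe]
      simp only [smul_eq_mul]
      ring
    have hw0' : Q w = 0 := hw0
    rw [h5] at hw0'
    have h6 : β ^ 2 + α ^ 2 = 0 := by
      rcases mul_eq_zero.mp hw0' with h | h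
      · exact absurd h (pow_ne_zero 2 (inv_ne_zero h2))
      · exact h
    have hα0 : α = 0 := by
      by_contra hα0
      apply hns
      refine ⟨β / α, ?_⟩
      field_simp
      linear_combination -h6
    have hβ0 : β = 0 := by
      rw [hα0] at h6
      simpa using h6
    rw [h3, hα0, hβ0]
    simp
  have hWneg : W ⊓ negSp y = ⊥ := by
    rw [eq_bot_iff]
    intro w hw
    rw [Submodule.mem_bot]
    exact haniso w hw.2 (hWts w hw.1)
  have hsplit := hS.split hWinv
  rw [hWneg, finrank_bot, add_zero] at hsplit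
  have hWti : Orth (oB d F) W W := (orth_self_iff_q h2).mpr hWts
  have hle := ti_finrank_le oB_symm.isRefl (oB_nondeg h2) (inf_le_right : W ⊓ fixSp y ≤ fixSp y)
    hS.nd_fix (hWti.mono inf_le_left inf_le_left)
  -- the (-1)-eigenspace has dimension at least 2
  have hli : LinearIndependent F ![e₀, f] := by
    rw [LinearIndependent.pair_iff]
    intro s t hst
    have h1 := congrFun hst (Sum.inl ())
    have h3 := congrFun hst (Sum.inr (Sum.inl j))
    simp only [he₀, hf, Pi.add_apply, Pi.smul_apply, Pi.single_apply, smul_eq_mul,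
      Pi.zero_apply] at h1 h3
    simp at h1 h3
    exact ⟨h1, h3⟩
  have hspan : Submodule.span F (Set.range ![e₀, f]) ≤ negSp y := by
    rw [Submodule.span_le]
    rintro _ ⟨k, rfl⟩
    fin_cases k
    · show e₀ ∈ negSp y
      rw [mem_negSp, hy, Matrix.toLin'_apply]; exact hge
    · show f ∈ negSp y
      rw [mem_negSp, hy, Matrix.toLin'_apply]; exact hgf
  have h2le : 2 ≤ finrank F ↥(negSp y) := by
    have := Submodule.finrank_mono hspan
    rwa [finrank_span_eq_card hli, Fintype.card_fin] at this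
  have hadd := hS.finrank_add
  rw [finrank_oV] at hadd
  omega

end Cfsg.Agent.Helper94.Ts
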