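import Mathlib
import Cfsg.Agent.Helper94.TsK
import Cfsg.Agent.Helper44.QTypeProd
import Cfsg.Agent.Helper44.QTypeFpf
import Cfsg.Agent.Helper44.QTypeAniso
import Cfsg.Agent.Helper44.QTypeClassify
import Cfsg.Agent.Helper44.PlusParity
import Cfsg.Agent.Helper44.StdNondeg

set_option autoImplicit false
set_option linter.unusedSectionVars false
set_option linter.style.haveILetI false

/-!
# Types of nondegenerate even-dimensional subspaces of a symmetric space over a finite field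
(odd characteristic), via helper44's zero counts `HasType`.
-/

namespace Cfsg.Agent.Helper94.Tn

open Module
open Cfsg.Agent.Helper99.SpStruct Cfsg.Agent.Helper99.RDecomp
open Cfsg.Agent.Helper94.Ti Cfsg.Agent.Helper94.Ts
open Cfsg.Agent.Helper44 Cfsg.Agent.Helper44.QType

universe u v w

section prod

variable {F : Type u} [Field F] [Fintype F]

theorem fc_prod_zero {V₁ : Type v} {V₂ : Type w} [Finite V₁] [Finite V₂] (Q₁ : V₁ → F)
    (Q₂ : V₂ → F) :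
    fc (fun p : V₁ × V₂ => Q₁ p.1 + Q₂ p.2) 0 = ∑ c : F, fc Q₁ c * fc Q₂ (-c) := by
  unfold fc
  have e : {x : V₁ × V₂ // Q₁ x.1 + Q₂ x.2 = 0}
      ≃ (Σ c : F, {u : V₁ // Q₁ u = c} × {w : V₂ // Q₂ w = -c}) :=
    { toFun := fun x => ⟨Q₁ x.1.1, ⟨x.1.1, rfl⟩, ⟨x.1.2, eq_neg_of_add_eq_zero_right x.2⟩⟩
      invFun := fun p => ⟨(p.2.1.1, p.2.2.1), by
        show Q₁ p.2.1.1 + Q₂ p.2.2.1 = 0
        rw [p.2.1.2, p.2.2.2, add_neg_cancel]⟩
      left_inv := fun x => rfl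
      right_inv := fun p => by
        obtain ⟨c, ⟨u, hu⟩, ⟨w, hw⟩⟩ := p
        subst hu
        rfl }
  rw [Nat.card_congr e, Nat.card_sigma]
  refine Finset.sum_congr rfl fun c _ => ?_
  rw [Nat.card_prod]

variable {V₁ : Type v} {V₂ : Type w} [AddCommGroup V₁] [Module F V₁] [FiniteDimensional F V₁]
  [AddCommGroup V₂] [Module F V₂] [FiniteDimensional F V₂]

/-- the type of an orthogonal sum (abstract version of `HasType.orthSum`) -/
theorem hasType_prod (Q₁ : QuadraticForm F V₁) (Q₂ : QuadraticForm F V₂)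
    {m₁ m₂ : ℕ} (hV₁ : finrank F V₁ = 2 * m₁) (hV₂ : finrank F V₂ = 2 * m₂)
    (hnd₁ : ∀ x, (∀ y, QuadraticMap.polar Q₁ x y = 0) → x = 0)
    (hnd₂ : ∀ x, (∀ y, QuadraticMap.polar Q₂ x y = 0) → x = 0) {ε₁ ε₂ : ℤ}
    (h₁ : HasType (⇑Q₁) m₁ ε₁) (h₂ : HasType (⇑Q₂) m₂ ε₂) :
    HasType (fun p : V₁ × V₂ => Q₁ p.1 + Q₂ p.2) (m₁ + m₂) (ε₁ * ε₂) := by
  classical
  haveI : Finite V₁ := Module.finite_of_finite F
  haveI : Finite V₂ := Module.finite_of_finite F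
  have hN₁ := fc_zero_add Q₁ hV₁ hnd₁
  have hN₂ := fc_zero_add Q₂ hV₂ hnd₂
  have hZ : fc (fun p : V₁ × V₂ => Q₁ p.1 + Q₂ p.2) 0
      = fc (⇑Q₁) 0 * fc (⇑Q₂) 0 + (Nat.card F - 1) * (fc (⇑Q₁) 1 * fc (⇑Q₂) 1) := by
    rw [fc_prod_zero, ← Finset.add_sum_erase Finset.univ _ (Finset.mem_univ (0 : F)), neg_zero]
    congr 1
    rw [Finset.sum_congr rfl (fun c hc => by
      have hc0 : c ≠ 0 := Finset.ne_of_mem_erase hc
      rw [fc_eq_fc_one Q₁ hV₁ hnd₁ c hc0, fc_eq_fc_one Q₂ hV₂ hnd₂ (-c) (neg_ne_zero.mpr hc0)]),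
      Finset.sum_const, Finset.card_erase_of_mem (Finset.mem_univ _), Finset.card_univ,
      smul_eq_mul, Nat.card_eq_fintype_card]
  unfold HasType at h₁ h₂ ⊢
  have hq2 := two_le_card (F := F)
  have hq1 : 1 ≤ Nat.card F := Nat.card_pos
  rw [hZ]
  push_cast [Nat.cast_sub hq1]
  set q : ℤ := (Nat.card F : ℤ) with hq
  set Z₁ : ℤ := (fc (⇑Q₁) 0 : ℤ) with hZ₁
  set Z₂ : ℤ := (fc (⇑Q₂) 0 : ℤ) with hZ₂
  set N₁ : ℤ := (fc (⇑Q₁) 1 : ℤ) with hN₁'
  set N₂ : ℤ := (fc (⇑Q₂) 1 : ℤ) with hN₂'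
  have hA : q ^ (2 * m₁) = (q ^ m₁) ^ 2 := by rw [← pow_mul, mul_comm]
  have hB : q ^ (2 * m₂) = (q ^ m₂) ^ 2 := by rw [← pow_mul, mul_comm]
  have hAB : q ^ (2 * (m₁ + m₂)) = (q ^ m₁) ^ 2 * (q ^ m₂) ^ 2 := by
    rw [← pow_mul, ← pow_mul, ← pow_add]
    congr 1
    ring
  have hA1 : q ^ (m₁ + 1) = q ^ m₁ * q := pow_succ _ _
  have hB1 : q ^ (m₂ + 1) = q ^ m₂ * q := pow_succ _ _
  have hAB1 : q ^ (m₁ + m₂ + 1) = q ^ m₁ * q ^ m₂ * q := by rw [pow_succ, pow_add]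
  have hAB0 : q ^ (m₁ + m₂) = q ^ m₁ * q ^ m₂ := pow_add _ _ _
  rw [hA, hA1] at h₁
  rw [hB, hB1] at h₂
  rw [hA] at hN₁
  rw [hB] at hN₂
  rw [hAB, hAB1, hAB0]
  set A : ℤ := q ^ m₁ with hAdef
  set B : ℤ := q ^ m₂ with hBdef
  have hq0 : q * (q - 1) ≠ 0 := mul_ne_zero (by linarith) (by linarith)
  apply mul_left_cancel₀ hq0
  linear_combination (q ^ 2 * (q - 1) * N₂) * hN₁ + (q ^ 2 * (A ^ 2 - Z₁)) * hN₂
    + (q * q * Z₂ - q * B ^ 2) * h₁ + (q * ε₁ * (A * q - A)) * h₂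

end prod

section sub

variable {F : Type u} [Field F] [Fintype F]
variable {V : Type v} [AddCommGroup V] [Module F V] [FiniteDimensional F V]
variable {B : LinearMap.BilinForm F V}

/-- the quadratic form `w ↦ B w w` on a subspace -/
noncomputable def qOf (B : LinearMap.BilinForm F V) (W : Submodule F V) : QuadraticForm F ↥W :=
  LinearMap.BilinMap.toQuadraticMap (B.restrict W)

theorem qOf_apply (W : Submodule F V) (w : ↥W) : qOf B W w = B (w : V) (w : V) := rfl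

theorem qOf_polar (hB : B.IsSymm) (W : Submodule F V) (x y : ↥W) :
    QuadraticMap.polar (qOf B W) x y = 2 * B (x : V) (y : V) := by
  unfold qOf
  rw [LinearMap.BilinMap.polar_toQuadraticMap]
  have h4 : B.restrict W x y = B (x : V) (y : V) := rfl
  have h5 : B.restrict W y x = B (y : V) (x : V) := rfl
  rw [h4, h5, hB.eq y x]
  ring

theorem qOf_nd (hB : B.IsSymm) (h2 : (2 : F) ≠ 0) {W : Submodule F V} (hW : Nd B W) :
    ∀ x : ↥W, (∀ y, QuadraticMap.polar (qOf B W) x y = 0) → x = 0 := by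
  intro x hx
  apply Subtype.ext
  apply nd_iff.mp hW x.1 x.2
  intro w hw
  have := hx ⟨w, hw⟩
  rw [qOf_polar hB] at this
  have h3 : B (x : V) w = 0 := (mul_eq_zero.mp this).resolve_left h2
  rw [hB.eq] at h3
  exact h3

/-- `W` (of dimension `2 e`) has type `ε` -/
def SType (B : LinearMap.BilinForm F V) (W : Submodule F V) (e : ℕ) (ε : ℤ) : Prop :=
  HasType (⇑(qOf B W)) e ε

theorem exists_sType (hB : B.IsSymm) (h2 : (2 : F) ≠ 0) {W : Submodule F V} (hW : Nd B W)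
    {e : ℕ} (hdim : finrank F ↥W = 2 * e) :
    ∃ ε : ℤ, (ε = 1 ∨ ε = -1) ∧ SType B W e ε :=
  exists_hasType (qOf B W) hdim (qOf_nd hB h2 hW)

theorem SType.unique {W : Submodule F V} {e : ℕ} {ε ε' : ℤ} (h : SType B W e ε)
    (h' : SType B W e ε') : ε = ε' :=
  HasType.unique h h'

/-- the type of an orthogonal sum of subspaces -/
theorem sType_sup (hB : B.IsSymm) (h2 : (2 : F) ≠ 0) {A C : Submodule F V} (hA : Nd B A)
    (hC : Nd B C) (hAC : Orth B A C) {e₁ e₂ : ℕ} (hdA : finrank F ↥A = 2 * e₁)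
    (hdC : finrank F ↥C = 2 * e₂) {ε₁ ε₂ : ℤ} (h₁ : SType B A e₁ ε₁) (h₂ : SType B C e₂ ε₂) :
    SType B (A ⊔ C) (e₁ + e₂) (ε₁ * ε₂) := by
  have hp := hasType_prod (qOf B A) (qOf B C) hdA hdC (qOf_nd hB h2 hA) (qOf_nd hB h2 hC) h₁ h₂
  have hdis : Disjoint A C := hAC.disjoint hA
  let φ : ↥A × ↥C → ↥(A ⊔ C) := fun p => ⟨(p.1 : V) + p.2, Submodule.add_mem_sup p.1.2 p.2.2⟩
  have hφ : Function.Bijective φ := by
    constructor
    · rintro ⟨a, c⟩ ⟨a', c'⟩ h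
      have h1 : (a : V) + c = (a' : V) + c' := congrArg Subtype.val h
      have h3 : (a : V) - (a' : V) = (c' : V) - c := by
        rw [sub_eq_sub_iff_add_eq_add, h1, add_comm]
      have h4 : (a : V) - (a' : V) ∈ A ⊓ C :=
        ⟨A.sub_mem a.2 a'.2, by rw [h3]; exact C.sub_mem c'.2 c.2⟩
      rw [hdis.eq_bot, Submodule.mem_bot] at h4
      have h5 : (a : V) = a' := sub_eq_zero.mp h4
      have h6 : (c : V) = c' := by
        rw [h5] at h1
        exact add_left_cancel h1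
      exact Prod.ext (Subtype.ext h5) (Subtype.ext h6)
    · rintro ⟨w, hw⟩
      obtain ⟨a, ha, c, hc, rfl⟩ := Submodule.mem_sup.mp hw
      exact ⟨(⟨a, ha⟩, ⟨c, hc⟩), rfl⟩
  refine HasType.congr hp (Equiv.ofBijective φ hφ) ?_
  rintro ⟨a, c⟩
  show B ((a : V) + c) ((a : V) + c) = B (a : V) a + B (c : V) c
  rw [map_add, map_add, LinearMap.add_apply, LinearMap.add_apply, hAC a a.2 c c.2,
    (hAC.symm hB.isRefl) c c.2 a a.2]
  ring

end sub

end Cfsg.Agent.Helper94.Tn
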