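import Mathlib
import Cfsg.Agent.Helper94.TnA

set_option autoImplicit false
set_option linter.unusedSectionVars false
set_option linter.style.haveILetI false

/-!
# Hyperbolic subspaces and type `+`
-/

namespace Cfsg.Agent.Helper94.Tn

open Module
open Cfsg.Agent.Helper99.SpStruct Cfsg.Agent.Helper99.RDecomp
open Cfsg.Agent.Helper94.Ti Cfsg.Agent.Helper94.Ts
open Cfsg.Agent.Helper44 Cfsg.Agent.Helper44.QType

universe u v w

variable {F : Type u} [Field F] [Fintype F]

/-- fibres of a nonzero linear functional -/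
theorem card_fiber_linear {U : Type v} [AddCommGroup U] [Module F U] [FiniteDimensional F U]
    (φ : U →ₗ[F] F) (hφ : φ ≠ 0) (a : F) {e : ℕ} (hdim : finrank F U = e + 1) :
    Nat.card {u : U // φ u = a} = Fintype.card F ^ e := by
  classical
  haveI : Finite U := Module.finite_of_finite F
  obtain ⟨u₁, hu₁⟩ : ∃ u₁, φ u₁ ≠ 0 := by
    by_contra hcon
    push Not at hcon
    exact hφ (LinearMap.ext fun u => by rw [hcon u]; rfl)
  set u₀ : U := (a / φ u₁) • u₁ with hu₀
  have hu₀a : φ u₀ = a := by
    rw [hu₀, map_smul, smul_eq_mul, div_mul_cancel₀ _ hu₁]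
  have e1 : {u : U // φ u = a} ≃ ↥(LinearMap.ker φ) :=
    { toFun := fun u => ⟨u.1 - u₀, by rw [LinearMap.mem_ker, map_sub, u.2, hu₀a, sub_self]⟩
      invFun := fun k => ⟨k.1 + u₀, by
        rw [map_add, LinearMap.mem_ker.mp k.2, hu₀a, zero_add]⟩
      left_inv := fun u => by apply Subtype.ext; simp
      right_inv := fun k => by apply Subtype.ext; simp }
  rw [Nat.card_congr e1, Module.natCard_eq_pow_finrank (K := F) (V := ↥(LinearMap.ker φ)),
    Nat.card_eq_fintype_card]
  congr 1
  have h1 := LinearMap.finrank_range_add_finrank_ker φ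
  have hsurj : LinearMap.range φ = ⊤ := by
    rw [LinearMap.range_eq_top]
    intro b
    refine ⟨(b / φ u₁) • u₁, ?_⟩
    rw [map_smul, smul_eq_mul, div_mul_cancel₀ _ hu₁]
  rw [hsurj, finrank_top, finrank_self, hdim] at h1
  omega

variable {V : Type v} [AddCommGroup V] [Module F V] [FiniteDimensional F V]
variable {B : LinearMap.BilinForm F V}

/-- hyperbolic: contains a totally isotropic subspace of half the dimension -/
def Hyp (B : LinearMap.BilinForm F V) (W : Submodule F V) : Prop :=
  ∃ U : Submodule F V, U ≤ W ∧ Orth B U U ∧ 2 * finrank F ↥U = finrank F ↥W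

theorem orth_of_isotropic (hB : B.IsSymm) (h2 : (2 : F) ≠ 0) {U : Submodule F V}
    (h : ∀ u ∈ U, B u u = 0) : Orth B U U := by
  intro u hu u' hu'
  have h1 := h (u + u') (U.add_mem hu hu')
  simp only [map_add, LinearMap.add_apply] at h1
  rw [h u hu, h u' hu', hB.eq u' u] at h1
  have h3 : (2 : F) * B u u' = 0 := by linear_combination h1
  exact (mul_eq_zero.mp h3).resolve_left h2

/-- a nondegenerate `2e`-space containing a totally isotropic `e`-space has type `+` -/
theorem sType_of_hyp (hB : B.IsSymm) (h2 : (2 : F) ≠ 0) (hnd : B.Nondegenerate)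
    {W U : Submodule F V} (hW : Nd B W) {e : ℕ} (hdim : finrank F ↥W = 2 * e) (hUW : U ≤ W)
    (hU : Orth B U U) (hUdim : finrank F ↥U = e) : SType B W e 1 := by
  classical
  haveI : Finite V := Module.finite_of_finite F
  rcases Nat.eq_zero_or_pos e with he0 | hepos
  · subst he0
    unfold SType HasType fc
    have hW0 : finrank F ↥W = 0 := by simpa using hdim
    haveI : Subsingleton ↥W := (Module.finrank_zero_iff (R := F)).mp hW0
    have hone : Nat.card {v : ↥W // qOf B W v = 0} = 1 := by
      haveI : Unique {v : ↥W // qOf B W v = 0} :=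
        ⟨⟨⟨0, by simp⟩⟩, fun x => Subtype.ext (Subsingleton.elim _ _)⟩
      exact Nat.card_unique
    rw [hone]
    simp
  · obtain ⟨e', rfl⟩ : ∃ e', e = e' + 1 := ⟨e - 1, by omega⟩
    have hperp : W ⊓ B.orthogonal U = U := by
      symm
      apply Submodule.eq_of_le_of_finrank_eq (le_inf hUW (orth_iff_le.mp hU))
      have := finrank_inf_orth_of_le hB.isRefl hnd hUW hW
      omega
    obtain ⟨C₀, hC₀⟩ := Submodule.exists_isCompl U
    set C := C₀ ⊓ W with hCdef
    have hCW : C ≤ W := inf_le_right
    have hsup : U ⊔ C = W := by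
      rw [hCdef, ← sup_inf_assoc_of_le C₀ hUW, hC₀.sup_eq_top, top_inf_eq]
    have hdisj : Disjoint U C := hC₀.disjoint.mono_right inf_le_left
    have hCdim : finrank F ↥C = e' + 1 := by
      have := finrank_sup_of_disjoint hdisj
      rw [hsup, hdim, hUdim] at this
      omega
    have hkey : ∀ u ∈ U, ∀ c ∈ C, B (u + c) (u + c) = B c c + 2 * B c u := by
      intro u hu c hc
      simp only [map_add, LinearMap.add_apply]
      rw [hU u hu u hu, hB.eq u c]
      ring
    -- the zero set as a sigma type
    let ψ : (Σ c : ↥C, {u : ↥U // B (c : V) c + 2 * B (c : V) u = 0}) →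
        {w : ↥W // qOf B W w = 0} :=
      fun p => ⟨⟨(p.2.1 : V) + p.1, by
        rw [← hsup]; exact Submodule.add_mem_sup p.2.1.2 p.1.2⟩, by
        rw [qOf_apply]
        show B ((p.2.1 : V) + p.1) ((p.2.1 : V) + p.1) = 0
        rw [hkey _ p.2.1.2 _ p.1.2]
        exact p.2.2⟩
    have hψ : Function.Bijective ψ := by
      constructor
      · rintro ⟨c, u, hu⟩ ⟨c', u', hu'⟩ h
        have h1 : (u : V) + c = (u' : V) + c' := congrArg (fun z => ((z.1 : ↥W) : V)) h
        have h3 : (u : V) - (u' : V) = (c' : V) - c := by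
          rw [sub_eq_sub_iff_add_eq_add, h1, add_comm]
        have h4 : (u : V) - (u' : V) ∈ U ⊓ C :=
          ⟨U.sub_mem u.2 u'.2, by rw [h3]; exact C.sub_mem c'.2 c.2⟩
        rw [hdisj.eq_bot, Submodule.mem_bot] at h4
        have h5 : (u : V) = u' := sub_eq_zero.mp h4
        have h6 : (c : V) = c' := by
          rw [h5] at h1
          exact add_left_cancel h1
        have h7 : c = c' := Subtype.ext h6
        subst h7
        have h8 : u = u' := Subtype.ext h5
        subst h8
        rfl
      · rintro ⟨⟨w, hw⟩, hw0⟩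
        have hw' := hw
        rw [← hsup] at hw'
        obtain ⟨u, hu, c, hc, rfl⟩ := Submodule.mem_sup.mp hw'
        refine ⟨⟨⟨c, hc⟩, ⟨⟨u, hu⟩, ?_⟩⟩, rfl⟩
        rw [qOf_apply] at hw0
        have := hkey u hu c hc
        show B c c + 2 * B c u = 0
        rw [← this]
        exact hw0
    have hq : 0 < Fintype.card F := Fintype.card_pos
    -- fibre sizes
    have hfib : ∀ c : ↥C, Nat.card {u : ↥U // B (c : V) c + 2 * B (c : V) u = 0} =
        if c = 0 then Fintype.card F ^ (e' + 1) else Fintype.card F ^ e' := by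
      intro c
      split_ifs with hc
      · subst hc
        have e1 : {u : ↥U // B ((0 : ↥C) : V) ((0 : ↥C) : V) + 2 * B ((0 : ↥C) : V) u = 0} ≃ ↥U :=
          Equiv.subtypeUnivEquiv (fun u => by simp)
        rw [Nat.card_congr e1, Module.natCard_eq_pow_finrank (K := F) (V := ↥U), hUdim,
          Nat.card_eq_fintype_card]
      · set φ : ↥U →ₗ[F] F := (B (c : V)).comp U.subtype with hφ
        have hφapp : ∀ u : ↥U, φ u = B (c : V) u := fun u => rfl
        have hφne : φ ≠ 0 := by
          intro h0
          apply hc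
          have hcU : (c : V) ∈ W ⊓ B.orthogonal U := by
            refine Submodule.mem_inf.mpr ⟨hCW c.2, ?_⟩
            rw [LinearMap.BilinForm.mem_orthogonal_iff]
            intro u hu
            show B u c = 0
            rw [hB.eq]
            have := hφapp ⟨u, hu⟩
            rw [h0] at this
            exact this.symm
          rw [hperp] at hcU
          have : (c : V) ∈ U ⊓ C := ⟨hcU, c.2⟩
          rw [hdisj.eq_bot, Submodule.mem_bot] at this
          exact Subtype.ext this
        have e1 : {u : ↥U // B (c : V) c + 2 * B (c : V) u = 0} ≃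
            {u : ↥U // φ u = -(B (c : V) c) / 2} :=
          Equiv.subtypeEquivRight (fun u => by
            rw [hφapp]
            constructor
            · intro h
              field_simp
              linear_combination h
            · intro h
              rw [h]
              field_simp
              ring)
        rw [Nat.card_congr e1]
        exact card_fiber_linear φ hφne _ hUdim
    have hcard : Nat.card {w : ↥W // qOf B W w = 0} =
        Fintype.card F ^ (e' + 1) + (Fintype.card F ^ (e' + 1) - 1) * Fintype.card F ^ e' := by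
      rw [← Nat.card_congr (Equiv.ofBijective ψ hψ)]
      haveI : Fintype ↥C := Fintype.ofFinite _
      rw [Nat.card_sigma, Finset.sum_congr rfl (fun c _ => hfib c),
        ← Finset.add_sum_erase Finset.univ _ (Finset.mem_univ (0 : ↥C)), if_pos rfl]
      congr 1
      rw [Finset.sum_congr rfl (fun c hc => if_neg (Finset.ne_of_mem_erase hc)), Finset.sum_const,
        Finset.card_erase_of_mem (Finset.mem_univ _), Finset.card_univ, smul_eq_mul,
        ← Nat.card_eq_fintype_card (α := ↥C), Module.natCard_eq_pow_finrank (K := F) (V := ↥C),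
        hCdim, Nat.card_eq_fintype_card]
    unfold SType HasType fc
    rw [hcard, Nat.card_eq_fintype_card]
    have hpos : 1 ≤ Fintype.card F ^ (e' + 1) := Nat.one_le_pow _ _ hq
    push_cast [Nat.cast_sub hpos]
    ring

/-- type `+` spaces are hyperbolic -/
theorem hyp_of_sType_one (hB : B.IsSymm) (h2 : (2 : F) ≠ 0) {W : Submodule F V} (hW : Nd B W)
    {e : ℕ} (hdim : finrank F ↥W = 2 * e) (h : SType B W e 1) : Hyp B W := by
  have hfr : finrank F (Fin e ⊕ Fin e → F) = 2 * e := by
    rw [Module.finrank_fintype_fun_eq_card, Fintype.card_sum, Fintype.card_fin]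
    ring
  obtain ⟨g, hg⟩ := exists_isometry_of_hasType (plusForm e F) (qOf B W) hfr hdim
    ((nondeg_iff _).mp (nondegenerate_plusForm e)) (qOf_nd hB h2 hW)
    (by rw [plusForm_coe]; exact hasType_plus e) h
  refine ⟨((stdSing e F).map g.toLinearMap).map W.subtype, Submodule.map_subtype_le _ _, ?_, ?_⟩
  · apply orth_of_isotropic hB h2
    rintro _ ⟨w, ⟨t, ht, rfl⟩, rfl⟩
    have h1 := hg t
    rw [qOf_apply, isTotSing_stdSing e t ht] at h1
    exact h1
  · rw [Submodule.finrank_map_subtype_eq, LinearEquiv.finrank_map_eq, finrank_stdSing, hdim]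

theorem hyp_iff_sType (hB : B.IsSymm) (h2 : (2 : F) ≠ 0) (hnd : B.Nondegenerate)
    {W : Submodule F V} (hW : Nd B W) {e : ℕ} (hdim : finrank F ↥W = 2 * e) :
    Hyp B W ↔ SType B W e 1 := by
  constructor
  · rintro ⟨U, hUW, hU, hUdim⟩
    exact sType_of_hyp hB h2 hnd hW hdim hUW hU (by omega)
  · exact hyp_of_sType_one hB h2 hW hdim

theorem not_hyp_iff_sType (hB : B.IsSymm) (h2 : (2 : F) ≠ 0) (hnd : B.Nondegenerate)
    {W : Submodule F V} (hW : Nd B W) {e : ℕ} (hdim : finrank F ↥W = 2 * e) :
    ¬ Hyp B W ↔ SType B W e (-1) := by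
  obtain ⟨ε, hε, hty⟩ := exists_sType hB h2 hW hdim
  rw [hyp_iff_sType hB h2 hnd hW hdim]
  constructor
  · intro h
    rcases hε with rfl | rfl
    · exact absurd hty h
    · exact hty
  · intro h h'
    have := h.unique h'
    omega

end Cfsg.Agent.Helper94.Tn
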