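import Mathlib
import Cfsg.Agent.Helper94.TnB

set_option autoImplicit false
set_option linter.unusedSectionVars false
set_option linter.style.haveILetI false

/-!
# Existence of nondegenerate subspaces of prescribed type
-/

namespace Cfsg.Agent.Helper94.Tn

open Module Polynomial
open Cfsg.Agent.Helper99.SpStruct Cfsg.Agent.Helper99.RDecomp
open Cfsg.Agent.Helper94.Ti Cfsg.Agent.Helper94.Ts
open Cfsg.Agent.Helper44 Cfsg.Agent.Helper44.QType

universe u v w

variable {F : Type u} [Field F] [Fintype F]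
variable {V : Type v} [AddCommGroup V] [Module F V] [FiniteDimensional F V]
variable {B : LinearMap.BilinForm F V}

theorem exists_nonisotropic (hB : B.IsSymm) (h2 : (2 : F) ≠ 0) {X : Submodule F V}
    (hX : Nd B X) (hne : X ≠ ⊥) : ∃ z ∈ X, B z z ≠ 0 := by
  by_contra hcon
  push Not at hcon
  have horth : Orth B X X := orth_of_isotropic hB h2 hcon
  obtain ⟨u, hu, hu0⟩ := Submodule.exists_mem_ne_zero_of_ne_bot hne
  exact hu0 (nd_iff.mp hX u hu (fun w hw => horth w hw u hu))

theorem nd_span_singleton {z : V} (hz : B z z ≠ 0) : Nd B (Submodule.span F {z}) := by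
  rw [nd_iff]
  intro u hu hu'
  obtain ⟨a, rfl⟩ := Submodule.mem_span_singleton.mp hu
  have h1 := hu' z (Submodule.mem_span_singleton_self z)
  rw [map_smul, smul_eq_mul] at h1
  rcases mul_eq_zero.mp h1 with h | h
  · rw [h, zero_smul]
  · exact absurd h hz

theorem ne_zero_of_norm_ne {z : V} (hz : B z z ≠ 0) : z ≠ 0 := by
  intro h
  rw [h, map_zero] at hz
  exact hz rfl

theorem card_odd_of_two_ne (h2 : (2 : F) ≠ 0) : Fintype.card F % 2 = 1 := by
  apply FiniteField.odd_card_of_char_ne_two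
  intro h
  apply h2
  have := ringChar.Nat.cast_ringChar (R := F)
  rw [h] at this
  exact_mod_cast this

/-- nondegenerate spaces of dimension at least two are universal -/
theorem exists_norm_eq (hB : B.IsSymm) (h2 : (2 : F) ≠ 0) {Y : Submodule F V} (hY : Nd B Y)
    (hdim : 2 ≤ finrank F ↥Y) (c : F) : ∃ w ∈ Y, B w w = c := by
  have hne : Y ≠ ⊥ := by
    intro h
    rw [h, finrank_bot] at hdim
    omega
  obtain ⟨a, haY, ha⟩ := exists_nonisotropic hB h2 hY hne
  have hSnd := nd_span_singleton ha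
  have hSle : Submodule.span F {a} ≤ Y := by
    rw [Submodule.span_singleton_le_iff_mem]; exact haY
  have hY'nd := hSnd.inf_orth hB.isRefl hSle hY
  have hY'dim := hSnd.finrank_inf_orth hB.isRefl hSle
  rw [finrank_span_singleton (ne_zero_of_norm_ne ha)] at hY'dim
  have hne' : Y ⊓ B.orthogonal (Submodule.span F {a}) ≠ ⊥ := by
    intro h
    rw [h, finrank_bot] at hY'dim
    omega
  obtain ⟨b, hbY', hb⟩ := exists_nonisotropic hB h2 hY'nd hne'
  have hab : B a b = 0 := by
    have := (Submodule.mem_inf.mp hbY').2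
    rw [LinearMap.BilinForm.mem_orthogonal_iff] at this
    exact this a (Submodule.mem_span_singleton_self a)
  have hf2 : degree (C (B a a) * X ^ 2 : F[X]) = 2 := by
    rw [degree_C_mul_X_pow 2 ha]
    rfl
  have hg2 : degree (C (B b b) * X ^ 2 - C c : F[X]) = 2 := by
    rw [degree_sub_eq_left_of_degree_lt]
    · rw [degree_C_mul_X_pow 2 hb]
      rfl
    · rw [degree_C_mul_X_pow 2 hb]
      exact lt_of_le_of_lt degree_C_le (by norm_num)
  obtain ⟨x, y, hxy⟩ := FiniteField.exists_root_sum_quadratic hf2 hg2 (card_odd_of_two_ne h2)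
  simp only [eval_mul, eval_C, eval_pow, eval_X, eval_sub] at hxy
  refine ⟨x • a + y • b, Y.add_mem (Y.smul_mem x haY) (Y.smul_mem y (Submodule.mem_inf.mp hbY').1),
    ?_⟩
  simp only [map_add, map_smul, LinearMap.add_apply, LinearMap.smul_apply, smul_eq_mul]
  rw [hab, hB.eq b a, hab]
  linear_combination hxy

/-- subspaces without nonzero isotropic vectors -/
theorem nd_of_aniso {P : Submodule F V} (hP : ∀ u ∈ P, B u u = 0 → u = 0) : Nd B P := by
  rw [nd_iff]
  intro u hu hu'
  exact hP u hu (hu' u hu)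

theorem not_hyp_of_aniso {P : Submodule F V} (hP : ∀ u ∈ P, B u u = 0 → u = 0)
    (hpos : 0 < finrank F ↥P) : ¬ Hyp B P := by
  rintro ⟨U, hUP, hU, hUdim⟩
  have hUne : U ≠ ⊥ := by
    intro h
    rw [h, finrank_bot] at hUdim
    omega
  obtain ⟨u, hu, hu0⟩ := Submodule.exists_mem_ne_zero_of_ne_bot hUne
  exact hu0 (hP u (hUP hu) (hU u hu u hu))

/-- an anisotropic plane -/
theorem exists_aniso_plane (hB : B.IsSymm) (h2 : (2 : F) ≠ 0) {X : Submodule F V} (hX : Nd B X)
    (hdim : 3 ≤ finrank F ↥X) :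
    ∃ P : Submodule F V, P ≤ X ∧ Nd B P ∧ finrank F ↥P = 2 ∧ ¬ Hyp B P := by
  have hne : X ≠ ⊥ := by
    intro h
    rw [h, finrank_bot] at hdim
    omega
  obtain ⟨z, hzX, hz⟩ := exists_nonisotropic hB h2 hX hne
  have hSnd := nd_span_singleton hz
  have hSle : Submodule.span F {z} ≤ X := by
    rw [Submodule.span_singleton_le_iff_mem]; exact hzX
  have hYnd := hSnd.inf_orth hB.isRefl hSle hX
  have hYdim := hSnd.finrank_inf_orth hB.isRefl hSle
  rw [finrank_span_singleton (ne_zero_of_norm_ne hz)] at hYdim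
  obtain ⟨ν, hν⟩ := FiniteField.exists_nonsquare (F := F) (by
    intro h
    apply h2
    have := ringChar.Nat.cast_ringChar (R := F)
    rw [h] at this
    exact_mod_cast this)
  obtain ⟨w, hwY, hw⟩ := exists_norm_eq hB h2 hYnd (by omega) (-(ν * B z z))
  have hzw : B z w = 0 := by
    have := (Submodule.mem_inf.mp hwY).2
    rw [LinearMap.BilinForm.mem_orthogonal_iff] at this
    exact this z (Submodule.mem_span_singleton_self z)
  have hnorm : ∀ x y : F, B (x • z + y • w) (x • z + y • w) = B z z * (x ^ 2 - ν * y ^ 2) := by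
    intro x y
    simp only [map_add, map_smul, LinearMap.add_apply, LinearMap.smul_apply, smul_eq_mul]
    rw [hzw, hB.eq w z, hzw, hw]
    ring
  have hani : ∀ x y : F, B (x • z + y • w) (x • z + y • w) = 0 → x = 0 ∧ y = 0 := by
    intro x y h
    rw [hnorm] at h
    have h1 : x ^ 2 - ν * y ^ 2 = 0 := (mul_eq_zero.mp h).resolve_left hz
    have hy : y = 0 := by
      by_contra hy
      apply hν
      refine ⟨x / y, ?_⟩
      field_simp
      linear_combination -h1
    rw [hy] at h1
    have hx : x = 0 := by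
      have : x ^ 2 = 0 := by linear_combination h1
      exact pow_eq_zero_iff (two_ne_zero) |>.mp this
    exact ⟨hx, hy⟩
  have hli : LinearIndependent F ![z, w] := by
    rw [LinearIndependent.pair_iff]
    intro s t hst
    apply hani s t
    rw [hst, map_zero]
  have hrange : Set.range ![z, w] = {z, w} := by
    ext v
    simp only [Set.mem_range, Set.mem_insert_iff, Set.mem_singleton_iff]
    constructor
    · rintro ⟨j, rfl⟩
      fin_cases j
      · left; rfl
      · right; rfl
    · rintro (rfl | rfl)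
      · exact ⟨0, rfl⟩
      · exact ⟨1, rfl⟩
  have hPani : ∀ u ∈ Submodule.span F (Set.range ![z, w]), B u u = 0 → u = 0 := by
    intro u hu huu
    rw [hrange] at hu
    obtain ⟨s, t, rfl⟩ := Submodule.mem_span_pair.mp hu
    obtain ⟨hs, ht⟩ := hani s t huu
    rw [hs, ht, zero_smul, zero_smul, add_zero]
  have hPdim : finrank F ↥(Submodule.span F (Set.range ![z, w])) = 2 := by
    rw [finrank_span_eq_card hli, Fintype.card_fin]
  refine ⟨Submodule.span F (Set.range ![z, w]), ?_, nd_of_aniso hPani, hPdim,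
    not_hyp_of_aniso hPani (by omega)⟩
  rw [Submodule.span_le]
  rintro _ ⟨j, rfl⟩
  fin_cases j
  · exact hzX
  · exact (Submodule.mem_inf.mp hwY).1

/-- a nonzero isotropic vector in dimension at least three -/
theorem exists_isotropic_of_three {X : Submodule F V} (hdim : 3 ≤ finrank F ↥X) :
    ∃ u ∈ X, u ≠ 0 ∧ B u u = 0 := by
  obtain ⟨u, hu, hu0, h⟩ := exists_ne_zero_isotropic X 1 (fun _ => B) (by omega)
  exact ⟨u, hu, hu0, h 0⟩

/-- a hyperbolic plane through an isotropic vector -/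
theorem exists_hyp_plane_of_isotropic (hB : B.IsSymm) {X : Submodule F V} (hX : Nd B X) {u : V}
    (hu : u ∈ X) (hu0 : u ≠ 0) (huu : B u u = 0) :
    ∃ P : Submodule F V, P ≤ X ∧ Nd B P ∧ finrank F ↥P = 2 ∧ Hyp B P := by
  obtain ⟨P, hPX, huP, hPnd, hPdim⟩ := exists_plane_of_isotropic hB hX hu hu0 huu
  refine ⟨P, hPX, hPnd, hPdim, Submodule.span F {u}, ?_, ?_, ?_⟩
  · rw [Submodule.span_singleton_le_iff_mem]; exact huP
  · intro a ha b hb
    obtain ⟨s, rfl⟩ := Submodule.mem_span_singleton.mp ha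
    obtain ⟨t, rfl⟩ := Submodule.mem_span_singleton.mp hb
    simp only [map_smul, LinearMap.smul_apply, smul_eq_mul, huu, mul_zero]
  · rw [finrank_span_singleton hu0, hPdim]

theorem exists_hyp_plane (hB : B.IsSymm) {X : Submodule F V} (hX : Nd B X)
    (hdim : 3 ≤ finrank F ↥X) :
    ∃ P : Submodule F V, P ≤ X ∧ Nd B P ∧ finrank F ↥P = 2 ∧ Hyp B P := by
  obtain ⟨u, hu, hu0, huu⟩ := exists_isotropic_of_three (B := B) hdim
  exact exists_hyp_plane_of_isotropic hB hX hu hu0 huu

theorem sType_bot (hB : B.IsSymm) (h2 : (2 : F) ≠ 0) (hnd : B.Nondegenerate) :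
    SType B (⊥ : Submodule F V) 0 1 :=
  sType_of_hyp hB h2 hnd nd_bot (by simp) le_rfl orth_bot (by simp)

/-- nondegenerate subspaces of every even dimension and type inside a larger nondegenerate
space -/
theorem exists_typed_sub (hB : B.IsSymm) (h2 : (2 : F) ≠ 0) (hnd : B.Nondegenerate) :
    ∀ t : ℕ, ∀ X : Submodule F V, Nd B X → 2 * t + 1 ≤ finrank F ↥X →
      ∀ ε : ℤ, (ε = 1 ∨ (ε = -1 ∧ 0 < t)) →
      ∃ W : Submodule F V, W ≤ X ∧ Nd B W ∧ finrank F ↥W = 2 * t ∧ SType B W t ε := by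
  intro t
  induction t with
  | zero =>
    intro X _ _ ε hε
    rcases hε with rfl | ⟨-, h⟩
    · exact ⟨⊥, bot_le, nd_bot, by simp, sType_bot hB h2 hnd⟩
    · omega
  | succ t ih =>
    intro X hX hdim ε hε
    rcases Nat.eq_zero_or_pos t with ht | ht
    · subst ht
      rcases hε with rfl | ⟨rfl, -⟩
      · obtain ⟨P, hPX, hPnd, hPdim, hPhyp⟩ := exists_hyp_plane hB hX (by omega)
        exact ⟨P, hPX, hPnd, hPdim, (hyp_iff_sType hB h2 hnd hPnd hPdim).mp hPhyp⟩
      · obtain ⟨P, hPX, hPnd, hPdim, hPhyp⟩ := exists_aniso_plane hB h2 hX (by omega)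
        exact ⟨P, hPX, hPnd, hPdim, (not_hyp_iff_sType hB h2 hnd hPnd hPdim).mp hPhyp⟩
    · obtain ⟨P, hPX, hPnd, hPdim, hPhyp⟩ := exists_hyp_plane hB hX (by omega)
      have hPty : SType B P 1 1 := (hyp_iff_sType hB h2 hnd hPnd hPdim).mp hPhyp
      have hX'nd := hPnd.inf_orth hB.isRefl hPX hX
      have hX'dim := hPnd.finrank_inf_orth hB.isRefl hPX (M := X)
      have hε' : ε = 1 ∨ (ε = -1 ∧ 0 < t) := by
        rcases hε with h | ⟨h, -⟩
        · exact Or.inl h
        · exact Or.inr ⟨h, ht⟩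
      obtain ⟨W', hW'X, hW'nd, hW'dim, hW'ty⟩ := ih (X ⊓ B.orthogonal P) hX'nd (by omega) ε hε'
      have horth : Orth B W' P :=
        ((orth_inf_orth (B := B) (C := P) (M := X)).mono le_rfl hW'X).symm hB.isRefl
      refine ⟨W' ⊔ P, sup_le (hW'X.trans inf_le_left) hPX, hW'nd.sup hB.isRefl hPnd horth, ?_, ?_⟩
      · rw [finrank_sup_of_disjoint (horth.disjoint hW'nd), hW'dim, hPdim]
        ring
      · have := sType_sup hB h2 hW'nd hPnd horth hW'dim hPdim hW'ty hPty
        rwa [mul_one] at this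

end Cfsg.Agent.Helper94.Tn
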