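import Mathlib
import Cfsg.Agent.Helper94.TnC

set_option autoImplicit false
set_option linter.unusedSectionVars false
set_option linter.style.haveILetI false

/-!
# Nondegenerate invariant subspaces of the cyclotomic part and their types
-/

namespace Cfsg.Agent.Helper94.Tn

open Module Polynomial
open Cfsg.Agent.Helper59.InvChain Cfsg.Agent.Helper59.Elusive
open Cfsg.Agent.Helper99.SpStruct Cfsg.Agent.Helper99.RDecomp
open Cfsg.Agent.Helper94.Ti Cfsg.Agent.Helper94.Ts
open Cfsg.Agent.Helper44 Cfsg.Agent.Helper44.QType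

universe u v w

section cyclic

variable {F : Type u} [Field F]
variable {V : Type v} [AddCommGroup V] [Module F V] [FiniteDimensional F V]

/-- the cyclic submodule generated by a vector killed by an irreducible polynomial -/
theorem exists_cyclic_sub (y : Module.End F V) (P : F[X]) (hP : Irreducible P) {i : ℕ}
    (hdeg : P.natDegree = i) {z : V} (hz : (aeval y P) z = 0) :
    ∃ S : Submodule F V, z ∈ S ∧ Inv y S ∧ finrank F ↥S ≤ i ∧
      ∀ Y : Submodule F V, Inv y Y → z ∈ Y → S ≤ Y := by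
  have hipos : 0 < i := by rw [← hdeg]; exact hP.natDegree_pos
  have hlc : P.leadingCoeff ≠ 0 := leadingCoeff_ne_zero.mpr hP.ne_zero
  set Q : F[X] := C (P.leadingCoeff)⁻¹ * P with hQ
  have hQm : Q.Monic := monic_C_mul_of_mul_leadingCoeff_eq_one (inv_mul_cancel₀ hlc)
  have hQdeg : Q.natDegree = i := by
    rw [hQ, natDegree_C_mul (inv_ne_zero hlc), hdeg]
  have hQz : (aeval y Q) z = 0 := by
    rw [hQ, map_mul, Module.End.mul_apply, hz, map_zero]
  refine ⟨LinearMap.range (cyc y z i), ?_, ?_, ?_, ?_⟩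
  · refine ⟨⟨1, mem_degreeLT.mpr ?_⟩, ?_⟩
    · rw [degree_one]
      exact_mod_cast hipos
    · rw [cyc_apply]
      simp
  · rw [inv_iff]
    rintro _ ⟨h, rfl⟩
    rw [cyc_apply]
    have hdec : X * (h : F[X]) = (X * (h : F[X])) %ₘ Q + Q * ((X * (h : F[X])) /ₘ Q) :=
      (modByMonic_add_div _ Q).symm
    have hfw : y ((aeval y (h : F[X])) z) = (aeval y (X * (h : F[X]))) z := by
      rw [map_mul, aeval_X, Module.End.mul_apply]
    have hzero : (aeval y (Q * ((X * (h : F[X])) /ₘ Q))) z = 0 := by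
      rw [mul_comm, map_mul, Module.End.mul_apply, hQz, map_zero]
    rw [hfw, hdec, map_add, LinearMap.add_apply, hzero, add_zero]
    have hlt : ((X * (h : F[X])) %ₘ Q).degree < (i : WithBot ℕ) := by
      have := degree_modByMonic_lt (X * (h : F[X])) hQm
      rwa [degree_eq_natDegree hQm.ne_zero, hQdeg] at this
    exact ⟨⟨_, mem_degreeLT.mpr hlt⟩, rfl⟩
  · have h1 := LinearMap.finrank_range_le (cyc y z i)
    rw [LinearEquiv.finrank_eq (degreeLTEquiv F i)] at h1
    simpa using h1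
  · intro Y hY hzY
    rintro _ ⟨h, rfl⟩
    rw [cyc_apply]
    exact hY.aeval_mem _ hzY

end cyclic

variable {F : Type u} [Field F] [Fintype F]
variable {V : Type v} [AddCommGroup V] [Module F V] [FiniteDimensional F V]
variable {B : LinearMap.BilinForm F V} {r : ℕ} {y : Module.End F V}

/-- a nondegenerate irreducible invariant subspace, `i` even -/
theorem exists_nd_irr_even (h : OSetup B r y (orderOf ((Fintype.card F : ℕ) : ZMod r)))
    (hi : Even (orderOf ((Fintype.card F : ℕ) : ZMod r))) (h2 : (2 : F) ≠ 0)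
    {Y : Submodule F V} (hYinv : Inv y Y) (hYnd : Nd B Y) (hYc : Y ≤ cycSp r y) (hne : Y ≠ ⊥) :
    ∃ N : Submodule F V, N ≤ Y ∧ Inv y N ∧ Nd B N ∧
      finrank F ↥N = orderOf ((Fintype.card F : ℕ) : ZMod r) := by
  set i := orderOf ((Fintype.card F : ℕ) : ZMod r) with hidef
  have hipos := h.setup.c_pos
  obtain ⟨U₀, hU₀Y, hU₀inv, hU₀dim⟩ := exists_irr' h hYinv hYc hne
  have hU₀c : U₀ ≤ cycSp r y := hU₀Y.trans hYc
  have hU₀ne : U₀ ≠ ⊥ := by
    intro h0
    rw [h0, finrank_bot] at hU₀dim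
    omega
  obtain ⟨P, hPirr, hPdvd, hPne⟩ := exists_irreducible_ker_ne_bot y _ (cyclotomic r F) rfl
    (cyclotomic_ne_zero r F) U₀ hU₀inv hU₀ne (fun w hw => hU₀c hw)
  have hPdeg : P.natDegree = i := h.hp.2 P hPirr hPdvd
  -- the `P`-primary part of `Y` is nondegenerate
  obtain ⟨P', hP'⟩ := hPdvd
  have hsq : Squarefree (cyclotomic r F) := by
    have hsep : (X ^ r - 1 : F[X]).Separable := by
      have := Polynomial.separable_X_pow_sub_C (1 : F) h.setup.ne_zero one_ne_zero
      simpa using this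
    exact (hsep.of_dvd (cyclotomic.dvd_X_pow_sub_one r F)).squarefree
  have hcop : IsCoprime P P' := by
    rw [hPirr.coprime_iff_not_dvd]
    rintro ⟨P'', hP''⟩
    have h1 : P * P ∣ cyclotomic r F := ⟨P'', by rw [hP', hP'']; ring⟩
    exact hPirr.not_isUnit (hsq P h1)
  have hYPnd : Nd B (Y ⊓ LinearMap.ker (aeval y P)) :=
    h.nd_inf_ker hi hcop hYinv hYnd (fun w hw => by rw [← hP']; exact hYc hw)
  have hYPinv : Inv y (Y ⊓ LinearMap.ker (aeval y P)) := inv_inf hYinv (inv_ker_aeval y P)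
  have hYPne : Y ⊓ LinearMap.ker (aeval y P) ≠ ⊥ := by
    intro h0
    apply hPne
    rw [eq_bot_iff, ← h0]
    exact inf_le_inf_right _ hU₀Y
  obtain ⟨z, hzYP, hz⟩ := exists_nonisotropic h.symm h2 hYPnd hYPne
  have hzker : (aeval y P) z = 0 := LinearMap.mem_ker.mp (Submodule.mem_inf.mp hzYP).2
  obtain ⟨S, hzS, hSinv, hSdim, hSmin⟩ := exists_cyclic_sub y P hPirr hPdeg hzker
  have hSYP : S ≤ Y ⊓ LinearMap.ker (aeval y P) := hSmin _ hYPinv hzYP
  have hSY : S ≤ Y := hSYP.trans inf_le_left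
  have hSc : S ≤ cycSp r y := hSY.trans hYc
  have hSne : S ≠ ⊥ := by
    intro h0
    rw [h0, Submodule.mem_bot] at hzS
    exact ne_zero_of_norm_ne hz hzS
  have hSeq : finrank F ↥S = i := by
    obtain ⟨e, he⟩ := h.setup.dvd S hSinv hSc
    have hSpos : 0 < finrank F ↥S := by
      rw [Nat.pos_iff_ne_zero]
      intro h0
      exact hSne (Submodule.finrank_eq_zero.mp h0)
    rcases Nat.eq_zero_or_pos e with h0 | hpos
    · rw [h0, mul_zero] at he; omega
    · have : i ≤ i * e := Nat.le_mul_of_pos_right i hpos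
      omega
  refine ⟨S, hSY, hSinv, ?_, hSeq⟩
  -- the radical of `S` is a proper invariant subspace
  have hRinv : Inv y (S ⊓ B.orthogonal S) := inv_inf hSinv (h.inv_orthogonal hSinv)
  obtain ⟨e, he⟩ := h.setup.dvd _ hRinv (inf_le_left.trans hSc)
  have hRle : finrank F ↥(S ⊓ B.orthogonal S) ≤ i := by
    rw [← hSeq]; exact Submodule.finrank_mono inf_le_left
  have hR0 : finrank F ↥(S ⊓ B.orthogonal S) = 0 := by
    rcases Nat.eq_zero_or_pos e with h0 | hpos
    · rw [h0, mul_zero] at he; exact he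
    · exfalso
      have h1 : i ≤ i * e := Nat.le_mul_of_pos_right i hpos
      have h3 : S ⊓ B.orthogonal S = S :=
        Submodule.eq_of_le_of_finrank_eq inf_le_left (by omega)
      have h4 : z ∈ B.orthogonal S := by
        have : z ∈ S ⊓ B.orthogonal S := by rw [h3]; exact hzS
        exact (Submodule.mem_inf.mp this).2
      rw [LinearMap.BilinForm.mem_orthogonal_iff] at h4
      exact hz (h4 z hzS)
  unfold Nd
  rw [disjoint_iff]
  exact Submodule.finrank_eq_zero.mp hR0

/-- a nondegenerate invariant block -/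
theorem exists_nd_block (h : OSetup B r y (orderOf ((Fintype.card F : ℕ) : ZMod r)))
    (h2 : (2 : F) ≠ 0) {Y : Submodule F V} (hYinv : Inv y Y) (hYnd : Nd B Y)
    (hYc : Y ≤ cycSp r y) (hne : Y ≠ ⊥) :
    ∃ N : Submodule F V, N ≤ Y ∧ Inv y N ∧ Nd B N ∧
      finrank F ↥N = blockSize (orderOf ((Fintype.card F : ℕ) : ZMod r)) := by
  by_cases hi : Even (orderOf ((Fintype.card F : ℕ) : ZMod r))
  · rw [blockSize_even hi]
    exact exists_nd_irr_even h hi h2 hYinv hYnd hYc hne
  · rw [blockSize_odd hi]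
    have hpos : 1 ≤ finrank F ↥Y := by
      rw [Nat.one_le_iff_ne_zero]
      intro h0
      exact hne (Submodule.finrank_eq_zero.mp h0)
    obtain ⟨U₀, hU₀Y, hU₀inv, hU₀ti, hU₀dim⟩ := exists_ts_irr_odd h hi hYinv hYc hpos
    obtain ⟨C, hCY, hCinv, hCnd, -, -, hCdim⟩ :=
      (toRIso h).exists_compl_ti hYinv hYnd hU₀Y hU₀inv hU₀ti
    refine ⟨Y ⊓ B.orthogonal C, inf_le_left, inv_inf hYinv (h.inv_orthogonal hCinv),
      hCnd.inf_orth h.refl hCY hYnd, ?_⟩
    have := hCnd.finrank_inf_orth h.refl hCY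
    omega

/-- nondegenerate invariant subspaces of the cyclotomic part with any number of blocks -/
theorem exists_nd_inv_cyc (h : OSetup B r y (orderOf ((Fintype.card F : ℕ) : ZMod r)))
    (h2 : (2 : F) ≠ 0) :
    ∀ j : ℕ, j * blockSize (orderOf ((Fintype.card F : ℕ) : ZMod r)) ≤ finrank F ↥(cycSp r y) →
      ∃ X : Submodule F V, X ≤ cycSp r y ∧ Inv y X ∧ Nd B X ∧
        finrank F ↥X = j * blockSize (orderOf ((Fintype.card F : ℕ) : ZMod r)) := by
  set c := blockSize (orderOf ((Fintype.card F : ℕ) : ZMod r)) with hc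
  have hcpos : 0 < c := blockSize_pos h.setup.c_pos
  intro j
  induction j with
  | zero =>
    intro _
    exact ⟨⊥, bot_le, inv_bot y, nd_bot, by simp⟩
  | succ j ih =>
    intro hj
    have e1 : (j + 1) * c = j * c + c := by ring
    obtain ⟨X, hXc, hXinv, hXnd, hXdim⟩ := ih (by omega)
    have hYnd := hXnd.inf_orth h.refl hXc h.nd_cyc
    have hYdim := hXnd.finrank_inf_orth h.refl hXc
    have hYinv : Inv y (cycSp r y ⊓ B.orthogonal X) :=
      inv_inf (inv_cycSp r y) (h.inv_orthogonal hXinv)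
    have hYne : cycSp r y ⊓ B.orthogonal X ≠ ⊥ := by
      intro h0
      rw [h0, finrank_bot] at hYdim
      omega
    obtain ⟨N, hNY, hNinv, hNnd, hNdim⟩ := exists_nd_block h h2 hYinv hYnd inf_le_left hYne
    have horth : Orth B X N := (orth_inf_orth (B := B) (C := X) (M := cycSp r y)).mono le_rfl hNY
    refine ⟨X ⊔ N, sup_le hXc (hNY.trans inf_le_left), inv_sup hXinv hNinv,
      hXnd.sup h.refl hNnd horth, ?_⟩
    rw [finrank_sup_of_disjoint (horth.disjoint hXnd), hXdim, hNdim, e1]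

/-- fixed-point-free isometries of prime order determine the type -/
theorem sType_fpf (h : OSetup B r y (orderOf ((Fintype.card F : ℕ) : ZMod r)))
    (h2 : (2 : F) ≠ 0) (hrq : ¬ r ∣ Fintype.card F) {X : Submodule F V} (hXinv : Inv y X)
    (hXnd : Nd B X) (hXc : X ≤ cycSp r y) {e : ℕ} (hdim : finrank F ↥X = 2 * e) {ε : ℤ}
    (hε : SType B X e ε) : ((Fintype.card F : ℕ) : ZMod r) ^ e = ((ε : ℤ) : ZMod r) := by
  haveI : Fact r.Prime := ⟨h.setup.prime⟩
  let T : ↥X → ↥X := fun v => ⟨y v.1, hXinv.apply_mem v.2⟩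
  have hiter : ∀ (n : ℕ) (v : ↥X), ((T^[n] v : ↥X) : V) = (y ^ n) v.1 := by
    intro n
    induction n with
    | zero => intro v; rfl
    | succ n ih =>
      intro v
      rw [Function.iterate_succ_apply', pow_succ', Module.End.mul_apply]
      show y ((T^[n] v : ↥X) : V) = _
      rw [ih]
  have key := pow_eq_of_fpf (qOf B X) hdim (qOf_nd h.symm h2 hXnd) hε r
    (by rw [Nat.card_eq_fintype_card]; exact hrq) T
    (fun v => by
      rw [qOf_apply, qOf_apply]
      exact h.isom v.1 v.1)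
    (fun v => by
      apply Subtype.ext
      rw [hiter, h.setup.pow_eq]
      rfl)
    (fun v hv => by
      apply Subtype.ext
      have h1 : y v.1 = v.1 := congrArg Subtype.val hv
      have h3 : v.1 ∈ fixSp y ⊓ cycSp r y := ⟨mem_fixSp.mpr h1, hXc v.2⟩
      rw [h.disjoint_fix_cyc.eq_bot, Submodule.mem_bot] at h3
      exact h3)
  rw [Nat.card_eq_fintype_card] at key
  exact key

/-- the type of a nondegenerate invariant subspace of the cyclotomic part -/
theorem sType_one_iff_dvd (h : OSetup B r y (orderOf ((Fintype.card F : ℕ) : ZMod r)))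
    (h2 : (2 : F) ≠ 0) (hrq : ¬ r ∣ Fintype.card F) {X : Submodule F V} (hXinv : Inv y X)
    (hXnd : Nd B X) (hXc : X ≤ cycSp r y) {e : ℕ} (hdim : finrank F ↥X = 2 * e) :
    SType B X e 1 ↔ orderOf ((Fintype.card F : ℕ) : ZMod r) ∣ e := by
  haveI : Fact r.Prime := ⟨h.setup.prime⟩
  constructor
  · intro hty
    have := sType_fpf h h2 hrq hXinv hXnd hXc hdim hty
    rw [Int.cast_one] at this
    exact orderOf_dvd_of_pow_eq_one this
  · intro hdvd
    obtain ⟨ε, hε, hty⟩ := exists_sType h.symm h2 hXnd hdim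
    have h1 := sType_fpf h h2 hrq hXinv hXnd hXc hdim hty
    rw [orderOf_dvd_iff_pow_eq_one.mp hdvd] at h1
    rcases hε with rfl | rfl
    · exact hty
    · exfalso
      rw [Int.cast_neg, Int.cast_one] at h1
      have h3 : ((2 : ℕ) : ZMod r) = 0 := by
        have : (2 : ZMod r) = 1 - (-1) := by ring
        rw [Nat.cast_ofNat, this, ← h1, sub_self]
      rw [ZMod.natCast_eq_zero_iff] at h3
      have hr2 : r = 2 := (Nat.prime_dvd_prime_iff_eq h.setup.prime Nat.prime_two).mp h3
      obtain ⟨m, hm⟩ := h.odd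
      omega

end Cfsg.Agent.Helper94.Tn
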