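import Mathlib
import Cfsg.Agent.Helper94.TnD

set_option autoImplicit false
set_option linter.unusedSectionVars false
set_option linter.style.haveILetI false

/-!
# Involutions fix hyperbolic subspaces of every even dimension
-/

namespace Cfsg.Agent.Helper94.Tn

open Module Polynomial
open Cfsg.Agent.Helper59.InvChain Cfsg.Agent.Helper59.Elusive
open Cfsg.Agent.Helper99.SpStruct Cfsg.Agent.Helper99.RDecomp
open Cfsg.Agent.Helper94.Ti Cfsg.Agent.Helper94.Ts
open Cfsg.Agent.Helper44 Cfsg.Agent.Helper44.QType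

universe u v w

section general

variable {F : Type u} [Field F]
variable {V : Type v} [AddCommGroup V] [Module F V] [FiniteDimensional F V]
variable {B : LinearMap.BilinForm F V} {y : Module.End F V}

theorem invol_toRIso (h : InvolSetup B y) : RIso B y 2 where
  refl := h.symm.isRefl
  nondeg := h.nondeg
  isom := h.isom
  ne_zero := by exact_mod_cast h.two_ne
  pow_eq := by
    apply LinearMap.ext
    intro v
    rw [pow_two, Module.End.mul_apply, h.sq]
    rfl

theorem invol_inv_orthogonal (h : InvolSetup B y) {W : Submodule F V} (hW : Inv y W) :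
    Inv y (B.orthogonal W) := (invol_toRIso h).inv_orthogonal hW

theorem invol_nd_inf_fix (h : InvolSetup B y) {Y : Submodule F V} (hYinv : Inv y Y)
    (hY : Nd B Y) : Nd B (Y ⊓ fixSp y) := by
  rw [nd_iff]
  intro u hu hu'
  apply nd_iff.mp hY u hu.1
  intro w hw
  have hyw : y w ∈ Y := hYinv.apply_mem hw
  rw [h.decomp w, map_add, LinearMap.add_apply, map_smul, map_smul, LinearMap.smul_apply,
    LinearMap.smul_apply,
    hu' (w + y w) ⟨Y.add_mem hw hyw, h.add_mem_fix w⟩,
    (h.orth.symm h.symm.isRefl) (w - y w) (h.sub_mem_neg w) u hu.2]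
  simp

theorem invol_nd_inf_neg (h : InvolSetup B y) {Y : Submodule F V} (hYinv : Inv y Y)
    (hY : Nd B Y) : Nd B (Y ⊓ negSp y) := by
  rw [nd_iff]
  intro u hu hu'
  apply nd_iff.mp hY u hu.1
  intro w hw
  have hyw : y w ∈ Y := hYinv.apply_mem hw
  rw [h.decomp w, map_add, LinearMap.add_apply, map_smul, map_smul, LinearMap.smul_apply,
    LinearMap.smul_apply,
    hu' (w - y w) ⟨Y.sub_mem hw hyw, h.sub_mem_neg w⟩,
    h.orth (w + y w) (h.add_mem_fix w) u hu.2]
  simp

/-- the plane spanned by two orthogonal vectors of opposite norms -/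
theorem hyp_plane_of_pair (hB : B.IsSymm) {z w : V} (hz : B z z ≠ 0)
    (hw : B w w = -B z z) (hzw : B z w = 0) :
    Nd B (Submodule.span F {z, w}) ∧ finrank F ↥(Submodule.span F {z, w}) = 2 ∧
      Hyp B (Submodule.span F {z, w}) := by
  have hwz : B w z = 0 := by rw [hB.eq]; exact hzw
  have hw0 : B w w ≠ 0 := by rw [hw]; exact neg_ne_zero.mpr hz
  have hcoef : ∀ s t : F, (B z (s • z + t • w) = 0) → (B w (s • z + t • w) = 0) →
      s = 0 ∧ t = 0 := by
    intro s t h1 h3
    simp only [map_add, map_smul, smul_eq_mul, hzw, hwz, mul_zero, add_zero, zero_add] at h1 h3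
    exact ⟨(mul_eq_zero.mp h1).resolve_right hz, (mul_eq_zero.mp h3).resolve_right hw0⟩
  have hli : LinearIndependent F ![z, w] := by
    rw [LinearIndependent.pair_iff]
    intro s t hst
    apply hcoef s t <;> rw [hst, map_zero]
  have hrange : Set.range ![z, w] = {z, w} := by
    ext v
    simp only [Set.mem_range, Set.mem_insert_iff, Set.mem_singleton_iff]
    constructor
    · rintro ⟨j, rfl⟩
      fin_cases j
      · left; rfl
      · right; rfl
    · rintro (rfl | rfl)
      · exact ⟨0, rfl⟩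
      · exact ⟨1, rfl⟩
  have hdim : finrank F ↥(Submodule.span F {z, w}) = 2 := by
    rw [← hrange, finrank_span_eq_card hli, Fintype.card_fin]
  refine ⟨?_, hdim, ?_⟩
  · rw [nd_iff]
    intro u hu hu'
    obtain ⟨s, t, rfl⟩ := Submodule.mem_span_pair.mp hu
    obtain ⟨hs, ht⟩ := hcoef s t (hu' z (Submodule.subset_span (by simp)))
      (hu' w (Submodule.subset_span (by simp)))
    rw [hs, ht, zero_smul, zero_smul, add_zero]
  · have hne : z + w ≠ 0 := by
      intro h0
      have := LinearIndependent.pair_iff.mp hli 1 1 (by rw [one_smul, one_smul]; exact h0)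
      exact one_ne_zero this.1
    refine ⟨Submodule.span F {z + w}, ?_, ?_, ?_⟩
    · rw [Submodule.span_singleton_le_iff_mem]
      exact Submodule.add_mem _ (Submodule.subset_span (by simp)) (Submodule.subset_span (by simp))
    · intro a ha b hb
      obtain ⟨s, rfl⟩ := Submodule.mem_span_singleton.mp ha
      obtain ⟨t, rfl⟩ := Submodule.mem_span_singleton.mp hb
      simp only [map_add, map_smul, LinearMap.add_apply, LinearMap.smul_apply, smul_eq_mul, hzw,
        hwz, hw]
      ring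
    · rw [finrank_span_singleton hne, hdim]

theorem inv_span_pair {z w : V} (hz : y z ∈ Submodule.span F {z, w})
    (hw : y w ∈ Submodule.span F {z, w}) : Inv y (Submodule.span F {z, w}) := by
  unfold Cfsg.Agent.Helper59.InvChain.Inv
  rw [Submodule.map_span, Submodule.span_le]
  rintro _ ⟨v, hv, rfl⟩
  rcases hv with rfl | rfl
  · exact hz
  · exact hw

end general

variable {F : Type u} [Field F] [Fintype F]
variable {V : Type v} [AddCommGroup V] [Module F V] [FiniteDimensional F V]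
variable {B : LinearMap.BilinForm F V} {y : Module.End F V}

/-- an invariant hyperbolic plane -/
theorem invol_exists_inv_hyp_plane (h : InvolSetup B y) {Y : Submodule F V}
    (hYinv : Inv y Y) (hYnd : Nd B Y) (hdim : 3 ≤ finrank F ↥Y) :
    ∃ P : Submodule F V, P ≤ Y ∧ Inv y P ∧ Nd B P ∧ finrank F ↥P = 2 ∧ Hyp B P := by
  have hsplit := h.split hYinv
  have hfnd := invol_nd_inf_fix h hYinv hYnd
  have hnnd := invol_nd_inf_neg h hYinv hYnd
  by_cases h3 : 3 ≤ finrank F ↥(Y ⊓ fixSp y)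
  · obtain ⟨P, hP, hPnd, hPdim, hPhyp⟩ := exists_hyp_plane h.symm hfnd h3
    exact ⟨P, hP.trans inf_le_left, inv_of_le_fixSp (hP.trans inf_le_right), hPnd, hPdim, hPhyp⟩
  by_cases h3' : 3 ≤ finrank F ↥(Y ⊓ negSp y)
  · obtain ⟨P, hP, hPnd, hPdim, hPhyp⟩ := exists_hyp_plane h.symm hnnd h3'
    exact ⟨P, hP.trans inf_le_left, inv_of_le_negSp (hP.trans inf_le_right), hPnd, hPdim, hPhyp⟩
  -- one eigenspace is a plane, the other is nonzero
  have key : ∀ A A' : Submodule F V, A ≤ Y → A' ≤ Y → Nd B A → Nd B A' → Orth B A A' →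
      (∀ a ∈ A, ∀ a' ∈ A', Inv y (Submodule.span F {a, a'})) →
      1 ≤ finrank F ↥A → 2 ≤ finrank F ↥A' →
      ∃ P : Submodule F V, P ≤ Y ∧ Inv y P ∧ Nd B P ∧ finrank F ↥P = 2 ∧ Hyp B P := by
    intro A A' hAY hA'Y hAnd hA'nd hAA' hinv hA1 hA'2
    have hAne : A ≠ ⊥ := by
      intro h0
      rw [h0, finrank_bot] at hA1
      omega
    obtain ⟨z, hzA, hz⟩ := exists_nonisotropic h.symm h.two_ne hAnd hAne
    obtain ⟨w, hwA', hw⟩ := exists_norm_eq h.symm h.two_ne hA'nd hA'2 (-B z z)
    obtain ⟨hPnd, hPdim, hPhyp⟩ := hyp_plane_of_pair h.symm hz hw (hAA' z hzA w hwA')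
    refine ⟨Submodule.span F {z, w}, ?_, hinv z hzA w hwA', hPnd, hPdim, hPhyp⟩
    rw [Submodule.span_le]
    rintro v hv
    rcases hv with rfl | rfl
    · exact hAY hzA
    · exact hA'Y hwA'
  have hinv1 : ∀ a ∈ Y ⊓ fixSp y, ∀ a' ∈ Y ⊓ negSp y, Inv y (Submodule.span F {a, a'}) := by
    intro a ha a' ha'
    apply inv_span_pair
    · rw [mem_fixSp.mp ha.2]
      exact Submodule.subset_span (by simp)
    · rw [mem_negSp.mp ha'.2]
      exact Submodule.neg_mem _ (Submodule.subset_span (by simp))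
  have hinv2 : ∀ a ∈ Y ⊓ negSp y, ∀ a' ∈ Y ⊓ fixSp y, Inv y (Submodule.span F {a, a'}) := by
    intro a ha a' ha'
    apply inv_span_pair
    · rw [mem_negSp.mp ha.2]
      exact Submodule.neg_mem _ (Submodule.subset_span (by simp))
    · rw [mem_fixSp.mp ha'.2]
      exact Submodule.subset_span (by simp)
  have horth : Orth B (Y ⊓ fixSp y) (Y ⊓ negSp y) := h.orth.mono inf_le_right inf_le_right
  by_cases hcase : 2 ≤ finrank F ↥(Y ⊓ negSp y)
  · exact key _ _ inf_le_left inf_le_left hfnd hnnd horth hinv1 (by omega) hcase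
  · exact key _ _ inf_le_left inf_le_left hnnd hfnd (horth.symm h.symm.isRefl) hinv2 (by omega)
      (by omega)

theorem hyp_bot : Hyp B (⊥ : Submodule F V) := ⟨⊥, le_rfl, orth_bot, by simp⟩

/-- the orthogonal sum of two hyperbolic spaces is hyperbolic -/
theorem hyp_sup (hB : B.IsSymm) (h2 : (2 : F) ≠ 0) (hnd : B.Nondegenerate)
    {A C : Submodule F V} (hA : Nd B A) (hC : Nd B C) (hAC : Orth B A C) {e₁ e₂ : ℕ}
    (hdA : finrank F ↥A = 2 * e₁) (hdC : finrank F ↥C = 2 * e₂) (hAh : Hyp B A) (hCh : Hyp B C) :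
    Hyp B (A ⊔ C) := by
  have h1 := (hyp_iff_sType hB h2 hnd hA hdA).mp hAh
  have h3 := (hyp_iff_sType hB h2 hnd hC hdC).mp hCh
  have h4 := sType_sup hB h2 hA hC hAC hdA hdC h1 h3
  rw [mul_one] at h4
  refine (hyp_iff_sType hB h2 hnd (hA.sup hB.isRefl hC hAC) ?_).mpr h4
  rw [finrank_sup_of_disjoint (hAC.disjoint hA), hdA, hdC]
  ring

/-- an involutory isometry fixes hyperbolic subspaces of every even dimension below the
dimension of the space -/
theorem invol_exists_inv_hyp (h : InvolSetup B y) :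
    ∀ t : ℕ, ∀ Y : Submodule F V, Inv y Y → Nd B Y → 2 * t + 1 ≤ finrank F ↥Y →
      ∃ W : Submodule F V, W ≤ Y ∧ Inv y W ∧ Nd B W ∧ finrank F ↥W = 2 * t ∧ Hyp B W := by
  intro t
  induction t with
  | zero =>
    intro Y _ _ _
    exact ⟨⊥, bot_le, inv_bot y, nd_bot, by simp, hyp_bot⟩
  | succ t ih =>
    intro Y hYinv hYnd hdim
    obtain ⟨P, hPY, hPinv, hPnd, hPdim, hPhyp⟩ := invol_exists_inv_hyp_plane h hYinv hYnd (by omega)
    have hY'nd := hPnd.inf_orth h.symm.isRefl hPY hYnd
    have hY'dim := hPnd.finrank_inf_orth h.symm.isRefl hPY (M := Y)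
    have hY'inv : Inv y (Y ⊓ B.orthogonal P) := inv_inf hYinv (invol_inv_orthogonal h hPinv)
    obtain ⟨W', hW'Y, hW'inv, hW'nd, hW'dim, hW'hyp⟩ := ih _ hY'inv hY'nd (by omega)
    have horth : Orth B W' P :=
      ((orth_inf_orth (B := B) (C := P) (M := Y)).mono le_rfl hW'Y).symm h.symm.isRefl
    refine ⟨W' ⊔ P, sup_le (hW'Y.trans inf_le_left) hPY, inv_sup hW'inv hPinv,
      hW'nd.sup h.symm.isRefl hPnd horth, ?_, ?_⟩
    · rw [finrank_sup_of_disjoint (horth.disjoint hW'nd), hW'dim, hPdim]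
      ring
    · exact hyp_sup h.symm h.two_ne h.nondeg hW'nd hPnd horth hW'dim (e₂ := 1) hPdim hW'hyp hPhyp

end Cfsg.Agent.Helper94.Tn
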