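import Mathlib
import Cfsg.Agent.Helper94.TnE

set_option autoImplicit false
set_option linter.unusedSectionVars false
set_option linter.style.haveILetI false

/-!
# Counting hyperbolic pairs
-/

namespace Cfsg.Agent.Helper94.Tn

open Module Polynomial
open Cfsg.Agent.Helper59.InvChain Cfsg.Agent.Helper59.Elusive
open Cfsg.Agent.Helper99.SpStruct Cfsg.Agent.Helper99.RDecomp
open Cfsg.Agent.Helper94.Ti Cfsg.Agent.Helper94.Ts
open Cfsg.Agent.Helper44 Cfsg.Agent.Helper44.QType

universe u v w

section general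

variable {F : Type u} [Field F]
variable {V : Type v} [AddCommGroup V] [Module F V] [FiniteDimensional F V]
variable {B : LinearMap.BilinForm F V}

/-- hyperbolic pairs -/
def IsHPair (B : LinearMap.BilinForm F V) (p : V × V) : Prop :=
  B p.1 p.1 = 0 ∧ B p.2 p.2 = 0 ∧ B p.1 p.2 = 1

theorem mem_orthogonal_pair {u v x : V} :
    x ∈ B.orthogonal (Submodule.span F {u, v}) ↔ B u x = 0 ∧ B v x = 0 := by
  rw [LinearMap.BilinForm.mem_orthogonal_iff]
  constructor
  · intro h
    exact ⟨h u (Submodule.subset_span (by simp)), h v (Submodule.subset_span (by simp))⟩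
  · rintro ⟨h1, h3⟩ n hn
    obtain ⟨s, t, rfl⟩ := Submodule.mem_span_pair.mp hn
    show B (s • u + t • v) x = 0
    rw [map_add, LinearMap.add_apply, map_smul, map_smul, LinearMap.smul_apply,
      LinearMap.smul_apply, h1, h3]
    simp

/-- the plane of a hyperbolic pair -/
theorem hpair_plane (hB : B.IsSymm) {u v : V} (huu : B u u = 0) (hvv : B v v = 0)
    (huv : B u v = 1) :
    Nd B (Submodule.span F {u, v}) ∧ finrank F ↥(Submodule.span F {u, v}) = 2 ∧
      Hyp B (Submodule.span F {u, v}) := by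
  have hvu : B v u = 1 := by rw [hB.eq]; exact huv
  have hcoef : ∀ s t : F, (B u (s • u + t • v) = 0) → (B v (s • u + t • v) = 0) →
      s = 0 ∧ t = 0 := by
    intro s t h1 h3
    simp only [map_add, map_smul, smul_eq_mul, huu, hvv, huv, hvu, mul_zero, add_zero, zero_add,
      mul_one] at h1 h3
    exact ⟨h3, h1⟩
  have hli : LinearIndependent F ![u, v] := by
    rw [LinearIndependent.pair_iff]
    intro s t hst
    apply hcoef s t <;> rw [hst, map_zero]
  have hrange : Set.range ![u, v] = {u, v} := by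
    ext x
    simp only [Set.mem_range, Set.mem_insert_iff, Set.mem_singleton_iff]
    constructor
    · rintro ⟨j, rfl⟩
      fin_cases j
      · left; rfl
      · right; rfl
    · rintro (rfl | rfl)
      · exact ⟨0, rfl⟩
      · exact ⟨1, rfl⟩
  have hdim : finrank F ↥(Submodule.span F {u, v}) = 2 := by
    rw [← hrange, finrank_span_eq_card hli, Fintype.card_fin]
  have hu0 : u ≠ 0 := by
    intro h0
    rw [h0, map_zero, LinearMap.zero_apply] at huv
    exact zero_ne_one huv
  refine ⟨?_, hdim, ?_⟩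
  · rw [nd_iff]
    intro x hx hx'
    obtain ⟨s, t, rfl⟩ := Submodule.mem_span_pair.mp hx
    obtain ⟨hs, ht⟩ := hcoef s t (hx' u (Submodule.subset_span (by simp)))
      (hx' v (Submodule.subset_span (by simp)))
    rw [hs, ht, zero_smul, zero_smul, add_zero]
  · refine ⟨Submodule.span F {u}, ?_, ?_, ?_⟩
    · rw [Submodule.span_singleton_le_iff_mem]
      exact Submodule.subset_span (by simp)
    · intro a ha b hb
      obtain ⟨s, rfl⟩ := Submodule.mem_span_singleton.mp ha
      obtain ⟨t, rfl⟩ := Submodule.mem_span_singleton.mp hb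
      simp only [map_smul, LinearMap.smul_apply, smul_eq_mul, huu, mul_zero]
    · rw [finrank_span_singleton hu0, hdim]

/-- a hyperbolic partner of a nonzero isotropic vector -/
theorem exists_partner (hB : B.IsSymm) (h2 : (2 : F) ≠ 0) {X : Submodule F V} (hX : Nd B X)
    {u : V} (huX : u ∈ X) (hu0 : u ≠ 0) (huu : B u u = 0) :
    ∃ v₀ ∈ X, B v₀ v₀ = 0 ∧ B u v₀ = 1 := by
  have hex : ∃ w ∈ X, B w u ≠ 0 := by
    by_contra hcon
    push Not at hcon
    exact hu0 (nd_iff.mp hX u huX hcon)
  obtain ⟨w, hw, hwu⟩ := hex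
  have huw : B u w ≠ 0 := by rwa [hB.eq]
  obtain ⟨w', hw'X, huw'⟩ : ∃ w' ∈ X, B u w' = 1 :=
    ⟨(B u w)⁻¹ • w, X.smul_mem _ hw, by rw [map_smul, smul_eq_mul, inv_mul_cancel₀ huw]⟩
  have hw'u : B w' u = 1 := by rw [hB.eq]; exact huw'
  refine ⟨w' - (B w' w' / 2) • u, X.sub_mem hw'X (X.smul_mem _ huX), ?_, ?_⟩
  · simp only [map_sub, map_smul, LinearMap.sub_apply, LinearMap.smul_apply, smul_eq_mul, huu,
      huw', hw'u]
    field_simp
    ring
  · rw [map_sub, map_smul, huu, huw']
    simp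

end general

variable {F : Type u} [Field F] [Fintype F]
variable {V : Type v} [AddCommGroup V] [Module F V] [FiniteDimensional F V]
variable {B : LinearMap.BilinForm F V}

/-- the number of hyperbolic partners of a nonzero isotropic vector -/
theorem card_partners (hB : B.IsSymm) (h2 : (2 : F) ≠ 0) {X : Submodule F V} (hX : Nd B X)
    {n' : ℕ} (hdim : finrank F ↥X = n' + 2) {u : V} (huX : u ∈ X) (hu0 : u ≠ 0)
    (huu : B u u = 0) :
    Nat.card {v : V // v ∈ X ∧ B v v = 0 ∧ B u v = 1} = Fintype.card F ^ n' := by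
  classical
  haveI : Finite V := Module.finite_of_finite F
  obtain ⟨v₀, hv₀X, hv₀v₀, huv₀⟩ := exists_partner hB h2 hX huX hu0 huu
  have hv₀u : B v₀ u = 1 := by rw [hB.eq]; exact huv₀
  obtain ⟨hPnd, hPdim, -⟩ := hpair_plane hB huu hv₀v₀ huv₀
  have hPX : Submodule.span F {u, v₀} ≤ X := by
    rw [Submodule.span_le]
    rintro x hx
    rcases hx with rfl | rfl
    · exact huX
    · exact hv₀X
  have hYdim := hPnd.finrank_inf_orth hB.isRefl hPX
  rw [hPdim, hdim] at hYdim
  set Y := X ⊓ B.orthogonal (Submodule.span F {u, v₀}) with hY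
  have hYdim' : finrank F ↥Y = n' := by omega
  have hmemY : ∀ x : V, x ∈ Y ↔ x ∈ X ∧ B u x = 0 ∧ B v₀ x = 0 := by
    intro x
    rw [hY, Submodule.mem_inf, mem_orthogonal_pair]
  have e1 : ↥Y ≃ {v : V // v ∈ X ∧ B v v = 0 ∧ B u v = 1} :=
    { toFun := fun z => ⟨v₀ - (B (z : V) z / 2) • u + z, by
        obtain ⟨hzX, huz, hv₀z⟩ := (hmemY z.1).mp z.2
        have hzu : B (z : V) u = 0 := by rw [hB.eq]; exact huz
        have hzv₀ : B (z : V) v₀ = 0 := by rw [hB.eq]; exact hv₀z
        refine ⟨X.add_mem (X.sub_mem hv₀X (X.smul_mem _ huX)) hzX, ?_, ?_⟩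
        · simp only [map_add, map_sub, map_smul, LinearMap.add_apply, LinearMap.sub_apply,
            LinearMap.smul_apply, smul_eq_mul, huu, hv₀v₀, huv₀, hv₀u, huz, hv₀z, hzu, hzv₀]
          field_simp
          ring
        · simp only [map_add, map_sub, map_smul, smul_eq_mul, huu, huv₀, huz]
          ring⟩
      invFun := fun v => ⟨v.1 - v₀ - (B (v.1 - v₀) v₀) • u, by
        obtain ⟨hvX, hvv, huv⟩ := v.2
        rw [hmemY]
        refine ⟨X.sub_mem (X.sub_mem hvX hv₀X) (X.smul_mem _ huX), ?_, ?_⟩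
        · simp only [map_sub, map_smul, smul_eq_mul, huu, huv₀, huv]
          ring
        · have hv₀v : B v₀ v.1 = B v.1 v₀ := hB.eq _ _
          simp only [map_sub, map_smul, LinearMap.sub_apply, smul_eq_mul, hv₀v₀, hv₀u, hv₀v]
          ring⟩
      left_inv := fun z => by
        obtain ⟨hzX, huz, hv₀z⟩ := (hmemY z.1).mp z.2
        have hzv₀ : B (z : V) v₀ = 0 := by rw [hB.eq]; exact hv₀z
        apply Subtype.ext
        show v₀ - (B (z : V) z / 2) • u + z - v₀ -
          (B (v₀ - (B (z : V) z / 2) • u + z - v₀) v₀) • u = z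
        simp only [map_add, map_sub, map_smul, LinearMap.add_apply, LinearMap.sub_apply,
          LinearMap.smul_apply, smul_eq_mul, hv₀v₀, huv₀, hzv₀]
        module
      right_inv := fun v => by
        obtain ⟨hvX, hvv, huv⟩ := v.2
        have hvu : B v.1 u = 1 := by rw [hB.eq]; exact huv
        have hv₀v : B v₀ v.1 = B v.1 v₀ := hB.eq _ _
        apply Subtype.ext
        show v₀ - (B (v.1 - v₀ - (B (v.1 - v₀) v₀) • u) (v.1 - v₀ - (B (v.1 - v₀) v₀) • u) / 2) • u
          + (v.1 - v₀ - (B (v.1 - v₀) v₀) • u) = v.1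
        have hnorm : B (v.1 - v₀ - (B (v.1 - v₀) v₀) • u) (v.1 - v₀ - (B (v.1 - v₀) v₀) • u) =
            -2 * B v.1 v₀ := by
          simp only [map_sub, map_smul, LinearMap.sub_apply, LinearMap.smul_apply, smul_eq_mul,
            huu, hv₀v₀, huv₀, hv₀u, huv, hvu, hvv, hv₀v]
          ring
        rw [hnorm]
        have h3 : B (v.1 - v₀) v₀ = B v.1 v₀ := by
          rw [map_sub, LinearMap.sub_apply, hv₀v₀, sub_zero]
        rw [h3]
        have h4 : (-2 * B v.1 v₀ / 2) = -(B v.1 v₀) := by field_simp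
        rw [h4]
        module }
  rw [← Nat.card_congr e1, Module.natCard_eq_pow_finrank (K := F) (V := ↥Y), hYdim',
    Nat.card_eq_fintype_card]

end Cfsg.Agent.Helper94.Tn
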