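import Mathlib
import Cfsg.Agent.Helper94.TnF

set_option autoImplicit false
set_option linter.unusedSectionVars false
set_option linter.style.haveILetI false

/-!
# Hyperbolic frames and their number
-/

namespace Cfsg.Agent.Helper94.Tn

open Module Polynomial
open Cfsg.Agent.Helper59.InvChain Cfsg.Agent.Helper59.Elusive
open Cfsg.Agent.Helper99.SpStruct Cfsg.Agent.Helper99.RDecomp
open Cfsg.Agent.Helper94.Ti Cfsg.Agent.Helper94.Ts
open Cfsg.Agent.Helper44 Cfsg.Agent.Helper44.QType

universe u v w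

section general

variable {F : Type u} [Field F]
variable {V : Type v} [AddCommGroup V] [Module F V] [FiniteDimensional F V]
variable {B : LinearMap.BilinForm F V}

/-- hyperbolic frames: mutually orthogonal hyperbolic pairs -/
def IsHFrame (B : LinearMap.BilinForm F V) {e : ℕ} (s : Fin e → V × V) : Prop :=
  (∀ a, IsHPair B (s a)) ∧ ∀ a b, a ≠ b →
    B (s a).1 (s b).1 = 0 ∧ B (s a).1 (s b).2 = 0 ∧ B (s a).2 (s b).1 = 0 ∧ B (s a).2 (s b).2 = 0

/-- the vectors of a frame -/
def hVec {e : ℕ} (s : Fin e → V × V) : Fin e ⊕ Fin e → V :=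
  Sum.elim (fun a => (s a).1) (fun a => (s a).2)

/-- the span of a frame -/
def hSpan {e : ℕ} (s : Fin e → V × V) : Submodule F V := Submodule.span F (Set.range (hVec s))

theorem mem_orth_span_range {ι : Type*} (f : ι → V) (x : V) :
    x ∈ B.orthogonal (Submodule.span F (Set.range f)) ↔ ∀ k, B (f k) x = 0 := by
  rw [LinearMap.BilinForm.mem_orthogonal_iff]
  constructor
  · intro h k
    exact h (f k) (Submodule.subset_span ⟨k, rfl⟩)
  · intro h n hn
    have hle : Submodule.span F (Set.range f) ≤ LinearMap.ker (B.flip x) := by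
      rw [Submodule.span_le]
      rintro _ ⟨k, rfl⟩
      rw [SetLike.mem_coe, LinearMap.mem_ker]
      exact h k
    exact LinearMap.mem_ker.mp (hle hn)

theorem mem_orth_hSpan {e : ℕ} (s : Fin e → V × V) (x : V) :
    x ∈ B.orthogonal (hSpan (F := F) s) ↔ ∀ a, B (s a).1 x = 0 ∧ B (s a).2 x = 0 := by
  unfold hSpan
  rw [mem_orth_span_range]
  constructor
  · intro h a
    exact ⟨h (Sum.inl a), h (Sum.inr a)⟩
  · intro h k
    rcases k with a | a
    · exact (h a).1
    · exact (h a).2

theorem fst_mem_hSpan {e : ℕ} (s : Fin e → V × V) (a : Fin e) : (s a).1 ∈ hSpan (F := F) s :=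
  Submodule.subset_span ⟨Sum.inl a, rfl⟩

theorem snd_mem_hSpan {e : ℕ} (s : Fin e → V × V) (a : Fin e) : (s a).2 ∈ hSpan (F := F) s :=
  Submodule.subset_span ⟨Sum.inr a, rfl⟩

theorem hSpan_le {e : ℕ} (s : Fin e → V × V) {W : Submodule F V}
    (h : ∀ a, (s a).1 ∈ W ∧ (s a).2 ∈ W) : hSpan s ≤ W := by
  unfold hSpan
  rw [Submodule.span_le]
  rintro _ ⟨k, rfl⟩
  rcases k with a | a
  · exact (h a).1
  · exact (h a).2

/-- pairing a frame vector with a combination of frame vectors -/
theorem hframe_pair_sum (hB : B.IsSymm) {e : ℕ} {s : Fin e → V × V} (hs : IsHFrame B s)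
    (c : Fin e ⊕ Fin e → F) (a : Fin e) :
    B (s a).1 (∑ k, c k • hVec s k) = c (Sum.inr a) ∧
      B (s a).2 (∑ k, c k • hVec s k) = c (Sum.inl a) := by
  classical
  have h1 : ∀ b, B (s a).1 (s b).1 = 0 := by
    intro b
    by_cases hab : a = b
    · subst hab; exact (hs.1 a).1
    · exact (hs.2 a b hab).1
  have h3 : ∀ b, B (s a).2 (s b).2 = 0 := by
    intro b
    by_cases hab : a = b
    · subst hab; exact (hs.1 a).2.1
    · exact (hs.2 a b hab).2.2.2
  have h4 : ∀ b, B (s a).1 (s b).2 = if b = a then 1 else 0 := by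
    intro b
    by_cases hab : b = a
    · subst hab; rw [if_pos rfl]; exact (hs.1 b).2.2
    · rw [if_neg hab]; exact (hs.2 a b (Ne.symm hab)).2.1
  have h5 : ∀ b, B (s a).2 (s b).1 = if b = a then 1 else 0 := by
    intro b
    by_cases hab : b = a
    · subst hab; rw [if_pos rfl, hB.eq]; exact (hs.1 b).2.2
    · rw [if_neg hab]; exact (hs.2 a b (Ne.symm hab)).2.2.1
  constructor
  · rw [map_sum, Fintype.sum_sum_type]
    simp only [map_smul, smul_eq_mul, hVec, Sum.elim_inl, Sum.elim_inr, h1, h4, mul_zero,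
      Finset.sum_const_zero, zero_add, mul_ite, mul_one, Finset.sum_ite_eq', Finset.mem_univ,
      if_true]
  · rw [map_sum, Fintype.sum_sum_type]
    simp only [map_smul, smul_eq_mul, hVec, Sum.elim_inl, Sum.elim_inr, h3, h5, mul_zero,
      Finset.sum_const_zero, add_zero, mul_ite, mul_one, Finset.sum_ite_eq', Finset.mem_univ,
      if_true]

theorem hframe_linearIndependent (hB : B.IsSymm) {e : ℕ} {s : Fin e → V × V}
    (hs : IsHFrame B s) : LinearIndependent F (hVec s) := by
  rw [Fintype.linearIndependent_iff]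
  intro c hc k
  rcases k with a | a
  · have := (hframe_pair_sum hB hs c a).2
    rw [hc, map_zero] at this
    exact this.symm
  · have := (hframe_pair_sum hB hs c a).1
    rw [hc, map_zero] at this
    exact this.symm

theorem finrank_hSpan (hB : B.IsSymm) {e : ℕ} {s : Fin e → V × V} (hs : IsHFrame B s) :
    finrank F ↥(hSpan (F := F) s) = 2 * e := by
  unfold hSpan
  rw [finrank_span_eq_card (hframe_linearIndependent hB hs), Fintype.card_sum, Fintype.card_fin]
  ring

theorem nd_hSpan (hB : B.IsSymm) {e : ℕ} {s : Fin e → V × V} (hs : IsHFrame B s) :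
    Nd B (hSpan (F := F) s) := by
  rw [nd_iff]
  intro x hx hx'
  unfold hSpan at hx
  obtain ⟨c, rfl⟩ := (Submodule.mem_span_range_iff_exists_fun F).mp hx
  have hc : ∀ k, c k = 0 := by
    intro k
    rcases k with a | a
    · have := (hframe_pair_sum hB hs c a).2
      rw [hx' _ (snd_mem_hSpan s a)] at this
      exact this.symm
    · have := (hframe_pair_sum hB hs c a).1
      rw [hx' _ (fst_mem_hSpan s a)] at this
      exact this.symm
  simp [hc]

theorem hyp_hSpan (hB : B.IsSymm) {e : ℕ} {s : Fin e → V × V} (hs : IsHFrame B s) :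
    Hyp B (hSpan (F := F) s) := by
  refine ⟨Submodule.span F (Set.range fun a => (s a).1), ?_, ?_, ?_⟩
  · rw [Submodule.span_le]
    rintro _ ⟨a, rfl⟩
    exact fst_mem_hSpan s a
  · rw [orth_iff_le, Submodule.span_le]
    rintro _ ⟨b, rfl⟩
    rw [SetLike.mem_coe, mem_orth_span_range]
    intro a
    by_cases hab : a = b
    · subst hab; exact (hs.1 a).1
    · exact (hs.2 a b hab).1
  · have hli : LinearIndependent F (fun a => (s a).1) :=
      (hframe_linearIndependent hB hs).comp Sum.inl Sum.inl_injective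
    rw [finrank_span_eq_card hli, Fintype.card_fin, finrank_hSpan hB hs]

theorem isHFrame_cons (hB : B.IsSymm) {e : ℕ} (p : V × V) (s : Fin e → V × V) :
    IsHFrame B (Fin.cons p s : Fin (e + 1) → V × V) ↔
      IsHFrame B s ∧ (IsHPair B p ∧ p.1 ∈ B.orthogonal (hSpan (F := F) s) ∧
        p.2 ∈ B.orthogonal (hSpan (F := F) s)) := by
  rw [mem_orth_hSpan, mem_orth_hSpan]
  unfold IsHFrame
  constructor
  · rintro ⟨h1, h3⟩
    refine ⟨⟨fun a => ?_, fun a b hab => ?_⟩, ?_, fun a => ?_, fun a => ?_⟩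
    · have := h1 a.succ
      rwa [Fin.cons_succ] at this
    · have := h3 a.succ b.succ (fun h => hab (Fin.succ_injective _ h))
      rwa [Fin.cons_succ, Fin.cons_succ] at this
    · have := h1 0
      rwa [Fin.cons_zero] at this
    · have := h3 a.succ 0 (Fin.succ_ne_zero a)
      rw [Fin.cons_succ, Fin.cons_zero] at this
      exact ⟨this.1, this.2.2.1⟩
    · have := h3 a.succ 0 (Fin.succ_ne_zero a)
      rw [Fin.cons_succ, Fin.cons_zero] at this
      exact ⟨this.2.1, this.2.2.2⟩
  · rintro ⟨⟨h1, h3⟩, hp, hp1, hp2⟩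
    refine ⟨fun a => ?_, fun a b hab => ?_⟩
    · refine Fin.cases ?_ (fun a' => ?_) a
      · rw [Fin.cons_zero]; exact hp
      · rw [Fin.cons_succ]; exact h1 a'
    · revert hab
      refine Fin.cases ?_ (fun a' => ?_) a <;> refine Fin.cases ?_ (fun b' => ?_) b
      · intro hab; exact absurd rfl hab
      · intro _
        rw [Fin.cons_zero, Fin.cons_succ]
        refine ⟨?_, ?_, ?_, ?_⟩
        · rw [hB.eq]; exact (hp1 b').1
        · rw [hB.eq]; exact (hp1 b').2
        · rw [hB.eq]; exact (hp2 b').1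
        · rw [hB.eq]; exact (hp2 b').2
      · intro _
        rw [Fin.cons_zero, Fin.cons_succ]
        exact ⟨(hp1 a').1, (hp2 a').1, (hp1 a').2, (hp2 a').2⟩
      · intro hab
        rw [Fin.cons_succ, Fin.cons_succ]
        exact h3 a' b' (fun h => hab (by rw [h]))

end general

end Cfsg.Agent.Helper94.Tn
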