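import Mathlib
import Cfsg.Agent.Helper94.TnG

set_option autoImplicit false
set_option linter.unusedSectionVars false
set_option linter.style.haveILetI false

/-!
# The number of hyperbolic frames of an odd-dimensional space
-/

namespace Cfsg.Agent.Helper94.Tn

open Module Polynomial
open Cfsg.Agent.Helper59.InvChain Cfsg.Agent.Helper59.Elusive
open Cfsg.Agent.Helper99.SpStruct Cfsg.Agent.Helper99.RDecomp
open Cfsg.Agent.Helper94.Ti Cfsg.Agent.Helper94.Ts
open Cfsg.Agent.Helper44 Cfsg.Agent.Helper44.QType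

universe u v w

variable {F : Type u} [Field F] [Fintype F]
variable {V : Type v} [AddCommGroup V] [Module F V] [FiniteDimensional F V]
variable {B : LinearMap.BilinForm F V}

/-- nonzero isotropic vectors of a nondegenerate subspace of odd dimension -/
theorem card_isotropic_ne_zero (hB : B.IsSymm) (h2 : (2 : F) ≠ 0) {X : Submodule F V}
    (hX : Nd B X) {e : ℕ} (hdim : finrank F ↥X = 2 * e + 1) :
    Nat.card {u : V // (u ∈ X ∧ B u u = 0) ∧ u ≠ 0} = Fintype.card F ^ (2 * e) - 1 := by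
  classical
  haveI : Finite V := Module.finite_of_finite F
  have h1 : Nat.card {u : V // (u ∈ X ∧ B u u = 0) ∧ u ≠ 0} =
      ({v : V | v ∈ X ∧ B v v = 0} \ {0}).ncard := by
    rw [← Nat.card_coe_set_eq]
    rfl
  have h0 : (0 : V) ∈ {v : V | v ∈ X ∧ B v v = 0} := ⟨X.zero_mem, by simp⟩
  rw [h1, Set.ncard_sdiff_singleton_of_mem h0, ← Nat.card_coe_set_eq]
  have e1 : Nat.card ↥{v : V | v ∈ X ∧ B v v = 0} = Nat.card {v : V // v ∈ X ∧ B v v = 0} := rfl
  rw [e1, card_isotropic_of_nd_odd hB h2 hX hdim]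

/-- the number of hyperbolic pairs in a nondegenerate subspace of odd dimension -/
theorem card_hpairs (hB : B.IsSymm) (h2 : (2 : F) ≠ 0) {X : Submodule F V} (hX : Nd B X)
    {d' : ℕ} (hdim : finrank F ↥X = 2 * d' + 3) :
    Nat.card {p : V × V // IsHPair B p ∧ p.1 ∈ X ∧ p.2 ∈ X} =
      (Fintype.card F ^ (2 * d' + 2) - 1) * Fintype.card F ^ (2 * d' + 1) := by
  classical
  haveI : Finite V := Module.finite_of_finite F
  let e1 : {p : V × V // IsHPair B p ∧ p.1 ∈ X ∧ p.2 ∈ X} ≃
      Σ u : {u : V // (u ∈ X ∧ B u u = 0) ∧ u ≠ 0},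
        {v : V // v ∈ X ∧ B v v = 0 ∧ B u.1 v = 1} :=
    { toFun := fun p => ⟨⟨p.1.1, ⟨p.2.2.1, p.2.1.1⟩, by
          intro h0
          have := p.2.1.2.2
          rw [h0, map_zero, LinearMap.zero_apply] at this
          exact zero_ne_one this⟩, ⟨p.1.2, p.2.2.2, p.2.1.2.1, p.2.1.2.2⟩⟩
      invFun := fun x => ⟨(x.1.1, x.2.1), ⟨x.1.2.1.2, x.2.2.2.1, x.2.2.2.2⟩, x.1.2.1.1, x.2.2.1⟩
      left_inv := fun p => rfl
      right_inv := fun x => rfl }
  haveI : Fintype {u : V // (u ∈ X ∧ B u u = 0) ∧ u ≠ 0} := Fintype.ofFinite _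
  rw [Nat.card_congr e1, Nat.card_sigma]
  have hfib : ∀ u : {u : V // (u ∈ X ∧ B u u = 0) ∧ u ≠ 0},
      Nat.card {v : V // v ∈ X ∧ B v v = 0 ∧ B u.1 v = 1} = Fintype.card F ^ (2 * d' + 1) := by
    intro u
    exact card_partners hB h2 hX (by omega) u.2.1.1 u.2.2 u.2.1.2
  rw [Finset.sum_congr rfl (fun u _ => hfib u), Finset.sum_const, Finset.card_univ,
    ← Nat.card_eq_fintype_card, smul_eq_mul,
    card_isotropic_ne_zero hB h2 hX (e := d' + 1) (by omega)]
  congr 2

variable (B)

/-- forgetting the first pair of a frame -/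
noncomputable def hTailMap (hB : B.IsSymm) (e : ℕ) :
    {s : Fin (e + 1) → V × V // IsHFrame B s} → {s : Fin e → V × V // IsHFrame B s} :=
  fun s => ⟨Fin.tail s.1, by
    have h := s.2
    rw [← Fin.cons_self_tail s.1] at h
    exact ((isHFrame_cons hB _ _).mp h).1⟩

/-- the fibre of `hTailMap` -/
noncomputable def hTailFiberEquiv (hB : B.IsSymm) (e : ℕ)
    (s : {s : Fin e → V × V // IsHFrame B s}) :
    {s' : {s' : Fin (e + 1) → V × V // IsHFrame B s'} // hTailMap B hB e s' = s} ≃
      {p : V × V // IsHPair B p ∧ p.1 ∈ B.orthogonal (hSpan (F := F) s.1) ∧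
        p.2 ∈ B.orthogonal (hSpan (F := F) s.1)} where
  toFun s' := ⟨s'.1.1 0, by
    have h := s'.1.2
    rw [← Fin.cons_self_tail s'.1.1] at h
    have h2 := ((isHFrame_cons hB _ _).mp h).2
    have h3 : Fin.tail s'.1.1 = s.1 := congrArg Subtype.val s'.2
    rwa [h3] at h2⟩
  invFun p := ⟨⟨Fin.cons p.1 s.1, (isHFrame_cons hB _ _).mpr ⟨s.2, p.2⟩⟩, by
    apply Subtype.ext
    show Fin.tail (Fin.cons p.1 s.1 : Fin (e + 1) → V × V) = s.1
    exact Fin.tail_cons _ _⟩
  left_inv s' := by
    apply Subtype.ext; apply Subtype.ext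
    have h3 : Fin.tail s'.1.1 = s.1 := congrArg Subtype.val s'.2
    show Fin.cons (s'.1.1 0) s.1 = s'.1.1
    rw [← h3]
    exact Fin.cons_self_tail _
  right_inv p := by
    apply Subtype.ext
    show (Fin.cons p.1 s.1 : Fin (e + 1) → V × V) 0 = p.1
    exact Fin.cons_zero _ _

/-- the number of hyperbolic frames -/
theorem card_hFrame (hB : B.IsSymm) (h2 : (2 : F) ≠ 0) (hnd : B.Nondegenerate) {d : ℕ}
    (hodd : finrank F V = 2 * d + 1) (e : ℕ) (he : e ≤ d) :
    Nat.card {s : Fin e → V × V // IsHFrame B s} =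
      ∏ k : Fin e, ((Fintype.card F ^ (2 * (d - k.val)) - 1) *
        Fintype.card F ^ (2 * (d - k.val) - 1)) := by
  classical
  haveI : Finite V := Module.finite_of_finite F
  induction e with
  | zero =>
    rw [Finset.univ_eq_empty, Finset.prod_empty]
    haveI : Unique {s : Fin 0 → V × V // IsHFrame B s} :=
      { default := ⟨Fin.elim0, fun a => a.elim0, fun a => a.elim0⟩
        uniq := fun s => Subtype.ext (funext fun a => a.elim0) }
    exact Nat.card_unique
  | succ e ih =>
    haveI : Fintype {s : Fin e → V × V // IsHFrame B s} := Fintype.ofFinite _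
    rw [Nat.card_congr (Equiv.sigmaFiberEquiv (hTailMap B hB e)).symm, Nat.card_sigma]
    have hfib : ∀ s : {s : Fin e → V × V // IsHFrame B s},
        Nat.card {s' : {s' : Fin (e + 1) → V × V // IsHFrame B s'} // hTailMap B hB e s' = s} =
          (Fintype.card F ^ (2 * (d - e)) - 1) * Fintype.card F ^ (2 * (d - e) - 1) := by
      intro s
      rw [Nat.card_congr (hTailFiberEquiv B hB e s)]
      have hXnd : Nd B (B.orthogonal (hSpan (F := F) s.1)) := by
        have := (nd_hSpan hB s.2).inf_orth hB.isRefl le_top (nd_top_of_nondeg' hnd)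
        rwa [top_inf_eq] at this
      have hXdim : finrank F ↥(B.orthogonal (hSpan (F := F) s.1)) = 2 * (d - e - 1) + 3 := by
        have := LinearMap.BilinForm.finrank_orthogonal hnd (hSpan (F := F) s.1)
        rw [finrank_hSpan hB s.2, hodd] at this
        omega
      rw [card_hpairs hB h2 hXnd hXdim]
      have e1 : 2 * (d - e - 1) + 2 = 2 * (d - e) := by omega
      have e2 : 2 * (d - e - 1) + 1 = 2 * (d - e) - 1 := by omega
      rw [e1, e2]
    rw [Finset.sum_congr rfl (fun s _ => hfib s), Finset.sum_const, Finset.card_univ,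
      ← Nat.card_eq_fintype_card, ih (by omega), smul_eq_mul, Fin.prod_univ_castSucc]
    simp only [Fin.val_castSucc, Fin.val_last]

end Cfsg.Agent.Helper94.Tn
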