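import Cfsg.Agent.Helper94.OrD3

set_option autoImplicit false
set_option linter.unusedSectionVars false

/-!
# Block diagonal isometries of the hyperbolic form, elements of odd order of `Ω⁺`
-/

namespace Cfsg.Agent.Helper94.OrD

open Matrix QuadraticMap Module Cfsg.Agent.Helper13 Cfsg.Agent.Helper45.OmegaParity
open Cfsg.Agent.Helper44 Cfsg.Agent.Helper94.OrC

variable {F : Type*} [Field F] {d : ℕ}

theorem fromBlocks_diag_pow' (A D : Matrix (Fin d) (Fin d) F) (n : ℕ) :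
    (fromBlocks A 0 0 D) ^ n = fromBlocks (A ^ n) 0 0 (D ^ n) := by
  induction n with
  | zero => simp [fromBlocks_one]
  | succ n ih =>
    rw [pow_succ, ih, fromBlocks_multiply, pow_succ, pow_succ]
    simp

/-- the block diagonal matrix `diag(B, B'ᵀ)` with `B' = B⁻¹` as an element of `GL` -/
def diagGL (B B' : Matrix (Fin d) (Fin d) F) (h1 : B * B' = 1) (h2 : B' * B = 1) :
    GL (Fin d ⊕ Fin d) F :=
  ⟨fromBlocks B 0 0 B'ᵀ, fromBlocks B' 0 0 Bᵀ, by
    rw [fromBlocks_multiply, h1, ← Matrix.transpose_mul, h1]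
    simp [fromBlocks_one], by
    rw [fromBlocks_multiply, h2, ← Matrix.transpose_mul, h2]
    simp [fromBlocks_one]⟩

theorem diagGL_coe (B B' : Matrix (Fin d) (Fin d) F) (h1 : B * B' = 1) (h2 : B' * B = 1) :
    ((diagGL B B' h1 h2 : GL (Fin d ⊕ Fin d) F) : Matrix (Fin d ⊕ Fin d) (Fin d ⊕ Fin d) F)
      = fromBlocks B 0 0 B'ᵀ := rfl

theorem diag_mulVec_inl (A D : Matrix (Fin d) (Fin d) F) (v : Fin d ⊕ Fin d → F) :
    (fromBlocks A 0 0 D *ᵥ v) ∘ Sum.inl = A *ᵥ (v ∘ Sum.inl) := by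
  rw [fromBlocks_mulVec]
  funext i
  simp

theorem diag_mulVec_inr (A D : Matrix (Fin d) (Fin d) F) (v : Fin d ⊕ Fin d → F) :
    (fromBlocks A 0 0 D *ᵥ v) ∘ Sum.inr = D *ᵥ (v ∘ Sum.inr) := by
  rw [fromBlocks_mulVec]
  funext i
  simp

theorem diagGL_isometry (B B' : Matrix (Fin d) (Fin d) F) (h1 : B * B' = 1) (h2 : B' * B = 1)
    (v : Fin d ⊕ Fin d → F) :
    Cfsg.quadFormPlus d F (((diagGL B B' h1 h2 : GL (Fin d ⊕ Fin d) F) :
      Matrix (Fin d ⊕ Fin d) (Fin d ⊕ Fin d) F) *ᵥ v) = Cfsg.quadFormPlus d F v := by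
  rw [diagGL_coe, quadFormPlus_eq_dot, quadFormPlus_eq_dot, diag_mulVec_inl, diag_mulVec_inr,
    ← Matrix.vecMul_transpose, ← Matrix.dotProduct_mulVec, Matrix.mulVec_mulVec,
    ← Matrix.transpose_mul, h2, Matrix.transpose_one, Matrix.one_mulVec]

/-- the block diagonal isometry -/
def diagIso (B B' : Matrix (Fin d) (Fin d) F) (h1 : B * B' = 1) (h2 : B' * B = 1) :
    ↥(Cfsg.isometryGroup F (Cfsg.quadFormPlus d F)) :=
  ⟨diagGL B B' h1 h2, (Helper13.mem_isometryGroup_iff _ _).mpr (diagGL_isometry B B' h1 h2)⟩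

theorem diagGL_pow_eq_one (B B' : Matrix (Fin d) (Fin d) F) (h1 : B * B' = 1) (h2 : B' * B = 1)
    {r : ℕ} (hB : B ^ r = 1) : diagGL B B' h1 h2 ^ r = 1 := by
  have hB' : B' ^ r = 1 := by
    have hc : Commute B' B := by
      show B' * B = B * B'
      rw [h1, h2]
    calc B' ^ r = B' ^ r * B ^ r := by rw [hB, mul_one]
      _ = (B' * B) ^ r := (hc.mul_pow r).symm
      _ = 1 := by rw [h2, one_pow]
  apply Units.ext
  rw [Units.val_pow_eq_pow_val, diagGL_coe, fromBlocks_diag_pow', hB, ← Matrix.transpose_pow, hB',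
    Matrix.transpose_one, fromBlocks_one, Units.val_one]

section fin

variable [Fintype F] [CharP F 2]

/-- elements of odd order lie in `Ω` -/
theorem mem_Omega_of_odd_order_aux {ι : Type} [Fintype ι] [DecidableEq ι] (Q : QuadraticForm F (ι → F))
    (hQ : (QuadraticMap.polarBilin Q).Nondegenerate)
    (h : Fintype.card F ≠ 2 ∨ Fintype.card ι ≠ 4)
    (g : ↥(Cfsg.isometryGroup F ⇑Q)) {r : ℕ} (hr : Odd r) (hg : g ^ r = 1) :
    g ∈ Cfsg.Omega F ⇑Q := by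
  rw [mem_Omega_iff_parityHom Q hQ h g]
  have h1 : (parityHom Q hQ h g) ^ r = 1 := by
    rw [← map_pow, hg, map_one]
  have key : ∀ a : Multiplicative (ZMod 2), a ^ 2 = 1 := by decide
  obtain ⟨j, rfl⟩ := hr
  rw [pow_succ, pow_mul, key, one_pow, one_mul] at h1
  exact h1

theorem mem_Omega_of_odd_order (h : Fintype.card F ≠ 2 ∨ d ≠ 2)
    (g : ↥(Cfsg.isometryGroup F (Cfsg.quadFormPlus d F))) {r : ℕ} (hr : Odd r) (hg : g ^ r = 1) :
    g ∈ Cfsg.Omega F (Cfsg.quadFormPlus d F) :=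
  mem_Omega_of_odd_order_aux (plusForm d F) (nondegenerate_plusForm d) (card_ne_four h) g hr hg

theorem diagGL_not_scalar (B B' : Matrix (Fin d) (Fin d) F) (h1 : B * B' = 1) (h2 : B' * B = 1)
    (hd : 0 < d) (hB1 : B ≠ 1) (z : F) :
    ((diagGL B B' h1 h2 : GL (Fin d ⊕ Fin d) F) : Matrix (Fin d ⊕ Fin d) (Fin d ⊕ Fin d) F)
      ≠ z • (1 : Matrix (Fin d ⊕ Fin d) (Fin d ⊕ Fin d) F) := by
  intro hz
  rw [diagGL_coe, ← fromBlocks_one, fromBlocks_smul, fromBlocks_inj] at hz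
  obtain ⟨hB, -, -, hB'⟩ := hz
  have hB'' : B' = z • (1 : Matrix (Fin d) (Fin d) F) := by
    have := congrArg Matrix.transpose hB'
    rwa [Matrix.transpose_transpose, Matrix.transpose_smul, Matrix.transpose_one] at this
  rw [hB, hB'', Matrix.smul_mul, Matrix.mul_smul, Matrix.one_mul, smul_smul] at h1
  have h3 : z * z = 1 := by
    have := congrFun (congrFun h1 ⟨0, hd⟩) ⟨0, hd⟩
    simpa using this
  have h4 : z = 1 := sq_eq_one_char_two (by rw [pow_two]; exact h3)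
  rw [h4, one_smul] at hB
  exact hB1 hB

/-- no invariant nonsingular line -/
theorem diagGL_no_invariant_line (B B' : Matrix (Fin d) (Fin d) F) (h1 : B * B' = 1) (h2 : B' * B = 1)
    (hP : ∀ (c : F) (u w : Fin d → F), B *ᵥ u = c • u → B'ᵀ *ᵥ w = c • w → u = 0 ∨ w = 0)
    (W : Submodule F (Fin d ⊕ Fin d → F)) (hW : finrank F ↥W = 1)
    (hns : ∃ v ∈ W, Cfsg.quadFormPlus d F v ≠ 0)
    (hinv : W.map (Matrix.toLin' ((diagGL B B' h1 h2 : GL (Fin d ⊕ Fin d) F) :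
      Matrix (Fin d ⊕ Fin d) (Fin d ⊕ Fin d) F)) ≤ W) : False := by
  obtain ⟨v, hvW, hQv⟩ := hns
  have hv0 : v ≠ 0 := by
    rintro rfl
    apply hQv
    unfold Cfsg.quadFormPlus
    simp
  obtain ⟨c, hc⟩ := exists_eigen_of_invariant_line _ W hW hvW hv0 hinv
  rw [diagGL_coe] at hc
  have hl : B *ᵥ (v ∘ Sum.inl) = c • (v ∘ Sum.inl) := by
    rw [← diag_mulVec_inl B B'ᵀ v, hc]
    rfl
  have hr : B'ᵀ *ᵥ (v ∘ Sum.inr) = c • (v ∘ Sum.inr) := by
    rw [← diag_mulVec_inr B B'ᵀ v, hc]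
    rfl
  apply hQv
  rw [quadFormPlus_eq_dot]
  rcases hP c _ _ hl hr with h0 | h0
  · rw [h0, zero_dotProduct]
  · rw [h0, dotProduct_zero]

end fin

end Cfsg.Agent.Helper94.OrD
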