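import Mathlib
import Cfsg.Agent.Helper94.TnH

set_option autoImplicit false
set_option linter.unusedSectionVars false
set_option linter.style.haveILetI false

/-!
# The number of hyperbolic subspaces of an odd-dimensional space (divisibility)
-/

namespace Cfsg.Agent.Helper94.Tn

open Module Polynomial
open Cfsg.Agent.Helper59.InvChain Cfsg.Agent.Helper59.Elusive
open Cfsg.Agent.Helper99.SpStruct Cfsg.Agent.Helper99.RDecomp
open Cfsg.Agent.Helper94.Ti Cfsg.Agent.Helper94.Ts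
open Cfsg.Agent.Helper44 Cfsg.Agent.Helper44.QType

universe u v w

variable {F : Type u} [Field F] [Fintype F]
variable {V : Type v} [AddCommGroup V] [Module F V] [FiniteDimensional F V]
variable {B : LinearMap.BilinForm F V}

/-- isometries for `qOf` preserve `B` -/
theorem isom_of_qOf (hB : B.IsSymm) (h2 : (2 : F) ≠ 0) {W W' : Submodule F V}
    (g : ↥W ≃ₗ[F] ↥W') (hg : ∀ w, qOf B W' (g w) = qOf B W w) (w₁ w₂ : ↥W) :
    B (g w₁ : V) (g w₂ : V) = B (w₁ : V) (w₂ : V) := by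
  have h1 := hg (w₁ + w₂)
  have h3 := hg w₁
  have h4 := hg w₂
  rw [map_add] at h1
  simp only [qOf_apply, Submodule.coe_add, map_add, LinearMap.add_apply] at h1 h3 h4
  rw [hB.eq (g w₂ : V) (g w₁ : V), hB.eq (w₂ : V) (w₁ : V), h3, h4] at h1
  have h5 : (2 : F) * B (g w₁ : V) (g w₂ : V) = 2 * B (w₁ : V) (w₂ : V) := by
    linear_combination h1
  exact mul_left_cancel₀ h2 h5

/-- frames inside a subspace -/
def InFrames (B : LinearMap.BilinForm F V) (W : Submodule F V) (e : ℕ) : Type v :=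
  {s : Fin e → V × V // IsHFrame B s ∧ ∀ a, (s a).1 ∈ W ∧ (s a).2 ∈ W}

theorem card_in_le (hB : B.IsSymm) (h2 : (2 : F) ≠ 0) {W W' : Submodule F V}
    (g : ↥W ≃ₗ[F] ↥W') (hg : ∀ w, qOf B W' (g w) = qOf B W w) (e : ℕ) :
    Nat.card (InFrames B W e) ≤ Nat.card (InFrames B W' e) := by
  classical
  haveI : Finite V := Module.finite_of_finite F
  haveI : Finite (InFrames B W' e) := by unfold InFrames; infer_instance
  have hiso := isom_of_qOf hB h2 g hg
  let φ : InFrames B W e → InFrames B W' e := fun s =>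
    ⟨fun a => ((g ⟨(s.1 a).1, (s.2.2 a).1⟩ : V), (g ⟨(s.1 a).2, (s.2.2 a).2⟩ : V)), by
      refine ⟨⟨fun a => ?_, fun a b hab => ?_⟩, fun a => ⟨Subtype.coe_prop _, Subtype.coe_prop _⟩⟩
      · obtain ⟨h1, h3, h4⟩ := s.2.1.1 a
        refine ⟨?_, ?_, ?_⟩
        · show B (g _ : V) (g _ : V) = 0
          rw [hiso]; exact h1
        · show B (g _ : V) (g _ : V) = 0
          rw [hiso]; exact h3
        · show B (g _ : V) (g _ : V) = 1
          rw [hiso]; exact h4
      · obtain ⟨h1, h3, h4, h5⟩ := s.2.1.2 a b hab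
        refine ⟨?_, ?_, ?_, ?_⟩
        · show B (g _ : V) (g _ : V) = 0
          rw [hiso]; exact h1
        · show B (g _ : V) (g _ : V) = 0
          rw [hiso]; exact h3
        · show B (g _ : V) (g _ : V) = 0
          rw [hiso]; exact h4
        · show B (g _ : V) (g _ : V) = 0
          rw [hiso]; exact h5⟩
  apply Nat.card_le_card_of_injective φ
  intro s s' hss
  apply Subtype.ext
  funext a
  have h1 := congrFun (congrArg Subtype.val hss) a
  have h3 : (g ⟨(s.1 a).1, (s.2.2 a).1⟩ : V) = (g ⟨(s'.1 a).1, (s'.2.2 a).1⟩ : V) :=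
    congrArg Prod.fst h1
  have h4 : (g ⟨(s.1 a).2, (s.2.2 a).2⟩ : V) = (g ⟨(s'.1 a).2, (s'.2.2 a).2⟩ : V) :=
    congrArg Prod.snd h1
  have h5 := congrArg Subtype.val (g.injective (Subtype.ext h3))
  have h6 := congrArg Subtype.val (g.injective (Subtype.ext h4))
  exact Prod.ext h5 h6

variable (B)

/-- the span of a frame, as a hyperbolic subspace -/
noncomputable def hSpanMap (hB : B.IsSymm) (e : ℕ) :
    {s : Fin e → V × V // IsHFrame B s} →
      {W : Submodule F V // finrank F ↥W = 2 * e ∧ Nd B W ∧ Hyp B W} :=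
  fun s => ⟨hSpan s.1, finrank_hSpan hB s.2, nd_hSpan hB s.2, hyp_hSpan hB s.2⟩

/-- the fibre of `hSpanMap` -/
noncomputable def hSpanFiberEquiv (hB : B.IsSymm) (e : ℕ)
    (W : {W : Submodule F V // finrank F ↥W = 2 * e ∧ Nd B W ∧ Hyp B W}) :
    {s : {s : Fin e → V × V // IsHFrame B s} // hSpanMap B hB e s = W} ≃ InFrames B W.1 e where
  toFun s := ⟨s.1.1, s.1.2, fun a => by
    have h3 : hSpan (F := F) s.1.1 = W.1 := congrArg Subtype.val s.2
    rw [← h3]
    exact ⟨fst_mem_hSpan _ a, snd_mem_hSpan _ a⟩⟩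
  invFun s := ⟨⟨s.1, s.2.1⟩, by
    apply Subtype.ext
    show hSpan (F := F) s.1 = W.1
    exact Submodule.eq_of_le_of_finrank_eq (hSpan_le s.1 s.2.2)
      (by rw [finrank_hSpan hB s.2.1, W.2.1])⟩
  left_inv s := rfl
  right_inv s := rfl

/-- all fibres of `hSpanMap` have the same size -/
theorem exists_card_fiber_const (hB : B.IsSymm) (h2 : (2 : F) ≠ 0) (hnd : B.Nondegenerate)
    (e : ℕ) :
    ∃ N : ℕ, ∀ W : {W : Submodule F V // finrank F ↥W = 2 * e ∧ Nd B W ∧ Hyp B W},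
      Nat.card {s : {s : Fin e → V × V // IsHFrame B s} // hSpanMap B hB e s = W} = N := by
  by_cases hne : Nonempty {W : Submodule F V // finrank F ↥W = 2 * e ∧ Nd B W ∧ Hyp B W}
  · obtain ⟨W₀⟩ := hne
    refine ⟨Nat.card (InFrames B W₀.1 e), fun W => ?_⟩
    rw [Nat.card_congr (hSpanFiberEquiv B hB e W)]
    have hty := (hyp_iff_sType hB h2 hnd W.2.2.1 W.2.1).mp W.2.2.2
    have hty₀ := (hyp_iff_sType hB h2 hnd W₀.2.2.1 W₀.2.1).mp W₀.2.2.2
    obtain ⟨g, hg⟩ := exists_isometry_of_hasType (qOf B W.1) (qOf B W₀.1) W.2.1 W₀.2.1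
      (qOf_nd hB h2 W.2.2.1) (qOf_nd hB h2 W₀.2.2.1) hty hty₀
    apply le_antisymm
    · exact card_in_le hB h2 g hg e
    · refine card_in_le hB h2 g.symm (fun w => ?_) e
      have := hg (g.symm w)
      rw [LinearEquiv.apply_symm_apply] at this
      exact this.symm
  · refine ⟨0, fun W => ?_⟩
    exact absurd ⟨W⟩ hne

/-- a prime dividing the number of hyperbolic `2e`-spaces (and not `q`) divides some
`q^(2(d-k)) - 1`, `k < e` -/
theorem exists_dvd_of_dvd_card_hyp (hB : B.IsSymm) (h2 : (2 : F) ≠ 0) (hnd : B.Nondegenerate)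
    {d : ℕ} (hodd : finrank F V = 2 * d + 1) (e : ℕ) (he : e ≤ d) (r : ℕ) (hr : r.Prime)
    (hrq : ¬ r ∣ Fintype.card F)
    (hdvd : r ∣ Nat.card {W : Submodule F V // finrank F ↥W = 2 * e ∧ Nd B W ∧ Hyp B W}) :
    ∃ k : ℕ, k < e ∧ r ∣ Fintype.card F ^ (2 * (d - k)) - 1 := by
  classical
  haveI : Finite V := Module.finite_of_finite F
  haveI : Fintype {W : Submodule F V // finrank F ↥W = 2 * e ∧ Nd B W ∧ Hyp B W} :=
    Fintype.ofFinite _
  obtain ⟨N, hN⟩ := exists_card_fiber_const B hB h2 hnd e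
  have h1 := card_hFrame B hB h2 hnd hodd e he
  rw [Nat.card_congr (Equiv.sigmaFiberEquiv (hSpanMap B hB e)).symm, Nat.card_sigma,
    Finset.sum_congr rfl (fun W _ => hN W), Finset.sum_const, Finset.card_univ,
    ← Nat.card_eq_fintype_card, smul_eq_mul] at h1
  have h3 : r ∣ ∏ k : Fin e, ((Fintype.card F ^ (2 * (d - k.val)) - 1) *
      Fintype.card F ^ (2 * (d - k.val) - 1)) := by
    rw [← h1]
    exact Dvd.dvd.mul_right hdvd _
  obtain ⟨k, -, hk⟩ := (hr.prime.dvd_finsetProd_iff _).mp h3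
  rcases (Nat.Prime.dvd_mul hr).mp hk with h | h
  · exact ⟨k.val, k.2, h⟩
  · exact absurd (hr.dvd_of_dvd_pow h) hrq

end Cfsg.Agent.Helper94.Tn
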