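import Mathlib
import Cfsg.Agent.Helper94.TsH

set_option autoImplicit false
set_option linter.unusedSectionVars false
set_option linter.style.haveILetI false

/-!
# Elements of odd prime order `r ≠ p` of `Ω_{2d+1}(q)` and totally singular `m`-spaces
-/

namespace Cfsg.Agent.Helper94.Ts

open Module Polynomial Matrix
open Cfsg
open Cfsg.Agent.Helper44 Cfsg.Agent.Helper44.QType
open Cfsg.Agent.Helper59.InvChain Cfsg.Agent.Helper59.Elusive
open Cfsg.Agent.Helper99.RDecomp Cfsg.Agent.Helper99.SpStruct Cfsg.Agent.Helper99.SpElt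
open Cfsg.Agent.Helper94.Ti

universe u v

section general

variable {F : Type u} [Field F] {V : Type v} [AddCommGroup V] [Module F V] [FiniteDimensional F V]
variable {B : LinearMap.BilinForm F V} {r : ℕ} {y : Module.End F V} {i : ℕ}

/-- obstruction (odd dimension): the fixed space is too small for the residue of `m` modulo
`i` -/
theorem no_ts_of_mod_odd (h : OSetup B r y i) (hodd : Odd (finrank F V)) {W : Submodule F V}
    (hWinv : Inv y W) (hWti : Orth B W W)
    (hf : finrank F ↥(fixSp y) ≤ 2 * (finrank F ↥W % i)) : False := by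
  obtain ⟨h1, h2, ⟨e, he⟩, -⟩ := ts_inv_split h hWinv hWti
  have hpar := fix_parity h
  have hodd' : finrank F V % 2 = 1 := Nat.odd_iff.mp hodd
  have hipos := h.setup.c_pos
  have hlt : finrank F ↥W % i < i := Nat.mod_lt _ hipos
  have ha : finrank F ↥(W ⊓ fixSp y) < i := by omega
  have h3 : finrank F ↥W % i = finrank F ↥(W ⊓ fixSp y) := by
    rw [h1, he, Nat.add_mul_mod_self_left, Nat.mod_eq_of_lt ha]
  omega

end general

variable {F : Type u} [Field F] {d : ℕ}
variable [Fintype F] {p : ℕ} [Fact p.Prime] [CharP F p]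

/-- the hypothesis: every element of `Ω` of order `r` fixes a totally singular `m`-space -/
def TsProp (F : Type u) [Field F] (d m r : ℕ) : Prop :=
  ∀ y : ↥(Cfsg.isometryGroup F (Cfsg.quadFormOdd d F)),
    y ∈ Cfsg.Omega F (Cfsg.quadFormOdd d F) → orderOf y = r →
    ∃ W : Submodule F (Unit ⊕ (Fin d ⊕ Fin d) → F), finrank F ↥W = m ∧
      (∀ w ∈ W, Cfsg.quadFormOdd d F w = 0) ∧
      W.map (Matrix.toLin' ((y : GL (Unit ⊕ (Fin d ⊕ Fin d)) F) :
        Matrix (Unit ⊕ (Fin d ⊕ Fin d)) (Unit ⊕ (Fin d ⊕ Fin d)) F)) ≤ W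

/-- (⇐) for odd `r ≠ p` -/
theorem ts_of_cond (h2 : (2 : F) ≠ 0) (r : ℕ) [Fact r.Prime] (hrp : r ≠ p) (hr2 : r ≠ 2)
    (y : Module.End F (Unit ⊕ (Fin d ⊕ Fin d) → F))
    (hiso : ∀ u, Cfsg.quadFormOdd d F (y u) = Cfsg.quadFormOdd d F u) (hy : y ^ r = 1)
    (m : ℕ) (hmd : m ≤ d)
    (h2l : 2 * (m % orderOf ((Fintype.card F : ℕ) : ZMod r)) + 1 ≤
      (2 * d + 1) % blockSize (orderOf ((Fintype.card F : ℕ) : ZMod r)))
    (hcond : Odd (orderOf ((Fintype.card F : ℕ) : ZMod r)) ∨
      (r - 1) / orderOf ((Fintype.card F : ℕ) : ZMod r) +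
        2 * (m / orderOf ((Fintype.card F : ℕ) : ZMod r)) ≤
        (2 * d + 1) / orderOf ((Fintype.card F : ℕ) : ZMod r)) :
    ∃ W : Submodule F (Unit ⊕ (Fin d ⊕ Fin d) → F), finrank F ↥W = m ∧
      (∀ w ∈ W, Cfsg.quadFormOdd d F w = 0) ∧ Inv y W := by
  have h := oSetup_of h2 r hrp hr2 y hiso hy
  obtain ⟨W, hW1, hW2, hW3⟩ := exists_ts_inv_of_cond_one h (orderOf_card_dvd (F := F) r hrp) m
    (by rw [finrank_oV]; omega) (by rw [finrank_oV]; exact h2l)
    (by
      rw [finrank_oV]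
      rcases hcond with hc | hc
      · exact Or.inl (Nat.not_even_iff_odd.mpr hc)
      · exact Or.inr hc)
  exact ⟨W, hW1, (orth_self_iff_q h2).mp hW2, hW3⟩

/-- (⇒) for odd `r ≠ p` -/
theorem cond_of_tsProp (h2 : (2 : F) ≠ 0) (r : ℕ) [Fact r.Prime] (hrp : r ≠ p) (hr2 : r ≠ 2)
    {m : ℕ} (hm : 1 ≤ m) (hmd : m ≤ d) (H : TsProp F d m r)
    (hΩ : r ∣ Nat.card {W : Submodule F (Unit ⊕ (Fin d ⊕ Fin d) → F) // finrank F ↥W = m ∧
      (∀ w ∈ W, Cfsg.quadFormOdd d F w = 0)}) :
    orderOf ((Fintype.card F : ℕ) : ZMod r) ≤ m ∧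
      2 * (m % orderOf ((Fintype.card F : ℕ) : ZMod r)) + 1 ≤
        (2 * d + 1) % blockSize (orderOf ((Fintype.card F : ℕ) : ZMod r)) ∧
      (Odd (orderOf ((Fintype.card F : ℕ) : ZMod r)) ∨
        (r - 1) / orderOf ((Fintype.card F : ℕ) : ZMod r) +
          2 * (m / orderOf ((Fintype.card F : ℕ) : ZMod r)) ≤
          (2 * d + 1) / orderOf ((Fintype.card F : ℕ) : ZMod r)) := by
  have hr : r.Prime := Fact.out
  have hrodd : Odd r := hr.odd_of_ne_two hr2
  set i := orderOf ((Fintype.card F : ℕ) : ZMod r) with hidef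
  set c := blockSize i with hcdef
  have hipos : 0 < i := orderOf_card_pos r hrp
  have hcpos : 0 < c := blockSize_pos hipos
  have hir : i ∣ r - 1 := orderOf_card_dvd (F := F) r hrp
  obtain ⟨c', hc'⟩ := even_blockSize i
  rw [← hcdef] at hc'
  have hci : c ≤ 2 * i := by
    by_cases hi : Even i
    · rw [hcdef, blockSize_even hi]; omega
    · rw [hcdef, blockSize_odd hi]
  have hodd : Odd (finrank F (Unit ⊕ (Fin d ⊕ Fin d) → F)) := by
    rw [finrank_oV]; exact ⟨d, rfl⟩
  -- the test element with as many blocks as possible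
  have hmax : c ≤ 2 * d →
      ∃ y : ↥(Cfsg.isometryGroup F (Cfsg.quadFormOdd d F)), orderOf y = r ∧
        finrank F ↥(fixSp (Matrix.toLin' ((y : GL (Unit ⊕ (Fin d ⊕ Fin d)) F) :
          Matrix (Unit ⊕ (Fin d ⊕ Fin d)) (Unit ⊕ (Fin d ⊕ Fin d)) F))) = (2 * d + 1) % c := by
    intro hc2d
    have hdm := Nat.div_add_mod (2 * d + 1) c
    have hkc : (2 * d + 1) / c * c ≤ 2 * d := by
      have h1 : (2 * d + 1) / c * c ≤ 2 * d + 1 := Nat.div_mul_le_self _ _
      have e1 : (2 * d + 1) / c * c = 2 * ((2 * d + 1) / c * c') := by rw [hc']; ring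
      omega
    have hkpos : 0 < (2 * d + 1) / c := Nat.div_pos (by omega) hcpos
    obtain ⟨y, hyord, hfix⟩ := exists_o_elt (F := F) h2 d r hrp hr2 ((2 * d + 1) / c) hkpos hkc
    refine ⟨y, hyord, ?_⟩
    rw [← hidef, ← hcdef] at hfix
    rw [hfix]
    have e2 : c * ((2 * d + 1) / c) = (2 * d + 1) / c * c := mul_comm _ _
    omega
  -- consequences of `H` for a test element
  have huse : ∀ y : ↥(Cfsg.isometryGroup F (Cfsg.quadFormOdd d F)), orderOf y = r →
      ∃ W : Submodule F (Unit ⊕ (Fin d ⊕ Fin d) → F), finrank F ↥W = m ∧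
        Orth (oB d F) W W ∧
        Inv (Matrix.toLin' ((y : GL (Unit ⊕ (Fin d ⊕ Fin d)) F) :
          Matrix (Unit ⊕ (Fin d ⊕ Fin d)) (Unit ⊕ (Fin d ⊕ Fin d)) F)) W ∧
        OSetup (oB d F) r (Matrix.toLin' ((y : GL (Unit ⊕ (Fin d ⊕ Fin d)) F) :
          Matrix (Unit ⊕ (Fin d ⊕ Fin d)) (Unit ⊕ (Fin d ⊕ Fin d)) F)) i := by
    intro y hyord
    have hyr : y ^ r = 1 := by rw [← hyord]; exact pow_orderOf_eq_one y
    have hyΩ : y ∈ Cfsg.Omega F (Cfsg.quadFormOdd d F) :=
      mem_Omega_of_odd_order' (oddForm d F) h2 (oB_nondeg h2) y hrodd hyr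
    obtain ⟨W, hW1, hW2, hW3⟩ := H y hyΩ hyord
    exact ⟨W, hW1, (orth_self_iff_q h2).mpr hW2, hW3,
      oSetup_of h2 r hrp hr2 _ (toLin_iso y) (toLin_pow_eq_one' y hyr)⟩
  -- step 1
  have h1 : i ≤ m := by
    by_contra hcon
    push Not at hcon
    have hΩ' : r ∣ Nat.card {W : Submodule F (Unit ⊕ (Fin d ⊕ Fin d) → F) // finrank F ↥W = m ∧
        IsTi (oB d F) W} := by
      have e : {W : Submodule F (Unit ⊕ (Fin d ⊕ Fin d) → F) // finrank F ↥W = m ∧
          IsTi (oB d F) W} ≃ {W : Submodule F (Unit ⊕ (Fin d ⊕ Fin d) → F) // finrank F ↥W = m ∧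
          (∀ w ∈ W, Cfsg.quadFormOdd d F w = 0)} :=
        Equiv.subtypeEquivRight (fun W => by rw [isTi_iff_q h2])
      rw [Nat.card_congr e]
      exact hΩ
    obtain ⟨k, hkm, hk⟩ := exists_dvd_of_dvd_card_ts (oB d F) oB_symm h2 (oB_nondeg h2)
      finrank_oV m hmd r hr hΩ'
    have hidvd : i ∣ 2 * d - 2 * k := by
      rw [hidef, orderOf_dvd_iff_pow_eq_one]
      have hpos : 1 ≤ Fintype.card F ^ (2 * d - 2 * k) := Nat.one_le_pow _ _ Fintype.card_pos
      have h2' := (ZMod.natCast_eq_zero_iff _ r).mpr hk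
      rw [Nat.cast_sub hpos, Nat.cast_pow, Nat.cast_one, sub_eq_zero] at h2'
      exact h2'
    have hcdvd : c ∣ 2 * d - 2 * k := by
      by_cases hi : Even i
      · rw [hcdef, blockSize_even hi]; exact hidvd
      · rw [hcdef, blockSize_odd hi]
        have hcop : Nat.Coprime 2 i := by
          rw [Nat.coprime_two_left]
          exact Nat.not_even_iff_odd.mp hi
        have h2' : 2 ∣ 2 * d - 2 * k := ⟨d - k, by omega⟩
        exact hcop.mul_dvd_of_dvd_of_dvd h2' hidvd
    have hpos : 0 < 2 * d - 2 * k := by omega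
    have hc2d : c ≤ 2 * d := (Nat.le_of_dvd hpos hcdvd).trans (Nat.sub_le _ _)
    obtain ⟨y, hyord, hfix⟩ := hmax hc2d
    obtain ⟨W, hW1, hW2, hW3, hset⟩ := huse y hyord
    have h3 := two_mul_le_fix_of_lt' hset hW3 hW2 (by rw [hW1]; exact hcon)
    rw [hW1, hfix] at h3
    have hmod : (2 * k + 1) % c = (2 * d + 1) % c :=
      (Nat.modEq_iff_dvd' (by omega : 2 * k + 1 ≤ 2 * d + 1)).mpr (by
        have : 2 * d + 1 - (2 * k + 1) = 2 * d - 2 * k := by omega
        rw [this]; exact hcdvd)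
    have hlt : (2 * d + 1) % c < c := Nat.mod_lt _ hcpos
    rw [Nat.mod_eq_of_lt (by omega)] at hmod
    omega
  have hc2d : c ≤ 2 * d := by omega
  refine ⟨h1, ?_, ?_⟩
  · -- step 2
    by_contra hcon
    push Not at hcon
    obtain ⟨y, hyord, hfix⟩ := hmax hc2d
    obtain ⟨W, hW1, hW2, hW3, hset⟩ := huse y hyord
    exact no_ts_of_mod_odd hset hodd hW3 hW2 (by rw [hW1, hfix]; omega)
  · -- step 3
    by_cases hi : Even i
    · right
      by_contra hcon
      push Not at hcon
      set t := (r - 1) / i with ht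
      set n' := (2 * d + 1) / i with hn'
      have hti : t * i = r - 1 := Nat.div_mul_cancel hir
      have hr3 : 2 ≤ r := hr.two_le
      have htpos : 0 < t := by
        rcases Nat.eq_zero_or_pos t with h0 | h0
        · rw [h0, zero_mul] at hti; omega
        · exact h0
      obtain ⟨i', hi'⟩ := hi
      have hn'i : n' * i ≤ 2 * d := by
        have h1 : n' * i ≤ 2 * d + 1 := Nat.div_mul_le_self _ _
        have e1 : n' * i = 2 * (n' * i') := by rw [hi']; ring
        omega
      have hn'pos : 0 < n' := Nat.div_pos (by omega) hipos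
      set u := min t n' with hu
      have hupos : 0 < u := lt_min htpos hn'pos
      have hut : u * i ≤ r - 1 := by
        rw [← hti]; exact Nat.mul_le_mul_right i (min_le_left _ _)
      have hud : u * i ≤ 2 * d := (Nat.mul_le_mul_right i (min_le_right _ _)).trans hn'i
      obtain ⟨y, hyord, hfix, hker⟩ := exists_o_elt_aniso (F := F) h2 d r hrp hr2
        ⟨i', hi'⟩ u hupos hut hud
      obtain ⟨W, hW1, hW2, hW3, hset⟩ := huse y hyord
      have h3 := two_mul_le_fix_of_aniso' hset (aniso_of_ker_le' hset ⟨i', hi'⟩ hker) hW3 hW2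
      rw [← hidef] at hfix
      rw [hW1, hfix] at h3
      -- arithmetic
      set m' := m / i with hm'
      have hmdiv : i * m' + m % i = m := Nat.div_add_mod m i
      have hddiv : i * n' + (2 * d + 1) % i = 2 * d + 1 := Nat.div_add_mod (2 * d + 1) i
      have hkk : (2 * d + 1) % i < i := Nat.mod_lt _ hipos
      have e0 : u * i = 2 * (u * i') := by rw [hi']; ring
      rcases le_total t n' with hle | hle
      · have hueq : u = t := min_eq_left hle
        rw [hueq] at h3 e0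
        have h4 : (2 * m' + t) * i < (n' + 1) * i := by
          have e1 : (2 * m' + t) * i = 2 * (i * m') + t * i := by ring
          have e2 : (n' + 1) * i = i * n' + i := by ring
          omega
        have h5 : 2 * m' + t < n' + 1 := lt_of_mul_lt_mul_right h4 (Nat.zero_le i)
        omega
      · have hueq : u = n' := min_eq_right hle
        rw [hueq] at h3 e0
        have e2 : n' * i = i * n' := mul_comm _ _
        omega
    · left
      exact Nat.not_even_iff_odd.mp hi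

end Cfsg.Agent.Helper94.Ts
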