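import Mathlib
import Cfsg.Agent.Helper94.TnI
import Cfsg.Agent.Helper94.TsI

set_option autoImplicit false
set_option linter.unusedSectionVars false
set_option linter.style.haveILetI false

/-!
# Elements of prime order `r ≠ p` of `Ω_{2d+1}(q)` and hyperbolic `m`-spaces
-/

namespace Cfsg.Agent.Helper94.Tn

open Module Polynomial Matrix
open Cfsg
open Cfsg.Agent.Helper44 Cfsg.Agent.Helper44.QType
open Cfsg.Agent.Helper59.InvChain Cfsg.Agent.Helper59.Elusive
open Cfsg.Agent.Helper99.RDecomp Cfsg.Agent.Helper99.SpStruct Cfsg.Agent.Helper99.SpElt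
open Cfsg.Agent.Helper94.Ti Cfsg.Agent.Helper94.Ts

universe u v

variable {F : Type u} [Field F] {d : ℕ}

/-- nondegeneracy, in the form of the statements -/
theorem nd_iff_isNondegenerateOn {W : Submodule F (Unit ⊕ (Fin d ⊕ Fin d) → F)} :
    Nd (oB d F) W ↔
      Cfsg.Geo.IsNondegenerateOn (QuadraticMap.polar (Cfsg.quadFormOdd d F)) W := by
  rw [nd_iff]
  unfold Cfsg.Geo.IsNondegenerateOn
  constructor
  · intro h w hw hw0
    have hex : ∃ x ∈ W, oB d F x w ≠ 0 := by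
      by_contra hcon
      push Not at hcon
      exact hw0 (h w hw hcon)
    obtain ⟨x, hx, hxw⟩ := hex
    refine ⟨⟨x, hx, hxw⟩, ⟨x, hx, ?_⟩⟩
    rw [QuadraticMap.polar_comm]
    exact hxw
  · intro h u hu hu'
    by_contra hu0
    obtain ⟨⟨x, hx, hxu⟩, -⟩ := h u hu hu0
    exact hxu (hu' x hx)

/-- plus type, in the form of the statements -/
theorem hyp_iff_isPlusTypeOn (h2 : (2 : F) ≠ 0) {W : Submodule F (Unit ⊕ (Fin d ⊕ Fin d) → F)} :
    Hyp (oB d F) W ↔ Cfsg.Geo.IsPlusTypeOn (Cfsg.quadFormOdd d F) W := by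
  unfold Hyp Cfsg.Geo.IsPlusTypeOn Cfsg.Geo.IsTotallySingularQuad
  constructor
  · rintro ⟨U, h1, h3, h4⟩
    exact ⟨U, h1, (orth_self_iff_q h2).mp h3, h4⟩
  · rintro ⟨U, h1, h3, h4⟩
    exact ⟨U, h1, (orth_self_iff_q h2).mpr h3, h4⟩

variable [Fintype F] {p : ℕ} [Fact p.Prime] [CharP F p]

theorem not_dvd_card_of_ne (r : ℕ) [Fact r.Prime] (hrp : r ≠ p) : ¬ r ∣ Fintype.card F := by
  intro h
  obtain ⟨k, -, hk⟩ := FiniteField.card F p
  rw [hk] at h
  have hr : r.Prime := Fact.out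
  have hp : p.Prime := Fact.out
  exact hrp ((Nat.prime_dvd_prime_iff_eq hr hp).mp (hr.dvd_of_dvd_pow h))

/-- involutions fix hyperbolic subspaces of every even dimension -/
theorem hyp_of_invol (h2 : (2 : F) ≠ 0) {m : ℕ} (hme : Even m) (hmn : m ≤ 2 * d)
    (g : ↥(Cfsg.isometryGroup F (Cfsg.quadFormOdd d F))) (hg : g * g = 1) :
    ∃ W : Submodule F (Unit ⊕ (Fin d ⊕ Fin d) → F), finrank F ↥W = m ∧ Nd (oB d F) W ∧
      Hyp (oB d F) W ∧
      Inv (Matrix.toLin' ((g : GL (Unit ⊕ (Fin d ⊕ Fin d)) F) :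
        Matrix (Unit ⊕ (Fin d ⊕ Fin d)) (Unit ⊕ (Fin d ⊕ Fin d)) F)) W := by
  have hS := involSetup_of h2 g hg
  obtain ⟨t, ht⟩ := hme
  obtain ⟨W, -, hWinv, hWnd, hWdim, hWhyp⟩ := invol_exists_inv_hyp hS t ⊤ (inv_top _)
    (nd_top_of_nondeg' hS.nondeg) (by rw [finrank_top, finrank_oV]; omega)
  exact ⟨W, by rw [hWdim, ht]; ring, hWnd, hWhyp, hWinv⟩

/-- (⇐) for odd `r ≠ p` -/
theorem hyp_of_cond (h2 : (2 : F) ≠ 0) (r : ℕ) [Fact r.Prime] (hrp : r ≠ p) (hr2 : r ≠ 2)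
    (y : Module.End F (Unit ⊕ (Fin d ⊕ Fin d) → F))
    (hiso : ∀ u, Cfsg.quadFormOdd d F (y u) = Cfsg.quadFormOdd d F u) (hy : y ^ r = 1)
    {m : ℕ} (hme : Even m) (hmn : m ≤ 2 * d)
    (H1 : m % blockSize (orderOf ((Fintype.card F : ℕ) : ZMod r)) <
      (2 * d + 1) % blockSize (orderOf ((Fintype.card F : ℕ) : ZMod r)))
    (H2 : m % blockSize (orderOf ((Fintype.card F : ℕ) : ZMod r)) = 0 →
      orderOf ((Fintype.card F : ℕ) : ZMod r) ∣ m / 2) :
    ∃ W : Submodule F (Unit ⊕ (Fin d ⊕ Fin d) → F), finrank F ↥W = m ∧ Nd (oB d F) W ∧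
      Hyp (oB d F) W ∧ Inv y W := by
  have h := oSetup_of h2 r hrp hr2 y hiso hy
  have hrq := not_dvd_card_of_ne (F := F) r hrp
  set i := orderOf ((Fintype.card F : ℕ) : ZMod r) with hidef
  set c := blockSize i with hcdef
  have hipos : 0 < i := orderOf_card_pos r hrp
  have hcpos : 0 < c := blockSize_pos hipos
  obtain ⟨c', hc'⟩ := even_blockSize i
  rw [← hcdef] at hc'
  obtain ⟨e, he⟩ := hme
  obtain ⟨k', hk1, hk2, hk3⟩ := h.exists_blocks_eq
  rw [finrank_oV, ← hcdef] at hk1 hk3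
  rw [← hcdef] at hk2
  have hmdiv := Nat.div_add_mod m c
  set j := min k' (m / c) with hj
  have hjk : j ≤ k' := min_le_left _ _
  have hjm : j ≤ m / c := min_le_right _ _
  have hjck : j * c ≤ k' * c := Nat.mul_le_mul_right c hjk
  have hjcm : j * c ≤ m := by
    have : j * c ≤ m / c * c := Nat.mul_le_mul_right c hjm
    have e1 : m / c * c = c * (m / c) := mul_comm _ _
    omega
  obtain ⟨X, hXc, hXinv, hXnd, hXdim⟩ := exists_nd_inv_cyc h h2 j (by rw [hk2]; exact hjck)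
  rw [← hidef, ← hcdef] at hXdim
  have hXdim' : finrank F ↥X = 2 * (j * c') := by rw [hXdim, hc']; ring
  -- the fixed part
  have hfle : m - j * c + 1 ≤ finrank F ↥(fixSp y) := by
    rcases le_total (m / c) k' with hle | hle
    · have hjeq : j = m / c := min_eq_right hle
      have e1 : j * c = c * (m / c) := by rw [hjeq]; exact mul_comm _ _
      omega
    · have hjeq : j = k' := min_eq_left hle
      rw [hjeq]
      omega
  have hfeven : m - j * c = 2 * (e - j * c') := by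
    have e1 : j * c = 2 * (j * c') := by rw [hc']; ring
    omega
  set t := e - j * c' with ht
  obtain ⟨ε, hε, hty⟩ := exists_sType h.symm h2 hXnd hXdim'
  have hε' : ε = 1 ∨ (ε = -1 ∧ 0 < t) := by
    rcases Nat.eq_zero_or_pos t with ht0 | htpos
    · left
      -- `m = j * c`, so the type is `+`
      have hmeq : m = j * c := by omega
      have hmod : m % c = 0 := by rw [hmeq]; exact Nat.mul_mod_left j c
      have hdvd := H2 hmod
      have hm2 : m / 2 = j * c' := by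
        have e1 : j * c = 2 * (j * c') := by rw [hc']; ring
        omega
      rw [hm2] at hdvd
      have h1 := (sType_one_iff_dvd h h2 hrq hXinv hXnd hXc hXdim').mpr hdvd
      exact hty.unique h1
    · rcases hε with h1 | h1
      · exact Or.inl h1
      · exact Or.inr ⟨h1, htpos⟩
  obtain ⟨Wf, hWf, hWfnd, hWfdim, hWfty⟩ := exists_typed_sub h.symm h2 h.nondeg t (fixSp y) h.nd_fix
    (by omega) ε hε'
  have horth : Orth (oB d F) Wf X := h.orth_fix_cyc.mono hWf hXc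
  have hWnd : Nd (oB d F) (Wf ⊔ X) := hWfnd.sup h.refl hXnd horth
  have hWdim : finrank F ↥(Wf ⊔ X) = 2 * (t + j * c') := by
    rw [finrank_sup_of_disjoint (horth.disjoint hWfnd), hWfdim, hXdim']
    ring
  have hWty := sType_sup h.symm h2 hWfnd hXnd horth hWfdim hXdim' hWfty hty
  have hεε : ε * ε = 1 := by
    rcases hε with h1 | h1 <;> rw [h1] <;> norm_num
  rw [hεε] at hWty
  refine ⟨Wf ⊔ X, ?_, hWnd, (hyp_iff_sType h.symm h2 h.nondeg hWnd hWdim).mpr hWty,
    inv_sup (inv_of_le_fixSp hWf) hXinv⟩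
  rw [hWdim]
  have e1 : j * c = 2 * (j * c') := by rw [hc']; ring
  omega

/-- the hypothesis: every element of `Ω` of order `r` fixes a hyperbolic `m`-space -/
def HypProp (F : Type u) [Field F] (d m r : ℕ) : Prop :=
  ∀ y : ↥(Cfsg.isometryGroup F (Cfsg.quadFormOdd d F)),
    y ∈ Cfsg.Omega F (Cfsg.quadFormOdd d F) → orderOf y = r →
    ∃ W : Submodule F (Unit ⊕ (Fin d ⊕ Fin d) → F), finrank F ↥W = m ∧ Nd (oB d F) W ∧
      Hyp (oB d F) W ∧
      W.map (Matrix.toLin' ((y : GL (Unit ⊕ (Fin d ⊕ Fin d)) F) :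
        Matrix (Unit ⊕ (Fin d ⊕ Fin d)) (Unit ⊕ (Fin d ⊕ Fin d)) F)) ≤ W

/-- (⇒) for odd `r ≠ p` -/
theorem cond_of_hypProp (h2 : (2 : F) ≠ 0) (r : ℕ) [Fact r.Prime] (hrp : r ≠ p) (hr2 : r ≠ 2)
    {m : ℕ} (hm : 2 ≤ m) (hme : Even m) (hmn : m ≤ 2 * d) (H : HypProp F d m r)
    (hΩ : r ∣ Nat.card {W : Submodule F (Unit ⊕ (Fin d ⊕ Fin d) → F) // finrank F ↥W = m ∧
      Nd (oB d F) W ∧ Hyp (oB d F) W}) :
    blockSize (orderOf ((Fintype.card F : ℕ) : ZMod r)) ≤ m ∧
      m % blockSize (orderOf ((Fintype.card F : ℕ) : ZMod r)) <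
        (2 * d + 1) % blockSize (orderOf ((Fintype.card F : ℕ) : ZMod r)) ∧
      (m % blockSize (orderOf ((Fintype.card F : ℕ) : ZMod r)) = 0 →
        orderOf ((Fintype.card F : ℕ) : ZMod r) ∣ m / 2) := by
  have hr : r.Prime := Fact.out
  have hrodd : Odd r := hr.odd_of_ne_two hr2
  have hrq := not_dvd_card_of_ne (F := F) r hrp
  set i := orderOf ((Fintype.card F : ℕ) : ZMod r) with hidef
  set c := blockSize i with hcdef
  have hipos : 0 < i := orderOf_card_pos r hrp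
  have hcpos : 0 < c := blockSize_pos hipos
  obtain ⟨c', hc'⟩ := even_blockSize i
  rw [← hcdef] at hc'
  obtain ⟨e, he⟩ := hme
  -- the counting hypothesis
  have hΩ' : r ∣ Nat.card {W : Submodule F (Unit ⊕ (Fin d ⊕ Fin d) → F) //
      finrank F ↥W = 2 * e ∧ Nd (oB d F) W ∧ Hyp (oB d F) W} := by
    have e1 : m = 2 * e := by omega
    rw [← e1]
    exact hΩ
  obtain ⟨k, hke, hk⟩ := exists_dvd_of_dvd_card_hyp (oB d F) oB_symm h2 (oB_nondeg h2) finrank_oV e
    (by omega) r hr hrq hΩ'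
  have hidvd : i ∣ 2 * (d - k) := by
    rw [hidef, orderOf_dvd_iff_pow_eq_one]
    have hpos : 1 ≤ Fintype.card F ^ (2 * (d - k)) := Nat.one_le_pow _ _ Fintype.card_pos
    have h2' := (ZMod.natCast_eq_zero_iff _ r).mpr hk
    rw [Nat.cast_sub hpos, Nat.cast_pow, Nat.cast_one, sub_eq_zero] at h2'
    exact h2'
  have hcdvd : c ∣ 2 * (d - k) := by
    by_cases hi : Even i
    · rw [hcdef, blockSize_even hi]; exact hidvd
    · rw [hcdef, blockSize_odd hi]
      have hcop : Nat.Coprime 2 i := by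
        rw [Nat.coprime_two_left]
        exact Nat.not_even_iff_odd.mp hi
      exact hcop.mul_dvd_of_dvd_of_dvd ⟨d - k, rfl⟩ hidvd
  have hpos : 0 < 2 * (d - k) := by omega
  have hc2d : c ≤ 2 * d := (Nat.le_of_dvd hpos hcdvd).trans (by omega)
  -- the test element with as many blocks as possible
  have hdm := Nat.div_add_mod (2 * d + 1) c
  have hkc : (2 * d + 1) / c * c ≤ 2 * d := by
    have h1 : (2 * d + 1) / c * c ≤ 2 * d + 1 := Nat.div_mul_le_self _ _
    have e1 : (2 * d + 1) / c * c = 2 * ((2 * d + 1) / c * c') := by rw [hc']; ring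
    omega
  have hkpos : 0 < (2 * d + 1) / c := Nat.div_pos (by omega) hcpos
  obtain ⟨y, hyord, hfix⟩ := exists_o_elt (F := F) h2 d r hrp hr2 ((2 * d + 1) / c) hkpos hkc
  rw [← hidef, ← hcdef] at hfix
  have hfix' : finrank F ↥(fixSp (Matrix.toLin' ((y : GL (Unit ⊕ (Fin d ⊕ Fin d)) F) :
      Matrix (Unit ⊕ (Fin d ⊕ Fin d)) (Unit ⊕ (Fin d ⊕ Fin d)) F))) = (2 * d + 1) % c := by
    rw [hfix]
    have e2 : c * ((2 * d + 1) / c) = (2 * d + 1) / c * c := mul_comm _ _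
    omega
  have hyr : y ^ r = 1 := by rw [← hyord]; exact pow_orderOf_eq_one y
  have hyΩ : y ∈ Cfsg.Omega F (Cfsg.quadFormOdd d F) :=
    mem_Omega_of_odd_order' (oddForm d F) h2 (oB_nondeg h2) y hrodd hyr
  obtain ⟨W, hWdim, hWnd, hWhyp, hWinv⟩ := H y hyΩ hyord
  have hset := oSetup_of h2 r hrp hr2 _ (toLin_iso y) (toLin_pow_eq_one' y hyr)
  rw [← hidef] at hset
  set Y := Matrix.toLin' ((y : GL (Unit ⊕ (Fin d ⊕ Fin d)) F) :
      Matrix (Unit ⊕ (Fin d ⊕ Fin d)) (Unit ⊕ (Fin d ⊕ Fin d)) F) with hY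
  have hWinv' : Inv Y W := hWinv
  have hsplit := hset.setup.split W hWinv'
  have hcnd := hset.nd_inf_cyc hWinv' hWnd
  have hcinv : Inv Y (W ⊓ cycSp r Y) := inv_inf hWinv' (inv_cycSp r Y)
  obtain ⟨jj, hjj⟩ := hset.blockSize_dvd hcinv hcnd inf_le_right
  rw [← hcdef] at hjj
  have hfle : finrank F ↥(W ⊓ fixSp Y) ≤ (2 * d + 1) % c := by
    rw [← hfix']
    exact Submodule.finrank_mono inf_le_right
  have hkklt : (2 * d + 1) % c < c := Nat.mod_lt _ hcpos
  have hmmod : m % c = finrank F ↥(W ⊓ fixSp Y) := by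
    rw [← hWdim, hsplit, hjj, Nat.add_mul_mod_self_left, Nat.mod_eq_of_lt (by omega)]
  -- parities
  have hmdiv := Nat.div_add_mod m c
  have hmpar : m % c = 2 * (e - c' * (m / c)) := by
    have e1 : c * (m / c) = 2 * (c' * (m / c)) := by rw [hc']; ring
    omega
  have hnpar : (2 * d + 1) % c = 2 * (d - c' * ((2 * d + 1) / c)) + 1 := by
    have e1 : c * ((2 * d + 1) / c) = 2 * (c' * ((2 * d + 1) / c)) := by rw [hc']; ring
    omega
  have hlt : m % c < (2 * d + 1) % c := by omega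
  have h3 : m % c = 0 → i ∣ m / 2 := by
    intro h0
    have hf0 : finrank F ↥(W ⊓ fixSp Y) = 0 := by omega
    have hWc : W ⊓ cycSp r Y = W := by
      apply Submodule.eq_of_le_of_finrank_eq inf_le_left
      omega
    have hWle : W ≤ cycSp r Y := by rw [← hWc]; exact inf_le_right
    have hWdim' : finrank F ↥W = 2 * e := by omega
    have hty := (hyp_iff_sType hset.symm h2 hset.nondeg hWnd hWdim').mp hWhyp
    have := (sType_one_iff_dvd hset h2 hrq hWinv' hWnd hWle hWdim').mp hty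
    have hm2 : m / 2 = e := by omega
    rw [hm2]
    exact this
  refine ⟨?_, hlt, h3⟩
  -- `c ≤ m`
  by_contra hcon
  push Not at hcon
  have hmm : m % c = m := Nat.mod_eq_of_lt hcon
  have hmod : (2 * k + 1) % c = (2 * d + 1) % c :=
    (Nat.modEq_iff_dvd' (by omega : 2 * k + 1 ≤ 2 * d + 1)).mpr (by
      have : 2 * d + 1 - (2 * k + 1) = 2 * (d - k) := by omega
      rw [this]; exact hcdvd)
  rw [Nat.mod_eq_of_lt (by omega)] at hmod
  omega

end Cfsg.Agent.Helper94.Tn
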