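import Cfsg.Agent.Helper94.SpC3
import Cfsg.Agent.Helper43.SpInvA

set_option autoImplicit false

/-!
# Centralisers of involutions in `Sp_2m(F)`: reduction to the isometry groups of the normal forms
-/

namespace Cfsg.Agent.Helper94.SpC

open Matrix Cfsg.Agent.Helper13 Cfsg.Agent.S2167 Cfsg.Agent.Helper43.SpInv

variable {F : Type*} [Field F] {m : ℕ}

theorem dot_mulVec_self_eq_zero [CharP F 2] {n : ℕ} (S : Matrix (Fin n) (Fin n) F) (hS : Sᵀ = S)
    (hd : ∀ i, S i i = 0) (y : Fin n → F) : y ⬝ᵥ (S *ᵥ y) = 0 := by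
  have h1 : y ⬝ᵥ (S *ᵥ y) = ∑ p ∈ (Finset.univ : Finset (Fin n × Fin n)), y p.1 * S p.1 p.2 * y p.2 := by
    rw [← Finset.univ_product_univ, Finset.sum_product]
    unfold dotProduct Matrix.mulVec dotProduct
    refine Finset.sum_congr rfl fun i _ => ?_
    rw [Finset.mul_sum]
    exact Finset.sum_congr rfl fun j _ => by ring
  rw [h1]
  apply Finset.sum_involution (fun p _ => p.swap)
  · intro p _
    have h2 : S p.2 p.1 = S p.1 p.2 := by
      have := congrFun (congrFun hS p.1) p.2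
      rwa [Matrix.transpose_apply] at this
    simp only [Prod.fst_swap, Prod.snd_swap]
    rw [h2]
    have : y p.2 * S p.1 p.2 * y p.1 = y p.1 * S p.1 p.2 * y p.2 := by ring
    rw [this]
    exact CharTwo.add_self_eq_zero _
  · intro p _ hp hsw
    apply hp
    have : p.2 = p.1 := by
      have := congrArg Prod.fst hsw
      simpa using this
    rw [this, hd, mul_zero, zero_mul]
  · intro p _
    first | exact Prod.swap_swap p | exact Finset.mem_univ _
  · intro p _
    first | exact Prod.swap_swap p | exact Finset.mem_univ _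

theorem Hn_col0 {k x s : ℕ} (c : F) (hs : 2 * k ≤ s) (hx : c ≠ 0 → x < s) (i j : Fin m) (hj : s ≤ j.val) :
    Hn F m k x c i j = 0 := by
  rw [Hn_apply]
  have h1 : ¬ hyp k i.val j.val := by
    intro h
    have := (hyp_iff k _ _).mp h
    have h2 := partner_lt this.1
    omega
  rw [if_neg h1, zero_add]
  by_cases hc : c = 0
  · rw [hc, ite_self]
  · rw [if_neg]
    rintro ⟨_, h2⟩
    have := hx hc
    omega

theorem Hn_castLE {s k x : ℕ} (c : F) (hs : s ≤ m) :
    (Matrix.of fun i j => Hn F m k x c (Fin.castLE hs i) (Fin.castLE hs j) : Matrix (Fin s) (Fin s) F) =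
      Hn F s k x c := by
  ext i j
  rfl

section fin

variable [Fintype F] [CharP F 2]

theorem orderOf_eq_two_of_rank {t : Matrix.symplecticGroup (Fin m) F}
    (ht : (t : Matrix (Fin m ⊕ Fin m) (Fin m ⊕ Fin m) F) * t = 1) {s : ℕ} (hs : 1 ≤ s)
    (hrank : ((t : Matrix (Fin m ⊕ Fin m) (Fin m ⊕ Fin m) F) - 1).rank = s) : orderOf t = 2 := by
  have : Fact (Nat.Prime 2) := ⟨Nat.prime_two⟩
  apply orderOf_eq_prime
  · apply Subtype.ext
    rw [pow_two]
    exact ht
  · intro h1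
    rw [h1] at hrank
    simp at hrank
    omega

/-- the general reduction: an involution with the invariants of `tS (Hn ..)` has a centraliser counted by the
isometries of `Hn` -/
theorem card_centralizer_reduction {k x s : ℕ} (c : F) (hs1 : 1 ≤ s) (hsm : s ≤ m) (hks : 2 * k ≤ s)
    (hx : c ≠ 0 → x < s)
    (hinj : ∀ a : Fin s → F, Hn F s k x c *ᵥ a = 0 → a = 0)
    (t : Matrix.symplecticGroup (Fin m) F) (ht : orderOf t = 2)
    (hrank : ((t : Matrix (Fin m ⊕ Fin m) (Fin m ⊕ Fin m) F) - 1).rank = s)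
    (htau : tau (t : Matrix (Fin m ⊕ Fin m) (Fin m ⊕ Fin m) F) ↔ tau (tS (Hn F m k x c))) :
    Nat.card ↥(Subgroup.centralizer ({t} : Set ↥(Matrix.symplecticGroup (Fin m) F))) *
        Nat.card (TIFrames F m s) =
      Nat.card ↥(Matrix.symplecticGroup (Fin m) F) * Nat.card (OB (Hn F s k x c)) := by
  have hS := Hn_transpose (F := F) m k x c
  obtain ⟨hdata, hr0⟩ := invData_tS (Hn F m k x c) hS hsm (Hn_col0 c hks hx)
    (by rw [Hn_castLE]; exact hinj)
  set t₀ : Matrix.symplecticGroup (Fin m) F := ⟨tS (Hn F m k x c), tS_mem hS⟩ with ht₀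
  have ht₀2 : orderOf t₀ = 2 := orderOf_eq_two_of_rank (tS_mul_self _) hs1 hr0
  have hconj : IsConj t t₀ := by
    rw [isConj_iff_invariants t t₀ ht ht₀2]
    exact ⟨by rw [hrank]; exact hr0.symm, htau⟩
  rw [card_centralizer_of_isConj hconj]
  have := card_centralizer_mul t₀ hdata
  rw [gram_uN_eN, Hn_castLE] at this
  exact this

theorem tau_tS_Hn_a (k : ℕ) : tau (tS (Hn F m k 0 0)) := by
  rw [tau_tS_iff]
  intro y
  apply dot_mulVec_self_eq_zero _ (Hn_transpose m k 0 0)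
  intro i
  rw [Hn_apply, ite_self, add_zero, if_neg]
  unfold hyp
  omega

theorem not_tau_tS_Hn {k x : ℕ} (hxm : x < m) (hx : ¬ hyp k x x) : ¬ tau (tS (Hn F m k x 1)) := by
  rw [tau_tS_iff]
  intro h
  have h1 := h (Pi.single ⟨x, hxm⟩ 1)
  rw [Matrix.mulVec_single_one, single_one_dotProduct] at h1
  have h2 : (Hn F m k x 1).col ⟨x, hxm⟩ ⟨x, hxm⟩ = 1 := by
    show Hn F m k x 1 ⟨x, hxm⟩ ⟨x, hxm⟩ = 1
    rw [Hn_apply, if_neg hx, zero_add, if_pos ⟨rfl, rfl⟩]
  rw [h2] at h1
  exact one_ne_zero h1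

/-- type `a` -/
theorem card_centralizer_a {k : ℕ} (hk : 1 ≤ k) (t : Matrix.symplecticGroup (Fin m) F) (ht : orderOf t = 2)
    (hrank : ((t : Matrix (Fin m ⊕ Fin m) (Fin m ⊕ Fin m) F) - 1).rank = 2 * k)
    (htau : tau (t : Matrix (Fin m ⊕ Fin m) (Fin m ⊕ Fin m) F)) :
    Nat.card ↥(Subgroup.centralizer ({t} : Set ↥(Matrix.symplecticGroup (Fin m) F))) *
        Nat.card (TIFrames F m (2 * k)) =
      Nat.card ↥(Matrix.symplecticGroup (Fin m) F) * Nat.card (OB (Hn F (2 * k) k 0 0)) := by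
  have hsm : 2 * k ≤ m := by
    have := (rank_bounds t ht).2
    omega
  exact card_centralizer_reduction 0 (by omega) hsm le_rfl (fun h => absurd rfl h) (fun a ha => Hn_inj_a ha) t ht
    hrank ⟨fun _ => tau_tS_Hn_a k, fun _ => htau⟩

/-- type `b` -/
theorem card_centralizer_b {k : ℕ} (t : Matrix.symplecticGroup (Fin m) F) (ht : orderOf t = 2)
    (hrank : ((t : Matrix (Fin m ⊕ Fin m) (Fin m ⊕ Fin m) F) - 1).rank = 2 * k + 1) :
    Nat.card ↥(Subgroup.centralizer ({t} : Set ↥(Matrix.symplecticGroup (Fin m) F))) *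
        Nat.card (TIFrames F m (2 * k + 1)) =
      Nat.card ↥(Matrix.symplecticGroup (Fin m) F) * Nat.card (OB (Hn F (2 * k + 1) k (2 * k) 1)) := by
  have hsm : 2 * k + 1 ≤ m := by
    have := (rank_bounds t ht).2
    omega
  have hnt : ¬ tau (t : Matrix (Fin m ⊕ Fin m) (Fin m ⊕ Fin m) F) := by
    intro h
    have := even_rank_of_tau h
    rw [hrank] at this
    exact (Nat.not_even_iff_odd.mpr ⟨k, rfl⟩) this
  have hnt0 : ¬ tau (tS (Hn F m k (2 * k) 1)) := not_tau_tS_Hn (by omega) (by unfold hyp; omega)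
  exact card_centralizer_reduction 1 (by omega) hsm (by omega) (fun _ => by omega) (fun a ha => Hn_inj_b ha) t ht
    hrank ⟨fun h => absurd h hnt, fun h => absurd h hnt0⟩

/-- type `c` -/
theorem card_centralizer_c {k : ℕ} (hk : 1 ≤ k) (t : Matrix.symplecticGroup (Fin m) F) (ht : orderOf t = 2)
    (hrank : ((t : Matrix (Fin m ⊕ Fin m) (Fin m ⊕ Fin m) F) - 1).rank = 2 * k)
    (hnt : ¬ tau (t : Matrix (Fin m ⊕ Fin m) (Fin m ⊕ Fin m) F)) :
    Nat.card ↥(Subgroup.centralizer ({t} : Set ↥(Matrix.symplecticGroup (Fin m) F))) *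
        Nat.card (TIFrames F m (2 * k)) =
      Nat.card ↥(Matrix.symplecticGroup (Fin m) F) * Nat.card (OB (Hn F (2 * k) k 0 1)) := by
  have hsm : 2 * k ≤ m := by
    have := (rank_bounds t ht).2
    omega
  have hnt0 : ¬ tau (tS (Hn F m k 0 1)) := not_tau_tS_Hn (by omega) (by unfold hyp; omega)
  exact card_centralizer_reduction 1 (by omega) hsm le_rfl (fun _ => by omega) (fun a ha => Hn_inj_c hk ha) t ht
    hrank ⟨fun h => absurd h hnt, fun h => absurd h hnt0⟩

end fin

end Cfsg.Agent.Helper94.SpC
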