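import Cfsg.Agent.Helper94.OrC6
import Cfsg.Agent.Helper94.SpC4
import Cfsg.Agent.Helper43.OrthInvC

set_option autoImplicit false
set_option linter.unusedSectionVars false

/-!
# The normal form of an involution of type `a` in `O⁺_2m(q)`, `q` even, and its fixed vectors
-/

namespace Cfsg.Agent.Helper94.OrC

open Matrix QuadraticMap Module Cfsg.Agent.Helper13 Cfsg.Agent.Helper45.OmegaParity
open Cfsg.Agent.Helper44 Cfsg.Agent.Helper43.SpInv Cfsg.Agent.Helper43.OrthInv Cfsg.Agent.Helper94.SpC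

variable {F : Type*} [Field F] {m : ℕ}

section conj

/-- conjugate elements have centralisers of the same order in a normal subgroup -/
theorem card_comm_of_isConj {G : Type*} [Group G] (K : Subgroup G) [K.Normal] {x y : G}
    (h : IsConj x y) :
    Nat.card {g : K // (g : G) * x = x * (g : G)} = Nat.card {g : K // (g : G) * y = y * (g : G)} := by
  obtain ⟨c, hc⟩ := isConj_iff.mp h
  apply Nat.card_congr
  refine
    { toFun := fun g => ⟨⟨c * g.1.1 * c⁻¹, ‹K.Normal›.conj_mem _ g.1.2 c⟩, ?_⟩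
      invFun := fun g => ⟨⟨c⁻¹ * g.1.1 * c, by
        have := ‹K.Normal›.conj_mem _ g.1.2 c⁻¹
        rwa [inv_inv] at this⟩, ?_⟩
      left_inv := ?_
      right_inv := ?_ }
  · show c * g.1.1 * c⁻¹ * y = y * (c * g.1.1 * c⁻¹)
    rw [← hc]
    calc c * g.1.1 * c⁻¹ * (c * x * c⁻¹) = c * (g.1.1 * x) * c⁻¹ := by group
      _ = c * (x * g.1.1) * c⁻¹ := by rw [g.2]
      _ = c * x * c⁻¹ * (c * g.1.1 * c⁻¹) := by group
  · show c⁻¹ * g.1.1 * c * x = x * (c⁻¹ * g.1.1 * c)
    have hx : x = c⁻¹ * y * c := by rw [← hc]; group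
    have hg : g.1.1 * y = y * g.1.1 := g.2
    rw [hx]
    calc c⁻¹ * g.1.1 * c * (c⁻¹ * y * c) = c⁻¹ * (g.1.1 * y) * c := by group
      _ = c⁻¹ * (y * g.1.1) * c := by rw [hg]
      _ = c⁻¹ * y * c * (c⁻¹ * g.1.1 * c) := by group
  · intro g
    apply Subtype.ext
    apply Subtype.ext
    show c⁻¹ * (c * g.1.1 * c⁻¹) * c = g.1.1
    group
  · intro g
    apply Subtype.ext
    apply Subtype.ext
    show c * (c⁻¹ * g.1.1 * c) * c⁻¹ = g.1.1
    group

end conj

section nf

variable [Fintype F] [CharP F 2]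

/-- the matrix of the normal form of type `a_{2k}` -/
def T0 (F : Type*) [Field F] (m k : ℕ) : Matrix (Fin m ⊕ Fin m) (Fin m ⊕ Fin m) F :=
  tS (Hn F m k 0 0)

theorem T0_isometry (k : ℕ) (v : Fin m ⊕ Fin m → F) :
    Cfsg.quadFormPlus m F (T0 F m k *ᵥ v) = Cfsg.quadFormPlus m F v := by
  unfold T0
  rw [quadFormPlus_tS, (tau_tS_iff _).mp (tau_tS_Hn_a k) (v ∘ Sum.inr), add_zero]

/-- the normal form as an element of the isometry group -/
def x0 (F : Type*) [Field F] [Fintype F] [CharP F 2] (m k : ℕ) : ↥(Cfsg.isometryGroup F (Cfsg.quadFormPlus m F)) :=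
  ⟨glOfInv (T0 F m k) (tS_mul_self _),
    (Helper13.mem_isometryGroup_iff _ _).mpr (fun v => T0_isometry k v)⟩

theorem x0_coe (k : ℕ) :
    (((x0 F m k : ↥(Cfsg.isometryGroup F (Cfsg.quadFormPlus m F))) : GL (Fin m ⊕ Fin m) F) :
      Matrix (Fin m ⊕ Fin m) (Fin m ⊕ Fin m) F) = T0 F m k := rfl

theorem x0_mul_self (k : ℕ) : x0 F m k * x0 F m k = 1 := by
  apply Subtype.ext
  exact glOfInv_mul_self _ _

theorem rank_T0_sub_one {k : ℕ} (hk : 2 * k ≤ m) : (T0 F m k - 1).rank = 2 * k := by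
  unfold T0
  exact (invData_tS (Hn F m k 0 0) (Hn_transpose m k 0 0) hk
    (Hn_col0 0 le_rfl (fun h => absurd rfl h))
    (by rw [Hn_castLE]; exact fun a ha => Hn_inj_a ha)).2

theorem tauQ_T0 (k : ℕ) : tauQ (Cfsg.quadFormPlus m F) (T0 F m k) := tauQ_tS _

/-- an involution of type `a` is conjugate to the normal form -/
theorem isConj_x0 (x : ↥(Cfsg.isometryGroup F (Cfsg.quadFormPlus m F))) (hx : x ^ 2 = 1)
    {k : ℕ} (hk : 2 * k ≤ m)
    (hs : (((x : GL (Fin m ⊕ Fin m) F) : Matrix (Fin m ⊕ Fin m) (Fin m ⊕ Fin m) F) - 1).rank = 2 * k)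
    (halt : ∀ v : Fin m ⊕ Fin m → F, Cfsg.quadFormPlus m F
      ((((x : GL (Fin m ⊕ Fin m) F) : Matrix (Fin m ⊕ Fin m) (Fin m ⊕ Fin m) F) - 1) *ᵥ v) = 0) :
    IsConj x (x0 F m k) := by
  have hxx : x * x = 1 := by rw [← pow_two]; exact hx
  have h := Cfsg.Agent.Helper43.OrthInv.isConj_iff_invariants (plusForm m F)
    (nondegenerate_plusForm m) x (x0 F m k) hxx (x0_mul_self k)
  apply h.mpr
  refine ⟨?_, ?_⟩
  · rw [hs]
    exact (rank_T0_sub_one hk).symm
  · constructor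
    · intro _
      exact tauQ_T0 k
    · intro _ v
      rw [← sub_one_mulVec_eq_add]
      exact halt v

/-- the fixed vectors of the normal form -/
theorem T0_fixed_iff {k : ℕ} (hk : 2 * k ≤ m) (a : Fin m ⊕ Fin m → F) :
    T0 F m k *ᵥ a = a ↔ ∀ j : Fin m, j.val < 2 * k → a (Sum.inr j) = 0 := by
  unfold T0
  constructor
  · intro h j hj
    have h1 := congrFun h (Sum.inl ⟨partner k j.val, lt_of_lt_of_le (partner_lt hj) hk⟩)
    rw [tS_mulVec_inl, Hn_mulVec 0 hk, zero_mul, ite_self, add_zero, dif_pos (partner_lt hj)] at h1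
    simp only [partner_partner hj, Function.comp_apply] at h1
    have h2 := add_left_cancel (a := a (Sum.inl ⟨partner k j.val, lt_of_lt_of_le (partner_lt hj) hk⟩))
      (h1.trans (add_zero _).symm)
    exact h2
  · intro h
    funext i
    rcases i with i | i
    · rw [tS_mulVec_inl, Hn_mulVec 0 hk, zero_mul, ite_self, add_zero]
      split_ifs with hi
      · simp only [Function.comp_apply]
        rw [h _ (partner_lt hi), add_zero]
      · rw [add_zero]
    · rw [tS_mulVec_inr]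

end nf

end Cfsg.Agent.Helper94.OrC
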