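import Mathlib
import Cfsg.Prelude.Def_GeometricClasses
import Cfsg.Agent.Helper13.UMax2

set_option autoImplicit false
set_option linter.unusedSectionVars false
set_option linter.unusedVariables false
set_option linter.unusedSimpArgs false
set_option linter.style.haveILetI false

/-!
# Rational vectors for a subfield of index two, and membership in the subfield group
-/

namespace Cfsg.Agent.Helper94.SubU

open Matrix Cfsg Cfsg.Geo Cfsg.Agent.Helper13

variable {F : Type*} [Field F] [Fintype F] {n q : ℕ}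

section Fixed

variable (hF : Fintype.card F = q ^ 2) (F₀ : Subfield F)
  (hcard : Fintype.card F = Nat.card F₀ ^ 2)
include hF hcard

theorem natCard_F₀ : Nat.card F₀ = q := by
  have h : q ^ 2 = Nat.card F₀ ^ 2 := by rw [← hF, hcard]
  exact (Nat.pow_left_injective (by norm_num : 2 ≠ 0) h).symm

theorem pow_q_of_mem {x : F} (hx : x ∈ F₀) : x ^ q = x := by
  haveI : Fintype F₀ := Fintype.ofFinite F₀
  have h1 := FiniteField.pow_card (⟨x, hx⟩ : F₀)
  rw [← Nat.card_eq_fintype_card, natCard_F₀ hF F₀ hcard] at h1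
  have h2 := congrArg (Subtype.val : F₀ → F) h1
  simpa using h2

theorem mem_of_pow_q {x : F} (hx : x ^ q = x) : x ∈ F₀ := by
  classical
  have hq : 1 < q := two_le_of_card_eq_sq hF
  obtain ⟨p, hp⟩ : ∃ p : Polynomial F, p = Polynomial.X ^ q - Polynomial.X := ⟨_, rfl⟩
  have hp0 : p ≠ 0 := hp ▸ FiniteField.X_pow_card_sub_X_ne_zero F hq
  have hdeg : p.natDegree = q := hp ▸ FiniteField.X_pow_card_sub_X_natDegree_eq F hq
  haveI : Fintype F₀ := Fintype.ofFinite F₀
  obtain ⟨T, hTdef⟩ : ∃ T : Finset F, T = Finset.univ.image (Subtype.val : F₀ → F) := ⟨_, rfl⟩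
  have hT : T.card = q := by
    rw [hTdef, Finset.card_image_of_injective _ Subtype.val_injective, Finset.card_univ,
      ← Nat.card_eq_fintype_card, natCard_F₀ hF F₀ hcard]
  have hroot : ∀ y : F, y ^ q = y → y ∈ p.roots.toFinset := by
    intro y hy
    rw [Multiset.mem_toFinset, Polynomial.mem_roots hp0, hp]
    simp [hy]
  have hsub : T ⊆ p.roots.toFinset := by
    intro y hy
    rw [hTdef] at hy
    obtain ⟨z, -, rfl⟩ := Finset.mem_image.mp hy
    exact hroot _ (pow_q_of_mem hF F₀ hcard z.2)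
  have hle : p.roots.toFinset.card ≤ q :=
    le_trans (Multiset.toFinset_card_le _) (hdeg ▸ Polynomial.card_roots' p)
  have heq : T = p.roots.toFinset := Finset.eq_of_subset_of_card_le hsub (by rw [hT]; exact hle)
  have hx' : x ∈ T := by rw [heq]; exact hroot x hx
  rw [hTdef] at hx'
  obtain ⟨z, -, rfl⟩ := Finset.mem_image.mp hx'
  exact z.2

theorem mem_F₀_iff {x : F} : x ∈ F₀ ↔ x ^ q = x :=
  ⟨pow_q_of_mem hF F₀ hcard, mem_of_pow_q hF F₀ hcard⟩

/-- an element outside the subfield -/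
theorem exists_not_mem : ∃ θ : F, θ ∉ F₀ := by
  by_contra hcon
  push Not at hcon
  have h1 : Nat.card F₀ = Fintype.card F := by
    rw [← Nat.card_eq_fintype_card]
    exact Nat.card_congr ⟨fun x => x.1, fun x => ⟨x, hcon x⟩, fun _ => rfl, fun _ => rfl⟩
  rw [natCard_F₀ hF F₀ hcard, hF] at h1
  have hq : 2 ≤ q := two_le_of_card_eq_sq hF
  nlinarith

end Fixed

/-- vectors with all coordinates in the subfield -/
def Rat (F₀ : Subfield F) (u : Fin n → F) : Prop := ∀ i, u i ∈ F₀

theorem Rat.add {F₀ : Subfield F} {u v : Fin n → F} (hu : Rat F₀ u) (hv : Rat F₀ v) :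
    Rat F₀ (u + v) := fun i => F₀.add_mem (hu i) (hv i)

theorem Rat.sub {F₀ : Subfield F} {u v : Fin n → F} (hu : Rat F₀ u) (hv : Rat F₀ v) :
    Rat F₀ (u - v) := fun i => F₀.sub_mem (hu i) (hv i)

theorem Rat.neg {F₀ : Subfield F} {u : Fin n → F} (hu : Rat F₀ u) :
    Rat F₀ (-u) := fun i => F₀.neg_mem (hu i)

theorem Rat.smul {F₀ : Subfield F} {u : Fin n → F} (hu : Rat F₀ u) {c : F} (hc : c ∈ F₀) :
    Rat F₀ (c • u) := fun i => F₀.mul_mem hc (hu i)

theorem Rat.zero (F₀ : Subfield F) : Rat F₀ (0 : Fin n → F) := fun _ => F₀.zero_mem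

theorem Rat.single (F₀ : Subfield F) (j : Fin n) : Rat F₀ (Pi.single j (1 : F)) := by
  intro i
  by_cases h : i = j
  · subst h; rw [Pi.single_eq_same]; exact F₀.one_mem
  · rw [Pi.single_eq_of_ne h]; exact F₀.zero_mem

/-- the Frobenius map on vectors -/
def fr (q : ℕ) (u : Fin n → F) : Fin n → F := fun i => u i ^ q

theorem fr_add (hF : Fintype.card F = q ^ 2) (u v : Fin n → F) :
    fr q (u + v) = fr q u + fr q v := by
  funext i
  exact frob_add hF (u i) (v i)

theorem fr_smul (c : F) (u : Fin n → F) : fr q (c • u) = c ^ q • fr q u := by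
  funext i
  simp [fr, mul_pow]

section Fixed2

variable (hF : Fintype.card F = q ^ 2) (F₀ : Subfield F)
  (hcard : Fintype.card F = Nat.card F₀ ^ 2)
include hF hcard

theorem fr_of_rat {u : Fin n → F} (hu : Rat F₀ u) : fr q u = u := by
  funext i
  exact pow_q_of_mem hF F₀ hcard (hu i)

theorem rat_of_fr {u : Fin n → F} (hu : fr q u = u) : Rat F₀ u := by
  intro i
  exact mem_of_pow_q hF F₀ hcard (congrFun hu i)

/-- the `θ`-coordinate of an element -/
noncomputable def tpart (q : ℕ) (θ y : F) : F := (y - y ^ q) / (θ - θ ^ q)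

/-- the constant coordinate of an element -/
noncomputable def spart (q : ℕ) (θ y : F) : F := y - tpart q θ y * θ

theorem theta_ne {θ : F} (hθ : θ ∉ F₀) : θ - θ ^ q ≠ 0 := by
  intro h
  apply hθ
  apply mem_of_pow_q hF F₀ hcard
  exact (sub_eq_zero.mp h).symm

theorem tpart_mem {θ : F} (hθ : θ ∉ F₀) (y : F) : tpart q θ y ∈ F₀ := by
  apply mem_of_pow_q hF F₀ hcard
  have h0 := theta_ne hF F₀ hcard hθ
  have h1 : θ ^ q - θ ≠ 0 := by
    intro h; apply h0; linear_combination -h
  unfold tpart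
  rw [div_pow, frob_sub' hF, frob_sub' hF, frob_frob hF, frob_frob hF, div_eq_div_iff h1 h0]
  ring

theorem spart_mem {θ : F} (hθ : θ ∉ F₀) (y : F) : spart q θ y ∈ F₀ := by
  apply mem_of_pow_q hF F₀ hcard
  have h0 := theta_ne hF F₀ hcard hθ
  have ht := pow_q_of_mem hF F₀ hcard (tpart_mem hF F₀ hcard hθ y)
  unfold spart
  rw [frob_sub' hF, mul_pow, ht]
  unfold tpart
  field_simp
  ring

end Fixed2

theorem spart_add_tpart (θ y : F) : spart q θ y + tpart q θ y * θ = y := by
  unfold spart; ring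

end Cfsg.Agent.Helper94.SubU
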