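import Mathlib
import Cfsg.Agent.Helper94.SubU1

set_option autoImplicit false
set_option linter.unusedSectionVars false
set_option linter.unusedVariables false
set_option linter.unusedSimpArgs false
set_option linter.style.haveILetI false

/-!
# Membership in the subfield group through rational points
-/

namespace Cfsg.Agent.Helper94.SubU

open Matrix Cfsg Cfsg.Geo Cfsg.Agent.Helper13

variable {F : Type*} [Field F] [Fintype F] {n q : ℕ}

/-- matrices whose entries, divided by a non-zero scalar, lie in the subfield give elements of the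
subfield group -/
theorem mem_subfieldSubgroup_of_entries (F₀ : Subfield F) (P g : GL (Fin n) F) (lam : F)
    (hlam : lam ≠ 0)
    (h : ∀ i j, ((P⁻¹ * g * P : GL (Fin n) F) : Matrix (Fin n) (Fin n) F) i j / lam ∈ F₀) :
    g ∈ Cfsg.Geo.subfieldSubgroup F₀ P := by
  obtain ⟨A, hA⟩ : ∃ A : GL (Fin n) F, A = P⁻¹ * g * P := ⟨_, rfl⟩
  rw [← hA] at h
  obtain ⟨M₀, hM₀⟩ : ∃ M₀ : Matrix (Fin n) (Fin n) F₀,
      M₀ = Matrix.of fun i j => (⟨(A : Matrix (Fin n) (Fin n) F) i j / lam, h i j⟩ : F₀) := ⟨_, rfl⟩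
  have hmap : (F₀.subtype).mapMatrix M₀ = lam⁻¹ • (A : Matrix (Fin n) (Fin n) F) := by
    ext i j
    rw [hM₀]
    simp [div_eq_inv_mul]
  have hdet : M₀.det ≠ 0 := by
    intro h0
    have h1 : ((F₀.subtype).mapMatrix M₀).det = 0 := by
      rw [← RingHom.map_det, h0, map_zero]
    rw [hmap, Matrix.det_smul] at h1
    have h2 : (A : Matrix (Fin n) (Fin n) F).det ≠ 0 := by
      have := (Matrix.GeneralLinearGroup.det A).ne_zero
      simpa using this
    rcases mul_eq_zero.mp h1 with h3 | h3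
    · exact pow_ne_zero _ (inv_ne_zero hlam) h3
    · exact h2 h3
  obtain ⟨A₀, hA₀⟩ : ∃ A₀ : GL (Fin n) F₀, (A₀ : Matrix (Fin n) (Fin n) F₀) = M₀ :=
    ⟨Matrix.GeneralLinearGroup.mkOfDetNeZero M₀ hdet, rfl⟩
  obtain ⟨sc, hsc⟩ : ∃ sc : GL (Fin n) F, sc ∈ Cfsg.Geo.scalars (Fin n) F ∧
      (sc : Matrix (Fin n) (Fin n) F) = lam • (1 : Matrix (Fin n) (Fin n) F) := by
    refine ⟨Units.map (Matrix.scalar (Fin n) : F →+* Matrix (Fin n) (Fin n) F).toMonoidHom
      (Units.mk0 lam hlam), ⟨_, rfl⟩, ?_⟩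
    simp [Matrix.smul_one_eq_diagonal]
  have hx : Matrix.GeneralLinearGroup.map (F₀.subtype : F₀ →+* F) A₀ * sc = A := by
    apply Units.ext
    rw [Units.val_mul, hsc.2]
    have : ((Matrix.GeneralLinearGroup.map (F₀.subtype : F₀ →+* F) A₀ : GL (Fin n) F) :
        Matrix (Fin n) (Fin n) F) = (F₀.subtype).mapMatrix (A₀ : Matrix (Fin n) (Fin n) F₀) := rfl
    rw [this, hA₀, hmap]
    rw [Matrix.smul_mul, Matrix.mul_smul, Matrix.mul_one, smul_smul, inv_mul_cancel₀ hlam,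
      one_smul]
  unfold Cfsg.Geo.subfieldSubgroup
  rw [Subgroup.mem_map]
  refine ⟨A, ?_, ?_⟩
  · rw [← hx]
    exact Subgroup.mul_mem_sup ⟨A₀, rfl⟩ hsc.1
  · show P * A * P⁻¹ = g
    rw [hA]
    group

/-- elements of the subfield group map rational points to rational points -/
theorem rat_of_mem_subfieldSubgroup (F₀ : Subfield F) (P g : GL (Fin n) F)
    (hg : g ∈ Cfsg.Geo.subfieldSubgroup F₀ P) :
    ∃ lam : F, lam ≠ 0 ∧ ∀ u : Fin n → F, Rat F₀ u → ∃ v : Fin n → F, Rat F₀ v ∧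
      (g : Matrix (Fin n) (Fin n) F) *ᵥ ((P : Matrix (Fin n) (Fin n) F) *ᵥ u)
        = lam • ((P : Matrix (Fin n) (Fin n) F) *ᵥ v) := by
  unfold Cfsg.Geo.subfieldSubgroup at hg
  rw [Subgroup.mem_map] at hg
  obtain ⟨x, hx, hxg⟩ := hg
  rw [Subgroup.mem_sup_of_normal_right] at hx
  obtain ⟨y, ⟨A₀, rfl⟩, z, hz, rfl⟩ := hx
  rw [Cfsg.Geo.mem_scalars_iff] at hz
  obtain ⟨c, hc⟩ := hz
  refine ⟨(c : F), c.ne_zero, ?_⟩
  intro u hu
  refine ⟨((Matrix.GeneralLinearGroup.map (F₀.subtype : F₀ →+* F) A₀ : GL (Fin n) F) :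
      Matrix (Fin n) (Fin n) F) *ᵥ u, ?_, ?_⟩
  · intro i
    have : ((Matrix.GeneralLinearGroup.map (F₀.subtype : F₀ →+* F) A₀ : GL (Fin n) F) :
        Matrix (Fin n) (Fin n) F) = (F₀.subtype).mapMatrix (A₀ : Matrix (Fin n) (Fin n) F₀) := rfl
    rw [this]
    simp only [Matrix.mulVec, dotProduct]
    refine F₀.sum_mem fun j _ => F₀.mul_mem ?_ (hu j)
    simp
  · have hg' : (g : Matrix (Fin n) (Fin n) F) = (P : Matrix (Fin n) (Fin n) F)
        * (((Matrix.GeneralLinearGroup.map (F₀.subtype : F₀ →+* F) A₀ : GL (Fin n) F) :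
          Matrix (Fin n) (Fin n) F) * (z : Matrix (Fin n) (Fin n) F))
        * ((P⁻¹ : GL (Fin n) F) : Matrix (Fin n) (Fin n) F) := by
      rw [← hxg]
      rfl
    have e1 : ((P⁻¹ : GL (Fin n) F) : Matrix (Fin n) (Fin n) F) * (P : Matrix (Fin n) (Fin n) F)
        = 1 := by rw [← Units.val_mul, inv_mul_cancel, Units.val_one]
    rw [hg']
    simp only [← Matrix.mulVec_mulVec]
    rw [Matrix.mulVec_mulVec _ ((P⁻¹ : GL (Fin n) F) : Matrix (Fin n) (Fin n) F)
      (P : Matrix (Fin n) (Fin n) F), e1, Matrix.one_mulVec, hc, Matrix.smul_mulVec,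
      Matrix.one_mulVec, Matrix.mulVec_smul, Matrix.mulVec_smul]

section Fixed

variable (hF : Fintype.card F = q ^ 2) (F₀ : Subfield F)
  (hcard : Fintype.card F = Nat.card F₀ ^ 2)
include hF hcard

/-- a combination of two independent rational vectors that is proportional to a rational vector has
a rational coefficient -/
theorem coeff_mem_of_prop {x y z : Fin n → F} (hx : Rat F₀ x) (hy : Rat F₀ y) (hz : Rat F₀ z)
    (hli : ∀ s t : F, s • x + t • y = 0 → s = 0 ∧ t = 0) {ρ σ : F}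
    (h : x + ρ • y = σ • z) : ρ ∈ F₀ := by
  have hσ : σ ≠ 0 := by
    rintro rfl
    rw [zero_smul] at h
    have := hli 1 ρ (by rw [one_smul]; exact h)
    exact one_ne_zero this.1
  have h2 := congrArg (fr q) h
  rw [fr_add hF, fr_smul, fr_smul, fr_of_rat hF F₀ hcard hx, fr_of_rat hF F₀ hcard hy,
    fr_of_rat hF F₀ hcard hz] at h2
  have hz' : z = σ⁻¹ • (x + ρ • y) := by
    rw [h, smul_smul, inv_mul_cancel₀ hσ, one_smul]
  rw [hz'] at h2
  have h3 : (1 - σ ^ q * σ⁻¹) • x + (ρ ^ q - σ ^ q * σ⁻¹ * ρ) • y = 0 := by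
    have : x + ρ ^ q • y - σ ^ q • σ⁻¹ • (x + ρ • y) = 0 := sub_eq_zero.mpr h2
    rw [← this]
    module
  obtain ⟨h4, h5⟩ := hli _ _ h3
  apply mem_of_pow_q hF F₀ hcard
  have h6 : σ ^ q * σ⁻¹ = 1 := by linear_combination -h4
  rw [h6, one_mul] at h5
  exact sub_eq_zero.mp h5

/-- an invertible matrix mapping rational points to rational points is a scalar multiple of a
rational matrix -/
theorem entries_of_rat_points (A : GL (Fin n) F) (i₀ : Fin n)
    (h : ∀ u : Fin n → F, Rat F₀ u → ∃ (lam : F) (v : Fin n → F), Rat F₀ v ∧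
      (A : Matrix (Fin n) (Fin n) F) *ᵥ u = lam • v) :
    ∃ lam : F, lam ≠ 0 ∧ ∀ i j, (A : Matrix (Fin n) (Fin n) F) i j / lam ∈ F₀ := by
  have hinj : ∀ x : Fin n → F, (A : Matrix (Fin n) (Fin n) F) *ᵥ x = 0 → x = 0 := by
    intro x hx
    have := congrArg (fun y => ((A⁻¹ : GL (Fin n) F) : Matrix (Fin n) (Fin n) F) *ᵥ y) hx
    simp only [Matrix.mulVec_mulVec, Matrix.mulVec_zero] at this
    rwa [← Units.val_mul, inv_mul_cancel, Units.val_one, Matrix.one_mulVec] at this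
  obtain ⟨lam₀, v₀, hv₀, hAv₀⟩ := h _ (Rat.single F₀ i₀)
  have hlam₀ : lam₀ ≠ 0 := by
    rintro rfl
    rw [zero_smul] at hAv₀
    have := congrFun (hinj _ hAv₀) i₀
    simp at this
  refine ⟨lam₀, hlam₀, ?_⟩
  intro i j
  obtain ⟨lam, v, hv, hAv⟩ := h _ (Rat.single F₀ j)
  have hcol : (A : Matrix (Fin n) (Fin n) F) i j = lam * v i := by
    have := congrFun hAv i
    rw [Matrix.mulVec_single_one] at this
    simpa using this
  by_cases hj : j = i₀
  · subst hj
    have hcol₀ : (A : Matrix (Fin n) (Fin n) F) i j = lam₀ * v₀ i := by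
      have := congrFun hAv₀ i
      rw [Matrix.mulVec_single_one] at this
      simpa using this
    rw [hcol₀, mul_div_cancel_left₀ _ hlam₀]
    exact hv₀ i
  · have hlam : lam ≠ 0 := by
      rintro rfl
      rw [zero_smul] at hAv
      have := congrFun (hinj _ hAv) j
      simp at this
    obtain ⟨mu, w, hw, hAw⟩ := h _ ((Rat.single F₀ i₀).add (Rat.single F₀ j))
    rw [Matrix.mulVec_add, hAv₀, hAv] at hAw
    have hli : ∀ s t : F, s • v₀ + t • v = 0 → s = 0 ∧ t = 0 := by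
      intro s t hst
      have h1 : (A : Matrix (Fin n) (Fin n) F) *ᵥ ((s / lam₀) • Pi.single i₀ (1 : F)
          + (t / lam) • Pi.single j (1 : F)) = 0 := by
        rw [Matrix.mulVec_add, Matrix.mulVec_smul, Matrix.mulVec_smul, hAv₀, hAv, smul_smul,
          smul_smul, div_mul_cancel₀ _ hlam₀, div_mul_cancel₀ _ hlam]
        exact hst
      have h2 := hinj _ h1
      have h3 := congrFun h2 i₀
      have h4 := congrFun h2 j
      simp only [Pi.add_apply, Pi.smul_apply, Pi.single_eq_same, smul_eq_mul, mul_one,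
        Pi.zero_apply] at h3 h4
      rw [Pi.single_eq_of_ne (Ne.symm hj), mul_zero, add_zero] at h3
      rw [Pi.single_eq_of_ne hj, mul_zero, zero_add] at h4
      exact ⟨by simpa [hlam₀] using h3, by simpa [hlam] using h4⟩
    have h5 : v₀ + (lam / lam₀) • v = (mu / lam₀) • w := by
      have : lam₀⁻¹ • (lam₀ • v₀ + lam • v) = lam₀⁻¹ • (mu • w) := by rw [hAw]
      rw [smul_add, smul_smul, smul_smul, smul_smul, inv_mul_cancel₀ hlam₀, one_smul] at this
      rw [div_eq_inv_mul, div_eq_inv_mul]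
      exact this
    have h6 := coeff_mem_of_prop hF F₀ hcard hv₀ hv hw hli h5
    rw [hcol, mul_div_right_comm]
    exact F₀.mul_mem h6 (hv i)

end Fixed

end Cfsg.Agent.Helper94.SubU
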