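import Mathlib
import Cfsg.Agent.Helper94.SubU2

set_option autoImplicit false
set_option linter.unusedSectionVars false
set_option linter.unusedVariables false
set_option linter.unusedSimpArgs false
set_option linter.style.haveILetI false

/-!
# The alternating form on the rational points and the rational transvections
-/

namespace Cfsg.Agent.Helper94.SubU

open Matrix Cfsg Cfsg.Geo Cfsg.Agent.Helper13

variable {F : Type*} [Field F] [Fintype F] {n q : ℕ}

local notation "Matn" => Matrix (Fin n) (Fin n) F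

/-- the form `ζ h(P u, P v)` -/
def ff (q : ℕ) (ζ : F) (P : GL (Fin n) F) (u v : Fin n → F) : F :=
  ζ * Cfsg.hermForm n F q ((P : Matn) *ᵥ u) ((P : Matn) *ᵥ v)

/-- coordinatewise constant part -/
noncomputable def sv (q : ℕ) (θ : F) (x : Fin n → F) : Fin n → F := fun i => spart q θ (x i)

/-- coordinatewise `θ`-part -/
noncomputable def tv (q : ℕ) (θ : F) (x : Fin n → F) : Fin n → F := fun i => tpart q θ (x i)

theorem sv_add_tv (θ : F) (x : Fin n → F) : sv q θ x + θ • tv q θ x = x := by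
  funext i
  simp only [Pi.add_apply, Pi.smul_apply, smul_eq_mul, sv, tv]
  rw [mul_comm]
  exact spart_add_tpart θ (x i)

section Fixed

variable (hF : Fintype.card F = q ^ 2) (F₀ : Subfield F)
  (hcard : Fintype.card F = Nat.card F₀ ^ 2)

theorem ff_add_left (ζ : F) (P : GL (Fin n) F) (u u' v : Fin n → F) :
    ff q ζ P (u + u') v = ff q ζ P u v + ff q ζ P u' v := by
  unfold ff
  rw [Matrix.mulVec_add, hermForm_add_left]
  ring

theorem ff_smul_left (ζ : F) (P : GL (Fin n) F) (c : F) (u v : Fin n → F) :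
    ff q ζ P (c • u) v = c * ff q ζ P u v := by
  unfold ff
  rw [Matrix.mulVec_smul, hermForm_smul_left]
  ring

theorem ff_sub_left (ζ : F) (P : GL (Fin n) F) (u u' v : Fin n → F) :
    ff q ζ P (u - u') v = ff q ζ P u v - ff q ζ P u' v := by
  unfold ff
  rw [Matrix.mulVec_sub, hermForm_sub_left]
  ring

include hF in
theorem ff_add_right (ζ : F) (P : GL (Fin n) F) (u v v' : Fin n → F) :
    ff q ζ P u (v + v') = ff q ζ P u v + ff q ζ P u v' := by
  unfold ff
  rw [Matrix.mulVec_add, hermForm_add_right hF]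
  ring

include hF in
theorem ff_sub_right (ζ : F) (P : GL (Fin n) F) (u v v' : Fin n → F) :
    ff q ζ P u (v - v') = ff q ζ P u v - ff q ζ P u v' := by
  unfold ff
  rw [Matrix.mulVec_sub, hermForm_sub_right hF]
  ring

theorem ff_smul_right (ζ : F) (P : GL (Fin n) F) (c : F) (u v : Fin n → F) :
    ff q ζ P u (c • v) = c ^ q * ff q ζ P u v := by
  unfold ff
  rw [Matrix.mulVec_smul, hermForm_smul_right]
  ring

include hF hcard in
theorem ff_smul_right_rat (ζ : F) (P : GL (Fin n) F) {c : F} (hc : c ∈ F₀) (u v : Fin n → F) :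
    ff q ζ P u (c • v) = c * ff q ζ P u v := by
  rw [ff_smul_right, pow_q_of_mem hF F₀ hcard hc]

variable {ζ : F} (hζ0 : ζ ≠ 0) (hζ : ζ + ζ ^ q = 0) {P : GL (Fin n) F}
  (hP : Cfsg.Geo.IsFormRationalStructure (Cfsg.hermForm n F q) F₀ ζ P)
  (halt : ∀ u : Fin n → F, (∀ i, u i ∈ F₀) →
    Cfsg.hermForm n F q ((P : Matrix (Fin n) (Fin n) F) *ᵥ u)
      ((P : Matrix (Fin n) (Fin n) F) *ᵥ u) = 0)

include hP in
theorem ff_mem {u v : Fin n → F} (hu : Rat F₀ u) (hv : Rat F₀ v) : ff q ζ P u v ∈ F₀ :=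
  hP u v hu hv

include halt in
theorem ff_self {u : Fin n → F} (hu : Rat F₀ u) : ff q ζ P u u = 0 := by
  unfold ff
  rw [halt u hu, mul_zero]

include hF halt in
theorem ff_skew {u v : Fin n → F} (hu : Rat F₀ u) (hv : Rat F₀ v) :
    ff q ζ P u v = -ff q ζ P v u := by
  have h := ff_self F₀ (ζ := ζ) halt (hu.add hv)
  rw [ff_add_left, ff_add_right hF, ff_add_right hF, ff_self F₀ halt hu, ff_self F₀ halt hv] at h
  linear_combination h

include hζ0 in
theorem herm_eq_ff (u v : Fin n → F) :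
    Cfsg.hermForm n F q ((P : Matn) *ᵥ u) ((P : Matn) *ᵥ v) = ζ⁻¹ * ff q ζ P u v := by
  unfold ff
  rw [← mul_assoc, inv_mul_cancel₀ hζ0, one_mul]

theorem P_injective {x y : Fin n → F} (h : (P : Matn) *ᵥ x = (P : Matn) *ᵥ y) : x = y := by
  have := congrArg (fun w => ((P⁻¹ : GL (Fin n) F) : Matn) *ᵥ w) h
  simp only [Matrix.mulVec_mulVec] at this
  rwa [← Units.val_mul, inv_mul_cancel, Units.val_one, Matrix.one_mulVec, Matrix.one_mulVec] at this

include hF hcard hζ0 in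
/-- the form is non-degenerate on the rational points -/
theorem exists_ff_ne_zero {a : Fin n → F} (ha : a ≠ 0) :
    ∃ x : Fin n → F, Rat F₀ x ∧ ff q ζ P a x ≠ 0 := by
  obtain ⟨θ, hθ⟩ := exists_not_mem hF F₀ hcard
  have hPa : (P : Matn) *ᵥ a ≠ 0 := by
    intro h
    apply ha
    apply P_injective (P := P)
    rw [h, Matrix.mulVec_zero]
  by_contra hcon
  push Not at hcon
  apply hPa
  apply eq_zero_of_hermForm_eq_zero hF
  intro y
  obtain ⟨x, hx⟩ : ∃ x, x = ((P⁻¹ : GL (Fin n) F) : Matn) *ᵥ y := ⟨_, rfl⟩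
  have hy : y = (P : Matn) *ᵥ x := by
    rw [hx, Matrix.mulVec_mulVec, ← Units.val_mul, mul_inv_cancel, Units.val_one,
      Matrix.one_mulVec]
  have h1 := hcon (sv q θ x) (fun i => spart_mem hF F₀ hcard hθ (x i))
  have h2 := hcon (tv q θ x) (fun i => tpart_mem hF F₀ hcard hθ (x i))
  have h3 : ff q ζ P a x = 0 := by
    rw [← sv_add_tv (q := q) θ x, ff_add_right hF, ff_smul_right, h1, h2]
    ring
  rw [hy, herm_eq_ff hζ0, h3, mul_zero]

include hF hcard hζ0 halt in
/-- a rational vector detecting two given non-zero rational vectors -/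
theorem exists_ff_ne_zero_both {a b : Fin n → F} (ha : a ≠ 0) (hb : b ≠ 0) :
    ∃ x : Fin n → F, Rat F₀ x ∧ ff q ζ P a x ≠ 0 ∧ ff q ζ P b x ≠ 0 := by
  obtain ⟨x₁, hx₁, h1⟩ := exists_ff_ne_zero hF F₀ hcard hζ0 (P := P) ha
  obtain ⟨x₂, hx₂, h2⟩ := exists_ff_ne_zero hF F₀ hcard hζ0 (P := P) hb
  by_cases h3 : ff q ζ P b x₁ = 0
  swap
  · exact ⟨x₁, hx₁, h1, h3⟩
  by_cases h4 : ff q ζ P a x₂ = 0
  swap
  · exact ⟨x₂, hx₂, h4, h2⟩
  refine ⟨x₁ + x₂, hx₁.add hx₂, ?_, ?_⟩
  · rw [ff_add_right hF, h4, add_zero]; exact h1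
  · rw [ff_add_right hF, h3, zero_add]; exact h2

/-- the subgroup `H` of the statement -/
def HH (q : ℕ) (F₀ : Subfield F) (P : GL (Fin n) F) : Subgroup (GL (Fin n) F) :=
  Cfsg.Geo.subfieldSubgroup F₀ P ⊓ (Cfsg.GU n F q ⊓ Cfsg.Geo.specialLinear (Fin n) F)

include hF hcard hζ0 hζ hP halt in
/-- the unitary transvections with rational centre lie in `H` -/
theorem rt_mem {u : Fin n → F} (hu : Rat F₀ u) {c : F} (hc : c + c ^ q = 0) (g : GL (Fin n) F)
    (hg : (g : Matn) = Cfsg.unitaryTransvection n q ((P : Matn) *ᵥ u) c) : g ∈ HH q F₀ P := by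
  have hiso := halt u hu
  refine Subgroup.mem_inf.mpr ⟨?_, Subgroup.mem_inf.mpr ⟨?_, ?_⟩⟩
  · apply mem_subfieldSubgroup_of_entries F₀ P g 1 one_ne_zero
    intro i j
    rw [div_one]
    have hcz : c / ζ ∈ F₀ := by
      apply mem_of_pow_q hF F₀ hcard
      have h1 : c ^ q = -c := by linear_combination hc
      have h2 : ζ ^ q = -ζ := by linear_combination hζ
      rw [div_pow, h1, h2, neg_div_neg_eq]
    have hmul : ∀ x : Fin n → F, ((P⁻¹ * g * P : GL (Fin n) F) : Matn) *ᵥ x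
        = x + ((c / ζ) * ff q ζ P x u) • u := by
      intro x
      rw [Units.val_mul, Units.val_mul, ← Matrix.mulVec_mulVec, ← Matrix.mulVec_mulVec, hg,
        unitaryTransvection_mulVec, Matrix.mulVec_add, Matrix.mulVec_smul, Matrix.mulVec_mulVec,
        Matrix.mulVec_mulVec, ← Units.val_mul, inv_mul_cancel, Units.val_one, Matrix.one_mulVec,
        Matrix.one_mulVec, herm_eq_ff hζ0]
      congr 2
      field_simp
    have h3 := congrFun (hmul (Pi.single j 1)) i
    rw [Matrix.mulVec_single_one] at h3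
    have h4 : ((P⁻¹ * g * P : GL (Fin n) F) : Matn) i j
        = (Pi.single j (1 : F) : Fin n → F) i + (c / ζ * ff q ζ P (Pi.single j 1) u) * u i := by
      simpa using h3
    rw [h4]
    exact F₀.add_mem (Rat.single F₀ j i)
      (F₀.mul_mem (F₀.mul_mem hcz (ff_mem F₀ hP (Rat.single F₀ j) hu)) (hu i))
  · rw [mem_GU_iff, hg]
    exact isU_unitaryTransvection hF _ c hiso hc
  · rw [mem_specialLinear_iff, hg]
    exact det_unitaryTransvection _ c hiso

/-- two pairs of rational vectors are linked by an element of `H` -/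
def Conn (q : ℕ) (F₀ : Subfield F) (P : GL (Fin n) F) (a b a' b' : Fin n → F) : Prop :=
  ∃ h ∈ HH q F₀ P, (h : Matn) *ᵥ ((P : Matn) *ᵥ a) = (P : Matn) *ᵥ a' ∧
    (h : Matn) *ᵥ ((P : Matn) *ᵥ b) = (P : Matn) *ᵥ b'

theorem Conn.trans {a b a₁ b₁ a₂ b₂ : Fin n → F} (h1 : Conn q F₀ P a b a₁ b₁)
    (h2 : Conn q F₀ P a₁ b₁ a₂ b₂) : Conn q F₀ P a b a₂ b₂ := by
  obtain ⟨h, hh, ha, hb⟩ := h1
  obtain ⟨h', hh', ha', hb'⟩ := h2
  refine ⟨h' * h, (HH q F₀ P).mul_mem hh' hh, ?_, ?_⟩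
  · rw [Units.val_mul, ← Matrix.mulVec_mulVec, ha, ha']
  · rw [Units.val_mul, ← Matrix.mulVec_mulVec, hb, hb']

include hF hcard hζ0 hζ hP halt in
/-- one transvection step -/
theorem Conn.step {a b u : Fin n → F} (hu : Rat F₀ u) {α : F} (hα : α ∈ F₀) :
    Conn q F₀ P a b (a + (α * ff q ζ P a u) • u) (b + (α * ff q ζ P b u) • u) := by
  have hc : α * ζ + (α * ζ) ^ q = 0 := by
    rw [mul_pow, pow_q_of_mem hF F₀ hcard hα]
    linear_combination α * hζ
  have hiso := halt u hu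
  refine ⟨glOfDetOne (Cfsg.unitaryTransvection n q ((P : Matn) *ᵥ u) (α * ζ))
    (det_unitaryTransvection _ _ hiso), rt_mem hF F₀ hcard hζ0 hζ hP halt hu hc _
      (glOfDetOne_coe _ _), ?_, ?_⟩
  · rw [glOfDetOne_coe, unitaryTransvection_mulVec, Matrix.mulVec_add, Matrix.mulVec_smul,
      herm_eq_ff hζ0]
    congr 2
    field_simp
  · rw [glOfDetOne_coe, unitaryTransvection_mulVec, Matrix.mulVec_add, Matrix.mulVec_smul,
      herm_eq_ff hζ0]
    congr 2
    field_simp

end Fixed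

end Cfsg.Agent.Helper94.SubU
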