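import Mathlib
import Cfsg.Agent.Helper94.SubU3
import Cfsg.Agent.Helper13.UStabDet

set_option autoImplicit false
set_option linter.unusedSectionVars false
set_option linter.unusedVariables false
set_option linter.unusedSimpArgs false
set_option linter.style.haveILetI false

/-!
# The rational structure of an orthogonal subfield subgroup of the unitary group

The vectors `P u` with `u` rational, the decomposition `v = a + θ b`, and membership in the subfield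
group in terms of these vectors.
-/

namespace Cfsg.Agent.Helper94.SubO

open Matrix Cfsg Cfsg.Geo Cfsg.Agent.Helper13 Cfsg.Agent.Helper94.SubU

variable {F : Type*} [Field F] [Fintype F] {n q : ℕ}

local notation "⟪" x ", " y "⟫" => Cfsg.hermForm n F q x y
local notation "Matn" => Matrix (Fin n) (Fin n) F

/-- vectors in the rational structure spanned by the columns of `P` -/
def PR (F₀ : Subfield F) (P : GL (Fin n) F) (v : Fin n → F) : Prop :=
  ∃ u : Fin n → F, Rat F₀ u ∧ (P : Matn) *ᵥ u = v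

section Basic

variable {F₀ : Subfield F} {P : GL (Fin n) F}

theorem PR.add {v w : Fin n → F} (hv : PR F₀ P v) (hw : PR F₀ P w) : PR F₀ P (v + w) := by
  obtain ⟨a, ha, rfl⟩ := hv
  obtain ⟨b, hb, rfl⟩ := hw
  exact ⟨a + b, ha.add hb, Matrix.mulVec_add _ _ _⟩

theorem PR.sub {v w : Fin n → F} (hv : PR F₀ P v) (hw : PR F₀ P w) : PR F₀ P (v - w) := by
  obtain ⟨a, ha, rfl⟩ := hv
  obtain ⟨b, hb, rfl⟩ := hw
  exact ⟨a - b, ha.sub hb, Matrix.mulVec_sub _ _ _⟩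

theorem PR.neg {v : Fin n → F} (hv : PR F₀ P v) : PR F₀ P (-v) := by
  obtain ⟨a, ha, rfl⟩ := hv
  exact ⟨-a, ha.neg, Matrix.mulVec_neg _ _⟩

theorem PR.smul {v : Fin n → F} (hv : PR F₀ P v) {c : F} (hc : c ∈ F₀) : PR F₀ P (c • v) := by
  obtain ⟨a, ha, rfl⟩ := hv
  exact ⟨c • a, ha.smul hc, Matrix.mulVec_smul _ _ _⟩

theorem PR.zero : PR F₀ P (0 : Fin n → F) := ⟨0, Rat.zero F₀, Matrix.mulVec_zero _⟩

/-- the scalar relating two rational vectors is rational -/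
theorem PR.scalar_mem {v v' : Fin n → F} (hv : PR F₀ P v) (hv' : PR F₀ P v') (hv0 : v ≠ 0)
    {lam : F} (h : v = lam • v') : lam ∈ F₀ := by
  obtain ⟨a, ha, rfl⟩ := hv
  obtain ⟨b, hb, rfl⟩ := hv'
  have h1 : a = lam • b := by
    apply P_injective (P := P)
    rw [Matrix.mulVec_smul]
    exact h
  have ha0 : a ≠ 0 := by
    rintro rfl
    exact hv0 (Matrix.mulVec_zero _)
  obtain ⟨i, hi⟩ : ∃ i, a i ≠ 0 := by
    by_contra hcon
    push Not at hcon
    exact ha0 (funext hcon)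
  have h2 : a i = lam * b i := congrFun h1 i
  have hb0 : b i ≠ 0 := by
    intro h0
    rw [h0, mul_zero] at h2
    exact hi h2
  have h3 : lam = a i / b i := by
    rw [h2, mul_div_cancel_right₀ _ hb0]
  rw [h3]
  exact F₀.div_mem (ha i) (hb i)

/-- membership in the subfield group through the rational structure -/
theorem mem_subfieldSubgroup_of_PR (g : GL (Fin n) F) (lam : F) (hlam : lam ≠ 0)
    (h : ∀ v, PR F₀ P v → ∃ v', PR F₀ P v' ∧ (g : Matn) *ᵥ v = lam • v') :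
    g ∈ Cfsg.Geo.subfieldSubgroup F₀ P := by
  apply mem_subfieldSubgroup_of_entries F₀ P g lam hlam
  intro i j
  obtain ⟨v', ⟨v₀, hv₀, rfl⟩, hgv⟩ := h ((P : Matn) *ᵥ Pi.single j 1) ⟨_, Rat.single F₀ j, rfl⟩
  have h1 : ((P⁻¹ * g * P : GL (Fin n) F) : Matn) *ᵥ Pi.single j 1 = lam • v₀ := by
    rw [Units.val_mul, Units.val_mul, ← Matrix.mulVec_mulVec, ← Matrix.mulVec_mulVec, hgv,
      Matrix.mulVec_smul, Matrix.mulVec_mulVec, ← Units.val_mul, inv_mul_cancel, Units.val_one,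
      Matrix.one_mulVec]
  have h2 := congrFun h1 i
  rw [Matrix.mulVec_single_one] at h2
  have h3 : ((P⁻¹ * g * P : GL (Fin n) F) : Matn) i j = lam * v₀ i := by
    simpa using h2
  rw [h3, mul_div_cancel_left₀ _ hlam]
  exact hv₀ i

/-- elements of the subfield group respect the rational structure up to a scalar -/
theorem PR_of_mem_subfieldSubgroup (g : GL (Fin n) F)
    (hg : g ∈ Cfsg.Geo.subfieldSubgroup F₀ P) :
    ∃ lam : F, lam ≠ 0 ∧ ∀ v, PR F₀ P v → ∃ v', PR F₀ P v' ∧ (g : Matn) *ᵥ v = lam • v' := by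
  obtain ⟨lam, hlam, h⟩ := rat_of_mem_subfieldSubgroup F₀ P g hg
  refine ⟨lam, hlam, ?_⟩
  rintro v ⟨u, hu, rfl⟩
  obtain ⟨w, hw, hgw⟩ := h u hu
  exact ⟨_, ⟨w, hw, rfl⟩, hgw⟩

end Basic

section Fixed

variable (hF : Fintype.card F = q ^ 2) (F₀ : Subfield F)
  (hcard : Fintype.card F = Nat.card F₀ ^ 2)

include hF in
theorem two_ne_zero_of_odd (hodd : Odd q) : (2 : F) ≠ 0 := by
  intro h2
  have h3 : ringChar F = 2 := CharP.ringChar_of_prime_eq_zero Nat.prime_two h2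
  have h4 := FiniteField.even_card_of_char_two h3
  rw [hF] at h4
  have h5 : Odd (q ^ 2) := hodd.pow
  rw [Nat.odd_iff] at h5
  omega

include hF hcard in
/-- an element of trace zero -/
theorem exists_theta : ∃ θ : F, θ ≠ 0 ∧ θ ^ q = -θ := by
  obtain ⟨θ₀, hθ₀⟩ := exists_not_mem hF F₀ hcard
  refine ⟨θ₀ - θ₀ ^ q, theta_ne hF F₀ hcard hθ₀, ?_⟩
  rw [frob_sub' hF, frob_frob hF]
  ring

include hF hcard in
theorem theta_not_mem (h2 : (2 : F) ≠ 0) {θ : F} (hθ0 : θ ≠ 0) (hθ : θ ^ q = -θ) : θ ∉ F₀ := by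
  intro hmem
  have h1 := pow_q_of_mem hF F₀ hcard hmem
  rw [hθ] at h1
  have h3 : (2 : F) * θ = 0 := by linear_combination -h1
  rcases mul_eq_zero.mp h3 with h | h
  · exact h2 h
  · exact hθ0 h

/-- uniqueness of the decomposition of scalars -/
theorem scal_unique {θ : F} (hθ : θ ∉ F₀) {α β : F} (hα : α ∈ F₀) (hβ : β ∈ F₀)
    (h : α + θ * β = 0) : α = 0 ∧ β = 0 := by
  by_cases hb : β = 0
  · subst hb
    rw [mul_zero, add_zero] at h
    exact ⟨h, rfl⟩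
  · exfalso
    apply hθ
    have h1 : θ = -α / β := by
      field_simp
      linear_combination h
    rw [h1]
    exact F₀.div_mem (F₀.neg_mem hα) hβ

variable {P : GL (Fin n) F}

/-- uniqueness of the decomposition of vectors -/
theorem PR.eq_zero_of_add_smul {θ : F} (hθ : θ ∉ F₀) {a b : Fin n → F} (ha : PR F₀ P a)
    (hb : PR F₀ P b) (h : a + θ • b = 0) : a = 0 ∧ b = 0 := by
  obtain ⟨a₀, ha₀, rfl⟩ := ha
  obtain ⟨b₀, hb₀, rfl⟩ := hb
  have h1 : a₀ + θ • b₀ = 0 := by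
    apply P_injective (P := P)
    rw [Matrix.mulVec_add, Matrix.mulVec_smul, Matrix.mulVec_zero]
    exact h
  have h2 : ∀ i, a₀ i = 0 ∧ b₀ i = 0 := by
    intro i
    apply scal_unique F₀ hθ (ha₀ i) (hb₀ i)
    have := congrFun h1 i
    simpa using this
  have h3 : a₀ = 0 := funext fun i => (h2 i).1
  have h4 : b₀ = 0 := funext fun i => (h2 i).2
  rw [h3, h4, Matrix.mulVec_zero]
  exact ⟨rfl, rfl⟩

theorem PR.eq_of_add_smul {θ : F} (hθ : θ ∉ F₀) {a b a' b' : Fin n → F} (ha : PR F₀ P a)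
    (hb : PR F₀ P b) (ha' : PR F₀ P a') (hb' : PR F₀ P b') (h : a + θ • b = a' + θ • b') :
    a = a' ∧ b = b' := by
  have h1 : (a - a') + θ • (b - b') = 0 := by
    rw [smul_sub]
    have : a + θ • b - (a' + θ • b') = 0 := sub_eq_zero.mpr h
    rw [← this]
    abel
  obtain ⟨h2, h3⟩ := PR.eq_zero_of_add_smul F₀ hθ (ha.sub ha') (hb.sub hb') h1
  exact ⟨sub_eq_zero.mp h2, sub_eq_zero.mp h3⟩

/-- the rational part of a vector -/
noncomputable def pa (q : ℕ) (θ : F) (P : GL (Fin n) F) (v : Fin n → F) : Fin n → F :=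
  (P : Matn) *ᵥ sv q θ (((P⁻¹ : GL (Fin n) F) : Matn) *ᵥ v)

/-- the `θ`-part of a vector -/
noncomputable def pb (q : ℕ) (θ : F) (P : GL (Fin n) F) (v : Fin n → F) : Fin n → F :=
  (P : Matn) *ᵥ tv q θ (((P⁻¹ : GL (Fin n) F) : Matn) *ᵥ v)

theorem pa_add_pb (θ : F) (v : Fin n → F) : pa q θ P v + θ • pb q θ P v = v := by
  unfold pa pb
  rw [← Matrix.mulVec_smul, ← Matrix.mulVec_add, sv_add_tv, Matrix.mulVec_mulVec,
    ← Units.val_mul, mul_inv_cancel, Units.val_one, Matrix.one_mulVec]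

include hF hcard in
theorem pr_pa {θ : F} (hθ : θ ∉ F₀) (v : Fin n → F) : PR F₀ P (pa q θ P v) :=
  ⟨_, fun i => spart_mem hF F₀ hcard hθ _, rfl⟩

include hF hcard in
theorem pr_pb {θ : F} (hθ : θ ∉ F₀) (v : Fin n → F) : PR F₀ P (pb q θ P v) :=
  ⟨_, fun i => tpart_mem hF F₀ hcard hθ _, rfl⟩

include hF hcard in
/-- every vector decomposes -/
theorem exists_decomp {θ : F} (hθ : θ ∉ F₀) (v : Fin n → F) :
    ∃ a b, PR F₀ P a ∧ PR F₀ P b ∧ v = a + θ • b :=
  ⟨_, _, pr_pa hF F₀ hcard hθ v, pr_pb hF F₀ hcard hθ v, (pa_add_pb θ v).symm⟩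

variable (hP : Cfsg.Geo.IsFormRationalStructure (Cfsg.hermForm n F q) F₀ 1 P)

include hP in
theorem PR.herm_mem {v w : Fin n → F} (hv : PR F₀ P v) (hw : PR F₀ P w) : ⟪v, w⟫ ∈ F₀ := by
  obtain ⟨a, ha, rfl⟩ := hv
  obtain ⟨b, hb, rfl⟩ := hw
  have := hP a b ha hb
  rwa [one_mul] at this

include hF hcard hP in
theorem PR.herm_pow {v w : Fin n → F} (hv : PR F₀ P v) (hw : PR F₀ P w) : ⟪v, w⟫ ^ q = ⟪v, w⟫ :=
  pow_q_of_mem hF F₀ hcard (PR.herm_mem F₀ hP hv hw)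

include hF hcard hP in
theorem PR.herm_symm {v w : Fin n → F} (hv : PR F₀ P v) (hw : PR F₀ P w) : ⟪v, w⟫ = ⟪w, v⟫ := by
  rw [← hermForm_conj hF v w, PR.herm_pow hF F₀ hcard hP hv hw]

include hF hcard in
/-- non-degeneracy, detected by rational vectors -/
theorem exists_PR_herm_ne_zero {x : Fin n → F} (hx : x ≠ 0) :
    ∃ y, PR F₀ P y ∧ ⟪y, x⟫ ≠ 0 := by
  obtain ⟨a, ha⟩ : ∃ a, a = ((P⁻¹ : GL (Fin n) F) : Matn) *ᵥ x := ⟨_, rfl⟩
  have hPa : (P : Matn) *ᵥ a = x := by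
    rw [ha, Matrix.mulVec_mulVec, ← Units.val_mul, mul_inv_cancel, Units.val_one,
      Matrix.one_mulVec]
  have ha0 : a ≠ 0 := by
    rintro rfl
    rw [Matrix.mulVec_zero] at hPa
    exact hx hPa.symm
  obtain ⟨y, hy, hne⟩ := exists_ff_ne_zero hF F₀ hcard (one_ne_zero : (1 : F) ≠ 0) (P := P) ha0
  refine ⟨(P : Matn) *ᵥ y, ⟨y, hy, rfl⟩, ?_⟩
  unfold ff at hne
  rw [one_mul, hPa] at hne
  rw [← hermForm_conj hF x]
  exact pow_ne_zero _ hne

include hF hcard in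
theorem eq_zero_of_PR_perp {x : Fin n → F} (h : ∀ y, PR F₀ P y → ⟪y, x⟫ = 0) : x = 0 := by
  by_contra hx
  obtain ⟨y, hy, hne⟩ := exists_PR_herm_ne_zero hF F₀ hcard (P := P) hx
  exact hne (h y hy)

end Fixed

end Cfsg.Agent.Helper94.SubO
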