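import Mathlib
import Cfsg.Agent.Helper94.SubO1

set_option autoImplicit false
set_option linter.unusedSectionVars false
set_option linter.unusedVariables false
set_option linter.unusedSimpArgs false
set_option linter.style.haveILetI false

/-!
# The unipotent elements `N(u; w, c)` of the unitary group

`N(u; w, c) y = y + ⟪y, w⟫ u - ⟪y, u⟫ w + c ⟪y, u⟫ u` for an isotropic vector `u` and `w ⊥ u`.
-/

namespace Cfsg.Agent.Helper94.SubO

open Matrix Cfsg Cfsg.Geo Cfsg.Agent.Helper13 Cfsg.Agent.Helper94.SubU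

variable {F : Type*} [Field F] [Fintype F] {n q : ℕ}

local notation "⟪" x ", " y "⟫" => Cfsg.hermForm n F q x y
local notation "Matn" => Matrix (Fin n) (Fin n) F

/-- the matrix of `N(u; w, c)` -/
noncomputable def NNm (q : ℕ) (u w : Fin n → F) (c : F) : Matrix (Fin n) (Fin n) F :=
  (1 + (1 : F) • rankOne q u (w + ((c + Cfsg.hermForm n F q w w) ^ q) • u)) *
    (1 + (-1 : F) • rankOne q w u)

open Classical in
/-- `N(u; w, c)` as an element of the general linear group (the identity when the matrix is not of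
determinant one) -/
noncomputable def NN (q : ℕ) (u w : Fin n → F) (c : F) : GL (Fin n) F :=
  if h : (NNm q u w c).det = 1 then glOfDetOne (NNm q u w c) h else 1

theorem NN_mem_sl (u w : Fin n → F) (c : F) : NN q u w c ∈ Cfsg.Geo.specialLinear (Fin n) F := by
  unfold NN
  split_ifs with h
  · rw [mem_specialLinear_iff, glOfDetOne_coe]
    exact h
  · exact Subgroup.one_mem _

section Fixed

variable (hF : Fintype.card F = q ^ 2)
include hF

theorem herm_swap_zero {x y : Fin n → F} (h : ⟪x, y⟫ = 0) : ⟪y, x⟫ = 0 := by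
  rw [← hermForm_conj hF x y, h]
  have hq := two_le_of_card_eq_sq hF
  exact zero_pow (by omega)

theorem NNm_mulVec {u w : Fin n → F} (c : F) (h2 : ⟪w, u⟫ = 0) (y : Fin n → F) :
    NNm q u w c *ᵥ y = y + ⟪y, w⟫ • u - ⟪y, u⟫ • w + (c * ⟪y, u⟫) • u := by
  unfold NNm
  rw [← Matrix.mulVec_mulVec, one_add_rankOne_mulVec, one_add_rankOne_mulVec,
    hermForm_add_right hF, hermForm_smul_right, frob_frob hF, hermForm_add_left,
    hermForm_add_left, hermForm_smul_left, hermForm_smul_left, h2]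
  module

theorem det_NNm {u w : Fin n → F} (c : F) (h1 : ⟪u, u⟫ = 0) (h2 : ⟪w, u⟫ = 0) :
    (NNm q u w c).det = 1 := by
  unfold NNm
  rw [Matrix.det_mul, det_one_add_rankOne, det_one_add_rankOne, hermForm_add_right hF,
    hermForm_smul_right, h1, h2, herm_swap_zero hF h2]
  ring

theorem NN_coe {u w : Fin n → F} (c : F) (h1 : ⟪u, u⟫ = 0) (h2 : ⟪w, u⟫ = 0) :
    ((NN q u w c : GL (Fin n) F) : Matn) = NNm q u w c := by
  unfold NN
  rw [dif_pos (det_NNm hF c h1 h2), glOfDetOne_coe]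

theorem NN_mulVec {u w : Fin n → F} (c : F) (h1 : ⟪u, u⟫ = 0) (h2 : ⟪w, u⟫ = 0)
    (y : Fin n → F) :
    ((NN q u w c : GL (Fin n) F) : Matn) *ᵥ y
      = y + ⟪y, w⟫ • u - ⟪y, u⟫ • w + (c * ⟪y, u⟫) • u := by
  rw [NN_coe hF c h1 h2, NNm_mulVec hF c h2]

/-- `N(u; w, c)` is unitary when `c + c^q = -⟪w, w⟫` -/
theorem NN_isU {u w : Fin n → F} {c : F} (h1 : ⟪u, u⟫ = 0) (h2 : ⟪w, u⟫ = 0)
    (hc : c + c ^ q = -⟪w, w⟫) : IsU q ((NN q u w c : GL (Fin n) F) : Matn) := by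
  intro x y
  have h3 := herm_swap_zero hF h2
  rw [NN_mulVec hF c h1 h2, NN_mulVec hF c h1 h2]
  simp only [hermForm_add_left, hermForm_add_right hF, hermForm_sub_left, hermForm_sub_right hF,
    hermForm_smul_left, hermForm_smul_right, h1, h2, h3, mul_pow, hermForm_conj hF, mul_zero,
    add_zero, sub_zero, zero_mul, zero_add, zero_sub]
  linear_combination (⟪x, u⟫ * ⟪u, y⟫) * hc

theorem NN_mem_GU {u w : Fin n → F} {c : F} (h1 : ⟪u, u⟫ = 0) (h2 : ⟪w, u⟫ = 0)
    (hc : c + c ^ q = -⟪w, w⟫) : NN q u w c ∈ Cfsg.GU n F q := by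
  rw [mem_GU_iff]
  exact NN_isU hF h1 h2 hc

/-- the product formula -/
theorem NN_mul {u w w' : Fin n → F} (c c' : F) (h1 : ⟪u, u⟫ = 0) (h2 : ⟪w, u⟫ = 0)
    (h2' : ⟪w', u⟫ = 0) :
    NN q u w c * NN q u w' c' = NN q u (w + w') (c + c' - ⟪w', w⟫) := by
  have h3 := herm_swap_zero hF h2
  have h3' := herm_swap_zero hF h2'
  have h4 : ⟪w + w', u⟫ = 0 := by rw [hermForm_add_left, h2, h2', add_zero]
  apply Units.ext
  apply mat_ext_mulVec
  intro y
  rw [Units.val_mul, ← Matrix.mulVec_mulVec, NN_mulVec hF c' h1 h2', NN_mulVec hF c h1 h2,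
    NN_mulVec hF _ h1 h4]
  simp only [hermForm_add_left, hermForm_add_right hF, hermForm_sub_left,
    hermForm_smul_left, h1, h2, h2', h3, h3', mul_zero, add_zero, sub_zero]
  module

/-- the central elements are the unitary transvections -/
theorem NN_zero_coe {u : Fin n → F} (κ : F) (h1 : ⟪u, u⟫ = 0) :
    ((NN q u 0 κ : GL (Fin n) F) : Matn) = Cfsg.unitaryTransvection n q u κ := by
  apply mat_ext_mulVec
  intro y
  rw [NN_mulVec hF κ h1 (hermForm_zero_left u), unitaryTransvection_mulVec,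
    hermForm_zero_right hF]
  module

theorem NN_zero_zero {u : Fin n → F} (h1 : ⟪u, u⟫ = 0) : NN q u 0 0 = 1 := by
  apply Units.ext
  rw [NN_zero_coe hF 0 h1, unitaryTransvection_zero, Units.val_one]

/-- conjugation by a unitary element -/
theorem NN_conj (g : GL (Fin n) F) (hg : IsU q (g : Matn)) {u w : Fin n → F} (c : F)
    (h1 : ⟪u, u⟫ = 0) (h2 : ⟪w, u⟫ = 0) :
    g * NN q u w c * g⁻¹ = NN q ((g : Matn) *ᵥ u) ((g : Matn) *ᵥ w) c := by
  have h1' : ⟪(g : Matn) *ᵥ u, (g : Matn) *ᵥ u⟫ = 0 := by rw [hg, h1]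
  have h2' : ⟪(g : Matn) *ᵥ w, (g : Matn) *ᵥ u⟫ = 0 := by rw [hg, h2]
  apply Units.ext
  apply mat_ext_mulVec
  intro y
  have hy : ∀ z, ⟪((g⁻¹ : GL (Fin n) F) : Matn) *ᵥ y, z⟫ = ⟪y, (g : Matn) *ᵥ z⟫ := by
    intro z
    rw [← hg, glU_mulVec_inv]
  rw [Units.val_mul, Units.val_mul, ← Matrix.mulVec_mulVec, ← Matrix.mulVec_mulVec,
    NN_mulVec hF c h1 h2, NN_mulVec hF c h1' h2', hy, hy]
  simp only [Matrix.mulVec_add, Matrix.mulVec_sub, Matrix.mulVec_smul, glU_mulVec_inv]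

/-- moving a multiple of `u` from `w` to `c` -/
theorem NN_shift {u w : Fin n → F} (c ε : F) (h1 : ⟪u, u⟫ = 0) (h2 : ⟪w, u⟫ = 0) :
    NN q u (w + ε • u) c = NN q u w (c + ε ^ q - ε) := by
  have h4 : ⟪w + ε • u, u⟫ = 0 := by
    rw [hermForm_add_left, hermForm_smul_left, h1, h2, mul_zero, add_zero]
  apply Units.ext
  apply mat_ext_mulVec
  intro y
  rw [NN_mulVec hF c h1 h4, NN_mulVec hF _ h1 h2, hermForm_add_right hF, hermForm_smul_right]
  module

/-- an isotropic vector belongs to `utvVecs` as soon as the central elements lie in the group -/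
theorem mem_utvVecs_of_NN {M : Subgroup (GL (Fin n) F)} {u : Fin n → F} (h1 : ⟪u, u⟫ = 0)
    (h : ∀ κ : F, κ + κ ^ q = 0 → NN q u 0 κ ∈ M) : u ∈ utvVecs q M := by
  refine ⟨h1, ?_⟩
  intro c hc g hg
  have : g = NN q u 0 c := by
    apply Units.ext
    rw [hg, NN_zero_coe hF c h1]
  rw [this]
  exact h c hc

theorem NN_mem_of_utvVecs {M : Subgroup (GL (Fin n) F)} {u : Fin n → F} (hu : u ∈ utvVecs q M)
    {κ : F} (hκ : κ + κ ^ q = 0) : NN q u 0 κ ∈ M :=
  hu.2 κ hκ _ (NN_zero_coe hF κ hu.1)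

end Fixed

end Cfsg.Agent.Helper94.SubO
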