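import Mathlib
import Cfsg.Agent.Helper94.TnJ

set_option autoImplicit false
set_option linter.unusedSectionVars false
set_option linter.style.haveILetI false

/-!
# Isometries `x` with `ker (x - 1) ⊓ range (x - 1)` of dimension `d` in a space of dimension
`2d+1`: every invariant nondegenerate subspace of even dimension is hyperbolic.
-/

namespace Cfsg.Agent.Helper94.Tn

open Module Polynomial
open Cfsg.Agent.Helper59.InvChain Cfsg.Agent.Helper59.Elusive
open Cfsg.Agent.Helper99.SpStruct Cfsg.Agent.Helper99.RDecomp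
open Cfsg.Agent.Helper94.Ti Cfsg.Agent.Helper94.Ts

universe u v

variable {F : Type u} [Field F] {V : Type v} [AddCommGroup V] [Module F V] [FiniteDimensional F V]
variable {B : LinearMap.BilinForm F V}

theorem isom_injective (hnd : B.Nondegenerate) {x : Module.End F V}
    (hx : ∀ u v, B (x u) (x v) = B u v) : Function.Injective x := by
  rw [injective_iff_map_eq_zero]
  intro u hu
  apply hnd.1 u
  intro v
  rw [← hx, hu, map_zero, LinearMap.zero_apply]

theorem isom_inv_surj (hnd : B.Nondegenerate) {x : Module.End F V}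
    (hx : ∀ u v, B (x u) (x v) = B u v) {W : Submodule F V} (hW : Inv x W) :
    ∀ w ∈ W, ∃ w' ∈ W, x w' = w := by
  have hinj := isom_injective hnd hx
  have hle : W.map x ≤ W := hW
  have hdim : finrank F ↥(W.map x) = finrank F ↥W :=
    (Submodule.equivMapOfInjective x hinj W).finrank_eq.symm
  have heq : W.map x = W := Submodule.eq_of_le_of_finrank_eq hle hdim
  intro w hw
  rw [← heq] at hw
  obtain ⟨w', hw', rfl⟩ := hw
  exact ⟨w', hw', rfl⟩

theorem isom_inv_orthogonal (hnd : B.Nondegenerate) {x : Module.End F V}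
    (hx : ∀ u v, B (x u) (x v) = B u v) {W : Submodule F V} (hW : Inv x W) :
    Inv x (B.orthogonal W) := by
  rw [inv_iff]
  intro m hm
  rw [LinearMap.BilinForm.mem_orthogonal_iff] at hm ⊢
  intro w hw
  obtain ⟨w', hw', rfl⟩ := isom_inv_surj hnd hx hW w hw
  show B (x w') (x m) = 0
  rw [hx]
  exact hm w' hw'

/-- `ker (x - 1)` and `range (x - 1)` are orthogonal -/
theorem orth_ker_range {x : Module.End F V} (hx : ∀ u v, B (x u) (x v) = B u v) :
    Orth B (LinearMap.ker (x - 1)) (LinearMap.range (x - 1)) := by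
  intro a ha b hb
  obtain ⟨c, rfl⟩ := hb
  rw [LinearMap.mem_ker, LinearMap.sub_apply, sub_eq_zero] at ha
  have ha' : x a = a := ha
  rw [LinearMap.sub_apply, map_sub]
  have : B a (x c) = B a c := by
    conv_lhs => rw [← ha']
    exact hx a c
  rw [this]
  simp

/-- the main lemma -/
theorem hyp_of_unip (hB : B.IsSymm) (hnd : B.Nondegenerate) {d : ℕ}
    (hdim : finrank F V = 2 * d + 1) {x : Module.End F V}
    (hx : ∀ u v, B (x u) (x v) = B u v) {E : Submodule F V}
    (hEk : E ≤ LinearMap.ker (x - 1)) (hEr : E ≤ LinearMap.range (x - 1))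
    (hEd : d ≤ finrank F ↥E) {W : Submodule F V} {e : ℕ} (hWdim : finrank F ↥W = 2 * e)
    (hWnd : Nd B W) (hWinv : Inv x W) : Hyp B W := by
  have hrefl := hB.isRefl
  set W' := B.orthogonal W with hW'
  have hW'inv : Inv x W' := isom_inv_orthogonal hnd hx hWinv
  have hW'nd : Nd B W' := by
    have := hWnd.inf_orth hrefl le_top (nd_top_of_nondeg' hnd)
    rwa [top_inf_eq] at this
  have hsplit := hWnd.sup_inf_orth hrefl (le_top : W ≤ ⊤)
  rw [top_inf_eq] at hsplit
  obtain ⟨hsup, hdis⟩ := hsplit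
  have hW'dim : finrank F ↥W + finrank F ↥W' = 2 * d + 1 := by
    have := hWnd.finrank_inf_orth hrefl (le_top : W ≤ ⊤)
    rw [top_inf_eq, finrank_top, hdim] at this
    exact this
  set K := LinearMap.ker (x - 1) ⊓ LinearMap.range (x - 1) with hK
  have hKti : Orth B K K := (orth_ker_range hx).mono inf_le_left inf_le_right
  -- the decomposition of `E`
  have hNinv : ∀ {U : Submodule F V}, Inv x U → ∀ u ∈ U, (x - 1) u ∈ U := by
    intro U hU u hu
    rw [LinearMap.sub_apply]
    exact U.sub_mem (hU.apply_mem hu) hu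
  have hEle : E ≤ (W ⊓ K) ⊔ (W' ⊓ K) := by
    intro v hv
    obtain ⟨c, rfl⟩ := hEr hv
    have hker := hEk hv
    rw [LinearMap.mem_ker] at hker
    have hc : c ∈ W ⊔ W' := by rw [hsup]; trivial
    obtain ⟨c₁, hc₁, c₂, hc₂, rfl⟩ := Submodule.mem_sup.mp hc
    have h1 : (x - 1) c₁ ∈ W := hNinv hWinv c₁ hc₁
    have h3 : (x - 1) c₂ ∈ W' := hNinv hW'inv c₂ hc₂
    have h4 : (x - 1) ((x - 1) c₁) ∈ W := hNinv hWinv _ h1
    have h5 : (x - 1) ((x - 1) c₂) ∈ W' := hNinv hW'inv _ h3
    rw [map_add, map_add] at hker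
    have h6 : (x - 1) ((x - 1) c₁) = 0 := by
      have h7 : (x - 1) ((x - 1) c₁) = -((x - 1) ((x - 1) c₂)) := eq_neg_of_add_eq_zero_left hker
      have h8 : (x - 1) ((x - 1) c₁) ∈ W' := by rw [h7]; exact W'.neg_mem h5
      exact (Submodule.disjoint_def.mp hdis) _ h4 h8
    have h7 : (x - 1) ((x - 1) c₂) = 0 := by rw [h6, zero_add] at hker; exact hker
    rw [map_add]
    apply Submodule.add_mem_sup
    · exact ⟨h1, LinearMap.mem_ker.mpr h6, ⟨c₁, rfl⟩⟩
    · exact ⟨h3, LinearMap.mem_ker.mpr h7, ⟨c₂, rfl⟩⟩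
  have h1 : 2 * finrank F ↥(W ⊓ K) ≤ finrank F ↥W :=
    ti_finrank_le hrefl hnd inf_le_left hWnd (hKti.mono inf_le_right inf_le_right)
  have h3 : 2 * finrank F ↥(W' ⊓ K) ≤ finrank F ↥W' :=
    ti_finrank_le hrefl hnd inf_le_left hW'nd (hKti.mono inf_le_right inf_le_right)
  have h4 : finrank F ↥E ≤ finrank F ↥(W ⊓ K) + finrank F ↥(W' ⊓ K) :=
    (Submodule.finrank_mono hEle).trans (Submodule.finrank_add_le_finrank_add_finrank _ _)
  refine ⟨W ⊓ K, inf_le_left, hKti.mono inf_le_right inf_le_right, ?_⟩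
  omega

end Cfsg.Agent.Helper94.Tn
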