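import Mathlib
import Cfsg.Agent.Helper94.TnK
import Cfsg.Agent.Helper45.OmegaTrans2

set_option autoImplicit false
set_option linter.unusedSectionVars false
set_option linter.style.haveILetI false

/-!
# A unipotent element of `Ω_{2d+1}(q)` all of whose invariant nondegenerate subspaces of even
dimension are hyperbolic
-/

namespace Cfsg.Agent.Helper94.Tn

open Module Polynomial Matrix
open Cfsg
open Cfsg.Agent.Helper44
open Cfsg.Agent.Helper59.InvChain Cfsg.Agent.Helper59.Elusive
open Cfsg.Agent.Helper99.SpStruct Cfsg.Agent.Helper99.RDecomp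
open Cfsg.Agent.Helper94.Ti Cfsg.Agent.Helper94.Ts

universe u

variable {F : Type u} [Field F] {d : ℕ}

/-- signs attached to the involution `Fin.rev` -/
def sg (F : Type u) [Field F] {d : ℕ} (i : Fin d) : F :=
  if i < Fin.rev i then 1 else if Fin.rev i < i then -1 else 0

/-- the indicator of the fixed point of `Fin.rev` -/
def tt (F : Type u) [Field F] {d : ℕ} (i : Fin d) : F :=
  if Fin.rev i = i then 1 else 0

theorem sg_rev (i : Fin d) : sg F (Fin.rev i) = -sg F i := by
  unfold sg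
  rw [Fin.rev_rev]
  rcases lt_trichotomy i (Fin.rev i) with h | h | h
  · rw [if_pos h, if_neg (not_lt.mpr h.le), if_pos h]
  · rw [← h]
    simp
  · rw [if_pos h, if_neg (not_lt.mpr h.le), if_pos h]
    simp

theorem tt_mul_sg_rev (i : Fin d) : tt F i * sg F (Fin.rev i) = 0 := by
  unfold tt
  by_cases h : Fin.rev i = i
  · rw [if_pos h, h]
    unfold sg
    rw [h]
    simp
  · rw [if_neg h, zero_mul]

theorem sg_mul_sg (i : Fin d) : sg F i * sg F i = 1 - tt F i := by
  unfold sg tt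
  rcases lt_trichotomy i (Fin.rev i) with h | h | h
  · rw [if_pos h, if_neg h.ne']
    simp
  · rw [if_pos h.symm, ← h]
    simp
  · rw [if_neg (not_lt.mpr h.le), if_pos h, if_neg h.ne]
    simp

theorem rev_fixed_unique {i k : Fin d} (hi : Fin.rev i = i) (hk : Fin.rev k = k) : k = i := by
  have h1 := congrArg Fin.val hi
  have h3 := congrArg Fin.val hk
  rw [Fin.val_rev] at h1 h3
  apply Fin.ext
  have := i.2
  have := k.2
  omega

theorem tt_mul_tt (i k : Fin d) : tt F i * tt F k = if k = i then tt F i else 0 := by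
  unfold tt
  by_cases hi : Fin.rev i = i
  · by_cases hk : Fin.rev k = k
    · rw [if_pos hi, if_pos hk, if_pos (rev_fixed_unique hi hk), one_mul]
    · rw [if_neg hk, mul_zero]
      have : k ≠ i := fun h => hk (by rw [h]; exact hi)
      rw [if_neg this]
  · rw [if_neg hi, zero_mul]
    simp

theorem tt_mul_sum (a : Fin d → F) (i : Fin d) :
    tt F i * ∑ k, tt F k * a k = tt F i * a i := by
  rw [Finset.mul_sum]
  have : ∀ k : Fin d, tt F i * (tt F k * a k) = if k = i then tt F i * a k else 0 := by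
    intro k
    rw [← mul_assoc, tt_mul_tt]
    split_ifs <;> simp
  rw [Finset.sum_congr rfl (fun k _ => this k), Finset.sum_ite_eq' Finset.univ i]
  simp

/-- the functional `T` -/
def uT (v : Unit ⊕ (Fin d ⊕ Fin d) → F) : F := ∑ j, tt F j * v (.inr (.inr j))

theorem uT_add (v w : Unit ⊕ (Fin d ⊕ Fin d) → F) : uT (v + w) = uT v + uT w := by
  unfold uT
  rw [← Finset.sum_add_distrib]
  apply Finset.sum_congr rfl
  intro j _
  rw [Pi.add_apply]
  ring

theorem uT_smul (c : F) (v : Unit ⊕ (Fin d ⊕ Fin d) → F) : uT (c • v) = c * uT v := by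
  unfold uT
  rw [Finset.mul_sum]
  apply Finset.sum_congr rfl
  intro j _
  rw [Pi.smul_apply, smul_eq_mul]
  ring

/-- the nilpotent part -/
def uN (d : ℕ) (F : Type u) [Field F] : Module.End F (Unit ⊕ (Fin d ⊕ Fin d) → F) where
  toFun v := fun k => match k with
    | .inl _ => -uT v
    | .inr (.inl i) => sg F i * v (.inr (.inr (Fin.rev i))) + 2 * tt F i * v (.inl ()) -
        tt F i * uT v
    | .inr (.inr _) => 0
  map_add' v w := by
    funext k
    rcases k with _ | i | j
    · simp only [uT_add, Pi.add_apply]; ring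
    · simp only [uT_add, Pi.add_apply]; ring
    · simp
  map_smul' c v := by
    funext k
    rcases k with _ | i | j
    · simp only [uT_smul, Pi.smul_apply, smul_eq_mul, RingHom.id_apply]; ring
    · simp only [uT_smul, Pi.smul_apply, smul_eq_mul, RingHom.id_apply]; ring
    · simp

theorem uN_inl (v : Unit ⊕ (Fin d ⊕ Fin d) → F) (a : Unit) : uN d F v (.inl a) = -uT v := rfl

theorem uN_inr_inl (v : Unit ⊕ (Fin d ⊕ Fin d) → F) (i : Fin d) :
    uN d F v (.inr (.inl i)) = sg F i * v (.inr (.inr (Fin.rev i))) + 2 * tt F i * v (.inl ()) -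
        tt F i * uT v := rfl

theorem uN_inr_inr (v : Unit ⊕ (Fin d ⊕ Fin d) → F) (j : Fin d) :
    uN d F v (.inr (.inr j)) = 0 := rfl

theorem uT_uN (v : Unit ⊕ (Fin d ⊕ Fin d) → F) : uT (uN d F v) = 0 := by
  unfold uT
  simp only [uN_inr_inr, mul_zero, Finset.sum_const_zero]

theorem uN_pow_three : (uN d F) ^ 3 = 0 := by
  apply LinearMap.ext
  intro v
  rw [pow_succ, pow_two, Module.End.mul_apply, Module.End.mul_apply, LinearMap.zero_apply]
  funext k
  rcases k with _ | i | j
  · rw [uN_inl, uT_uN]; simp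
  · rw [uN_inr_inl, uN_inr_inr, uT_uN, uN_inl, uT_uN]; simp
  · rw [uN_inr_inr]; rfl

/-- the sum `S` vanishes -/
theorem sum_sg_eq_zero (h2 : (2 : F) ≠ 0) (y : Fin d → F) :
    ∑ i, sg F i * y (Fin.rev i) * y i = 0 := by
  have h1 : ∑ i, sg F i * y (Fin.rev i) * y i =
      ∑ i, sg F (Fin.rev i) * y (Fin.rev (Fin.rev i)) * y (Fin.rev i) :=
    (Equiv.sum_comp Fin.revPerm (fun i => sg F i * y (Fin.rev i) * y i)).symm
  have h3 : ∑ i, sg F (Fin.rev i) * y (Fin.rev (Fin.rev i)) * y (Fin.rev i) =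
      -∑ i, sg F i * y (Fin.rev i) * y i := by
    rw [← Finset.sum_neg_distrib]
    apply Finset.sum_congr rfl
    intro i _
    rw [sg_rev, Fin.rev_rev]
    ring
  rw [h3] at h1
  have h4 : (2 : F) * ∑ i, sg F i * y (Fin.rev i) * y i = 0 := by linear_combination h1
  rcases mul_eq_zero.mp h4 with h | h
  · exact absurd h h2
  · exact h

/-- `1 + N` is an isometry -/
theorem quad_one_add_uN (h2 : (2 : F) ≠ 0) (v : Unit ⊕ (Fin d ⊕ Fin d) → F) :
    Cfsg.quadFormOdd d F ((1 + uN d F) v) = Cfsg.quadFormOdd d F v := by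
  unfold Cfsg.quadFormOdd
  rw [LinearMap.add_apply, Module.End.one_apply]
  simp only [Pi.add_apply, uN_inl, uN_inr_inl, uN_inr_inr, add_zero]
  have hS := sum_sg_eq_zero h2 (fun j => v (.inr (.inr j)))
  have hT1 : ∑ i : Fin d, (2 * tt F i * v (.inl ())) * v (.inr (.inr i)) =
      2 * v (.inl ()) * uT v := by
    unfold uT
    rw [Finset.mul_sum]
    apply Finset.sum_congr rfl
    intro i _
    ring
  have hT2 : ∑ i : Fin d, (tt F i * uT v) * v (.inr (.inr i)) = uT v * uT v := by
    have hrfl : uT v * uT v = (∑ i, tt F i * v (.inr (.inr i))) * uT v := rfl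
    rw [hrfl, Finset.sum_mul]
    apply Finset.sum_congr rfl
    intro i _
    ring
  have hsum : ∑ i : Fin d, (v (.inr (.inl i)) + (sg F i * v (.inr (.inr (Fin.rev i))) +
      2 * tt F i * v (.inl ()) - tt F i * uT v)) * v (.inr (.inr i)) =
      ∑ i : Fin d, v (.inr (.inl i)) * v (.inr (.inr i)) +
        ∑ i, sg F i * v (.inr (.inr (Fin.rev i))) * v (.inr (.inr i)) +
        ∑ i : Fin d, (2 * tt F i * v (.inl ())) * v (.inr (.inr i)) -
        ∑ i : Fin d, (tt F i * uT v) * v (.inr (.inr i)) := by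
    rw [← Finset.sum_add_distrib, ← Finset.sum_add_distrib, ← Finset.sum_sub_distrib]
    apply Finset.sum_congr rfl
    intro i _
    ring
  rw [hsum, hS, hT1, hT2]
  ring

/-- the embedding of the totally singular subspace `E` -/
def uE (d : ℕ) (F : Type u) [Field F] : (Fin d → F) →ₗ[F] (Unit ⊕ (Fin d ⊕ Fin d) → F) where
  toFun a := fun k => match k with
    | .inl _ => 0
    | .inr (.inl i) => a i
    | .inr (.inr _) => 0
  map_add' a b := by
    funext k
    rcases k with _ | i | j <;> simp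
  map_smul' c a := by
    funext k
    rcases k with _ | i | j <;> simp

theorem uE_inl (a : Fin d → F) (k : Unit) : uE d F a (.inl k) = 0 := rfl
theorem uE_inr_inl (a : Fin d → F) (i : Fin d) : uE d F a (.inr (.inl i)) = a i := rfl
theorem uE_inr_inr (a : Fin d → F) (j : Fin d) : uE d F a (.inr (.inr j)) = 0 := rfl

theorem uE_injective : Function.Injective (uE d F) := by
  intro a b hab
  funext i
  have := congrFun hab (.inr (.inl i))
  rwa [uE_inr_inl, uE_inr_inl] at this

theorem finrank_range_uE : finrank F ↥(LinearMap.range (uE d F)) = d := by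
  rw [LinearMap.finrank_range_of_inj uE_injective, Module.finrank_fintype_fun_eq_card,
    Fintype.card_fin]

theorem uT_uE (a : Fin d → F) : uT (uE d F a) = 0 := by
  unfold uT
  simp only [uE_inr_inr, mul_zero, Finset.sum_const_zero]

theorem uN_uE (a : Fin d → F) : uN d F (uE d F a) = 0 := by
  funext k
  rcases k with _ | i | j
  · rw [uN_inl, uT_uE]; simp
  · rw [uN_inr_inl, uE_inr_inr, uE_inl, uT_uE]; simp
  · rw [uN_inr_inr]; rfl

theorem uE_mem_range_uN (h2 : (2 : F) ≠ 0) (a : Fin d → F) :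
    uE d F a ∈ LinearMap.range (uN d F) := by
  refine ⟨fun k => match k with
    | .inl _ => (∑ k, tt F k * a k) / 2
    | .inr (.inl _) => 0
    | .inr (.inr j) => sg F (Fin.rev j) * a (Fin.rev j), ?_⟩
  have hT : uT (fun k : Unit ⊕ (Fin d ⊕ Fin d) => match k with
    | .inl _ => (∑ k, tt F k * a k) / 2
    | .inr (.inl _) => 0
    | .inr (.inr j) => sg F (Fin.rev j) * a (Fin.rev j)) = 0 := by
    unfold uT
    apply Finset.sum_eq_zero
    intro j _
    show tt F j * (sg F (Fin.rev j) * a (Fin.rev j)) = 0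
    rw [← mul_assoc, tt_mul_sg_rev, zero_mul]
  funext k
  rcases k with _ | i | j
  · rw [uN_inl, hT, uE_inl]; simp
  · rw [uN_inr_inl, hT, uE_inr_inl]
    show sg F i * (sg F (Fin.rev (Fin.rev i)) * a (Fin.rev (Fin.rev i))) +
      2 * tt F i * ((∑ k, tt F k * a k) / 2) - tt F i * 0 = a i
    rw [Fin.rev_rev, ← mul_assoc, sg_mul_sg]
    have h1 : 2 * tt F i * ((∑ k, tt F k * a k) / 2) = tt F i * ∑ k, tt F k * a k := by
      field_simp
    rw [h1, tt_mul_sum]
    ring
  · rw [uN_inr_inr, uE_inr_inr]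

theorem uN_ne_zero (h2 : (2 : F) ≠ 0) (hd : 1 ≤ d) : uN d F ≠ 0 := by
  intro h0
  have h1 : LinearMap.range (uE d F) ≤ LinearMap.range (uN d F) := by
    rintro _ ⟨a, rfl⟩
    exact uE_mem_range_uN h2 a
  have h3 := Submodule.finrank_mono h1
  rw [finrank_range_uE, h0, LinearMap.range_zero, finrank_bot] at h3
  omega

section group

variable [Fintype F] {p : ℕ} [Fact p.Prime] [CharP F p]

/-- the unipotent element -/
theorem exists_unip_elt (h2 : (2 : F) ≠ 0) (hd : 1 ≤ d) :
    ∃ y : ↥(Cfsg.isometryGroup F (Cfsg.quadFormOdd d F)),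
      y ∈ Cfsg.Omega F (Cfsg.quadFormOdd d F) ∧ orderOf y = p ∧
      ∀ (W : Submodule F (Unit ⊕ (Fin d ⊕ Fin d) → F)) (e : ℕ), finrank F ↥W = 2 * e →
        Nd (oB d F) W →
        W.map (Matrix.toLin' ((y : GL (Unit ⊕ (Fin d ⊕ Fin d)) F) :
          Matrix (Unit ⊕ (Fin d ⊕ Fin d)) (Unit ⊕ (Fin d ⊕ Fin d)) F)) ≤ W →
        Hyp (oB d F) W := by
  classical
  have hp : p.Prime := Fact.out
  have hp2 : p ≠ 2 := by
    intro h
    apply h2
    have := CharP.cast_eq_zero F p
    rw [h] at this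
    exact_mod_cast this
  have hp3 : 3 ≤ p := by
    have := hp.two_le
    omega
  have hpodd : Odd p := hp.odd_of_ne_two hp2
  set x : Module.End F (Unit ⊕ (Fin d ⊕ Fin d) → F) := 1 + uN d F with hx
  have hiso : ∀ v, Cfsg.quadFormOdd d F (x v) = Cfsg.quadFormOdd d F v := quad_one_add_uN h2
  have hB : ∀ u v, oB d F (x u) (x v) = oB d F u v := oB_isom hiso
  have hinj : Function.Injective x := isom_injective (oB_nondeg h2) hB
  have hxp : x ^ p = 1 := by
    have : CharP (Module.End F (Unit ⊕ (Fin d ⊕ Fin d) → F)) p :=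
      charP_of_injective_algebraMap' (A := Module.End F (Unit ⊕ (Fin d ⊕ Fin d) → F)) F p
    rw [hx, add_pow_char_of_commute _ (Commute.one_left (uN d F)), one_pow]
    have : (uN d F) ^ p = 0 := by
      rw [← Nat.sub_add_cancel hp3, pow_add, uN_pow_three, mul_zero]
    rw [this, add_zero]
  let gl : (Unit ⊕ (Fin d ⊕ Fin d) → F) ≃ₗ[F] (Unit ⊕ (Fin d ⊕ Fin d) → F) :=
    LinearEquiv.ofInjectiveEndo x hinj
  have hgl : ∀ v, gl v = x v := fun v => rfl
  let y : ↥(Cfsg.isometryGroup F (Cfsg.quadFormOdd d F)) :=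
    Cfsg.Agent.Helper45.OmegaParity.isoOfLin (oddForm d F) gl (fun v => by rw [hgl]; exact hiso v)
  have hylin : Matrix.toLin' ((y : GL (Unit ⊕ (Fin d ⊕ Fin d)) F) :
      Matrix (Unit ⊕ (Fin d ⊕ Fin d)) (Unit ⊕ (Fin d ⊕ Fin d)) F) = x := by
    apply LinearMap.ext
    intro v
    rw [Matrix.toLin'_apply]
    exact Cfsg.Agent.Helper45.OmegaParity.lin_isoOfLin (oddForm d F) gl _ v
  have hyp : y ^ p = 1 := by
    apply Subtype.ext
    apply Units.ext
    apply Matrix.toLin'.injective
    rw [Subgroup.coe_pow, Units.val_pow_eq_pow_val, Matrix.toLin'_pow, hylin, hxp]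
    show (1 : Module.End F (Unit ⊕ (Fin d ⊕ Fin d) → F)) = Matrix.toLin' 1
    rw [Matrix.toLin'_one]
    rfl
  have hy1 : y ≠ 1 := by
    intro h1
    have h3 : Matrix.toLin' ((y : GL (Unit ⊕ (Fin d ⊕ Fin d)) F) :
      Matrix (Unit ⊕ (Fin d ⊕ Fin d)) (Unit ⊕ (Fin d ⊕ Fin d)) F) = 1 := by
      rw [h1]
      show Matrix.toLin' 1 = (1 : Module.End F (Unit ⊕ (Fin d ⊕ Fin d) → F))
      rw [Matrix.toLin'_one]
      rfl
    rw [hylin, hx] at h3
    have h4 : uN d F = 0 := by
      have := congrArg (fun z => z - 1) h3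
      simpa using this
    exact uN_ne_zero h2 hd h4
  have hyΩ : y ∈ Cfsg.Omega F (Cfsg.quadFormOdd d F) :=
    mem_Omega_of_odd_order' (oddForm d F) h2 (oB_nondeg h2) y hpodd hyp
  refine ⟨y, hyΩ, orderOf_eq_prime hyp hy1, ?_⟩
  intro W e hWdim hWnd hWinv
  rw [hylin] at hWinv
  have hsub : x - 1 = uN d F := by rw [hx]; exact add_sub_cancel_left 1 (uN d F)
  have hEk : LinearMap.range (uE d F) ≤ LinearMap.ker (x - 1) := by
    rintro _ ⟨a, rfl⟩
    rw [hsub, LinearMap.mem_ker]
    exact uN_uE a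
  have hEr : LinearMap.range (uE d F) ≤ LinearMap.range (x - 1) := by
    rintro _ ⟨a, rfl⟩
    rw [hsub]
    exact uE_mem_range_uN h2 a
  exact hyp_of_unip oB_symm (oB_nondeg h2) finrank_oV hB hEk hEr (by rw [finrank_range_uE])
    hWdim hWnd hWinv

end group

end Cfsg.Agent.Helper94.Tn
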