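import Mathlib
import Cfsg.Agent.Helper94.TnL

set_option autoImplicit false
set_option linter.unusedSectionVars false
set_option linter.style.haveILetI false

/-!
# Counting orthogonal bases of anisotropic planes in a nondegenerate space of odd dimension
-/

namespace Cfsg.Agent.Helper94.Tn

open Module Polynomial
open Cfsg.Agent.Helper59.InvChain Cfsg.Agent.Helper59.Elusive
open Cfsg.Agent.Helper99.SpStruct Cfsg.Agent.Helper99.RDecomp
open Cfsg.Agent.Helper94.Ti Cfsg.Agent.Helper94.Ts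
open Cfsg.Agent.Helper44 Cfsg.Agent.Helper44.QType

universe u v w

section squares

variable {F : Type u} [Field F] [Fintype F]

theorem isSquare_mul_of_not {x y : F} (hx : ¬ IsSquare x) (hy : ¬ IsSquare y) :
    IsSquare (x * y) := by
  classical
  have hx0 : x ≠ 0 := by rintro rfl; exact hx IsSquare.zero
  have hy0 : y ≠ 0 := by rintro rfl; exact hy IsSquare.zero
  rw [← quadraticChar_one_iff_isSquare (mul_ne_zero hx0 hy0), map_mul,
    quadraticChar_neg_one_iff_not_isSquare.mpr hx, quadraticChar_neg_one_iff_not_isSquare.mpr hy]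
  norm_num

theorem not_isSquare_mul {x y : F} (hx : IsSquare x) (hx0 : x ≠ 0) (hy : ¬ IsSquare y) :
    ¬ IsSquare (x * y) := by
  rintro ⟨z, hz⟩
  obtain ⟨s, rfl⟩ := hx
  have hs : s ≠ 0 := by rintro rfl; exact hx0 (by simp)
  apply hy
  refine ⟨z / s, ?_⟩
  field_simp
  linear_combination hz

theorem card_sq_eq (h2 : (2 : F) ≠ 0) {c : F} (hc : c ≠ 0) :
    Nat.card {δ : F // δ * δ = c * c} = 2 := by
  classical
  have hne : c ≠ -c := by
    intro h
    have : (2 : F) * c = 0 := by linear_combination h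
    rcases mul_eq_zero.mp this with h' | h'
    · exact h2 h'
    · exact hc h'
  have hset : {δ : F | δ * δ = c * c} = {c, -c} := by
    ext δ
    simp only [Set.mem_ofPred_eq, Set.mem_insert_iff, Set.mem_singleton_iff]
    constructor
    · intro h
      have : (δ - c) * (δ + c) = 0 := by linear_combination h
      rcases mul_eq_zero.mp this with h' | h'
      · left; linear_combination h'
      · right; linear_combination h'
    · rintro (rfl | rfl) <;> ring
  have : Nat.card {δ : F // δ * δ = c * c} = ({δ : F | δ * δ = c * c}).ncard := by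
    rw [← Nat.card_coe_set_eq]; rfl
  rw [this, hset, Set.ncard_pair hne]

end squares

variable {F : Type u} [Field F] [Fintype F]
variable {V : Type v} [AddCommGroup V] [Module F V] [FiniteDimensional F V]
variable {B : LinearMap.BilinForm F V}

/-- orthogonal pairs in `X`, the first vector nonsingular, with the norms in a given class -/
def CPair (B : LinearMap.BilinForm F V) (X : Submodule F V) (C : F → F → Prop) : Type v :=
  {p : V × V // p.1 ∈ X ∧ p.2 ∈ X ∧ B p.1 p.2 = 0 ∧ B p.1 p.1 ≠ 0 ∧ C (B p.1 p.1) (B p.2 p.2)}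

theorem mem_inf_orth_singleton {X : Submodule F V} {a b : V} :
    b ∈ X ⊓ B.orthogonal (Submodule.span F {a}) ↔ b ∈ X ∧ B a b = 0 := by
  rw [Submodule.mem_inf, LinearMap.BilinForm.mem_orthogonal_iff]
  constructor
  · rintro ⟨h1, h3⟩
    exact ⟨h1, h3 a (Submodule.mem_span_singleton_self a)⟩
  · rintro ⟨h1, h3⟩
    refine ⟨h1, fun n hn => ?_⟩
    obtain ⟨c, rfl⟩ := Submodule.mem_span_singleton.mp hn
    show B (c • a) b = 0
    rw [map_smul, LinearMap.smul_apply, h3, smul_zero]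

/-- twisting the second vector by similitudes with multiplier `ν` -/
theorem card_cpair_le (hB : B.IsSymm) (h2 : (2 : F) ≠ 0) {X : Submodule F V} (hX : Nd B X)
    {m : ℕ} (hdim : finrank F ↥X = 2 * m + 1) {ν : F} (hν : ν ≠ 0) {C₁ C₂ : F → F → Prop}
    (hC : ∀ α β, α ≠ 0 → C₁ α β → C₂ α (ν * β)) :
    Nat.card (CPair B X C₁) ≤ Nat.card (CPair B X C₂) := by
  classical
  haveI : Finite V := Module.finite_of_finite F
  haveI : Finite (CPair B X C₂) := by unfold CPair; infer_instance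
  have hsim : ∀ a : V, a ∈ X → B a a ≠ 0 → ∃ G : V → V,
      (∀ b, b ∈ X → B a b = 0 → G b ∈ X ∧ B a (G b) = 0 ∧ B (G b) (G b) = ν * B b b) ∧
      (∀ b b', b ∈ X → B a b = 0 → b' ∈ X → B a b' = 0 → G b = G b' → b = b') := by
    intro a haX haa
    have hSnd := nd_span_singleton haa
    have hSle : Submodule.span F {a} ≤ X := by
      rw [Submodule.span_singleton_le_iff_mem]; exact haX
    have hYnd := hSnd.inf_orth hB.isRefl hSle hX
    have hYdim := hSnd.finrank_inf_orth hB.isRefl hSle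
    rw [finrank_span_singleton (ne_zero_of_norm_ne haa), hdim] at hYdim
    set Y := X ⊓ B.orthogonal (Submodule.span F {a}) with hY
    have hYdim' : finrank F ↥Y = 2 * m := by omega
    obtain ⟨g, hg⟩ := exists_similarity_even (qOf B Y) hYdim' (qOf_nd hB h2 hYnd) ν hν
    refine ⟨fun b => if h : b ∈ Y then (g ⟨b, h⟩ : V) else 0, ?_, ?_⟩
    · intro b hbX hab
      have hbY : b ∈ Y := mem_inf_orth_singleton.mpr ⟨hbX, hab⟩
      simp only [dif_pos hbY]
      have hmem := mem_inf_orth_singleton.mp (g ⟨b, hbY⟩).2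
      refine ⟨hmem.1, hmem.2, ?_⟩
      have := hg ⟨b, hbY⟩
      rw [qOf_apply, qOf_apply] at this
      exact this
    · intro b b' hbX hab hb'X hab' hbb
      have hbY : b ∈ Y := mem_inf_orth_singleton.mpr ⟨hbX, hab⟩
      have hb'Y : b' ∈ Y := mem_inf_orth_singleton.mpr ⟨hb'X, hab'⟩
      simp only [dif_pos hbY, dif_pos hb'Y] at hbb
      have := g.injective (Subtype.ext hbb)
      exact congrArg Subtype.val this
  choose G hG1 hG2 using hsim
  let φ : CPair B X C₁ → CPair B X C₂ := fun p =>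
    ⟨(p.1.1, G p.1.1 p.2.1 p.2.2.2.2.1 p.1.2), p.2.1,
      (hG1 p.1.1 p.2.1 p.2.2.2.2.1 p.1.2 p.2.2.1 p.2.2.2.1).1,
      (hG1 p.1.1 p.2.1 p.2.2.2.2.1 p.1.2 p.2.2.1 p.2.2.2.1).2.1, p.2.2.2.2.1, by
        show C₂ (B p.1.1 p.1.1) (B (G p.1.1 p.2.1 p.2.2.2.2.1 p.1.2) (G p.1.1 p.2.1 p.2.2.2.2.1 p.1.2))
        rw [(hG1 p.1.1 p.2.1 p.2.2.2.2.1 p.1.2 p.2.2.1 p.2.2.2.1).2.2]
        exact hC _ _ p.2.2.2.2.1 p.2.2.2.2.2⟩
  apply Nat.card_le_card_of_injective φ
  rintro ⟨⟨a, b⟩, ha, hb, hab, haa, hc⟩ ⟨⟨a', b'⟩, ha', hb', hab', haa', hc'⟩ hpp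
  have h1 := congrArg Subtype.val hpp
  have h3 : a = a' := congrArg Prod.fst h1
  subst h3
  have h4 : G a ha haa b = G a ha haa b' := congrArg Prod.snd h1
  have h5 := hG2 a ha haa b b' hb hab hb' hab' h4
  subst h5
  rfl

/-- orthogonal bases of anisotropic planes -/
abbrev EPair (B : LinearMap.BilinForm F V) (X : Submodule F V) : Type v :=
  CPair B X (fun α β => ¬ IsSquare (-(α * β)))

/-- orthogonal nonsingular bases of hyperbolic planes -/
abbrev SPair (B : LinearMap.BilinForm F V) (X : Submodule F V) : Type v :=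
  CPair B X (fun α β => β ≠ 0 ∧ IsSquare (-(α * β)))

theorem card_epair_eq_spair (hB : B.IsSymm) (h2 : (2 : F) ≠ 0) {X : Submodule F V} (hX : Nd B X)
    {m : ℕ} (hdim : finrank F ↥X = 2 * m + 1) :
    Nat.card (EPair B X) = Nat.card (SPair B X) := by
  obtain ⟨ν, hν⟩ := FiniteField.exists_nonsquare (F := F) (by
    intro h
    apply h2
    have := ringChar.Nat.cast_ringChar (R := F)
    rw [h] at this
    exact_mod_cast this)
  have hν0 : ν ≠ 0 := by rintro rfl; exact hν IsSquare.zero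
  apply le_antisymm
  · apply card_cpair_le hB h2 hX hdim hν0
    intro α β hα hns
    have hβ : β ≠ 0 := by
      rintro rfl
      apply hns
      rw [mul_zero, neg_zero]
      exact IsSquare.zero
    refine ⟨mul_ne_zero hν0 hβ, ?_⟩
    have : -(α * (ν * β)) = ν * (-(α * β)) := by ring
    rw [this]
    exact isSquare_mul_of_not hν hns
  · apply card_cpair_le hB h2 hX hdim hν0
    intro α β hα hs
    have : -(α * (ν * β)) = (-(α * β)) * ν := by ring
    rw [this]
    exact not_isSquare_mul hs.2 (neg_ne_zero.mpr (mul_ne_zero hα hs.1)) hν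

/-- orthogonal pairs with a chosen square root of `-β/α` -/
def DTriple (B : LinearMap.BilinForm F V) (X : Submodule F V) : Type (max u v) :=
  {t : V × V × F // t.1 ∈ X ∧ t.2.1 ∈ X ∧ B t.1 t.2.1 = 0 ∧ B t.1 t.1 ≠ 0 ∧ t.2.2 ≠ 0 ∧
    B t.2.1 t.2.1 = -(t.2.2 * t.2.2 * B t.1 t.1)}

/-- pairs of isotropic vectors which are not orthogonal -/
def HPair' (B : LinearMap.BilinForm F V) (X : Submodule F V) : Type v :=
  {p : V × V // p.1 ∈ X ∧ p.2 ∈ X ∧ B p.1 p.1 = 0 ∧ B p.2 p.2 = 0 ∧ B p.1 p.2 ≠ 0}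

/-- forgetting the square root -/
def dProj (B : LinearMap.BilinForm F V) (X : Submodule F V) : DTriple B X → SPair B X :=
  fun t => ⟨(t.1.1, t.1.2.1), t.2.1, t.2.2.1, t.2.2.2.1, t.2.2.2.2.1, by
    obtain ⟨h1, h3, h4, h5, h6, h7⟩ := t.2
    show B t.1.2.1 t.1.2.1 ≠ 0 ∧ IsSquare (-(B t.1.1 t.1.1 * B t.1.2.1 t.1.2.1))
    rw [h7]
    refine ⟨neg_ne_zero.mpr (mul_ne_zero (mul_ne_zero h6 h6) h5), t.1.2.2 * B t.1.1 t.1.1, ?_⟩
    ring⟩

theorem card_dProj_fiber (h2 : (2 : F) ≠ 0) {X : Submodule F V} (p : SPair B X) :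
    Nat.card {t : DTriple B X // dProj B X t = p} = 2 := by
  obtain ⟨⟨a, b⟩, ha, hb, hab, haa, hbb, s, hs⟩ := p
  have hs' : -(B a a * B b b) = s * s := hs
  have hs0 : s ≠ 0 := by
    rintro rfl
    have : B a a * B b b = 0 := by linear_combination -hs'
    rcases mul_eq_zero.mp this with h | h
    · exact haa h
    · exact hbb h
  have hc : s / B a a ≠ 0 := div_ne_zero hs0 haa
  rw [← card_sq_eq h2 hc]
  apply Nat.card_congr
  refine
    { toFun := fun t => ⟨t.1.1.2.2, ?_⟩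
      invFun := fun δ => ⟨⟨(a, b, δ.1), ha, hb, hab, haa, ?_, ?_⟩, rfl⟩
      left_inv := ?_
      right_inv := ?_ }
  · obtain ⟨⟨⟨a', b', δ⟩, h1, h3, h4, h5, h6, h7⟩, ht⟩ := t
    have h8 := congrArg Subtype.val ht
    have h9 : a' = a := congrArg Prod.fst h8
    have h10 : b' = b := congrArg Prod.snd h8
    subst h9 h10
    show δ * δ = s / B a' a' * (s / B a' a')
    have h7' : B b' b' = -(δ * δ * B a' a') := h7
    field_simp
    rw [h7'] at hs'
    linear_combination hs'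
  · intro h
    have := δ.2
    have h' : δ.1 = 0 := h
    rw [h'] at this
    have h3 : s / B a a * (s / B a a) = 0 := by rw [← this]; ring
    rcases mul_eq_zero.mp h3 with h' | h' <;> exact hc h'
  · show B b b = -(δ.1 * δ.1 * B a a)
    rw [δ.2]
    field_simp
    linear_combination -hs'
  · rintro ⟨⟨⟨a', b', δ⟩, h1, h3, h4, h5, h6, h7⟩, ht⟩
    have h8 := congrArg Subtype.val ht
    have h9 : a' = a := congrArg Prod.fst h8
    have h10 : b' = b := congrArg Prod.snd h8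
    subst h9 h10
    rfl
  · intro δ
    rfl

theorem card_dTriple (h2 : (2 : F) ≠ 0) (X : Submodule F V) :
    Nat.card (DTriple B X) = 2 * Nat.card (SPair B X) := by
  classical
  haveI : Finite V := Module.finite_of_finite F
  haveI : Finite (SPair B X) := by unfold SPair CPair; infer_instance
  haveI : Fintype (SPair B X) := Fintype.ofFinite _
  haveI : Finite (DTriple B X) := by unfold DTriple; infer_instance
  rw [Nat.card_congr (Equiv.sigmaFiberEquiv (dProj B X)).symm, Nat.card_sigma,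
    Finset.sum_congr rfl (fun p _ => card_dProj_fiber h2 p), Finset.sum_const, Finset.card_univ,
    ← Nat.card_eq_fintype_card, smul_eq_mul, mul_comm]

/-- `(a, b, δ) ↦ (δ a + b, δ a - b, δ)` -/
noncomputable def dTripleEquiv (hB : B.IsSymm) (h2 : (2 : F) ≠ 0) (X : Submodule F V) :
    DTriple B X ≃ HPair' B X × {δ : F // δ ≠ 0} where
  toFun t := (⟨(t.1.2.2 • t.1.1 + t.1.2.1, t.1.2.2 • t.1.1 - t.1.2.1), by
    obtain ⟨⟨a, b, δ⟩, h1, h3, h4, h5, h6, h7⟩ := t
    have h4' : B a b = 0 := h4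
    have h7' : B b b = -(δ * δ * B a a) := h7
    have hba : B b a = 0 := by rw [hB.eq]; exact h4'
    refine ⟨X.add_mem (X.smul_mem _ h1) h3, X.sub_mem (X.smul_mem _ h1) h3, ?_, ?_, ?_⟩
    · show B (δ • a + b) (δ • a + b) = 0
      simp only [map_add, map_smul, LinearMap.add_apply, LinearMap.smul_apply, smul_eq_mul, h4',
        hba, h7']
      ring
    · show B (δ • a - b) (δ • a - b) = 0
      simp only [map_sub, map_smul, LinearMap.sub_apply, LinearMap.smul_apply, smul_eq_mul, h4',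
        hba, h7']
      ring
    · show B (δ • a + b) (δ • a - b) ≠ 0
      have h5' : B a a ≠ 0 := h5
      have h6' : δ ≠ 0 := h6
      have key : B (δ • a + b) (δ • a - b) = 2 * (δ * δ * B a a) := by
        simp only [map_add, map_sub, map_smul, LinearMap.add_apply, LinearMap.smul_apply,
          smul_eq_mul, h4', hba, h7']
        ring
      rw [key]
      exact mul_ne_zero h2 (mul_ne_zero (mul_ne_zero h6' h6') h5')⟩, ⟨t.1.2.2, t.2.2.2.2.2.1⟩)
  invFun x := ⟨((2 * x.2.1)⁻¹ • (x.1.1.1 + x.1.1.2), (2 : F)⁻¹ • (x.1.1.1 - x.1.1.2), x.2.1), by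
    obtain ⟨⟨⟨u, u'⟩, h1, h3, h4, h5, h6⟩, ⟨δ, hδ⟩⟩ := x
    have h4' : B u u = 0 := h4
    have h5' : B u' u' = 0 := h5
    have h6' : B u u' ≠ 0 := h6
    have hu'u : B u' u = B u u' := hB.eq _ _
    refine ⟨X.smul_mem _ (X.add_mem h1 h3), X.smul_mem _ (X.sub_mem h1 h3), ?_, ?_, hδ, ?_⟩
    · show B ((2 * δ)⁻¹ • (u + u')) ((2 : F)⁻¹ • (u - u')) = 0
      simp only [map_add, map_sub, map_smul, LinearMap.add_apply, LinearMap.smul_apply,
        smul_eq_mul, h4', h5', hu'u]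
      ring
    · show B ((2 * δ)⁻¹ • (u + u')) ((2 * δ)⁻¹ • (u + u')) ≠ 0
      have h7 : (2 * δ)⁻¹ ≠ 0 := inv_ne_zero (mul_ne_zero h2 hδ)
      have key : B ((2 * δ)⁻¹ • (u + u')) ((2 * δ)⁻¹ • (u + u')) =
          (2 * δ)⁻¹ * (2 * δ)⁻¹ * (2 * B u u') := by
        simp only [map_add, map_smul, LinearMap.add_apply, LinearMap.smul_apply,
          smul_eq_mul, h4', h5', hu'u]
        ring
      rw [key]
      exact mul_ne_zero (mul_ne_zero h7 h7) (mul_ne_zero h2 h6')
    · show B ((2 : F)⁻¹ • (u - u')) ((2 : F)⁻¹ • (u - u')) =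
        -(δ * δ * B ((2 * δ)⁻¹ • (u + u')) ((2 * δ)⁻¹ • (u + u')))
      simp only [map_add, map_sub, map_smul, LinearMap.add_apply, LinearMap.sub_apply,
        LinearMap.smul_apply, smul_eq_mul, h4', h5', hu'u]
      field_simp
      ring⟩
  left_inv t := by
    obtain ⟨⟨a, b, δ⟩, h1, h3, h4, h5, h6, h7⟩ := t
    have h6' : δ ≠ 0 := h6
    apply Subtype.ext
    show ((2 * δ)⁻¹ • (δ • a + b + (δ • a - b)), (2 : F)⁻¹ • (δ • a + b - (δ • a - b)), δ) =
      (a, b, δ)
    have e1 : δ • a + b + (δ • a - b) = (2 * δ) • a := by module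
    have e2 : δ • a + b - (δ • a - b) = (2 : F) • b := by module
    rw [e1, e2, smul_smul, smul_smul, inv_mul_cancel₀ (mul_ne_zero h2 h6'), inv_mul_cancel₀ h2,
      one_smul, one_smul]
  right_inv x := by
    obtain ⟨⟨⟨u, u'⟩, h1, h3, h4, h5, h6⟩, ⟨δ, hδ⟩⟩ := x
    apply Prod.ext
    · apply Subtype.ext
      show (δ • (2 * δ)⁻¹ • (u + u') + (2 : F)⁻¹ • (u - u'),
        δ • (2 * δ)⁻¹ • (u + u') - (2 : F)⁻¹ • (u - u')) = (u, u')
      have e0 : δ * (2 * δ)⁻¹ = (2 : F)⁻¹ := by field_simp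
      rw [smul_smul, e0]
      have e3 : (2 : F)⁻¹ + (2 : F)⁻¹ = 1 := by field_simp; norm_num
      apply Prod.ext
      · show (2 : F)⁻¹ • (u + u') + (2 : F)⁻¹ • (u - u') = u
        have : (2 : F)⁻¹ • (u + u') + (2 : F)⁻¹ • (u - u') = ((2 : F)⁻¹ + (2 : F)⁻¹) • u := by
          module
        rw [this, e3, one_smul]
      · show (2 : F)⁻¹ • (u + u') - (2 : F)⁻¹ • (u - u') = u'
        have : (2 : F)⁻¹ • (u + u') - (2 : F)⁻¹ • (u - u') = ((2 : F)⁻¹ + (2 : F)⁻¹) • u' := by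
          module
        rw [this, e3, one_smul]
    · rfl

/-- `(u, u') ↦ (u, u' / B(u,u'), B(u,u'))` -/
noncomputable def hPairEquiv' (X : Submodule F V) :
    HPair' B X ≃ {p : V × V // IsHPair B p ∧ p.1 ∈ X ∧ p.2 ∈ X} × {μ : F // μ ≠ 0} where
  toFun p := (⟨(p.1.1, (B p.1.1 p.1.2)⁻¹ • p.1.2), by
    obtain ⟨⟨u, u'⟩, h1, h3, h4, h5, h6⟩ := p
    have h4' : B u u = 0 := h4
    have h5' : B u' u' = 0 := h5
    have h6' : B u u' ≠ 0 := h6
    refine ⟨⟨h4, ?_, ?_⟩, h1, X.smul_mem _ h3⟩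
    · show B ((B u u')⁻¹ • u') ((B u u')⁻¹ • u') = 0
      simp only [map_smul, LinearMap.smul_apply, smul_eq_mul, h5', mul_zero]
    · show B u ((B u u')⁻¹ • u') = 1
      rw [map_smul, smul_eq_mul, inv_mul_cancel₀ h6']⟩, ⟨B p.1.1 p.1.2, p.2.2.2.2.2⟩)
  invFun x := ⟨(x.1.1.1, x.2.1 • x.1.1.2), by
    obtain ⟨⟨⟨u, w⟩, ⟨h1, h3, h4⟩, h5, h6⟩, ⟨μ, hμ⟩⟩ := x
    have h1' : B u u = 0 := h1
    have h3' : B w w = 0 := h3
    have h4' : B u w = 1 := h4
    refine ⟨h5, X.smul_mem _ h6, h1, ?_, ?_⟩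
    · show B (μ • w) (μ • w) = 0
      simp only [map_smul, LinearMap.smul_apply, smul_eq_mul, h3', mul_zero]
    · show B u (μ • w) ≠ 0
      rw [map_smul, smul_eq_mul, h4', mul_one]
      exact hμ⟩
  left_inv p := by
    obtain ⟨⟨u, u'⟩, h1, h3, h4, h5, h6⟩ := p
    have h6' : B u u' ≠ 0 := h6
    apply Subtype.ext
    show (u, B u u' • (B u u')⁻¹ • u') = (u, u')
    rw [smul_smul, mul_inv_cancel₀ h6', one_smul]
  right_inv x := by
    obtain ⟨⟨⟨u, w⟩, ⟨h1, h3, h4⟩, h5, h6⟩, ⟨μ, hμ⟩⟩ := x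
    have h4' : B u w = 1 := h4
    have e1 : B u (μ • w) = μ := by rw [map_smul, smul_eq_mul, h4', mul_one]
    apply Prod.ext
    · apply Subtype.ext
      show (u, (B u (μ • w))⁻¹ • μ • w) = (u, w)
      rw [e1, smul_smul, inv_mul_cancel₀ hμ, one_smul]
    · apply Subtype.ext
      exact e1

theorem card_ne_zero_subtype : Nat.card {μ : F // μ ≠ 0} = Fintype.card F - 1 := by
  classical
  rw [Nat.card_congr (unitsEquivNeZero (G₀ := F)).symm, Nat.card_eq_fintype_card,
    Fintype.card_units]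

/-- the number of orthogonal bases of anisotropic planes -/
theorem two_mul_card_epair (hB : B.IsSymm) (h2 : (2 : F) ≠ 0) {X : Submodule F V} (hX : Nd B X)
    {d' : ℕ} (hdim : finrank F ↥X = 2 * d' + 3) :
    2 * Nat.card (EPair B X) = (Fintype.card F ^ (2 * d' + 2) - 1) * Fintype.card F ^ (2 * d' + 1) *
      (Fintype.card F - 1) * (Fintype.card F - 1) := by
  rw [card_epair_eq_spair hB h2 hX (m := d' + 1) (by omega), ← card_dTriple h2,
    Nat.card_congr (dTripleEquiv hB h2 X), Nat.card_prod, Nat.card_congr (hPairEquiv' X),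
    Nat.card_prod, card_ne_zero_subtype, card_hpairs hB h2 hX hdim]

end Cfsg.Agent.Helper94.Tn
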