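import Mathlib
import Cfsg.Agent.Helper94.TnM

set_option autoImplicit false
set_option linter.unusedSectionVars false
set_option linter.style.haveILetI false

/-!
# The number of elliptic subspaces of an odd-dimensional space (divisibility)
-/

namespace Cfsg.Agent.Helper94.Tn

open Module Polynomial
open Cfsg.Agent.Helper59.InvChain Cfsg.Agent.Helper59.Elusive
open Cfsg.Agent.Helper99.SpStruct Cfsg.Agent.Helper99.RDecomp
open Cfsg.Agent.Helper94.Ti Cfsg.Agent.Helper94.Ts
open Cfsg.Agent.Helper44 Cfsg.Agent.Helper44.QType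

universe u v w

section general

variable {F : Type u} [Field F]
variable {V : Type v} [AddCommGroup V] [Module F V] [FiniteDimensional F V]
variable {B : LinearMap.BilinForm F V}

/-- the plane of an orthogonal pair with `-αβ` a nonsquare is anisotropic -/
theorem aniso_of_pair (hB : B.IsSymm) {z w : V} (hzw : B z w = 0) (hz : B z z ≠ 0)
    (hns : ¬ IsSquare (-(B z z * B w w))) :
    (∀ u ∈ Submodule.span F {z, w}, B u u = 0 → u = 0) ∧
      finrank F ↥(Submodule.span F {z, w}) = 2 := by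
  have hwz : B w z = 0 := by rw [hB.eq]; exact hzw
  have hnorm : ∀ x y : F, B (x • z + y • w) (x • z + y • w) = x ^ 2 * B z z + y ^ 2 * B w w := by
    intro x y
    simp only [map_add, map_smul, LinearMap.add_apply, LinearMap.smul_apply, smul_eq_mul, hzw,
      hwz]
    ring
  have hani : ∀ x y : F, B (x • z + y • w) (x • z + y • w) = 0 → x = 0 ∧ y = 0 := by
    intro x y h
    rw [hnorm] at h
    have hy : y = 0 := by
      by_contra hy
      apply hns
      refine ⟨B z z * x / y, ?_⟩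
      rw [div_mul_div_comm, eq_div_iff (mul_ne_zero hy hy)]
      linear_combination (-(B z z)) * h
    rw [hy] at h
    have hx : x = 0 := by
      have h1 : x ^ 2 * B z z = 0 := by linear_combination h
      rcases mul_eq_zero.mp h1 with h' | h'
      · exact pow_eq_zero_iff (two_ne_zero) |>.mp h'
      · exact absurd h' hz
    exact ⟨hx, hy⟩
  have hli : LinearIndependent F ![z, w] := by
    rw [LinearIndependent.pair_iff]
    intro s t hst
    apply hani s t
    rw [hst, map_zero]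
  have hrange : Set.range ![z, w] = {z, w} := by
    ext v
    simp only [Set.mem_range, Set.mem_insert_iff, Set.mem_singleton_iff]
    constructor
    · rintro ⟨j, rfl⟩
      fin_cases j
      · left; rfl
      · right; rfl
    · rintro (rfl | rfl)
      · exact ⟨0, rfl⟩
      · exact ⟨1, rfl⟩
  refine ⟨?_, ?_⟩
  · intro u hu huu
    obtain ⟨x, y, rfl⟩ := Submodule.mem_span_pair.mp hu
    obtain ⟨hx, hy⟩ := hani x y huu
    rw [hx, hy, zero_smul, zero_smul, add_zero]
  · rw [← hrange, finrank_span_eq_card hli, Fintype.card_fin]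

end general

variable {F : Type u} [Field F] [Fintype F]
variable {V : Type v} [AddCommGroup V] [Module F V] [FiniteDimensional F V]
variable {B : LinearMap.BilinForm F V}

/-- elliptic frames: a hyperbolic frame and an orthogonal basis of an anisotropic plane
orthogonal to it -/
def IsEFrame (B : LinearMap.BilinForm F V) {e : ℕ} (x : (Fin e → V × V) × (V × V)) : Prop :=
  IsHFrame B x.1 ∧ x.2.1 ∈ B.orthogonal (hSpan (F := F) x.1) ∧
    x.2.2 ∈ B.orthogonal (hSpan (F := F) x.1) ∧ B x.2.1 x.2.2 = 0 ∧ B x.2.1 x.2.1 ≠ 0 ∧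
    ¬ IsSquare (-(B x.2.1 x.2.1 * B x.2.2 x.2.2))

/-- the span of an elliptic frame -/
def eSpan {e : ℕ} (x : (Fin e → V × V) × (V × V)) : Submodule F V :=
  hSpan (F := F) x.1 ⊔ Submodule.span F {x.2.1, x.2.2}

theorem eSpan_props (hB : B.IsSymm) (h2 : (2 : F) ≠ 0) (hnd : B.Nondegenerate) {e : ℕ}
    {x : (Fin e → V × V) × (V × V)} (hx : IsEFrame B x) :
    finrank F ↥(eSpan (F := F) x) = 2 * (e + 1) ∧ Nd B (eSpan (F := F) x) ∧
      ¬ Hyp B (eSpan (F := F) x) := by
  obtain ⟨hs, ha, hb, hab, haa, hns⟩ := hx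
  obtain ⟨hani, hPdim⟩ := aniso_of_pair hB hab haa hns
  have hPnd := nd_of_aniso hani
  have hPnh : ¬ Hyp B (Submodule.span F {x.2.1, x.2.2}) := not_hyp_of_aniso hani (by omega)
  have hHnd := nd_hSpan (F := F) hB hs
  have hHdim := finrank_hSpan (F := F) hB hs
  have hHhyp := hyp_hSpan (F := F) hB hs
  have horth : Orth B (hSpan (F := F) x.1) (Submodule.span F {x.2.1, x.2.2}) := by
    rw [orth_iff_le, Submodule.span_le]
    rintro v hv
    rcases hv with rfl | rfl
    · exact ha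
    · exact hb
  have hWnd : Nd B (eSpan (F := F) x) := hHnd.sup hB.isRefl hPnd horth
  have hWdim : finrank F ↥(eSpan (F := F) x) = 2 * (e + 1) := by
    unfold eSpan
    rw [finrank_sup_of_disjoint (horth.disjoint hHnd), hHdim, hPdim]
    ring
  refine ⟨hWdim, hWnd, ?_⟩
  have hPdim' : finrank F ↥(Submodule.span F {x.2.1, x.2.2}) = 2 * 1 := by rw [hPdim]
  have hty1 := (hyp_iff_sType hB h2 hnd hHnd hHdim).mp hHhyp
  have hty2 := (not_hyp_iff_sType hB h2 hnd hPnd hPdim').mp hPnh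
  have hty := sType_sup hB h2 hHnd hPnd horth hHdim hPdim' hty1 hty2
  rw [one_mul] at hty
  exact (not_hyp_iff_sType hB h2 hnd hWnd hWdim).mpr hty

/-- the equivalence with pairs (frame, elliptic pair in the orthogonal complement) -/
def eFrameSigmaEquiv (B : LinearMap.BilinForm F V) (e : ℕ) :
    {x : (Fin e → V × V) × (V × V) // IsEFrame B x} ≃
      Σ s : {s : Fin e → V × V // IsHFrame B s}, EPair B (B.orthogonal (hSpan (F := F) s.1)) where
  toFun x := ⟨⟨x.1.1, x.2.1⟩, ⟨x.1.2, x.2.2⟩⟩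
  invFun y := ⟨(y.1.1, y.2.1), y.1.2, y.2.2⟩
  left_inv _ := rfl
  right_inv _ := rfl

/-- the number of elliptic frames -/
theorem two_mul_card_eFrame (hB : B.IsSymm) (h2 : (2 : F) ≠ 0) (hnd : B.Nondegenerate) {d : ℕ}
    (hodd : finrank F V = 2 * d + 1) (e : ℕ) (he : e + 1 ≤ d) :
    2 * Nat.card {x : (Fin e → V × V) × (V × V) // IsEFrame B x} =
      Nat.card {s : Fin e → V × V // IsHFrame B s} *
        ((Fintype.card F ^ (2 * (d - e)) - 1) * Fintype.card F ^ (2 * (d - e) - 1) *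
          (Fintype.card F - 1) * (Fintype.card F - 1)) := by
  classical
  haveI : Finite V := Module.finite_of_finite F
  haveI : Fintype {s : Fin e → V × V // IsHFrame B s} := Fintype.ofFinite _
  haveI : ∀ s : {s : Fin e → V × V // IsHFrame B s},
      Finite (EPair B (B.orthogonal (hSpan (F := F) s.1))) := fun s => by
    unfold EPair CPair; infer_instance
  rw [Nat.card_congr (eFrameSigmaEquiv B e), Nat.card_sigma, Finset.mul_sum]
  have hfib : ∀ s : {s : Fin e → V × V // IsHFrame B s},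
      2 * Nat.card (EPair B (B.orthogonal (hSpan (F := F) s.1))) =
        (Fintype.card F ^ (2 * (d - e)) - 1) * Fintype.card F ^ (2 * (d - e) - 1) *
          (Fintype.card F - 1) * (Fintype.card F - 1) := by
    intro s
    have hXnd : Nd B (B.orthogonal (hSpan (F := F) s.1)) := by
      have := (nd_hSpan hB s.2).inf_orth hB.isRefl le_top (nd_top_of_nondeg' hnd)
      rwa [top_inf_eq] at this
    have hXdim : finrank F ↥(B.orthogonal (hSpan (F := F) s.1)) = 2 * (d - e - 1) + 3 := by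
      have := LinearMap.BilinForm.finrank_orthogonal hnd (hSpan (F := F) s.1)
      rw [finrank_hSpan hB s.2, hodd] at this
      omega
    rw [two_mul_card_epair hB h2 hXnd hXdim]
    have e1 : 2 * (d - e - 1) + 2 = 2 * (d - e) := by omega
    have e2 : 2 * (d - e - 1) + 1 = 2 * (d - e) - 1 := by omega
    rw [e1, e2]
  rw [Finset.sum_congr rfl (fun s _ => hfib s), Finset.sum_const, Finset.card_univ,
    ← Nat.card_eq_fintype_card, smul_eq_mul]

/-- elliptic frames inside a subspace -/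
def InEFrames (B : LinearMap.BilinForm F V) (W : Submodule F V) (e : ℕ) : Type v :=
  {x : (Fin e → V × V) × (V × V) // IsEFrame B x ∧ (∀ a, (x.1 a).1 ∈ W ∧ (x.1 a).2 ∈ W) ∧
    x.2.1 ∈ W ∧ x.2.2 ∈ W}

theorem card_inE_le (hB : B.IsSymm) (h2 : (2 : F) ≠ 0) {W W' : Submodule F V}
    (g : ↥W ≃ₗ[F] ↥W') (hg : ∀ w, qOf B W' (g w) = qOf B W w) (e : ℕ) :
    Nat.card (InEFrames B W e) ≤ Nat.card (InEFrames B W' e) := by
  classical
  haveI : Finite V := Module.finite_of_finite F
  haveI : Finite (InEFrames B W' e) := by unfold InEFrames; infer_instance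
  have hiso := isom_of_qOf hB h2 g hg
  let φ : InEFrames B W e → InEFrames B W' e := fun x =>
    ⟨(fun a => ((g ⟨(x.1.1 a).1, (x.2.2.1 a).1⟩ : V), (g ⟨(x.1.1 a).2, (x.2.2.1 a).2⟩ : V)),
      ((g ⟨x.1.2.1, x.2.2.2.1⟩ : V), (g ⟨x.1.2.2, x.2.2.2.2⟩ : V))), by
      obtain ⟨⟨hs, ha, hb, hab, haa, hns⟩, hmem, haW, hbW⟩ := x.2
      rw [mem_orth_hSpan] at ha hb
      refine ⟨⟨⟨fun a => ?_, fun a b hab' => ?_⟩, ?_, ?_, ?_, ?_, ?_⟩,
        fun a => ⟨Subtype.coe_prop _, Subtype.coe_prop _⟩, Subtype.coe_prop _, Subtype.coe_prop _⟩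
      · obtain ⟨h1, h3, h4⟩ := hs.1 a
        refine ⟨?_, ?_, ?_⟩
        · show B (g _ : V) (g _ : V) = 0
          rw [hiso]; exact h1
        · show B (g _ : V) (g _ : V) = 0
          rw [hiso]; exact h3
        · show B (g _ : V) (g _ : V) = 1
          rw [hiso]; exact h4
      · obtain ⟨h1, h3, h4, h5⟩ := hs.2 a b hab'
        refine ⟨?_, ?_, ?_, ?_⟩
        · show B (g _ : V) (g _ : V) = 0
          rw [hiso]; exact h1
        · show B (g _ : V) (g _ : V) = 0
          rw [hiso]; exact h3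
        · show B (g _ : V) (g _ : V) = 0
          rw [hiso]; exact h4
        · show B (g _ : V) (g _ : V) = 0
          rw [hiso]; exact h5
      · rw [mem_orth_hSpan]
        intro a
        refine ⟨?_, ?_⟩
        · show B (g _ : V) (g _ : V) = 0
          rw [hiso]; exact (ha a).1
        · show B (g _ : V) (g _ : V) = 0
          rw [hiso]; exact (ha a).2
      · rw [mem_orth_hSpan]
        intro a
        refine ⟨?_, ?_⟩
        · show B (g _ : V) (g _ : V) = 0
          rw [hiso]; exact (hb a).1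
        · show B (g _ : V) (g _ : V) = 0
          rw [hiso]; exact (hb a).2
      · show B (g _ : V) (g _ : V) = 0
        rw [hiso]; exact hab
      · show B (g _ : V) (g _ : V) ≠ 0
        rw [hiso]; exact haa
      · show ¬ IsSquare (-(B (g _ : V) (g _ : V) * B (g _ : V) (g _ : V)))
        rw [hiso, hiso]; exact hns⟩
  apply Nat.card_le_card_of_injective φ
  intro x x' hxx
  apply Subtype.ext
  have h0 := congrArg Subtype.val hxx
  have h1 := congrArg Prod.fst h0
  have h1' := congrArg Prod.snd h0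
  apply Prod.ext
  · funext a
    have h1a := congrFun h1 a
    have h3 : (g ⟨(x.1.1 a).1, (x.2.2.1 a).1⟩ : V) = (g ⟨(x'.1.1 a).1, (x'.2.2.1 a).1⟩ : V) :=
      congrArg Prod.fst h1a
    have h4 : (g ⟨(x.1.1 a).2, (x.2.2.1 a).2⟩ : V) = (g ⟨(x'.1.1 a).2, (x'.2.2.1 a).2⟩ : V) :=
      congrArg Prod.snd h1a
    have h5 := congrArg Subtype.val (g.injective (Subtype.ext h3))
    have h6 := congrArg Subtype.val (g.injective (Subtype.ext h4))
    exact Prod.ext h5 h6
  · have h3 : (g ⟨x.1.2.1, x.2.2.2.1⟩ : V) = (g ⟨x'.1.2.1, x'.2.2.2.1⟩ : V) :=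
      congrArg Prod.fst h1'
    have h4 : (g ⟨x.1.2.2, x.2.2.2.2⟩ : V) = (g ⟨x'.1.2.2, x'.2.2.2.2⟩ : V) :=
      congrArg Prod.snd h1'
    have h5 := congrArg Subtype.val (g.injective (Subtype.ext h3))
    have h6 := congrArg Subtype.val (g.injective (Subtype.ext h4))
    exact Prod.ext h5 h6

theorem eSpan_le {e : ℕ} (x : (Fin e → V × V) × (V × V)) {W : Submodule F V}
    (h : ∀ a, (x.1 a).1 ∈ W ∧ (x.1 a).2 ∈ W) (h1 : x.2.1 ∈ W) (h3 : x.2.2 ∈ W) :
    eSpan (F := F) x ≤ W := by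
  unfold eSpan
  apply sup_le (hSpan_le x.1 h)
  rw [Submodule.span_le]
  rintro v hv
  rcases hv with rfl | rfl
  · exact h1
  · exact h3

variable (B)

/-- the span of an elliptic frame, as an elliptic subspace -/
noncomputable def eSpanMap (hB : B.IsSymm) (h2 : (2 : F) ≠ 0) (hnd : B.Nondegenerate) (e : ℕ) :
    {x : (Fin e → V × V) × (V × V) // IsEFrame B x} →
      {W : Submodule F V // finrank F ↥W = 2 * (e + 1) ∧ Nd B W ∧ ¬ Hyp B W} :=
  fun x => ⟨eSpan x.1, eSpan_props hB h2 hnd x.2⟩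

/-- the fibre of `eSpanMap` -/
noncomputable def eSpanFiberEquiv (hB : B.IsSymm) (h2 : (2 : F) ≠ 0) (hnd : B.Nondegenerate)
    (e : ℕ) (W : {W : Submodule F V // finrank F ↥W = 2 * (e + 1) ∧ Nd B W ∧ ¬ Hyp B W}) :
    {x : {x : (Fin e → V × V) × (V × V) // IsEFrame B x} // eSpanMap B hB h2 hnd e x = W} ≃
      InEFrames B W.1 e where
  toFun x := ⟨x.1.1, x.1.2, by
    have h3 : eSpan (F := F) x.1.1 = W.1 := congrArg Subtype.val x.2
    rw [← h3]
    refine ⟨fun a => ⟨?_, ?_⟩, ?_, ?_⟩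
    · exact (le_sup_left : hSpan (F := F) x.1.1.1 ≤ eSpan x.1.1) (fst_mem_hSpan _ a)
    · exact (le_sup_left : hSpan (F := F) x.1.1.1 ≤ eSpan x.1.1) (snd_mem_hSpan _ a)
    · exact (le_sup_right : Submodule.span F {x.1.1.2.1, x.1.1.2.2} ≤ eSpan x.1.1)
        (Submodule.subset_span (by simp))
    · exact (le_sup_right : Submodule.span F {x.1.1.2.1, x.1.1.2.2} ≤ eSpan x.1.1)
        (Submodule.subset_span (by simp))⟩
  invFun x := ⟨⟨x.1, x.2.1⟩, by
    apply Subtype.ext
    show eSpan (F := F) x.1 = W.1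
    exact Submodule.eq_of_le_of_finrank_eq (eSpan_le x.1 x.2.2.1 x.2.2.2.1 x.2.2.2.2)
      (by rw [(eSpan_props hB h2 hnd x.2.1).1, W.2.1])⟩
  left_inv _ := rfl
  right_inv _ := rfl

/-- all fibres of `eSpanMap` have the same size -/
theorem exists_card_eFiber_const (hB : B.IsSymm) (h2 : (2 : F) ≠ 0) (hnd : B.Nondegenerate)
    (e : ℕ) :
    ∃ N : ℕ, ∀ W : {W : Submodule F V // finrank F ↥W = 2 * (e + 1) ∧ Nd B W ∧ ¬ Hyp B W},
      Nat.card {x : {x : (Fin e → V × V) × (V × V) // IsEFrame B x} //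
        eSpanMap B hB h2 hnd e x = W} = N := by
  by_cases hne : Nonempty {W : Submodule F V // finrank F ↥W = 2 * (e + 1) ∧ Nd B W ∧ ¬ Hyp B W}
  · obtain ⟨W₀⟩ := hne
    refine ⟨Nat.card (InEFrames B W₀.1 e), fun W => ?_⟩
    rw [Nat.card_congr (eSpanFiberEquiv B hB h2 hnd e W)]
    have hty := (not_hyp_iff_sType hB h2 hnd W.2.2.1 W.2.1).mp W.2.2.2
    have hty₀ := (not_hyp_iff_sType hB h2 hnd W₀.2.2.1 W₀.2.1).mp W₀.2.2.2
    obtain ⟨g, hg⟩ := exists_isometry_of_hasType (qOf B W.1) (qOf B W₀.1) W.2.1 W₀.2.1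
      (qOf_nd hB h2 W.2.2.1) (qOf_nd hB h2 W₀.2.2.1) hty hty₀
    apply le_antisymm
    · exact card_inE_le hB h2 g hg e
    · refine card_inE_le hB h2 g.symm (fun w => ?_) e
      have := hg (g.symm w)
      rw [LinearEquiv.apply_symm_apply] at this
      exact this.symm
  · refine ⟨0, fun W => ?_⟩
    exact absurd ⟨W⟩ hne

/-- a prime dividing the number of elliptic `2(e+1)`-spaces (and not `q`) divides some
`q^(2(d-k)) - 1`, `k < e + 1` -/
theorem exists_dvd_of_dvd_card_ell (hB : B.IsSymm) (h2 : (2 : F) ≠ 0) (hnd : B.Nondegenerate)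
    {d : ℕ} (hodd : finrank F V = 2 * d + 1) (e : ℕ) (he : e + 1 ≤ d) (r : ℕ) (hr : r.Prime)
    (hrq : ¬ r ∣ Fintype.card F)
    (hdvd : r ∣ Nat.card {W : Submodule F V // finrank F ↥W = 2 * (e + 1) ∧ Nd B W ∧
      ¬ Hyp B W}) :
    ∃ k : ℕ, k < e + 1 ∧ r ∣ Fintype.card F ^ (2 * (d - k)) - 1 := by
  classical
  haveI : Finite V := Module.finite_of_finite F
  haveI : Fintype {W : Submodule F V // finrank F ↥W = 2 * (e + 1) ∧ Nd B W ∧ ¬ Hyp B W} :=
    Fintype.ofFinite _
  obtain ⟨N, hN⟩ := exists_card_eFiber_const B hB h2 hnd e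
  have h1 := two_mul_card_eFrame hB h2 hnd hodd e he
  rw [Nat.card_congr (Equiv.sigmaFiberEquiv (eSpanMap B hB h2 hnd e)).symm, Nat.card_sigma,
    Finset.sum_congr rfl (fun W _ => hN W), Finset.sum_const, Finset.card_univ,
    ← Nat.card_eq_fintype_card, smul_eq_mul, card_hFrame B hB h2 hnd hodd e (by omega)] at h1
  have h3 : r ∣ (∏ k : Fin e, ((Fintype.card F ^ (2 * (d - k.val)) - 1) *
      Fintype.card F ^ (2 * (d - k.val) - 1))) *
        ((Fintype.card F ^ (2 * (d - e)) - 1) * Fintype.card F ^ (2 * (d - e) - 1) *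
          (Fintype.card F - 1) * (Fintype.card F - 1)) := by
    rw [← h1]
    exact Dvd.dvd.mul_left (Dvd.dvd.mul_right hdvd _) _
  have hq1 : r ∣ Fintype.card F - 1 → r ∣ Fintype.card F ^ (2 * (d - e)) - 1 := by
    intro h
    exact h.trans (Nat.sub_one_dvd_pow_sub_one (Fintype.card F) (2 * (d - e)))
  rcases (Nat.Prime.dvd_mul hr).mp h3 with h | h
  · obtain ⟨k, -, hk⟩ := (hr.prime.dvd_finsetProd_iff _).mp h
    rcases (Nat.Prime.dvd_mul hr).mp hk with h' | h'
    · exact ⟨k.val, by have := k.2; omega, h'⟩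
    · exact absurd (hr.dvd_of_dvd_pow h') hrq
  · rcases (Nat.Prime.dvd_mul hr).mp h with h' | h'
    · rcases (Nat.Prime.dvd_mul hr).mp h' with h'' | h''
      · rcases (Nat.Prime.dvd_mul hr).mp h'' with h''' | h'''
        · exact ⟨e, by omega, h'''⟩
        · exact absurd (hr.dvd_of_dvd_pow h''') hrq
      · exact ⟨e, by omega, hq1 h''⟩
    · exact ⟨e, by omega, hq1 h'⟩

end Cfsg.Agent.Helper94.Tn
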