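import Mathlib
import Cfsg.Agent.Helper94.TnN

set_option autoImplicit false
set_option linter.unusedSectionVars false
set_option linter.style.haveILetI false

/-!
# Involutions fix elliptic subspaces of every even dimension
-/

namespace Cfsg.Agent.Helper94.Tn

open Module Polynomial Matrix
open Cfsg
open Cfsg.Agent.Helper44 Cfsg.Agent.Helper44.QType
open Cfsg.Agent.Helper59.InvChain Cfsg.Agent.Helper59.Elusive
open Cfsg.Agent.Helper99.RDecomp Cfsg.Agent.Helper99.SpStruct Cfsg.Agent.Helper99.SpElt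
open Cfsg.Agent.Helper94.Ti Cfsg.Agent.Helper94.Ts

universe u v

section general

variable {F : Type u} [Field F] [Fintype F]
variable {V : Type v} [AddCommGroup V] [Module F V] [FiniteDimensional F V]
variable {B : LinearMap.BilinForm F V} {y : Module.End F V}

/-- an invariant anisotropic plane -/
theorem invol_exists_inv_ell_plane (h : InvolSetup B y) {Y : Submodule F V}
    (hYinv : Inv y Y) (hYnd : Nd B Y) (hdim : 3 ≤ finrank F ↥Y) :
    ∃ P : Submodule F V, P ≤ Y ∧ Inv y P ∧ Nd B P ∧ finrank F ↥P = 2 ∧ ¬ Hyp B P := by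
  have hsplit := h.split hYinv
  have hfnd := invol_nd_inf_fix h hYinv hYnd
  have hnnd := invol_nd_inf_neg h hYinv hYnd
  by_cases h3 : 3 ≤ finrank F ↥(Y ⊓ fixSp y)
  · obtain ⟨P, hP, hPnd, hPdim, hPhyp⟩ := exists_aniso_plane h.symm h.two_ne hfnd h3
    exact ⟨P, hP.trans inf_le_left, inv_of_le_fixSp (hP.trans inf_le_right), hPnd, hPdim, hPhyp⟩
  by_cases h3' : 3 ≤ finrank F ↥(Y ⊓ negSp y)
  · obtain ⟨P, hP, hPnd, hPdim, hPhyp⟩ := exists_aniso_plane h.symm h.two_ne hnnd h3'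
    exact ⟨P, hP.trans inf_le_left, inv_of_le_negSp (hP.trans inf_le_right), hPnd, hPdim, hPhyp⟩
  -- one eigenspace is a plane, the other is nonzero
  obtain ⟨ν, hν⟩ := FiniteField.exists_nonsquare (F := F) (by
    intro h'
    apply h.two_ne
    have := ringChar.Nat.cast_ringChar (R := F)
    rw [h'] at this
    exact_mod_cast this)
  have key : ∀ A A' : Submodule F V, A ≤ Y → A' ≤ Y → Nd B A → Nd B A' → Orth B A A' →
      (∀ a ∈ A, ∀ a' ∈ A', Inv y (Submodule.span F {a, a'})) →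
      1 ≤ finrank F ↥A → 2 ≤ finrank F ↥A' →
      ∃ P : Submodule F V, P ≤ Y ∧ Inv y P ∧ Nd B P ∧ finrank F ↥P = 2 ∧ ¬ Hyp B P := by
    intro A A' hAY hA'Y hAnd hA'nd hAA' hinv hA1 hA'2
    have hAne : A ≠ ⊥ := by
      intro h0
      rw [h0, finrank_bot] at hA1
      omega
    obtain ⟨z, hzA, hz⟩ := exists_nonisotropic h.symm h.two_ne hAnd hAne
    obtain ⟨w, hwA', hw⟩ := exists_norm_eq h.symm h.two_ne hA'nd hA'2 (-(ν * B z z))
    have hns : ¬ IsSquare (-(B z z * B w w)) := by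
      rw [hw]
      have : -(B z z * -(ν * B z z)) = (B z z * B z z) * ν := by ring
      rw [this]
      exact not_isSquare_mul ⟨B z z, rfl⟩ (mul_ne_zero hz hz) hν
    obtain ⟨hani, hPdim⟩ := aniso_of_pair h.symm (hAA' z hzA w hwA') hz hns
    refine ⟨Submodule.span F {z, w}, ?_, hinv z hzA w hwA', nd_of_aniso hani, hPdim,
      not_hyp_of_aniso hani (by omega)⟩
    rw [Submodule.span_le]
    rintro v hv
    rcases hv with rfl | rfl
    · exact hAY hzA
    · exact hA'Y hwA'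
  have hinv1 : ∀ a ∈ Y ⊓ fixSp y, ∀ a' ∈ Y ⊓ negSp y, Inv y (Submodule.span F {a, a'}) := by
    intro a ha a' ha'
    apply inv_span_pair
    · rw [mem_fixSp.mp ha.2]
      exact Submodule.subset_span (by simp)
    · rw [mem_negSp.mp ha'.2]
      exact Submodule.neg_mem _ (Submodule.subset_span (by simp))
  have hinv2 : ∀ a ∈ Y ⊓ negSp y, ∀ a' ∈ Y ⊓ fixSp y, Inv y (Submodule.span F {a, a'}) := by
    intro a ha a' ha'
    apply inv_span_pair
    · rw [mem_negSp.mp ha.2]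
      exact Submodule.neg_mem _ (Submodule.subset_span (by simp))
    · rw [mem_fixSp.mp ha'.2]
      exact Submodule.subset_span (by simp)
  have horth : Orth B (Y ⊓ fixSp y) (Y ⊓ negSp y) := h.orth.mono inf_le_right inf_le_right
  by_cases hcase : 2 ≤ finrank F ↥(Y ⊓ negSp y)
  · exact key _ _ inf_le_left inf_le_left hfnd hnnd horth hinv1 (by omega) hcase
  · exact key _ _ inf_le_left inf_le_left hnnd hfnd (horth.symm h.symm.isRefl) hinv2 (by omega)
      (by omega)

/-- an involutory isometry fixes elliptic subspaces of every positive even dimension below the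
dimension -/
theorem invol_exists_inv_ell (h : InvolSetup B y) (t : ℕ) (Y : Submodule F V) (hYinv : Inv y Y)
    (hYnd : Nd B Y) (hdim : 2 * (t + 1) + 1 ≤ finrank F ↥Y) :
    ∃ W : Submodule F V, W ≤ Y ∧ Inv y W ∧ Nd B W ∧ finrank F ↥W = 2 * (t + 1) ∧ ¬ Hyp B W := by
  obtain ⟨P, hPY, hPinv, hPnd, hPdim, hPnh⟩ := invol_exists_inv_ell_plane h hYinv hYnd (by omega)
  have hY'nd := hPnd.inf_orth h.symm.isRefl hPY hYnd
  have hY'dim := hPnd.finrank_inf_orth h.symm.isRefl hPY (M := Y)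
  have hY'inv : Inv y (Y ⊓ B.orthogonal P) := inv_inf hYinv (invol_inv_orthogonal h hPinv)
  obtain ⟨W', hW'Y, hW'inv, hW'nd, hW'dim, hW'hyp⟩ :=
    invol_exists_inv_hyp h t _ hY'inv hY'nd (by omega)
  have horth : Orth B W' P :=
    ((orth_inf_orth (B := B) (C := P) (M := Y)).mono le_rfl hW'Y).symm h.symm.isRefl
  have hWnd : Nd B (W' ⊔ P) := hW'nd.sup h.symm.isRefl hPnd horth
  have hWdim : finrank F ↥(W' ⊔ P) = 2 * (t + 1) := by
    rw [finrank_sup_of_disjoint (horth.disjoint hW'nd), hW'dim, hPdim]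
    ring
  refine ⟨W' ⊔ P, sup_le (hW'Y.trans inf_le_left) hPY, inv_sup hW'inv hPinv, hWnd, hWdim, ?_⟩
  have hPdim' : finrank F ↥P = 2 * 1 := by rw [hPdim]
  have hty1 := (hyp_iff_sType h.symm h.two_ne h.nondeg hW'nd hW'dim).mp hW'hyp
  have hty2 := (not_hyp_iff_sType h.symm h.two_ne h.nondeg hPnd hPdim').mp hPnh
  have hty := sType_sup h.symm h.two_ne hW'nd hPnd horth hW'dim hPdim' hty1 hty2
  rw [one_mul] at hty
  exact (not_hyp_iff_sType h.symm h.two_ne h.nondeg hWnd hWdim).mpr hty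

end general

variable {F : Type u} [Field F] {d : ℕ}
variable [Fintype F] {p : ℕ} [Fact p.Prime] [CharP F p]

/-- involutions fix elliptic subspaces of every positive even dimension -/
theorem ell_of_invol (h2 : (2 : F) ≠ 0) {m : ℕ} (hm : 2 ≤ m) (hme : Even m) (hmn : m ≤ 2 * d)
    (g : ↥(Cfsg.isometryGroup F (Cfsg.quadFormOdd d F))) (hg : g * g = 1) :
    ∃ W : Submodule F (Unit ⊕ (Fin d ⊕ Fin d) → F), finrank F ↥W = m ∧ Nd (oB d F) W ∧
      ¬ Hyp (oB d F) W ∧
      Inv (Matrix.toLin' ((g : GL (Unit ⊕ (Fin d ⊕ Fin d)) F) :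
        Matrix (Unit ⊕ (Fin d ⊕ Fin d)) (Unit ⊕ (Fin d ⊕ Fin d)) F)) W := by
  have hS := involSetup_of h2 g hg
  obtain ⟨t, ht⟩ := hme
  obtain ⟨W, -, hWinv, hWnd, hWdim, hWnh⟩ := invol_exists_inv_ell hS (t - 1) ⊤ (inv_top _)
    (nd_top_of_nondeg' hS.nondeg) (by rw [finrank_top, finrank_oV]; omega)
  exact ⟨W, by rw [hWdim]; omega, hWnd, hWnh, hWinv⟩

end Cfsg.Agent.Helper94.Tn
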