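import Mathlib
import Cfsg.Agent.Helper94.TnP

set_option autoImplicit false
set_option linter.unusedSectionVars false
set_option linter.style.haveILetI false

/-!
# Isometric subspaces of a symmetric bilinear space: gluing, existence of isometric copies
-/

namespace Cfsg.Agent.Helper94.Tp

open Module Polynomial
open Cfsg.Agent.Helper59.InvChain Cfsg.Agent.Helper59.Elusive
open Cfsg.Agent.Helper99.SpStruct Cfsg.Agent.Helper99.RDecomp
open Cfsg.Agent.Helper94.Ti Cfsg.Agent.Helper94.Ts Cfsg.Agent.Helper94.Tn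
open Cfsg.Agent.Helper44 Cfsg.Agent.Helper44.QType

universe u v

section general

variable {F : Type u} [Field F] [Fintype F]
variable {V : Type v} [AddCommGroup V] [Module F V] [FiniteDimensional F V]
variable {B : LinearMap.BilinForm F V}

/-- isometric subspaces -/
def Iso (B : LinearMap.BilinForm F V) (W W' : Submodule F V) : Prop :=
  ∃ g : ↥W ≃ₗ[F] ↥W', ∀ w₁ w₂ : ↥W, B (g w₁ : V) (g w₂ : V) = B (w₁ : V) (w₂ : V)

theorem iso_refl (W : Submodule F V) : Iso B W W := ⟨LinearEquiv.refl F ↥W, fun _ _ => rfl⟩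

theorem Iso.symm {W W' : Submodule F V} (h : Iso B W W') : Iso B W' W := by
  obtain ⟨g, hg⟩ := h
  refine ⟨g.symm, fun w₁ w₂ => ?_⟩
  have := hg (g.symm w₁) (g.symm w₂)
  rw [LinearEquiv.apply_symm_apply, LinearEquiv.apply_symm_apply] at this
  exact this.symm

theorem Iso.trans {W W' W'' : Submodule F V} (h : Iso B W W') (h' : Iso B W' W'') :
    Iso B W W'' := by
  obtain ⟨g, hg⟩ := h
  obtain ⟨g', hg'⟩ := h'
  refine ⟨g.trans g', fun w₁ w₂ => ?_⟩
  rw [LinearEquiv.trans_apply, LinearEquiv.trans_apply, hg', hg]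

theorem Iso.finrank_eq {W W' : Submodule F V} (h : Iso B W W') :
    finrank F ↥W = finrank F ↥W' := by
  obtain ⟨g, -⟩ := h
  exact g.finrank_eq

theorem iso_of_eq {W W' : Submodule F V} (h : W = W') : Iso B W W' := by
  subst h
  exact iso_refl W

/-- the sum of two disjoint subspaces as a product -/
noncomputable def supEquiv {A C : Submodule F V} (hdis : Disjoint A C) :
    (↥A × ↥C) ≃ₗ[F] ↥(A ⊔ C) :=
  LinearEquiv.ofBijective
    ((Submodule.inclusion (le_sup_left : A ≤ A ⊔ C)).coprod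
      (Submodule.inclusion (le_sup_right : C ≤ A ⊔ C)))
    (by
      constructor
      · rw [← LinearMap.ker_eq_bot, Submodule.eq_bot_iff]
        rintro ⟨a, c⟩ h
        rw [LinearMap.mem_ker, LinearMap.coprod_apply] at h
        have h1 := congrArg Subtype.val h
        have h3 : (a : V) + (c : V) = 0 := h1
        have h4 : (a : V) = -(c : V) := eq_neg_of_add_eq_zero_left h3
        have h5 : (a : V) ∈ C := by rw [h4]; exact C.neg_mem c.2
        have h6 : (a : V) = 0 := (Submodule.disjoint_def.mp hdis) _ a.2 h5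
        have h7 : (c : V) = 0 := by rw [h6, zero_add] at h3; exact h3
        exact Prod.ext (Subtype.ext h6) (Subtype.ext h7)
      · rintro ⟨w, hw⟩
        obtain ⟨a, ha, c, hc, rfl⟩ := Submodule.mem_sup.mp hw
        exact ⟨(⟨a, ha⟩, ⟨c, hc⟩), Subtype.ext rfl⟩)

theorem supEquiv_coe {A C : Submodule F V} (hdis : Disjoint A C) (p : ↥A × ↥C) :
    ((supEquiv hdis p : ↥(A ⊔ C)) : V) = (p.1 : V) + (p.2 : V) := rfl

/-- gluing isometries along orthogonal decompositions -/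
theorem iso_sup (hB : B.IsSymm) {A C A' C' : Submodule F V} (hdis : Disjoint A C)
    (hdis' : Disjoint A' C') (horth : Orth B A C) (horth' : Orth B A' C')
    (hA : Iso B A A') (hC : Iso B C C') : Iso B (A ⊔ C) (A' ⊔ C') := by
  obtain ⟨gA, hgA⟩ := hA
  obtain ⟨gC, hgC⟩ := hC
  refine ⟨(supEquiv hdis).symm.trans ((gA.prodCongr gC).trans (supEquiv hdis')), ?_⟩
  intro w₁ w₂
  obtain ⟨p₁, rfl⟩ := (supEquiv hdis).surjective w₁
  obtain ⟨p₂, rfl⟩ := (supEquiv hdis).surjective w₂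
  simp only [LinearEquiv.trans_apply, LinearEquiv.symm_apply_apply, supEquiv_coe,
    LinearEquiv.prodCongr_apply]
  simp only [map_add, LinearMap.add_apply]
  rw [hgA, hgC, horth' _ (gA p₁.1).2 _ (gC p₂.2).2,
    (horth'.symm hB.isRefl) _ (gC p₁.2).2 _ (gA p₂.1).2,
    horth _ p₁.1.2 _ p₂.2.2, (horth.symm hB.isRefl) _ p₁.2.2 _ p₂.1.2]

/-- lines spanned by vectors of the same norm up to a square -/
theorem iso_span_singleton (hB : B.IsSymm) {a a' : V} {c : F} (ha : B a a ≠ 0)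
    (h : B a a = c * c * B a' a') :
    Iso B (Submodule.span F {a}) (Submodule.span F {a'}) := by
  have hc : c ≠ 0 := by
    rintro rfl
    apply ha
    rw [h]; ring
  have ha' : B a' a' ≠ 0 := by
    intro h0
    apply ha
    rw [h, h0, mul_zero]
  have ha0 : a ≠ 0 := ne_zero_of_norm_ne ha
  have ha'0 : a' ≠ 0 := ne_zero_of_norm_ne ha'
  let e1 := LinearEquiv.toSpanNonzeroSingleton F V a ha0
  let e2 := LinearEquiv.toSpanNonzeroSingleton F V a' ha'0
  refine ⟨e1.symm.trans ((LinearEquiv.smulOfNeZero F F c hc).trans e2), ?_⟩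
  intro w₁ w₂
  obtain ⟨s, rfl⟩ := e1.surjective w₁
  obtain ⟨t, rfl⟩ := e1.surjective w₂
  simp only [LinearEquiv.trans_apply, LinearEquiv.symm_apply_apply,
    LinearEquiv.smulOfNeZero_apply]
  have h1 : ∀ s : F, ((e1 s : ↥(Submodule.span F {a})) : V) = s • a := fun s => rfl
  have h3 : ∀ s : F, ((e2 s : ↥(Submodule.span F {a'})) : V) = s • a' := fun s => rfl
  rw [h1, h1, h3, h3]
  simp only [map_smul, LinearMap.smul_apply, smul_eq_mul, h]
  ring

/-- nondegeneracy is transported by isometries -/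
theorem Iso.nd {W W' : Submodule F V} (h : Iso B W W') (hW' : Nd B W') : Nd B W := by
  obtain ⟨g, hg⟩ := h
  rw [nd_iff]
  intro u hu hu'
  have h1 : (g ⟨u, hu⟩ : V) = 0 := by
    apply nd_iff.mp hW' _ (g ⟨u, hu⟩).2
    intro w hw
    obtain ⟨w', hw'⟩ := g.surjective ⟨w, hw⟩
    have h5 : w = ((g w' : ↥W') : V) := by rw [hw']
    rw [h5, hg]
    exact hu' _ w'.2
  have h3 : g ⟨u, hu⟩ = 0 := Subtype.ext h1
  have h4 : (⟨u, hu⟩ : ↥W) = 0 := by
    rw [← g.map_eq_zero_iff]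
    exact h3
  exact congrArg Subtype.val h4

/-- even-dimensional nondegenerate subspaces of the same type are isometric -/
theorem iso_of_sType (hB : B.IsSymm) (h2 : (2 : F) ≠ 0) {W W' : Submodule F V} (hW : Nd B W)
    (hW' : Nd B W') {e : ℕ} (hdim : finrank F ↥W = 2 * e) (hdim' : finrank F ↥W' = 2 * e)
    {ε : ℤ} (h : SType B W e ε) (h' : SType B W' e ε) : Iso B W W' := by
  obtain ⟨g, hg⟩ := exists_isometry_of_hasType (qOf B W) (qOf B W') hdim hdim'
    (qOf_nd hB h2 hW) (qOf_nd hB h2 hW') h h'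
  exact ⟨g, isom_of_qOf hB h2 g hg⟩

/-- a nondegenerate subspace of odd dimension splits off a nonisotropic vector -/
theorem exists_split_odd (hB : B.IsSymm) (h2 : (2 : F) ≠ 0) (hnd : B.Nondegenerate)
    {Z : Submodule F V} (hZ : Nd B Z) {u : ℕ} (hdim : finrank F ↥Z = 2 * u + 1) :
    ∃ (Z' : Submodule F V) (a : V), Z' ≤ Z ∧ Nd B Z' ∧ finrank F ↥Z' = 2 * u ∧ SType B Z' u 1 ∧
      a ∈ Z ∧ a ∈ B.orthogonal Z' ∧ B a a ≠ 0 ∧ Z' ⊔ Submodule.span F {a} = Z := by
  obtain ⟨Z', hZ'Z, hZ'nd, hZ'dim, hZ'ty⟩ := exists_typed_sub hB h2 hnd u Z hZ (by omega) 1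
    (Or.inl rfl)
  have hCnd := hZ'nd.inf_orth hB.isRefl hZ'Z hZ
  have hCdim := hZ'nd.finrank_inf_orth hB.isRefl hZ'Z (M := Z)
  have hCne : Z ⊓ B.orthogonal Z' ≠ ⊥ := by
    intro h
    rw [h, finrank_bot] at hCdim
    omega
  obtain ⟨a, ha, haa⟩ := exists_nonisotropic hB h2 hCnd hCne
  refine ⟨Z', a, hZ'Z, hZ'nd, hZ'dim, hZ'ty, ha.1, ha.2, haa, ?_⟩
  have hle : Z' ⊔ Submodule.span F {a} ≤ Z :=
    sup_le hZ'Z ((Submodule.span_singleton_le_iff_mem a Z).mpr ha.1)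
  apply Submodule.eq_of_le_of_finrank_eq hle
  have horth : Orth B Z' (Submodule.span F {a}) := by
    apply (orth_iff_le).mpr
    exact (Submodule.span_singleton_le_iff_mem a _).mpr ha.2
  rw [finrank_sup_of_disjoint (horth.disjoint hZ'nd), hZ'dim,
    finrank_span_singleton (ne_zero_of_norm_ne haa), hdim]

/-- an isometric copy of an odd-dimensional nondegenerate space inside any larger nondegenerate
space -/
theorem exists_iso_sub (hB : B.IsSymm) (h2 : (2 : F) ≠ 0) (hnd : B.Nondegenerate)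
    {Z Y : Submodule F V} (hZ : Nd B Z) (hY : Nd B Y) {u : ℕ} (hdim : finrank F ↥Z = 2 * u + 1)
    (hYdim : 2 * u + 2 ≤ finrank F ↥Y) :
    ∃ W : Submodule F V, W ≤ Y ∧ Nd B W ∧ Iso B W Z := by
  obtain ⟨Z', a₀, hZ'Z, hZ'nd, hZ'dim, hZ'ty, ha₀Z, ha₀orth, ha₀, hZeq⟩ :=
    exists_split_odd hB h2 hnd hZ hdim
  obtain ⟨Y₁, hY₁Y, hY₁nd, hY₁dim, hY₁ty⟩ := exists_typed_sub hB h2 hnd u Y hY (by omega) 1
    (Or.inl rfl)
  have hCnd := hY₁nd.inf_orth hB.isRefl hY₁Y hY
  have hCdim := hY₁nd.finrank_inf_orth hB.isRefl hY₁Y (M := Y)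
  obtain ⟨a, ha, haa⟩ := exists_norm_eq hB h2 hCnd (by omega) (B a₀ a₀)
  have haa0 : B a a ≠ 0 := by rw [haa]; exact ha₀
  have horth : Orth B Y₁ (Submodule.span F {a}) := by
    apply (orth_iff_le).mpr
    exact (Submodule.span_singleton_le_iff_mem a _).mpr ha.2
  have horth₀ : Orth B Z' (Submodule.span F {a₀}) := by
    apply (orth_iff_le).mpr
    exact (Submodule.span_singleton_le_iff_mem a₀ _).mpr ha₀orth
  have hiso : Iso B (Y₁ ⊔ Submodule.span F {a}) (Z' ⊔ Submodule.span F {a₀}) :=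
    iso_sup hB (horth.disjoint hY₁nd) (horth₀.disjoint hZ'nd) horth horth₀
      (iso_of_sType hB h2 hY₁nd hZ'nd hY₁dim hZ'dim hY₁ty hZ'ty)
      (iso_span_singleton hB (c := 1) haa0 (by rw [haa]; ring))
  rw [hZeq] at hiso
  exact ⟨Y₁ ⊔ Submodule.span F {a},
    sup_le hY₁Y ((Submodule.span_singleton_le_iff_mem a Y).mpr ha.1), hiso.nd hZ, hiso⟩

/-- gluing: an even-dimensional nondegenerate `X` orthogonal to a large nondegenerate `Y`
extends inside `X ⊔ Y` to an isometric copy of any odd-dimensional `W₀` of larger dimension -/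
theorem exists_iso_glue (hB : B.IsSymm) (h2 : (2 : F) ≠ 0) (hnd : B.Nondegenerate)
    {W₀ X Y : Submodule F V} (hW₀ : Nd B W₀) (hX : Nd B X) (hY : Nd B Y) (hXY : Orth B Y X)
    {t s : ℕ} (hdim : finrank F ↥W₀ = 2 * t + 1) (hXdim : finrank F ↥X = 2 * s) (hst : s ≤ t)
    (hYdim : 2 * (t - s) + 2 ≤ finrank F ↥Y) :
    ∃ Wf : Submodule F V, Wf ≤ Y ∧ Nd B (Wf ⊔ X) ∧ Iso B (Wf ⊔ X) W₀ := by
  obtain ⟨ε, hε, hXty⟩ := exists_sType hB h2 hX hXdim
  have hε' : ε = 1 ∨ (ε = -1 ∧ 0 < s) := by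
    rcases Nat.eq_zero_or_pos s with hs | hs
    · left
      subst hs
      have hXbot : X = ⊥ := by
        apply Submodule.finrank_eq_zero.mp
        rw [hXdim]
      rw [hXbot] at hXty
      exact hXty.unique (sType_bot hB h2 hnd)
    · rcases hε with h | h
      · exact Or.inl h
      · exact Or.inr ⟨h, hs⟩
  obtain ⟨X₀, hX₀W, hX₀nd, hX₀dim, hX₀ty⟩ := exists_typed_sub hB h2 hnd s W₀ hW₀ (by omega) ε hε'
  have hZnd := hX₀nd.inf_orth hB.isRefl hX₀W hW₀
  have hZdim := hX₀nd.finrank_inf_orth hB.isRefl hX₀W (M := W₀)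
  obtain ⟨hsup, hdis⟩ := hX₀nd.sup_inf_orth hB.isRefl hX₀W
  have hZdim' : finrank F ↥(W₀ ⊓ B.orthogonal X₀) = 2 * (t - s) + 1 := by omega
  obtain ⟨Wf, hWfY, hWfnd, hWfiso⟩ := exists_iso_sub hB h2 hnd hZnd hY hZdim' hYdim
  have horth : Orth B Wf X := hXY.mono hWfY le_rfl
  have horth₀ : Orth B (W₀ ⊓ B.orthogonal X₀) X₀ :=
    (orth_inf_orth (B := B) (C := X₀) (M := W₀)).symm hB.isRefl
  have hiso : Iso B (Wf ⊔ X) ((W₀ ⊓ B.orthogonal X₀) ⊔ X₀) :=
    iso_sup hB (horth.disjoint hWfnd) hdis.symm horth horth₀ hWfiso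
      (iso_of_sType hB h2 hX hX₀nd hXdim hX₀dim hXty hX₀ty)
  rw [sup_comm (W₀ ⊓ B.orthogonal X₀) X₀, hsup] at hiso
  exact ⟨Wf, hWfY, hiso.nd hW₀, hiso⟩

end general

end Cfsg.Agent.Helper94.Tp
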