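import Mathlib
import Cfsg.Agent.Helper94.TpA
import Cfsg.Agent.Helper44.OrthRealizeE

set_option autoImplicit false
set_option linter.unusedSectionVars false
set_option linter.style.haveILetI false

/-!
# Concrete even-dimensional quadratic spaces `(ι → F, Q)`: setup, translation of the notions of
the statements, test elements
-/

namespace Cfsg.Agent.Helper94.Tp

open Module Polynomial Matrix
open Cfsg
open Cfsg.Agent.Helper44 Cfsg.Agent.Helper44.QType
open Cfsg.Agent.Helper59.InvChain Cfsg.Agent.Helper59.Elusive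
open Cfsg.Agent.Helper99.RDecomp Cfsg.Agent.Helper99.SpStruct Cfsg.Agent.Helper99.SpElt
open Cfsg.Agent.Helper43.SpPrime
open Cfsg.Agent.Helper94.Ti Cfsg.Agent.Helper94.Ts Cfsg.Agent.Helper94.Tn

universe u

variable {F : Type u} [Field F] {ι : Type} [Fintype ι] [DecidableEq ι]
variable (Q : QuadraticForm F (ι → F))

/-- the polar form of `Q` -/
noncomputable def qB : LinearMap.BilinForm F (ι → F) := QuadraticMap.polarBilin Q

theorem qB_apply (u v : ι → F) : qB Q u v = QuadraticMap.polar (⇑Q) u v := rfl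

theorem qB_self (u : ι → F) : qB Q u u = 2 * Q u := by
  rw [qB_apply, QuadraticMap.polar_self]
  simp

theorem qB_symm : (qB Q).IsSymm :=
  ⟨fun x y => by rw [qB_apply, qB_apply, QuadraticMap.polar_comm]⟩

theorem qB_isom {y : Module.End F (ι → F)} (hiso : ∀ u, Q (y u) = Q u) (u v : ι → F) :
    qB Q (y u) (y v) = qB Q u v := by
  rw [qB_apply, qB_apply]
  unfold QuadraticMap.polar
  rw [← map_add, hiso, hiso, hiso]

/-- nondegeneracy, in the form of the statements -/
theorem nd_iff_isNondegenerateOn' {W : Submodule F (ι → F)} :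
    Nd (qB Q) W ↔ Cfsg.Geo.IsNondegenerateOn (QuadraticMap.polar (⇑Q)) W := by
  rw [nd_iff]
  unfold Cfsg.Geo.IsNondegenerateOn
  constructor
  · intro h w hw hw0
    have hex : ∃ x ∈ W, qB Q x w ≠ 0 := by
      by_contra hcon
      push Not at hcon
      exact hw0 (h w hw hcon)
    obtain ⟨x, hx, hxw⟩ := hex
    refine ⟨⟨x, hx, hxw⟩, ⟨x, hx, ?_⟩⟩
    rw [QuadraticMap.polar_comm]
    exact hxw
  · intro h u hu hu'
    by_contra hu0
    obtain ⟨⟨x, hx, hxu⟩, -⟩ := h u hu hu0
    exact hxu (hu' x hx)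

/-- isometric subspaces, in the form of the statements -/
theorem iso_iff_areIsometricFor (h2 : (2 : F) ≠ 0) {W W' : Submodule F (ι → F)} :
    Iso (qB Q) W W' ↔ Cfsg.Geo.AreIsometricFor (⇑Q) W W' := by
  unfold Iso Cfsg.Geo.AreIsometricFor
  constructor
  · rintro ⟨g, hg⟩
    refine ⟨g, fun w => ?_⟩
    have := hg w w
    rw [qB_self, qB_self] at this
    exact mul_left_cancel₀ h2 this
  · rintro ⟨g, hg⟩
    refine ⟨g, fun w₁ w₂ => ?_⟩
    rw [qB_apply, qB_apply]
    unfold QuadraticMap.polar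
    have h1 := hg (w₁ + w₂)
    rw [map_add] at h1
    simp only [Submodule.coe_add] at h1
    rw [h1, hg, hg]

section finite

variable [Fintype F]

/-- the type of the whole space -/
theorem sType_top {e : ℕ} {ε : ℤ} (h2 : (2 : F) ≠ 0) (hT : HasType (⇑Q) e ε) :
    SType (qB Q) ⊤ e ε := by
  unfold SType HasType
  unfold HasType at hT
  rw [← hT]
  congr 2
  unfold fc
  apply Nat.card_congr
  exact { toFun := fun w => ⟨(w.1 : ι → F), by
            have := w.2
            rw [qOf_apply, qB_self] at this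
            exact (mul_eq_zero.mp this).resolve_left h2⟩
          invFun := fun a => ⟨⟨a.1, Submodule.mem_top⟩, by
            rw [qOf_apply, qB_self]
            show 2 * Q a.1 = 0
            rw [a.2, mul_zero]⟩
          left_inv := fun a => rfl
          right_inv := fun w => rfl }

variable {p : ℕ} [Fact p.Prime] [CharP F p]

/-- the setup for an isometry `y` with `y ^ r = 1` -/
theorem qSetup_of (hnd : (qB Q).Nondegenerate) (r : ℕ) [Fact r.Prime]
    (hrp : r ≠ p) (hr2 : r ≠ 2) (y : Module.End F (ι → F)) (hiso : ∀ u, Q (y u) = Q u)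
    (hy : y ^ r = 1) : OSetup (qB Q) r y (orderOf ((Fintype.card F : ℕ) : ZMod r)) where
  symm := qB_symm Q
  nondeg := hnd
  isom := qB_isom Q hiso
  setup := setup_of r hrp y hy
  hp := HP_cyclotomic r hrp
  odd := (Fact.out : r.Prime).odd_of_ne_two hr2

/-- test elements: `k` blocks -/
theorem exists_q_elt (hnd : (qB Q).Nondegenerate) {m : ℕ} (hι : Fintype.card ι = 2 * m)
    {ε : ℤ} (hε : ε = 1 ∨ ε = -1) (hT : HasType (⇑Q) m ε) (r : ℕ) [Fact r.Prime] (hrp : r ≠ p)
    (hr2 : r ≠ 2) (k : ℕ) (hk : 0 < k)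
    (hkc : k * blockSize (orderOf ((Fintype.card F : ℕ) : ZMod r)) ≤ 2 * m)
    (hgood : k * blockSize (orderOf ((Fintype.card F : ℕ) : ZMod r)) = 2 * m →
      ((Fintype.card F : ℕ) : ZMod r) ^ m = ((ε : ℤ) : ZMod r)) :
    ∃ y : ↥(Cfsg.isometryGroup F ⇑Q), orderOf y = r ∧
      finrank F ↥(fixSp (Matrix.toLin' ((y : GL ι F) : Matrix ι ι F))) =
        2 * m - k * blockSize (orderOf ((Fintype.card F : ℕ) : ZMod r)) := by
  classical
  have hr : r.Prime := Fact.out
  have hrF : (r : F) ≠ 0 := natCast_ne_zero_of_ne r hrp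
  obtain ⟨f, ⟨hfm, hfd, hfr, hfac, hne⟩, hrm⟩ := exists_block_poly (F := F) m r hrp k hk hkc
  have hX : (X - 1 : F[X]) ≠ 0 := by rw [X_sub_one_eq]; exact X_sub_C_ne_zero 1
  obtain ⟨y, hyord, hych⟩ := exists_isometry_of_poly p Q hι ((nondeg_iff Q).mp hnd) hε hT r hr
    hr2 hrp hfm hfd hfr hfac hne (by
      intro hndvd
      have h0 : rootMultiplicity 1 f = 0 := by
        rw [rootMultiplicity_eq_zero_iff]
        intro hroot
        exfalso
        apply hndvd
        rw [X_sub_one_eq]
        exact (dvd_iff_isRoot).mpr hroot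
      rw [h0] at hrm
      rw [Nat.card_eq_fintype_card]
      exact hgood (by omega))
  refine ⟨y, hyord, ?_⟩
  have hyr : y ^ r = 1 := by rw [← hyord]; exact pow_orderOf_eq_one y
  have hlin := toLin_pow_eq_one' y hyr
  rw [finrank_fixSp_eq_rootMultiplicity r hrF _ hlin, Matrix.charpoly_toLin', hych, hrm]

end finite

end Cfsg.Agent.Helper94.Tp
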