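import Mathlib
import Cfsg.Agent.Helper94.TpA

set_option autoImplicit false
set_option linter.unusedSectionVars false
set_option linter.style.haveILetI false

/-!
# Counting isometric copies of an odd-dimensional space in an even-dimensional space
(divisibility)
-/

namespace Cfsg.Agent.Helper94.Tp

open Module Polynomial
open Cfsg.Agent.Helper59.InvChain Cfsg.Agent.Helper59.Elusive
open Cfsg.Agent.Helper99.SpStruct Cfsg.Agent.Helper99.RDecomp
open Cfsg.Agent.Helper94.Ti Cfsg.Agent.Helper94.Ts Cfsg.Agent.Helper94.Tn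
open Cfsg.Agent.Helper44 Cfsg.Agent.Helper44.QType

universe u v

variable {F : Type u} [Field F] [Fintype F]
variable {V : Type v} [AddCommGroup V] [Module F V] [FiniteDimensional F V]
variable {B : LinearMap.BilinForm F V}

/-- frames in a subspace as frames of the restricted form -/
noncomputable def hFrameRestrictEquiv (B : LinearMap.BilinForm F V) (X : Submodule F V) (e : ℕ) :
    {s' : Fin e → ↥X × ↥X // IsHFrame (B.restrict X) s'} ≃
      {s : Fin e → V × V // IsHFrame B s ∧ ∀ j, (s j).1 ∈ X ∧ (s j).2 ∈ X} where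
  toFun s' := ⟨fun j => (((s'.1 j).1 : V), ((s'.1 j).2 : V)),
    ⟨fun a => s'.2.1 a, fun a b hab => s'.2.2 a b hab⟩,
    fun j => ⟨(s'.1 j).1.2, (s'.1 j).2.2⟩⟩
  invFun s := ⟨fun j => (⟨(s.1 j).1, (s.2.2 j).1⟩, ⟨(s.1 j).2, (s.2.2 j).2⟩),
    fun a => s.2.1.1 a, fun a b hab => s.2.1.2 a b hab⟩
  left_inv s' := rfl
  right_inv s := rfl

/-- the number of hyperbolic frames inside a nondegenerate subspace of odd dimension -/
theorem card_hFrame_in (hB : B.IsSymm) (h2 : (2 : F) ≠ 0) {X : Submodule F V} (hX : Nd B X)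
    {d' : ℕ} (hdim : finrank F ↥X = 2 * d' + 1) (e : ℕ) (he : e ≤ d') :
    Nat.card {s : Fin e → V × V // IsHFrame B s ∧ ∀ j, (s j).1 ∈ X ∧ (s j).2 ∈ X} =
      ∏ k : Fin e, ((Fintype.card F ^ (2 * (d' - k.val)) - 1) *
        Fintype.card F ^ (2 * (d' - k.val) - 1)) := by
  rw [← Nat.card_congr (hFrameRestrictEquiv B X e)]
  have hsymm : (B.restrict X).IsSymm := ⟨fun x y => hB.eq (x : V) (y : V)⟩
  have hnd' : (B.restrict X).Nondegenerate :=
    LinearMap.BilinForm.nondegenerate_restrict_of_disjoint_orthogonal B hB.isRefl hX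
  exact card_hFrame (B.restrict X) hsymm h2 hnd' hdim e he

/-- the number of vectors of a given nonzero norm -/
theorem card_norm_eq (hB : B.IsSymm) (h2 : (2 : F) ≠ 0) (hnd : B.Nondegenerate) {d : ℕ}
    (hV : finrank F V = 2 * d) {ε : ℤ} (hT : SType B ⊤ d ε) {κ : F} (hκ : κ ≠ 0) :
    (Nat.card {a : V // B a a = κ} : ℤ) * (Fintype.card F : ℤ) =
      (Fintype.card F : ℤ) ^ d * ((Fintype.card F : ℤ) ^ d - ε) := by
  have hV' : finrank F ↥(⊤ : Submodule F V) = 2 * d := by rw [finrank_top, hV]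
  have hndq := qOf_nd hB h2 (nd_top_of_nondeg' hnd)
  have h1 := fc_one_mul (qOf B ⊤) hV' hndq hT
  rw [← fc_eq_fc_one (qOf B ⊤) hV' hndq κ hκ, Nat.card_eq_fintype_card] at h1
  rw [← h1]
  congr 2
  unfold fc
  apply Nat.card_congr
  exact { toFun := fun a => ⟨⟨a.1, Submodule.mem_top⟩, a.2⟩
          invFun := fun w => ⟨(w.1 : V), w.2⟩
          left_inv := fun a => rfl
          right_inv := fun w => rfl }

theorem mem_orth_singleton {a b : V} :
    b ∈ B.orthogonal (Submodule.span F {a}) ↔ B a b = 0 := by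
  rw [LinearMap.BilinForm.mem_orthogonal_iff]
  constructor
  · intro h3
    exact h3 a (Submodule.mem_span_singleton_self a)
  · intro h3 n hn
    obtain ⟨c, rfl⟩ := Submodule.mem_span_singleton.mp hn
    show B (c • a) b = 0
    rw [map_smul, LinearMap.smul_apply, h3, smul_zero]

/-- parabolic frames: a vector of norm `κ` and a hyperbolic frame orthogonal to it -/
def IsPFrame (B : LinearMap.BilinForm F V) (κ : F) {t : ℕ} (x : V × (Fin t → V × V)) : Prop :=
  B x.1 x.1 = κ ∧ IsHFrame B x.2 ∧ ∀ j, B x.1 (x.2 j).1 = 0 ∧ B x.1 (x.2 j).2 = 0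

/-- the span of a parabolic frame -/
def pSpan {t : ℕ} (x : V × (Fin t → V × V)) : Submodule F V :=
  Submodule.span F {x.1} ⊔ hSpan x.2

theorem IsPFrame.orth {κ : F} {t : ℕ} {x : V × (Fin t → V × V)} (hx : IsPFrame B κ x) :
    Orth B (Submodule.span F {x.1}) (hSpan (F := F) x.2) := by
  rw [orth_iff_le]
  apply hSpan_le
  intro j
  exact ⟨mem_orth_singleton.mpr (hx.2.2 j).1, mem_orth_singleton.mpr (hx.2.2 j).2⟩

theorem IsPFrame.finrank_pSpan (hB : B.IsSymm) {κ : F} (hκ : κ ≠ 0) {t : ℕ}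
    {x : V × (Fin t → V × V)} (hx : IsPFrame B κ x) : finrank F ↥(pSpan (F := F) x) = 2 * t + 1 := by
  have haa : B x.1 x.1 ≠ 0 := by rw [hx.1]; exact hκ
  unfold pSpan
  rw [finrank_sup_of_disjoint (hx.orth.disjoint (nd_span_singleton haa)),
    finrank_span_singleton (ne_zero_of_norm_ne haa), finrank_hSpan hB hx.2.1]
  ring

theorem IsPFrame.nd_pSpan (hB : B.IsSymm) {κ : F} (hκ : κ ≠ 0) {t : ℕ}
    {x : V × (Fin t → V × V)} (hx : IsPFrame B κ x) : Nd B (pSpan (F := F) x) := by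
  have haa : B x.1 x.1 ≠ 0 := by rw [hx.1]; exact hκ
  exact (nd_span_singleton haa).sup hB.isRefl (nd_hSpan hB hx.2.1) hx.orth

/-- the span of a parabolic frame is isometric to a fixed space with the same data -/
theorem IsPFrame.iso_pSpan (hB : B.IsSymm) (h2 : (2 : F) ≠ 0) (hnd : B.Nondegenerate)
    {κ : F} (hκ : κ ≠ 0) {t : ℕ} {x : V × (Fin t → V × V)} (hx : IsPFrame B κ x)
    {X₀ : Submodule F V} {a₀ : V} (hX₀nd : Nd B X₀) (hX₀dim : finrank F ↥X₀ = 2 * t)
    (hX₀ty : SType B X₀ t 1) (ha₀ : B a₀ a₀ = κ) (ha₀orth : a₀ ∈ B.orthogonal X₀) :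
    Iso B (pSpan (F := F) x) (X₀ ⊔ Submodule.span F {a₀}) := by
  have haa : B x.1 x.1 ≠ 0 := by rw [hx.1]; exact hκ
  have horth₀ : Orth B X₀ (Submodule.span F {a₀}) := by
    apply (orth_iff_le).mpr
    exact (Submodule.span_singleton_le_iff_mem a₀ _).mpr ha₀orth
  have hty : SType B (hSpan (F := F) x.2) t 1 :=
    (hyp_iff_sType hB h2 hnd (nd_hSpan hB hx.2.1) (finrank_hSpan hB hx.2.1)).mp
      (hyp_hSpan hB hx.2.1)
  have h := iso_sup hB (hx.orth.disjoint (nd_span_singleton haa)).symm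
    (horth₀.disjoint hX₀nd) (hx.orth.symm hB.isRefl) horth₀
    (iso_of_sType hB h2 (nd_hSpan hB hx.2.1) hX₀nd (finrank_hSpan hB hx.2.1) hX₀dim hty hX₀ty)
    (iso_span_singleton hB (c := 1) haa (by rw [hx.1, ha₀]; ring))
  unfold pSpan
  rw [sup_comm]
  exact h

/-- parabolic frames inside a subspace -/
def InPFrames (B : LinearMap.BilinForm F V) (κ : F) (W : Submodule F V) (t : ℕ) : Type v :=
  {x : V × (Fin t → V × V) // IsPFrame B κ x ∧ x.1 ∈ W ∧ ∀ j, (x.2 j).1 ∈ W ∧ (x.2 j).2 ∈ W}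

theorem card_inP_le {W W' : Submodule F V} (h : Iso B W W') (κ : F) (t : ℕ) :
    Nat.card (InPFrames B κ W t) ≤ Nat.card (InPFrames B κ W' t) := by
  classical
  haveI : Finite V := Module.finite_of_finite F
  haveI : Finite (InPFrames B κ W' t) := by unfold InPFrames; infer_instance
  obtain ⟨g, hiso⟩ := h
  let φ : InPFrames B κ W t → InPFrames B κ W' t := fun x =>
    ⟨((g ⟨x.1.1, x.2.2.1⟩ : V), fun a => ((g ⟨(x.1.2 a).1, (x.2.2.2 a).1⟩ : V),
      (g ⟨(x.1.2 a).2, (x.2.2.2 a).2⟩ : V))), by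
      refine ⟨⟨?_, ⟨fun a => ?_, fun a b hab => ?_⟩, fun j => ⟨?_, ?_⟩⟩, Subtype.coe_prop _,
        fun a => ⟨Subtype.coe_prop _, Subtype.coe_prop _⟩⟩
      · show B (g _ : V) (g _ : V) = κ
        rw [hiso]; exact x.2.1.1
      · obtain ⟨h1, h3, h4⟩ := x.2.1.2.1.1 a
        refine ⟨?_, ?_, ?_⟩
        · show B (g _ : V) (g _ : V) = 0
          rw [hiso]; exact h1
        · show B (g _ : V) (g _ : V) = 0
          rw [hiso]; exact h3
        · show B (g _ : V) (g _ : V) = 1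
          rw [hiso]; exact h4
      · obtain ⟨h1, h3, h4, h5⟩ := x.2.1.2.1.2 a b hab
        refine ⟨?_, ?_, ?_, ?_⟩
        · show B (g _ : V) (g _ : V) = 0
          rw [hiso]; exact h1
        · show B (g _ : V) (g _ : V) = 0
          rw [hiso]; exact h3
        · show B (g _ : V) (g _ : V) = 0
          rw [hiso]; exact h4
        · show B (g _ : V) (g _ : V) = 0
          rw [hiso]; exact h5
      · show B (g _ : V) (g _ : V) = 0
        rw [hiso]; exact (x.2.1.2.2 j).1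
      · show B (g _ : V) (g _ : V) = 0
        rw [hiso]; exact (x.2.1.2.2 j).2⟩
  apply Nat.card_le_card_of_injective φ
  intro x x' hxx
  apply Subtype.ext
  have h0 := congrArg Subtype.val hxx
  have h1 : (g ⟨x.1.1, x.2.2.1⟩ : V) = (g ⟨x'.1.1, x'.2.2.1⟩ : V) := congrArg Prod.fst h0
  have h1' := congrArg Subtype.val (g.injective (Subtype.ext h1))
  have h2' : x.1.2 = x'.1.2 := by
    funext a
    have h3 := congrFun (congrArg Prod.snd h0) a
    have h4 : (g ⟨(x.1.2 a).1, (x.2.2.2 a).1⟩ : V) = (g ⟨(x'.1.2 a).1, (x'.2.2.2 a).1⟩ : V) :=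
      congrArg Prod.fst h3
    have h5 : (g ⟨(x.1.2 a).2, (x.2.2.2 a).2⟩ : V) = (g ⟨(x'.1.2 a).2, (x'.2.2.2 a).2⟩ : V) :=
      congrArg Prod.snd h3
    have h6 := congrArg Subtype.val (g.injective (Subtype.ext h4))
    have h7 := congrArg Subtype.val (g.injective (Subtype.ext h5))
    exact Prod.ext h6 h7
  exact Prod.ext h1' h2'

section count

variable (B)

/-- the span of a parabolic frame, as an isometric copy of `W₀` -/
noncomputable def pSpanMap (hB : B.IsSymm) {κ : F} (hκ : κ ≠ 0) (t : ℕ) (W₀ : Submodule F V)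
    (hiso : ∀ x : V × (Fin t → V × V), IsPFrame B κ x → Iso B (pSpan (F := F) x) W₀) :
    {x : V × (Fin t → V × V) // IsPFrame B κ x} →
      {W : Submodule F V // finrank F ↥W = 2 * t + 1 ∧ Nd B W ∧ Iso B W W₀} :=
  fun x => ⟨pSpan x.1, x.2.finrank_pSpan hB hκ, x.2.nd_pSpan hB hκ, hiso x.1 x.2⟩

/-- the fibre of `pSpanMap` -/
noncomputable def pSpanFiberEquiv (hB : B.IsSymm) {κ : F} (hκ : κ ≠ 0) (t : ℕ)
    (W₀ : Submodule F V)
    (hiso : ∀ x : V × (Fin t → V × V), IsPFrame B κ x → Iso B (pSpan (F := F) x) W₀)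
    (W : {W : Submodule F V // finrank F ↥W = 2 * t + 1 ∧ Nd B W ∧ Iso B W W₀}) :
    {x : {x : V × (Fin t → V × V) // IsPFrame B κ x} // pSpanMap B hB hκ t W₀ hiso x = W} ≃
      InPFrames B κ W.1 t where
  toFun x := ⟨x.1.1, x.1.2, by
    have h3 : pSpan (F := F) x.1.1 = W.1 := congrArg Subtype.val x.2
    rw [← h3]
    refine ⟨?_, fun a => ⟨?_, ?_⟩⟩
    · exact Submodule.mem_sup_left (Submodule.mem_span_singleton_self _)
    · exact Submodule.mem_sup_right (fst_mem_hSpan _ a)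
    · exact Submodule.mem_sup_right (snd_mem_hSpan _ a)⟩
  invFun x := ⟨⟨x.1, x.2.1⟩, by
    apply Subtype.ext
    show pSpan (F := F) x.1 = W.1
    apply Submodule.eq_of_le_of_finrank_eq
    · exact sup_le ((Submodule.span_singleton_le_iff_mem _ _).mpr x.2.2.1)
        (hSpan_le x.1.2 x.2.2.2)
    · rw [x.2.1.finrank_pSpan hB hκ, W.2.1]⟩
  left_inv x := rfl
  right_inv x := rfl

/-- parabolic frames, fibred over the first vector -/
noncomputable def pFrameSigmaEquiv (κ : F) (t : ℕ) :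
    {x : V × (Fin t → V × V) // IsPFrame B κ x} ≃
      Σ a : {a : V // B a a = κ}, {s : Fin t → V × V // IsHFrame B s ∧
        ∀ j, (s j).1 ∈ B.orthogonal (Submodule.span F {a.1}) ∧
          (s j).2 ∈ B.orthogonal (Submodule.span F {a.1})} where
  toFun x := ⟨⟨x.1.1, x.2.1⟩, ⟨x.1.2, x.2.2.1, fun j =>
    ⟨mem_orth_singleton.mpr (x.2.2.2 j).1, mem_orth_singleton.mpr (x.2.2.2 j).2⟩⟩⟩
  invFun y := ⟨(y.1.1, y.2.1), y.1.2, y.2.2.1, fun j =>
    ⟨mem_orth_singleton.mp (y.2.2.2 j).1, mem_orth_singleton.mp (y.2.2.2 j).2⟩⟩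
  left_inv x := rfl
  right_inv y := rfl

/-- the number of parabolic frames -/
theorem card_pFrame (hB : B.IsSymm) (h2 : (2 : F) ≠ 0) (hnd : B.Nondegenerate) {d : ℕ}
    (hV : finrank F V = 2 * d) {κ : F} (hκ : κ ≠ 0) (t : ℕ) (htd : t + 1 ≤ d) :
    Nat.card {x : V × (Fin t → V × V) // IsPFrame B κ x} =
      Nat.card {a : V // B a a = κ} *
        ∏ k : Fin t, ((Fintype.card F ^ (2 * (d - 1 - k.val)) - 1) *
          Fintype.card F ^ (2 * (d - 1 - k.val) - 1)) := by
  classical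
  haveI : Finite V := Module.finite_of_finite F
  haveI : Fintype {a : V // B a a = κ} := Fintype.ofFinite _
  rw [Nat.card_congr (pFrameSigmaEquiv B κ t), Nat.card_sigma]
  have hfib : ∀ a : {a : V // B a a = κ},
      Nat.card {s : Fin t → V × V // IsHFrame B s ∧
        ∀ j, (s j).1 ∈ B.orthogonal (Submodule.span F {a.1}) ∧
          (s j).2 ∈ B.orthogonal (Submodule.span F {a.1})} =
        ∏ k : Fin t, ((Fintype.card F ^ (2 * (d - 1 - k.val)) - 1) *
          Fintype.card F ^ (2 * (d - 1 - k.val) - 1)) := by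
    intro a
    have haa : B a.1 a.1 ≠ 0 := by rw [a.2]; exact hκ
    have hXnd : Nd B (B.orthogonal (Submodule.span F {a.1})) := by
      have := (nd_span_singleton haa).inf_orth hB.isRefl le_top (nd_top_of_nondeg' hnd)
      rwa [top_inf_eq] at this
    have hXdim : finrank F ↥(B.orthogonal (Submodule.span F {a.1})) = 2 * (d - 1) + 1 := by
      have := LinearMap.BilinForm.finrank_orthogonal hnd (Submodule.span F {a.1})
      rw [finrank_span_singleton (ne_zero_of_norm_ne haa), hV] at this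
      omega
    exact card_hFrame_in hB h2 hXnd hXdim t (by omega)
  rw [Finset.sum_congr rfl (fun a _ => hfib a), Finset.sum_const, Finset.card_univ,
    ← Nat.card_eq_fintype_card, smul_eq_mul]

end count

/-- a prime dividing the number of isometric copies of `W₀` (and not `q`) divides some
`q^(2(d-k)) - 1`, `k ≤ t` -/
theorem exists_dvd_of_dvd_card_iso (hB : B.IsSymm) (h2 : (2 : F) ≠ 0) (hnd : B.Nondegenerate)
    {d : ℕ} (hV : finrank F V = 2 * d) {ε : ℤ} (hε : ε = 1 ∨ ε = -1) (hT : SType B ⊤ d ε)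
    {W₀ : Submodule F V} (hW₀ : Nd B W₀) {t : ℕ} (hdim : finrank F ↥W₀ = 2 * t + 1)
    (htd : t + 1 ≤ d) (r : ℕ) (hr : r.Prime) (hrq : ¬ r ∣ Fintype.card F)
    (hdvd : r ∣ Nat.card {W : Submodule F V // finrank F ↥W = 2 * t + 1 ∧ Nd B W ∧
      Iso B W W₀}) :
    ∃ k : ℕ, k ≤ t ∧ r ∣ Fintype.card F ^ (2 * (d - k)) - 1 := by
  classical
  haveI : Finite V := Module.finite_of_finite F
  haveI : Fintype {W : Submodule F V // finrank F ↥W = 2 * t + 1 ∧ Nd B W ∧ Iso B W W₀} :=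
    Fintype.ofFinite _
  obtain ⟨X₀, a₀, hX₀W, hX₀nd, hX₀dim, hX₀ty, ha₀W, ha₀orth, ha₀, hW₀eq⟩ :=
    exists_split_odd hB h2 hnd hW₀ hdim
  set κ := B a₀ a₀ with hκdef
  have hiso : ∀ x : V × (Fin t → V × V), IsPFrame B κ x → Iso B (pSpan (F := F) x) W₀ := by
    intro x hx
    rw [← hW₀eq]
    exact hx.iso_pSpan hB h2 hnd ha₀ hX₀nd hX₀dim hX₀ty rfl ha₀orth
  have hN : ∀ W : {W : Submodule F V // finrank F ↥W = 2 * t + 1 ∧ Nd B W ∧ Iso B W W₀},
      Nat.card {x : {x : V × (Fin t → V × V) // IsPFrame B κ x} //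
        pSpanMap B hB ha₀ t W₀ hiso x = W} = Nat.card (InPFrames B κ W₀ t) := by
    intro W
    rw [Nat.card_congr (pSpanFiberEquiv B hB ha₀ t W₀ hiso W)]
    exact le_antisymm (card_inP_le W.2.2.2 κ t) (card_inP_le W.2.2.2.symm κ t)
  have h1 := card_pFrame B hB h2 hnd hV ha₀ t htd
  rw [Nat.card_congr (Equiv.sigmaFiberEquiv (pSpanMap B hB ha₀ t W₀ hiso)).symm, Nat.card_sigma,
    Finset.sum_congr rfl (fun W _ => hN W), Finset.sum_const, Finset.card_univ,
    ← Nat.card_eq_fintype_card, smul_eq_mul] at h1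
  have h3 : r ∣ Nat.card {a : V // B a a = κ} *
      ∏ k : Fin t, ((Fintype.card F ^ (2 * (d - 1 - k.val)) - 1) *
        Fintype.card F ^ (2 * (d - 1 - k.val) - 1)) := by
    rw [← h1]
    exact Dvd.dvd.mul_right hdvd _
  rcases (Nat.Prime.dvd_mul hr).mp h3 with h | h
  · -- `r` divides the number of vectors of norm `κ`
    refine ⟨0, Nat.zero_le _, ?_⟩
    have h4 := card_norm_eq hB h2 hnd hV hT ha₀
    have h5 : (r : ℤ) ∣ (Fintype.card F : ℤ) ^ d * ((Fintype.card F : ℤ) ^ d - ε) := by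
      rw [← h4]
      exact Dvd.dvd.mul_right (Int.natCast_dvd_natCast.mpr h) _
    have h6 : (r : ℤ) ∣ (Fintype.card F : ℤ) ^ d - ε := by
      rcases Int.Prime.dvd_mul' hr h5 with h7 | h7
      · exfalso
        apply hrq
        have h8 := Int.Prime.dvd_pow' hr h7
        exact Int.natCast_dvd_natCast.mp h8
      · exact h7
    have hpos : 1 ≤ Fintype.card F ^ (2 * (d - 0)) := Nat.one_le_pow _ _ Fintype.card_pos
    have h9 : (r : ℤ) ∣ ((Fintype.card F ^ (2 * (d - 0)) - 1 : ℕ) : ℤ) := by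
      rw [Nat.cast_sub hpos, Nat.cast_pow, Nat.cast_one, Nat.sub_zero]
      have e1 : (Fintype.card F : ℤ) ^ (2 * d) - 1 =
          ((Fintype.card F : ℤ) ^ d - ε) * ((Fintype.card F : ℤ) ^ d + ε) := by
        have hεε : ε * ε = 1 := by rcases hε with h | h <;> rw [h] <;> norm_num
        have e2 : (Fintype.card F : ℤ) ^ (2 * d) =
            (Fintype.card F : ℤ) ^ d * (Fintype.card F : ℤ) ^ d := by
          rw [← pow_add]; congr 1; ring
        rw [e2]
        linear_combination hεε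
      rw [e1]
      exact Dvd.dvd.mul_right h6 _
    exact Int.natCast_dvd_natCast.mp h9
  · obtain ⟨k, -, hk⟩ := (hr.prime.dvd_finsetProd_iff _).mp h
    rcases (Nat.Prime.dvd_mul hr).mp hk with h' | h'
    · refine ⟨k.val + 1, k.2, ?_⟩
      have e1 : d - (k.val + 1) = d - 1 - k.val := by omega
      rw [e1]
      exact h'
    · exact absurd (hr.dvd_of_dvd_pow h') hrq

end Cfsg.Agent.Helper94.Tp
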