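import Mathlib
import Cfsg.Agent.Helper94.TpB
import Cfsg.Agent.Helper94.TpE

set_option autoImplicit false
set_option linter.unusedSectionVars false
set_option linter.style.haveILetI false

/-!
# Semisimple elements of odd prime order and isometric copies of an odd-dimensional space
-/

namespace Cfsg.Agent.Helper94.Tp

open Module Polynomial Matrix
open Cfsg
open Cfsg.Agent.Helper44 Cfsg.Agent.Helper44.QType
open Cfsg.Agent.Helper59.InvChain Cfsg.Agent.Helper59.Elusive
open Cfsg.Agent.Helper99.RDecomp Cfsg.Agent.Helper99.SpStruct Cfsg.Agent.Helper99.SpElt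
open Cfsg.Agent.Helper94.Ti Cfsg.Agent.Helper94.Ts Cfsg.Agent.Helper94.Tn

universe u v

section abstract

variable {F : Type u} [Field F] [Fintype F]
variable {V : Type v} [AddCommGroup V] [Module F V] [FiniteDimensional F V]
variable {B : LinearMap.BilinForm F V} {r : ℕ} {y : Module.End F V}

/-- (⇐), abstract form: a large fixed space gives an invariant isometric copy of `W₀` -/
theorem exists_inv_iso_of_fix (h : OSetup B r y (orderOf ((Fintype.card F : ℕ) : ZMod r)))
    (h2 : (2 : F) ≠ 0) {d : ℕ} (hV : finrank F V = 2 * d) {W₀ : Submodule F V} (hW₀ : Nd B W₀)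
    {t : ℕ} (hdim : finrank F ↥W₀ = 2 * t + 1) (hlt : 2 * t + 1 < 2 * d)
    (hipos : 0 < orderOf ((Fintype.card F : ℕ) : ZMod r))
    (hfix : (2 * t + 1) % blockSize (orderOf ((Fintype.card F : ℕ) : ZMod r)) <
      finrank F ↥(fixSp y)) :
    ∃ W : Submodule F V, Inv y W ∧ Nd B W ∧ Iso B W W₀ := by
  set i := orderOf ((Fintype.card F : ℕ) : ZMod r) with hidef
  set c := blockSize i with hcdef
  have hcpos : 0 < c := blockSize_pos hipos
  obtain ⟨c', hc'⟩ := even_blockSize i
  rw [← hcdef] at hc'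
  obtain ⟨k', hk1, hk2, hk3⟩ := h.exists_blocks_eq
  rw [hV, ← hcdef] at hk1 hk3
  rw [← hcdef] at hk2
  set m := 2 * t + 1 with hm
  have hmdiv := Nat.div_add_mod m c
  set j := min k' (m / c) with hj
  have hjk : j ≤ k' := min_le_left _ _
  have hjm : j ≤ m / c := min_le_right _ _
  have hjck : j * c ≤ k' * c := Nat.mul_le_mul_right c hjk
  have hjcm : j * c ≤ m := by
    have : j * c ≤ m / c * c := Nat.mul_le_mul_right c hjm
    have e1 : m / c * c = c * (m / c) := mul_comm _ _
    omega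
  obtain ⟨X, hXc, hXinv, hXnd, hXdim⟩ := exists_nd_inv_cyc h h2 j (by rw [hk2]; exact hjck)
  rw [← hidef, ← hcdef] at hXdim
  have hXdim' : finrank F ↥X = 2 * (j * c') := by rw [hXdim, hc']; ring
  have e1 : j * c = 2 * (j * c') := by rw [hc']; ring
  have hst : j * c' ≤ t := by omega
  have hfle : 2 * (t - j * c') + 2 ≤ finrank F ↥(fixSp y) := by
    rcases le_total (m / c) k' with hle | hle
    · have hjeq : j = m / c := min_eq_right hle
      have e3 : j * c = c * (m / c) := by rw [hjeq]; exact mul_comm _ _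
      omega
    · have hjeq : j = k' := min_eq_left hle
      rw [hjeq] at e1 hst ⊢
      omega
  obtain ⟨Wf, hWf, hWnd, hWiso⟩ := exists_iso_glue h.symm h2 h.nondeg hW₀ hXnd h.nd_fix
    (h.orth_fix_cyc.mono le_rfl hXc) hdim hXdim' hst hfle
  exact ⟨Wf ⊔ X, inv_sup (inv_of_le_fixSp hWf) hXinv, hWnd, hWiso⟩

end abstract

section concrete

variable {F : Type u} [Field F] [Fintype F] {p : ℕ} [Fact p.Prime] [CharP F p]
variable {ι : Type} [Fintype ι] [DecidableEq ι]
variable (Q : QuadraticForm F (ι → F))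

/-- the hypothesis: every element of `Ω` of order `r` fixes an isometric copy of `W₀` -/
def IsoProp (W₀ : Submodule F (ι → F)) (r : ℕ) : Prop :=
  ∀ y : ↥(Cfsg.isometryGroup F ⇑Q), y ∈ Cfsg.Omega F ⇑Q → orderOf y = r →
    ∃ W : Submodule F (ι → F), Nd (qB Q) W ∧ Iso (qB Q) W W₀ ∧
      Inv (Matrix.toLin' ((y : GL ι F) : Matrix ι ι F)) W

/-- (⇒) for odd `r ≠ p` -/
theorem cond_of_isoProp (h2 : (2 : F) ≠ 0) (hnd : (qB Q).Nondegenerate) {d : ℕ}
    (hι : Fintype.card ι = 2 * d) {ε : ℤ} (hε : ε = 1 ∨ ε = -1) (hT : HasType (⇑Q) d ε)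
    (r : ℕ) [Fact r.Prime] (hrp : r ≠ p) (hr2 : r ≠ 2) {W₀ : Submodule F (ι → F)}
    (hW₀ : Nd (qB Q) W₀) {t : ℕ} (hdim : finrank F ↥W₀ = 2 * t + 1) (htd : t + 1 ≤ d)
    (H : IsoProp Q W₀ r)
    (hΩ : r ∣ Nat.card {W : Submodule F (ι → F) // finrank F ↥W = 2 * t + 1 ∧ Nd (qB Q) W ∧
      Iso (qB Q) W W₀}) :
    (0 < (2 * d) % blockSize (orderOf ((Fintype.card F : ℕ) : ZMod r)) →
      blockSize (orderOf ((Fintype.card F : ℕ) : ZMod r)) ≤ 2 * t + 1 ∧
      0 < (2 * t + 1) % blockSize (orderOf ((Fintype.card F : ℕ) : ZMod r)) ∧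
      (2 * t + 1) % blockSize (orderOf ((Fintype.card F : ℕ) : ZMod r)) <
        (2 * d) % blockSize (orderOf ((Fintype.card F : ℕ) : ZMod r))) ∧
    ((2 * d) % blockSize (orderOf ((Fintype.card F : ℕ) : ZMod r)) = 0 →
      ((Fintype.card F : ℕ) : ZMod r) ^ d ≠ ((ε : ℤ) : ZMod r)) := by
  have hr : r.Prime := Fact.out
  have hrodd : Odd r := hr.odd_of_ne_two hr2
  have hrq := not_dvd_card_of_ne (F := F) r hrp
  have hV : finrank F (ι → F) = 2 * d := by rw [Module.finrank_fintype_fun_eq_card, hι]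
  set i := orderOf ((Fintype.card F : ℕ) : ZMod r) with hidef
  set c := blockSize i with hcdef
  have hipos : 0 < i := orderOf_card_pos r hrp
  have hcpos : 0 < c := blockSize_pos hipos
  obtain ⟨c', hc'⟩ := even_blockSize i
  rw [← hcdef] at hc'
  set m := 2 * t + 1 with hm
  -- the counting hypothesis
  obtain ⟨k, hkt, hk⟩ := exists_dvd_of_dvd_card_iso (qB_symm Q) h2 hnd hV hε (sType_top Q h2 hT)
    hW₀ hdim htd r hr hrq hΩ
  have hidvd : i ∣ 2 * (d - k) := by
    rw [hidef, orderOf_dvd_iff_pow_eq_one]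
    have hpos : 1 ≤ Fintype.card F ^ (2 * (d - k)) := Nat.one_le_pow _ _ Fintype.card_pos
    have h2' := (ZMod.natCast_eq_zero_iff _ r).mpr hk
    rw [Nat.cast_sub hpos, Nat.cast_pow, Nat.cast_one, sub_eq_zero] at h2'
    exact h2'
  have hcdvd : c ∣ 2 * (d - k) := by
    by_cases hi : Even i
    · rw [hcdef, blockSize_even hi]; exact hidvd
    · rw [hcdef, blockSize_odd hi]
      have hcop : Nat.Coprime 2 i := by
        rw [Nat.coprime_two_left]
        exact Nat.not_even_iff_odd.mp hi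
      exact hcop.mul_dvd_of_dvd_of_dvd ⟨d - k, rfl⟩ hidvd
  have hpos : 0 < 2 * (d - k) := by omega
  have hc2d : c ≤ 2 * d := (Nat.le_of_dvd hpos hcdvd).trans (by omega)
  have hdm := Nat.div_add_mod (2 * d) c
  have hkpos : 0 < (2 * d) / c := Nat.div_pos hc2d hcpos
  have hkc : (2 * d) / c * c ≤ 2 * d := Nat.div_mul_le_self _ _
  have e2 : c * ((2 * d) / c) = (2 * d) / c * c := mul_comm _ _
  constructor
  · intro hρ
    obtain ⟨y, hyord, hfix⟩ := exists_q_elt Q hnd hι hε hT r hrp hr2 ((2 * d) / c) hkpos hkc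
      (by
        intro h
        exfalso
        have h' : (2 * d) / c * c = 2 * d := h
        omega)
    rw [← hidef, ← hcdef] at hfix
    have hfix' : finrank F ↥(fixSp (Matrix.toLin' ((y : GL ι F) : Matrix ι ι F))) =
        (2 * d) % c := by
      rw [hfix]; omega
    have hyr : y ^ r = 1 := by rw [← hyord]; exact pow_orderOf_eq_one y
    have hyΩ : y ∈ Cfsg.Omega F ⇑Q := mem_Omega_of_odd_order' Q h2 hnd y hrodd hyr
    obtain ⟨W, hWnd, hWiso, hWinv⟩ := H y hyΩ hyord
    have hWdim : finrank F ↥W = m := by rw [hWiso.finrank_eq, hdim]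
    have hset := qSetup_of Q hnd r hrp hr2 _ (toLin_iso y) (toLin_pow_eq_one' y hyr)
    rw [← hidef] at hset
    set Y := Matrix.toLin' ((y : GL ι F) : Matrix ι ι F) with hY
    have hsplit := hset.setup.split W hWinv
    have hcnd := hset.nd_inf_cyc hWinv hWnd
    have hcinv : Inv Y (W ⊓ cycSp r Y) := inv_inf hWinv (inv_cycSp r Y)
    obtain ⟨jj, hjj⟩ := hset.blockSize_dvd hcinv hcnd inf_le_right
    rw [← hcdef] at hjj
    have hfle : finrank F ↥(W ⊓ fixSp Y) ≤ (2 * d) % c := by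
      rw [← hfix']
      exact Submodule.finrank_mono inf_le_right
    have hkklt : (2 * d) % c < c := Nat.mod_lt _ hcpos
    have hmmod : m % c = finrank F ↥(W ⊓ fixSp Y) := by
      rw [← hWdim, hsplit, hjj, Nat.add_mul_mod_self_left, Nat.mod_eq_of_lt (by omega)]
    -- parities
    have hmdiv := Nat.div_add_mod m c
    have hmpar : m % c = 2 * (t - c' * (m / c)) + 1 := by
      have e1 : c * (m / c) = 2 * (c' * (m / c)) := by rw [hc']; ring
      omega
    have hnpar : (2 * d) % c = 2 * (d - c' * ((2 * d) / c)) := by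
      have e1 : c * ((2 * d) / c) = 2 * (c' * ((2 * d) / c)) := by rw [hc']; ring
      omega
    have hlt : m % c < (2 * d) % c := by omega
    refine ⟨?_, by omega, hlt⟩
    -- `c ≤ m`
    by_contra hcon
    push Not at hcon
    have hmm : m % c = m := Nat.mod_eq_of_lt hcon
    have hmod : (2 * k) % c = (2 * d) % c :=
      (Nat.modEq_iff_dvd' (by omega : 2 * k ≤ 2 * d)).mpr (by
        have : 2 * d - 2 * k = 2 * (d - k) := by omega
        rw [this]; exact hcdvd)
    rw [Nat.mod_eq_of_lt (by omega)] at hmod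
    omega
  · intro hρ hgood
    have hkc' : (2 * d) / c * c = 2 * d := by omega
    obtain ⟨y, hyord, hfix⟩ := exists_q_elt Q hnd hι hε hT r hrp hr2 ((2 * d) / c) hkpos hkc
      (fun _ => hgood)
    rw [← hidef, ← hcdef, hkc', Nat.sub_self] at hfix
    have hyr : y ^ r = 1 := by rw [← hyord]; exact pow_orderOf_eq_one y
    have hyΩ : y ∈ Cfsg.Omega F ⇑Q := mem_Omega_of_odd_order' Q h2 hnd y hrodd hyr
    obtain ⟨W, hWnd, hWiso, hWinv⟩ := H y hyΩ hyord
    have hWdim : finrank F ↥W = m := by rw [hWiso.finrank_eq, hdim]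
    have hset := qSetup_of Q hnd r hrp hr2 _ (toLin_iso y) (toLin_pow_eq_one' y hyr)
    rw [← hidef] at hset
    set Y := Matrix.toLin' ((y : GL ι F) : Matrix ι ι F) with hY
    have hsplit := hset.setup.split W hWinv
    have hcnd := hset.nd_inf_cyc hWinv hWnd
    have hcinv : Inv Y (W ⊓ cycSp r Y) := inv_inf hWinv (inv_cycSp r Y)
    obtain ⟨jj, hjj⟩ := hset.blockSize_dvd hcinv hcnd inf_le_right
    rw [← hcdef] at hjj
    have hfle : finrank F ↥(W ⊓ fixSp Y) ≤ 0 := by
      rw [← hfix]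
      exact Submodule.finrank_mono inf_le_right
    have e1 : c * jj = 2 * (c' * jj) := by rw [hc']; ring
    omega

end concrete

end Cfsg.Agent.Helper94.Tp
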