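import Mathlib
import Cfsg.Agent.Helper94.TpC
import Cfsg.Agent.Helper44.OmegaIndex
import Cfsg.Agent.Helper45.OmegaTrans2

set_option autoImplicit false
set_option linter.unusedSectionVars false
set_option linter.style.haveILetI false

/-!
# Isometries with square `± 1` in even-dimensional orthogonal spaces
-/

namespace Cfsg.Agent.Helper94.Tp

open Module Polynomial Matrix
open Cfsg
open Cfsg.Agent.Helper44 Cfsg.Agent.Helper44.QType
open Cfsg.Agent.Helper59.InvChain Cfsg.Agent.Helper59.Elusive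
open Cfsg.Agent.Helper99.RDecomp Cfsg.Agent.Helper99.SpStruct Cfsg.Agent.Helper99.SpElt
open Cfsg.Agent.Helper94.Ti Cfsg.Agent.Helper94.Ts Cfsg.Agent.Helper94.Tn

universe u v

/-- a permutation whose square is a fixed-point-free involution: all cycles have length four -/
theorem sign_of_sq_fpf {α : Type*} [Fintype α] [DecidableEq α] (σ : Equiv.Perm α)
    (h4 : ∀ a, σ (σ (σ (σ a))) = a) (h2 : ∀ a, σ (σ a) ≠ a) :
    ∃ n : ℕ, Fintype.card α = 4 * n ∧ Equiv.Perm.sign σ = (-1) ^ n := by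
  have hord : orderOf σ ∣ 4 := by
    apply orderOf_dvd_of_pow_eq_one
    ext a
    show (σ ^ 4) a = a
    have : (σ ^ 4) a = σ (σ (σ (σ a))) := by
      simp only [pow_succ, pow_zero, one_mul, Equiv.Perm.mul_apply]
    rw [this, h4]
  have hall : ∀ n ∈ σ.cycleType, n = 4 := by
    intro n hn
    have h1 := Equiv.Perm.dvd_of_mem_cycleType hn
    have h2' := Equiv.Perm.two_le_of_mem_cycleType hn
    have h3 : n ∣ 4 := h1.trans hord
    have h5 : n ≤ 4 := Nat.le_of_dvd (by norm_num) h3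
    interval_cases n
    · exfalso
      obtain ⟨c, τ, hστ, hdisj, -, hcard⟩ := Equiv.Perm.mem_cycleType_iff.mp hn
      obtain ⟨a, b, hab, hc⟩ := Equiv.Perm.card_support_eq_two.mp hcard
      have hτa : τ a = a := by
        rcases hdisj a with h | h
        · rw [hc, Equiv.swap_apply_left] at h
          exact absurd h.symm hab
        · exact h
      have hτb : τ b = b := by
        rcases hdisj b with h | h
        · rw [hc, Equiv.swap_apply_right] at h
          exact absurd h hab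
        · exact h
      have hσa : σ a = b := by
        rw [hστ, Equiv.Perm.mul_apply, hτa, hc, Equiv.swap_apply_left]
      have hσb : σ b = a := by
        rw [hστ, Equiv.Perm.mul_apply, hτb, hc, Equiv.swap_apply_right]
      apply h2 a
      rw [hσa, hσb]
    · exfalso
      norm_num at h3
    · rfl
  have hsupp : σ.support = Finset.univ := by
    apply Finset.eq_univ_of_forall
    intro a
    rw [Equiv.Perm.mem_support]
    intro h
    apply h2 a
    rw [h, h]
  have hsum := Equiv.Perm.sum_cycleType σ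
  rw [hsupp, Finset.card_univ] at hsum
  have hrep := Multiset.eq_replicate_card.mpr hall
  refine ⟨Multiset.card σ.cycleType, ?_, ?_⟩
  · rw [← hsum]
    conv_lhs => rw [hrep]
    rw [Multiset.sum_replicate, smul_eq_mul, mul_comm]
  · rw [Equiv.Perm.sign_of_cycleType]
    have e1 : σ.cycleType.sum = 4 * Multiset.card σ.cycleType := by
      conv_lhs => rw [hrep]
      rw [Multiset.sum_replicate, smul_eq_mul, mul_comm]
    rw [e1, pow_add, pow_mul]
    norm_num

section levelset

variable {F : Type u} [Field F] [Fintype F] {ι : Type} [Fintype ι] [DecidableEq ι]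
variable (Q : QuadraticForm F (ι → F))

theorem card_levelSet (c : F) : Fintype.card (LevelSet (⇑Q) c) = fc (⇑Q) c := by
  unfold fc
  rw [← Nat.card_eq_fintype_card]
  apply Nat.card_congr
  exact { toFun := fun x => ⟨x.val, x.prop⟩
          invFun := fun v => ⟨v.1, v.2⟩
          left_inv := fun x => rfl
          right_inv := fun v => rfl }

/-- the sign characters of an isometry with square `-1` -/
theorem signChar_of_sq_neg (h2 : (2 : F) ≠ 0) (g : ↥(Cfsg.isometryGroup F ⇑Q))
    (hg : ∀ x : ι → F, (g.1 : Matrix ι ι F) *ᵥ ((g.1 : Matrix ι ι F) *ᵥ x) = -x) {c : F}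
    (hc : c ≠ 0) :
    ∃ n : ℕ, fc (⇑Q) c = 4 * n ∧ signChar (⇑Q) c g = (-1) ^ n := by
  classical
  rw [← card_levelSet]
  rw [signChar_apply]
  apply sign_of_sq_fpf
  · intro x
    apply LevelSet.ext'
    show (g.1 : Matrix ι ι F) *ᵥ ((g.1 : Matrix ι ι F) *ᵥ ((g.1 : Matrix ι ι F) *ᵥ
      ((g.1 : Matrix ι ι F) *ᵥ x.val))) = x.val
    rw [hg, hg, neg_neg]
  · intro x hx
    have h1 : (g.1 : Matrix ι ι F) *ᵥ ((g.1 : Matrix ι ι F) *ᵥ x.val) = x.val :=
      congrArg LevelSet.val hx
    rw [hg] at h1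
    have h3 : x.val = 0 := by
      have h4 : (2 : F) • x.val = 0 := by
        rw [two_smul]
        nth_rewrite 1 [← h1]
        exact neg_add_cancel _
      exact (smul_eq_zero.mp h4).resolve_left h2
    have := x.prop
    rw [h3, map_zero] at this
    exact hc this.symm

/-- membership in `Ω` of an isometry with square `-1` -/
theorem mem_Omega_iff_of_sq_neg (h2 : (2 : F) ≠ 0)
    (hnd : (QuadraticMap.polarBilin Q).Nondegenerate) {m : ℕ} (hι : Fintype.card ι = 2 * m)
    (g : ↥(Cfsg.isometryGroup F ⇑Q))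
    (hg : ∀ x : ι → F, (g.1 : Matrix ι ι F) *ᵥ ((g.1 : Matrix ι ι F) *ᵥ x) = -x) :
    4 ∣ fc (⇑Q) 1 ∧ (g ∈ Cfsg.Omega F ⇑Q ↔ 8 ∣ fc (⇑Q) 1) := by
  have hV : finrank F (ι → F) = 2 * m := by rw [Module.finrank_fintype_fun_eq_card, hι]
  have hndq := (nondeg_iff Q).mp hnd
  obtain ⟨c₀, hc₀⟩ := FiniteField.exists_nonsquare (F := F) (ringChar_ne_two_of_two_ne_zero h2)
  have hc₀0 : c₀ ≠ 0 := by
    rintro rfl
    exact hc₀ ⟨0, by simp⟩
  obtain ⟨n₁, hn₁, hs₁⟩ := signChar_of_sq_neg Q h2 g hg one_ne_zero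
  obtain ⟨n₀, hn₀, hs₀⟩ := signChar_of_sq_neg Q h2 g hg hc₀0
  rw [fc_eq_fc_one Q hV hndq c₀ hc₀0] at hn₀
  have hnn : n₀ = n₁ := by omega
  subst hnn
  refine ⟨⟨n₀, hn₁⟩, ?_⟩
  rw [← ker_omegaChar Q h2 hnd hc₀, MonoidHom.mem_ker, omegaChar, MonoidHom.prod_apply,
    Prod.mk_eq_one, parityChar, MonoidHom.mul_apply, hs₁, hs₀]
  have hne : (-1 : ℤˣ) ≠ 1 := by decide
  constructor
  · rintro ⟨-, h⟩
    rw [neg_one_pow_eq_one_iff_even hne] at h
    obtain ⟨k, hk⟩ := h
    exact ⟨k, by omega⟩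
  · rintro ⟨k, hk⟩
    have hev : Even n₀ := ⟨k, by omega⟩
    have h1 : (-1 : ℤˣ) ^ n₀ = 1 := (neg_one_pow_eq_one_iff_even hne).mpr hev
    rw [h1]
    exact ⟨one_mul 1, rfl⟩

/-- an isometric endomorphism as an element of the isometry group -/
theorem exists_isom_elt (hnd : (qB Q).Nondegenerate) (x : Module.End F (ι → F))
    (hiso : ∀ v, Q (x v) = Q v) :
    ∃ y : ↥(Cfsg.isometryGroup F ⇑Q), ∀ v, (y.1 : Matrix ι ι F) *ᵥ v = x v := by
  have hinj : Function.Injective x := isom_injective hnd (qB_isom Q hiso)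
  let gl : (ι → F) ≃ₗ[F] (ι → F) := LinearEquiv.ofInjectiveEndo x hinj
  have hgl : ∀ v, gl v = x v := fun v => rfl
  refine ⟨Cfsg.Agent.Helper45.OmegaParity.isoOfLin Q gl (fun v => by rw [hgl]; exact hiso v), ?_⟩
  intro v
  exact Cfsg.Agent.Helper45.OmegaParity.lin_isoOfLin Q gl _ v

end levelset

section abstract2

variable {F : Type u} [Field F] [Fintype F]
variable {V : Type v} [AddCommGroup V] [Module F V] [FiniteDimensional F V]
variable {B : LinearMap.BilinForm F V}

/-- no invariant nondegenerate subspace of odd dimension for an isometry with square `-1` -/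
theorem even_finrank_of_sq_neg (hB : B.IsSymm) (h2 : (2 : F) ≠ 0) {x : Module.End F V}
    (hiso : ∀ u v, B (x u) (x v) = B u v) (hx : ∀ v, x (x v) = -v) {W : Submodule F V}
    (hWinv : Inv x W) (hW : Nd B W) : Even (finrank F ↥W) := by
  have halt : (B.compRight x).IsAlt := by
    intro u
    rw [LinearMap.BilinForm.compRight_apply]
    have h1 : B u (x u) = -B u (x u) := by
      calc B u (x u) = B (x u) (x (x u)) := (hiso _ _).symm
        _ = -B (x u) u := by rw [hx, map_neg]
        _ = -B u (x u) := by rw [hB.eq (x u) u]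
    have h3 : (2 : F) * B u (x u) = 0 := by linear_combination h1
    exact (mul_eq_zero.mp h3).resolve_left h2
  apply Cfsg.Agent.Helper99.SpStruct.even_finrank halt
  rw [nd_iff]
  intro u hu hu'
  have h1 : x u = 0 := by
    apply nd_iff.mp hW _ (hWinv.apply_mem hu)
    intro w hw
    have := hu' w hw
    rwa [LinearMap.BilinForm.compRight_apply] at this
  have := congrArg x h1
  rw [hx, map_zero, neg_eq_zero] at this
  exact this

/-- involutions fix an isometric copy of every odd-dimensional space of dimension less than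
half -/
theorem invol_fix {x : Module.End F V} (h : InvolSetup B x) {d : ℕ} (hV : finrank F V = 2 * d)
    {W₀ : Submodule F V} (hW₀ : Nd B W₀) {t : ℕ} (hdim : finrank F ↥W₀ = 2 * t + 1)
    (htd : 2 * t + 1 < d) : ∃ W : Submodule F V, Inv x W ∧ Nd B W ∧ Iso B W W₀ := by
  have hadd := h.finrank_add
  rw [hV] at hadd
  rcases le_total d (finrank F ↥(fixSp x)) with hle | hle
  · obtain ⟨W, hWle, hWnd, hWiso⟩ := exists_iso_sub h.symm h.two_ne h.nondeg hW₀ h.nd_fix hdim
      (by omega)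
    exact ⟨W, inv_of_le_fixSp hWle, hWnd, hWiso⟩
  · obtain ⟨W, hWle, hWnd, hWiso⟩ := exists_iso_sub h.symm h.two_ne h.nondeg hW₀ h.nd_neg hdim
      (by omega)
    exact ⟨W, inv_of_le_negSp hWle, hWnd, hWiso⟩

end abstract2

section plus

variable {F : Type u} [Field F] {d : ℕ}

/-- the scalar-type isometry with square `-1` (`-1` a square) -/
def sqI (d : ℕ) (ι₀ : F) : Module.End F (Fin d ⊕ Fin d → F) where
  toFun w := fun k => match k with
    | .inl i => ι₀ * w (.inl i)
    | .inr i => -ι₀ * w (.inr i)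
  map_add' v w := by
    funext k
    rcases k with i | i
    · simp only [Pi.add_apply]; ring
    · simp only [Pi.add_apply]; ring
  map_smul' c v := by
    funext k
    rcases k with i | i
    · simp only [Pi.smul_apply, smul_eq_mul, RingHom.id_apply]; ring
    · simp only [Pi.smul_apply, smul_eq_mul, RingHom.id_apply]; ring

theorem sqI_inl (ι₀ : F) (w : Fin d ⊕ Fin d → F) (i : Fin d) :
    sqI d ι₀ w (.inl i) = ι₀ * w (.inl i) := rfl

theorem sqI_inr (ι₀ : F) (w : Fin d ⊕ Fin d → F) (i : Fin d) :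
    sqI d ι₀ w (.inr i) = -ι₀ * w (.inr i) := rfl

theorem sqI_iso {ι₀ : F} (hι : ι₀ * ι₀ = -1) (w : Fin d ⊕ Fin d → F) :
    Cfsg.quadFormPlus d F (sqI d ι₀ w) = Cfsg.quadFormPlus d F w := by
  unfold Cfsg.quadFormPlus
  apply Finset.sum_congr rfl
  intro i _
  rw [sqI_inl, sqI_inr]
  linear_combination (-w (.inl i) * w (.inr i)) * hι

theorem sqI_sq {ι₀ : F} (hι : ι₀ * ι₀ = -1) (w : Fin d ⊕ Fin d → F) :
    sqI d ι₀ (sqI d ι₀ w) = -w := by
  funext k
  rcases k with i | i
  · rw [sqI_inl, sqI_inl, Pi.neg_apply]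
    linear_combination (w (.inl i)) * hι
  · rw [sqI_inr, sqI_inr, Pi.neg_apply]
    linear_combination (w (.inr i)) * hι

/-- the rotation-type isometry with square `-1` (`d` even) -/
def sqJ (d : ℕ) (F : Type u) [Field F] : Module.End F (Fin d ⊕ Fin d → F) where
  toFun w := fun k => match k with
    | .inl i => sg F i * w (.inl (Fin.rev i))
    | .inr i => sg F i * w (.inr (Fin.rev i))
  map_add' v w := by
    funext k
    rcases k with i | i
    · simp only [Pi.add_apply]; ring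
    · simp only [Pi.add_apply]; ring
  map_smul' c v := by
    funext k
    rcases k with i | i
    · simp only [Pi.smul_apply, smul_eq_mul, RingHom.id_apply]; ring
    · simp only [Pi.smul_apply, smul_eq_mul, RingHom.id_apply]; ring

theorem sqJ_inl (w : Fin d ⊕ Fin d → F) (i : Fin d) :
    sqJ d F w (.inl i) = sg F i * w (.inl (Fin.rev i)) := rfl

theorem sqJ_inr (w : Fin d ⊕ Fin d → F) (i : Fin d) :
    sqJ d F w (.inr i) = sg F i * w (.inr (Fin.rev i)) := rfl

theorem tt_eq_zero_of_even (hd : Even d) (i : Fin d) : tt F i = 0 := by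
  unfold tt
  rw [if_neg]
  intro h
  have h1 := congrArg Fin.val h
  rw [Fin.val_rev] at h1
  obtain ⟨e, he⟩ := hd
  have := i.2
  omega

theorem sqJ_iso (hd : Even d) (w : Fin d ⊕ Fin d → F) :
    Cfsg.quadFormPlus d F (sqJ d F w) = Cfsg.quadFormPlus d F w := by
  unfold Cfsg.quadFormPlus
  rw [← Equiv.sum_comp Fin.revPerm (fun i => w (.inl i) * w (.inr i))]
  apply Finset.sum_congr rfl
  intro i _
  rw [sqJ_inl, sqJ_inr, Fin.revPerm_apply]
  have h1 := sg_mul_sg (F := F) i
  rw [tt_eq_zero_of_even hd, sub_zero] at h1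
  linear_combination (w (.inl (Fin.rev i)) * w (.inr (Fin.rev i))) * h1

theorem sqJ_sq (hd : Even d) (w : Fin d ⊕ Fin d → F) : sqJ d F (sqJ d F w) = -w := by
  have h1 : ∀ i : Fin d, sg F i * sg F (Fin.rev i) = -1 := by
    intro i
    have := sg_mul_sg (F := F) i
    rw [tt_eq_zero_of_even hd, sub_zero] at this
    rw [sg_rev]
    linear_combination -this
  funext k
  rcases k with i | i
  · rw [sqJ_inl, sqJ_inl, Fin.rev_rev, Pi.neg_apply]
    linear_combination (w (.inl i)) * h1 i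
  · rw [sqJ_inr, sqJ_inr, Fin.rev_rev, Pi.neg_apply]
    linear_combination (w (.inr i)) * h1 i

end plus

section generic

variable {F : Type u} [Field F] [Fintype F] {ι : Type} [Fintype ι] [DecidableEq ι]
variable (Q : QuadraticForm F (ι → F))

/-- the hypothesis for `r = 2`: every element of `Ω` with scalar square fixes an isometric copy
of `W₀` -/
def TwoProp (W₀ : Submodule F (ι → F)) : Prop :=
  ∀ g : ↥(Cfsg.isometryGroup F ⇑Q), g ∈ Cfsg.Omega F ⇑Q →
    (∃ z : F, ∀ v : ι → F, (g.1 : Matrix ι ι F) *ᵥ ((g.1 : Matrix ι ι F) *ᵥ v) = z • v) →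
    ∃ W : Submodule F (ι → F), Nd (qB Q) W ∧ Iso (qB Q) W W₀ ∧
      Inv (Matrix.toLin' ((g : GL ι F) : Matrix ι ι F)) W

/-- `r = 2`: the criterion in terms of elements of `Ω` with square `-1` -/
theorem twoProp_iff (h2 : (2 : F) ≠ 0) (hnd : (qB Q).Nondegenerate) {d : ℕ}
    (hι : Fintype.card ι = 2 * d) {W₀ : Submodule F (ι → F)} (hW₀ : Nd (qB Q) W₀) {t : ℕ}
    (hdim : finrank F ↥W₀ = 2 * t + 1) (htd : 2 * t + 1 < d) :
    TwoProp Q W₀ ↔ ¬ ∃ g : ↥(Cfsg.isometryGroup F ⇑Q), g ∈ Cfsg.Omega F ⇑Q ∧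
      ∀ v : ι → F, (g.1 : Matrix ι ι F) *ᵥ ((g.1 : Matrix ι ι F) *ᵥ v) = -v := by
  have hV : finrank F (ι → F) = 2 * d := by rw [Module.finrank_fintype_fun_eq_card, hι]
  constructor
  · rintro H ⟨g, hgΩ, hg⟩
    obtain ⟨W, hWnd, hWiso, hWinv⟩ := H g hgΩ ⟨-1, fun v => by rw [hg, neg_one_smul]⟩
    have hev := even_finrank_of_sq_neg (qB_symm Q) h2 (qB_isom Q (toLin_iso g))
      (fun v => by rw [Matrix.toLin'_apply, Matrix.toLin'_apply]; exact hg v) hWinv hWnd
    rw [hWiso.finrank_eq, hdim] at hev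
    obtain ⟨k, hk⟩ := hev
    omega
  · intro H g hgΩ ⟨z, hz⟩
    -- `z = ± 1`
    obtain ⟨u, hu⟩ := exists_Q_eq Q h2 hnd (by rw [hV]; omega) 1
    have hzz : z * z = 1 := by
      have h1 := isometryGroup_apply g ((g.1 : Matrix ι ι F) *ᵥ u)
      rw [isometryGroup_apply g u, hz, QuadraticMap.map_smul, hu] at h1
      simpa using h1
    have hz' : z = 1 ∨ z = -1 := by
      have h3 : (z - 1) * (z + 1) = 0 := by linear_combination hzz
      rcases mul_eq_zero.mp h3 with h | h
      · left; exact sub_eq_zero.mp h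
      · right; exact eq_neg_of_add_eq_zero_left h
    rcases hz' with rfl | rfl
    · have hS : InvolSetup (qB Q) (Matrix.toLin' ((g : GL ι F) : Matrix ι ι F)) :=
        { symm := qB_symm Q
          nondeg := hnd
          two_ne := h2
          isom := qB_isom Q (toLin_iso g)
          sq := fun v => by
            rw [Matrix.toLin'_apply, Matrix.toLin'_apply, hz, one_smul] }
      obtain ⟨W, hWinv, hWnd, hWiso⟩ := invol_fix hS hV hW₀ hdim htd
      exact ⟨W, hWnd, hWiso, hWinv⟩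
    · exfalso
      exact H ⟨g, hgΩ, fun v => by rw [hz, neg_one_smul]⟩

end generic

section plusgroup

variable {F : Type u} [Field F] [Fintype F] {d : ℕ}

theorem pB_nondeg : (qB (plusForm d F)).Nondegenerate := nondegenerate_plusForm d

theorem card_plus : Fintype.card (Fin d ⊕ Fin d) = 2 * d := by
  rw [Fintype.card_sum, Fintype.card_fin]; ring

/-- isometries with square `-1` of the split space -/
theorem exists_plus_sq_neg (hcase : Even d ∨ IsSquare (-1 : F)) :
    ∃ g : ↥(Cfsg.isometryGroup F ⇑(plusForm d F)), ∀ v : Fin d ⊕ Fin d → F,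
      (g.1 : Matrix (Fin d ⊕ Fin d) (Fin d ⊕ Fin d) F) *ᵥ
        ((g.1 : Matrix (Fin d ⊕ Fin d) (Fin d ⊕ Fin d) F) *ᵥ v) = -v := by
  rcases hcase with hd | ⟨ι₀, hι⟩
  · obtain ⟨g, hg⟩ := exists_isom_elt (plusForm d F) pB_nondeg (sqJ d F) (sqJ_iso hd)
    exact ⟨g, fun v => by rw [hg, hg]; exact sqJ_sq hd v⟩
  · obtain ⟨g, hg⟩ := exists_isom_elt (plusForm d F) pB_nondeg (sqI d ι₀) (sqI_iso hι.symm)
    exact ⟨g, fun v => by rw [hg, hg]; exact sqI_sq hι.symm v⟩

theorem pow_mod_eight {q : ℕ} (hq : Odd q) (d : ℕ) :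
    q ^ d % 8 = if Even d then 1 else q % 8 := by
  have h8 : q % 8 = 1 ∨ q % 8 = 3 ∨ q % 8 = 5 ∨ q % 8 = 7 := by
    obtain ⟨k, hk⟩ := hq
    omega
  induction d with
  | zero => simp
  | succ d ih =>
    rw [pow_succ, Nat.mul_mod, ih]
    by_cases hd : Even d
    · rw [if_pos hd, if_neg (by rw [Nat.even_add_one]; exact not_not.mpr hd)]
      simp
    · rw [if_neg hd, if_pos (by rw [Nat.even_add_one]; exact hd)]
      rcases h8 with h | h | h | h <;> rw [h]
 
/-- the number of vectors of norm one in the split space -/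
theorem fc_plus_mul (hd : 1 ≤ d) :
    fc (⇑(plusForm d F)) 1 * Fintype.card F =
      Fintype.card F ^ d * (Fintype.card F ^ d - 1) := by
  have hV : finrank F (Fin d ⊕ Fin d → F) = 2 * d := by
    rw [Module.finrank_fintype_fun_eq_card, card_plus]
  have h1 := fc_one_mul (plusForm d F) hV ((nondeg_iff _).mp pB_nondeg)
    (by rw [plusForm_coe]; exact hasType_plus d)
  rw [Nat.card_eq_fintype_card] at h1
  have hpos : 1 ≤ Fintype.card F ^ d := Nat.one_le_pow _ _ Fintype.card_pos
  have : ((fc (⇑(plusForm d F)) 1 * Fintype.card F : ℕ) : ℤ) =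
      ((Fintype.card F ^ d * (Fintype.card F ^ d - 1) : ℕ) : ℤ) := by
    push_cast [Nat.cast_sub hpos]
    exact h1
  exact_mod_cast this

theorem eight_dvd_fc_plus_iff {q : ℕ} (hq : Fintype.card F = q) (hodd : Odd q) (hd : 1 ≤ d) :
    8 ∣ fc (⇑(plusForm d F)) 1 ↔ (Even d ∨ q % 8 = 1) := by
  have h1 := fc_plus_mul (F := F) hd
  rw [hq] at h1
  have hcop : Nat.Coprime 8 q := by
    have : Nat.Coprime 2 q := (Nat.coprime_two_left).mpr hodd
    exact Nat.Coprime.pow_left 3 this
  have hpos : 1 ≤ q ^ d := Nat.one_le_pow _ _ (by rw [← hq]; exact Fintype.card_pos)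
  have hmod := pow_mod_eight hodd d
  have key : 8 ∣ fc (⇑(plusForm d F)) 1 ↔ 8 ∣ q ^ d - 1 := by
    constructor
    · intro h
      have h3 : 8 ∣ q ^ d * (q ^ d - 1) := by rw [← h1]; exact Dvd.dvd.mul_right h _
      exact (Nat.Coprime.pow_right d hcop).dvd_of_dvd_mul_left h3
    · intro h
      have h3 : 8 ∣ fc (⇑(plusForm d F)) 1 * q := by rw [h1]; exact Dvd.dvd.mul_left h _
      exact hcop.dvd_of_dvd_mul_right h3
  rw [key]
  by_cases hde : Even d
  · rw [if_pos hde] at hmod
    constructor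
    · intro _; left; exact hde
    · intro _; omega
  · rw [if_neg hde] at hmod
    constructor
    · intro h; right; omega
    · rintro (h | h)
      · exact absurd h hde
      · omega

/-- elements of `Ω⁺` with square `-1` exist iff `d` is even or `q ≡ 1 mod 8` -/
theorem exists_plus_Omega_sq_neg_iff (h2 : (2 : F) ≠ 0) {q : ℕ} (hq : Fintype.card F = q)
    (hodd : Odd q) (hd : 1 ≤ d) :
    (∃ g : ↥(Cfsg.isometryGroup F ⇑(plusForm d F)), g ∈ Cfsg.Omega F ⇑(plusForm d F) ∧
      ∀ v : Fin d ⊕ Fin d → F, (g.1 : Matrix (Fin d ⊕ Fin d) (Fin d ⊕ Fin d) F) *ᵥ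
        ((g.1 : Matrix (Fin d ⊕ Fin d) (Fin d ⊕ Fin d) F) *ᵥ v) = -v) ↔
      (Even d ∨ q % 8 = 1) := by
  constructor
  · rintro ⟨g, hgΩ, hg⟩
    obtain ⟨-, h3⟩ := mem_Omega_iff_of_sq_neg (plusForm d F) h2 pB_nondeg card_plus g hg
    exact (eight_dvd_fc_plus_iff hq hodd hd).mp (h3.mp hgΩ)
  · intro hcase
    have hcase' : Even d ∨ IsSquare (-1 : F) := by
      rcases hcase with h | h
      · exact Or.inl h
      · right
        rw [FiniteField.isSquare_neg_one_iff, hq]
        omega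
    obtain ⟨g, hg⟩ := exists_plus_sq_neg (F := F) hcase'
    obtain ⟨-, h3⟩ := mem_Omega_iff_of_sq_neg (plusForm d F) h2 pB_nondeg card_plus g hg
    exact ⟨g, h3.mpr ((eight_dvd_fc_plus_iff hq hodd hd).mpr hcase), hg⟩

end plusgroup

end Cfsg.Agent.Helper94.Tp
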