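import Mathlib
import Cfsg.Agent.Helper94.TiG
import Cfsg.Agent.Helper94.TiH

set_option autoImplicit false
set_option linter.unusedSectionVars false
set_option linter.style.haveILetI false

/-!
# Elements of odd prime order `r ≠ p` of `Sp_{2d}(q)` and totally isotropic `m`-spaces
-/

namespace Cfsg.Agent.Helper94.Ti

open Module Polynomial Matrix
open Cfsg Cfsg.Geo
open Cfsg.Agent.Helper13 Cfsg.Agent.S0776
open Cfsg.Agent.Helper59.InvChain Cfsg.Agent.Helper59.Elusive
open Cfsg.Agent.Helper99.RDecomp Cfsg.Agent.Helper99.SpStruct Cfsg.Agent.Helper99.SpElt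
open Cfsg.Agent.Helper99.SpMain

universe u

variable {F : Type u} [Field F] {d : ℕ}

theorem orth_self_iff_stmt {W : Submodule F (Fin d ⊕ Fin d → F)} :
    Orth (omega d F) W W ↔ ∀ u ∈ W, ∀ v ∈ W, Cfsg.sympForm d F u v = 0 :=
  orth_iff_stmt

variable [Fintype F] {p : ℕ} [Fact p.Prime] [CharP F p]

/-- the matrix-level hypothesis for elements with `x ^ r = 1` -/
def TiProp (F : Type u) [Field F] (d m r : ℕ) : Prop :=
  ∀ x : ↥(Matrix.symplecticGroup (Fin d) F), x ^ r = 1 → x ≠ 1 →
    ∃ W : Submodule F (Fin d ⊕ Fin d → F), finrank F ↥W = m ∧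
      (∀ u ∈ W, ∀ v ∈ W, Cfsg.sympForm d F u v = 0) ∧
      W.map (Matrix.toLin' (x : Matrix (Fin d ⊕ Fin d) (Fin d ⊕ Fin d) F)) ≤ W

/-- (⇐) for odd `r ≠ p` -/
theorem ti_of_cond (r : ℕ) [Fact r.Prime] (hrp : r ≠ p) (hr2 : r ≠ 2)
    (y : Module.End F (Fin d ⊕ Fin d → F))
    (hiso : ∀ u v, Cfsg.sympForm d F (y u) (y v) = Cfsg.sympForm d F u v) (hy : y ^ r = 1)
    (m : ℕ) (hmd : m ≤ d)
    (h2l : 2 * (m % orderOf ((Fintype.card F : ℕ) : ZMod r)) ≤
      (2 * d) % blockSize (orderOf ((Fintype.card F : ℕ) : ZMod r)))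
    (hcond : Odd (orderOf ((Fintype.card F : ℕ) : ZMod r)) ∨
      (r - 1) / orderOf ((Fintype.card F : ℕ) : ZMod r) +
        2 * (m / orderOf ((Fintype.card F : ℕ) : ZMod r)) ≤
        (2 * d) / orderOf ((Fintype.card F : ℕ) : ZMod r)) :
    ∃ W : Submodule F (Fin d ⊕ Fin d → F), finrank F ↥W = m ∧
      (∀ u ∈ W, ∀ v ∈ W, Cfsg.sympForm d F u v = 0) ∧ Inv y W := by
  have hr : r.Prime := Fact.out
  have hodd : Odd r := hr.odd_of_ne_two hr2
  have h := spSetup_of r hrp y hiso hy
  obtain ⟨W, hW1, hW2, hW3⟩ := exists_ti_inv_of_cond h hodd (orderOf_card_dvd (F := F) r hrp) m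
    (by rw [finrank_space]; omega) (by rw [finrank_space]; exact h2l)
    (by
      rw [finrank_space]
      rcases hcond with hc | hc
      · exact Or.inl (Nat.not_even_iff_odd.mpr hc)
      · exact Or.inr hc)
  exact ⟨W, hW1, orth_self_iff_stmt.mp hW2, hW3⟩

theorem ne_one_of_fix_lt (x : ↥(Matrix.symplecticGroup (Fin d) F))
    (hlt : finrank F ↥(fixSp (Matrix.toLin' (x : Matrix (Fin d ⊕ Fin d) (Fin d ⊕ Fin d) F))) <
      2 * d) : x ≠ 1 := by
  rintro rfl
  have : fixSp (Matrix.toLin' ((1 : ↥(Matrix.symplecticGroup (Fin d) F)) :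
      Matrix (Fin d ⊕ Fin d) (Fin d ⊕ Fin d) F)) = ⊤ := by
    rw [eq_top_iff]
    intro v _
    rw [mem_fixSp]
    show Matrix.toLin' (1 : Matrix (Fin d ⊕ Fin d) (Fin d ⊕ Fin d) F) v = v
    rw [Matrix.toLin'_one]
    rfl
  rw [this, finrank_top, finrank_space] at hlt
  exact lt_irrefl _ hlt

/-- (⇒) for odd `r ≠ p` -/
theorem cond_of_tiProp (r : ℕ) [Fact r.Prime] (hrp : r ≠ p) (hr2 : r ≠ 2) {m : ℕ}
    (hm : 1 ≤ m) (hmd : m ≤ d) (H : TiProp F d m r)
    (hΩ : r ∣ Nat.card {W : Submodule F (Fin d ⊕ Fin d → F) // finrank F ↥W = m ∧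
      (∀ u ∈ W, ∀ v ∈ W, Cfsg.sympForm d F u v = 0)}) :
    orderOf ((Fintype.card F : ℕ) : ZMod r) ≤ m ∧
      2 * (m % orderOf ((Fintype.card F : ℕ) : ZMod r)) ≤
        (2 * d) % blockSize (orderOf ((Fintype.card F : ℕ) : ZMod r)) ∧
      (Odd (orderOf ((Fintype.card F : ℕ) : ZMod r)) ∨
        (r - 1) / orderOf ((Fintype.card F : ℕ) : ZMod r) +
          2 * (m / orderOf ((Fintype.card F : ℕ) : ZMod r)) ≤
          (2 * d) / orderOf ((Fintype.card F : ℕ) : ZMod r)) := by
  have hr : r.Prime := Fact.out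
  set i := orderOf ((Fintype.card F : ℕ) : ZMod r) with hidef
  set c := blockSize i with hcdef
  have hipos : 0 < i := orderOf_card_pos r hrp
  have hcpos : 0 < c := blockSize_pos hipos
  have hir : i ∣ r - 1 := orderOf_card_dvd (F := F) r hrp
  have hci : c ≤ 2 * i := by
    by_cases hi : Even i
    · rw [hcdef, blockSize_even hi]; omega
    · rw [hcdef, blockSize_odd hi]
  -- the test element with as many blocks as possible
  have hmax : c ≤ 2 * d → ∃ x : ↥(Matrix.symplecticGroup (Fin d) F), x ^ r = 1 ∧ x ≠ 1 ∧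
      finrank F ↥(fixSp (Matrix.toLin' (x : Matrix (Fin d ⊕ Fin d) (Fin d ⊕ Fin d) F))) =
        (2 * d) % c := by
    intro hc2d
    obtain ⟨x, hxr, hfix⟩ := exists_sp_elt (F := F) d r hrp (2 * d / c)
      (Nat.div_pos hc2d hcpos) (Nat.div_mul_le_self _ _)
    rw [← hidef, ← hcdef, Cfsg.Agent.Helper99.RMain.sub_div_mul] at hfix
    have hmodlt : (2 * d) % c < c := Nat.mod_lt _ hcpos
    exact ⟨x, hxr, ne_one_of_fix_lt x (by rw [hfix]; omega), hfix⟩
  -- consequences of `H` for a test element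
  have huse : ∀ x : ↥(Matrix.symplecticGroup (Fin d) F), x ^ r = 1 → x ≠ 1 →
      ∃ W : Submodule F (Fin d ⊕ Fin d → F), finrank F ↥W = m ∧ Orth (omega d F) W W ∧
        Inv (Matrix.toLin' (x : Matrix (Fin d ⊕ Fin d) (Fin d ⊕ Fin d) F)) W ∧
        SpSetup (omega d F) r (Matrix.toLin' (x : Matrix (Fin d ⊕ Fin d) (Fin d ⊕ Fin d) F))
          i := by
    intro x hxr hx1
    obtain ⟨W, hW1, hW2, hW3⟩ := H x hxr hx1
    exact ⟨W, hW1, orth_self_iff_stmt.mpr hW2, hW3,
      spSetup_of r hrp _ (toLin_isom x) (toLin_pow_eq_one x hxr)⟩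
  -- step 1
  have h1 : i ≤ m := by
    by_contra hcon
    push Not at hcon
    have hΩ' : r ∣ Nat.card {W : Submodule F (Fin d ⊕ Fin d → F) // finrank F ↥W = m ∧
        IsTi (omega d F) W} := by
      have e : {W : Submodule F (Fin d ⊕ Fin d → F) // finrank F ↥W = m ∧
          IsTi (omega d F) W} ≃ {W : Submodule F (Fin d ⊕ Fin d → F) // finrank F ↥W = m ∧
          (∀ u ∈ W, ∀ v ∈ W, Cfsg.sympForm d F u v = 0)} :=
        Equiv.subtypeEquivRight (fun W => by
          unfold IsTi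
          simp only [omega_apply])
      rw [Nat.card_congr e]
      exact hΩ
    obtain ⟨k, hkm, hk⟩ := exists_dvd_of_dvd_card_ti (omega d F) (omega_isAlt d)
      (omega_nondegenerate d) m (by rw [finrank_space]; omega) r hr hΩ'
    rw [finrank_space] at hk
    have hidvd : i ∣ 2 * d - 2 * k := by
      rw [hidef, orderOf_dvd_iff_pow_eq_one]
      have hpos : 1 ≤ Fintype.card F ^ (2 * d - 2 * k) := Nat.one_le_pow _ _ Fintype.card_pos
      have h2 := (ZMod.natCast_eq_zero_iff _ r).mpr hk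
      rw [Nat.cast_sub hpos, Nat.cast_pow, Nat.cast_one, sub_eq_zero] at h2
      exact h2
    have hcdvd : c ∣ 2 * d - 2 * k := by
      by_cases hi : Even i
      · rw [hcdef, blockSize_even hi]; exact hidvd
      · rw [hcdef, blockSize_odd hi]
        have hcop : Nat.Coprime 2 i := by
          rw [Nat.coprime_two_left]
          exact Nat.not_even_iff_odd.mp hi
        have h2 : 2 ∣ 2 * d - 2 * k := ⟨d - k, by omega⟩
        exact hcop.mul_dvd_of_dvd_of_dvd h2 hidvd
    have hpos : 0 < 2 * d - 2 * k := by omega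
    have hc2d : c ≤ 2 * d := (Nat.le_of_dvd hpos hcdvd).trans (Nat.sub_le _ _)
    obtain ⟨x, hxr, hx1, hfix⟩ := hmax hc2d
    obtain ⟨W, hW1, hW2, hW3, hset⟩ := huse x hxr hx1
    have h3 := two_mul_le_fix_of_lt hset hW3 hW2 (by rw [hW1]; exact hcon)
    rw [hW1, hfix] at h3
    have hmod : (2 * k) % c = (2 * d) % c :=
      (Nat.modEq_iff_dvd' (by omega : 2 * k ≤ 2 * d)).mpr hcdvd
    have hlt : (2 * d) % c < c := Nat.mod_lt _ hcpos
    rw [Nat.mod_eq_of_lt (by omega)] at hmod
    omega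
  have hc2d : c ≤ 2 * d := by omega
  refine ⟨h1, ?_, ?_⟩
  · -- step 2
    by_contra hcon
    push Not at hcon
    obtain ⟨x, hxr, hx1, hfix⟩ := hmax hc2d
    obtain ⟨W, hW1, hW2, hW3, hset⟩ := huse x hxr hx1
    exact no_ti_of_mod hset hW3 hW2 (by rw [hW1, hfix]; exact hcon)
  · -- step 3
    by_cases hi : Even i
    · right
      by_contra hcon
      push Not at hcon
      set t := (r - 1) / i with ht
      set n' := (2 * d) / i with hn'
      have hti : t * i = r - 1 := Nat.div_mul_cancel hir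
      have hr3 : 2 ≤ r := hr.two_le
      have htpos : 0 < t := by
        rcases Nat.eq_zero_or_pos t with h0 | h0
        · rw [h0, zero_mul] at hti; omega
        · exact h0
      have hn'i : n' * i ≤ 2 * d := Nat.div_mul_le_self _ _
      have hn'pos : 0 < n' := Nat.div_pos (by omega) hipos
      set u := min t n' with hu
      have hupos : 0 < u := lt_min htpos hn'pos
      have hut : u * i ≤ r - 1 := by
        rw [← hti]; exact Nat.mul_le_mul_right i (min_le_left _ _)
      have hud : u * i ≤ 2 * d := (Nat.mul_le_mul_right i (min_le_right _ _)).trans hn'i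
      obtain ⟨x, hxr, hfix0, hker⟩ := exists_sp_elt_aniso (F := F) d r hrp hi u hupos hut hud
      have hfix : finrank F ↥(fixSp (Matrix.toLin'
          (x : Matrix (Fin d ⊕ Fin d) (Fin d ⊕ Fin d) F))) = 2 * d - u * i := hfix0
      have hui : 0 < u * i := Nat.mul_pos hupos hipos
      have hx1 : x ≠ 1 := ne_one_of_fix_lt x (by rw [hfix]; omega)
      obtain ⟨W, hW1, hW2, hW3, hset⟩ := huse x hxr hx1
      have h3 := two_mul_le_fix_of_aniso hset (aniso_of_ker_le hset hi hker) hW3 hW2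
      rw [hW1, hfix] at h3
      -- arithmetic
      set m' := m / i with hm'
      have hmdiv : i * m' + m % i = m := Nat.div_add_mod m i
      have hddiv : i * n' + (2 * d) % i = 2 * d := Nat.div_add_mod (2 * d) i
      have hkk : (2 * d) % i < i := Nat.mod_lt _ hipos
      rcases le_total t n' with hle | hle
      · have hueq : u = t := min_eq_left hle
        rw [hueq] at h3
        -- 2m + t i ≤ 2d
        have h4 : (2 * m' + t) * i < (n' + 1) * i := by
          have e1 : (2 * m' + t) * i = 2 * (i * m') + t * i := by ring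
          have e2 : (n' + 1) * i = i * n' + i := by ring
          omega
        have h5 : 2 * m' + t < n' + 1 := lt_of_mul_lt_mul_right h4 (Nat.zero_le i)
        omega
      · have hueq : u = n' := min_eq_right hle
        rw [hueq] at h3
        have e2 : n' * i = i * n' := mul_comm _ _
        omega
    · left
      exact Nat.not_even_iff_odd.mp hi

end Cfsg.Agent.Helper94.Ti
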