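import Mathlib
import Cfsg.Agent.Helper45.OrForm

set_option autoImplicit false
set_option linter.unusedSectionVars false
set_option linter.unusedVariables false
set_option linter.unusedSimpArgs false
set_option linter.style.haveILetI false

/-!
# Existence of singular vectors in general position (quadratic forms over a finite field)
-/

namespace Cfsg.Agent.Helper94.SubO

open Cfsg Cfsg.Geo Module QuadraticMap Cfsg.Agent.Helper45.OrInSL

variable {K : Type*} [Field K] [Fintype K] {n : ℕ}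
variable {Q : (Fin n → K) → K} (hQ : IsNondegenerateQuadraticForm Q)

include hQ

theorem perp_bot_eq_top : perp hQ (⊥ : Submodule K (Fin n → K)) = ⊤ := by
  rw [eq_top_iff]
  intro x _
  rw [mem_perp]
  intro s hs
  rw [Submodule.mem_bot] at hs
  rw [hs, b_zero_right hQ]

/-- a non-zero singular vector orthogonal to four given vectors -/
theorem exists_sing_perp4 (h2 : (2 : K) ≠ 0) (hn : 7 ≤ n) (a b c d : Fin n → K) :
    ∃ u, u ≠ 0 ∧ Q u = 0 ∧ polar Q u a = 0 ∧ polar Q u b = 0 ∧ polar Q u c = 0 ∧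
      polar Q u d = 0 := by
  obtain ⟨S, hS⟩ : ∃ S : Submodule K (Fin n → K), S = Submodule.span K {a, b, c, d} := ⟨_, rfl⟩
  have hdim : finrank K S ≤ 4 := by
    rw [hS, Submodule.span_insert, sup_comm]
    have h1 := finrank_sup_span_singleton_le (Submodule.span K {b, c, d}) a
    have h3 := finrank_span_triple_le b c d
    omega
  have hperp := finrank_perp hQ S
  obtain ⟨u, hu, hu0, huu⟩ := exists_singular_of_finrank hQ h2 (perp hQ S) (by omega)
  rw [hS, mem_perp_span] at hu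
  exact ⟨u, hu0, huu, hu a (by simp), hu b (by simp), hu c (by simp), hu d (by simp)⟩

/-- a non-singular vector orthogonal to a given vector -/
theorem exists_nonsing_perp (hn : 3 ≤ n) (u : Fin n → K) :
    ∃ s, polar Q s u = 0 ∧ Q s ≠ 0 := by
  have hperp := finrank_perp hQ (Submodule.span K {u})
  have h1 := finrank_span_singleton_le_one u
  obtain ⟨s, hs, hss⟩ := exists_nonsingular_of_finrank hQ (perp hQ (Submodule.span K {u}))
    (by omega)
  exact ⟨s, (mem_perp_singleton hQ).1 hs, hss⟩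

/-- a singular vector not orthogonal to a given non-zero vector -/
theorem exists_sing_ne (h2 : (2 : K) ≠ 0) (hn : 7 ≤ n) {a : Fin n → K} (ha : a ≠ 0) :
    ∃ v, Q v = 0 ∧ polar Q v a ≠ 0 := by
  have hbot : finrank K (⊥ : Submodule K (Fin n → K)) = 0 := finrank_bot K (Fin n → K)
  obtain ⟨v, -, hv, hva⟩ := exists_singular hQ h2 (⊥ : Submodule K (Fin n → K)) (by omega)
    (w₀ := a) (by rw [Submodule.mem_bot]; exact ha)
  exact ⟨v, hv, hva⟩

/-- a singular vector not orthogonal to two given non-zero vectors -/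
theorem exists_sing_ne_both (h2 : (2 : K) ≠ 0) (hn : 9 ≤ n) {a b : Fin n → K} (ha : a ≠ 0)
    (hb : b ≠ 0) : ∃ v, Q v = 0 ∧ polar Q v a ≠ 0 ∧ polar Q v b ≠ 0 := by
  obtain ⟨v₀, hv₀, hv₀a⟩ := exists_sing_ne hQ h2 (by omega) ha
  obtain ⟨v₁, hv₁, hv₁b⟩ := exists_sing_ne hQ h2 (by omega) hb
  by_cases h1 : polar Q v₀ b = 0
  swap
  · exact ⟨v₀, hv₀, hv₀a, h1⟩
  by_cases h3 : polar Q v₁ a = 0
  swap
  · exact ⟨v₁, hv₁, h3, hv₁b⟩
  by_cases h4 : polar Q v₀ v₁ = 0
  · refine ⟨v₀ + v₁, ?_, ?_, ?_⟩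
    · rw [Q_add Q, hv₀, hv₁, h4]; ring
    · rw [b_add_left hQ, h3, add_zero]; exact hv₀a
    · rw [b_add_left hQ, h1, zero_add]; exact hv₁b
  obtain ⟨S, hS⟩ : ∃ S : Submodule K (Fin n → K), S = Submodule.span K {v₀, v₁, a, b} := ⟨_, rfl⟩
  have hdim : finrank K S ≤ 4 := by
    rw [hS, Submodule.span_insert, sup_comm]
    have h5 := finrank_sup_span_singleton_le (Submodule.span K {v₁, a, b}) v₀
    have h6 := finrank_span_triple_le v₁ a b
    omega
  have hperp := finrank_perp hQ S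
  obtain ⟨w, hw, hww⟩ := exists_nonsingular_of_finrank hQ (perp hQ S) (by omega)
  rw [hS, mem_perp_span] at hw
  have hw0 : polar Q w v₀ = 0 := hw v₀ (by simp)
  have hw1 : polar Q w v₁ = 0 := hw v₁ (by simp)
  have hwa : polar Q w a = 0 := hw a (by simp)
  have hwb : polar Q w b = 0 := hw b (by simp)
  obtain ⟨κ, hκ⟩ : ∃ κ : K, κ = -(Q w) / polar Q v₀ v₁ := ⟨_, rfl⟩
  have hκ0 : κ ≠ 0 := by
    rw [hκ]
    exact div_ne_zero (neg_ne_zero.2 hww) h4
  have hκ1 : κ * polar Q v₀ v₁ = -(Q w) := by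
    rw [hκ, div_mul_cancel₀ _ h4]
  refine ⟨v₀ + κ • v₁ + w, ?_, ?_, ?_⟩
  · rw [Q_add Q, Q_add Q, Q_smul hQ, hv₀, hv₁, b_smul_right hQ, b_add_left hQ, b_smul_left hQ,
      b_comm v₀ w, hw0, b_comm v₁ w, hw1]
    linear_combination hκ1
  · rw [b_add_left hQ, b_add_left hQ, b_smul_left hQ, h3, hwa]
    simpa using hv₀a
  · rw [b_add_left hQ, b_add_left hQ, b_smul_left hQ, h1, hwb]
    simpa using mul_ne_zero hκ0 hv₁b

/-- the singular vectors span the space -/
theorem top_le_of_sing (h2 : (2 : K) ≠ 0) (hn : 9 ≤ n) (W : Submodule K (Fin n → K))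
    (h : ∀ y, Q y = 0 → y ∈ W) : ∀ x : Fin n → K, x ∈ W := by
  have hbot : finrank K (⊥ : Submodule K (Fin n → K)) = 0 := finrank_bot K (Fin n → K)
  have h1 := perp_le_of_singular hQ h2 (⊥ : Submodule K (Fin n → K)) (by omega) W
    (fun y _ hy _ => h y hy)
  rw [perp_bot_eq_top hQ] at h1
  intro x
  exact h1 Submodule.mem_top

/-- a hyperbolic partner -/
theorem exists_hyp (h2 : (2 : K) ≠ 0) (hn : 7 ≤ n) {u : Fin n → K} (hu0 : u ≠ 0) :
    ∃ u', Q u' = 0 ∧ polar Q u u' = 1 := by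
  obtain ⟨v, hv, hvu⟩ := exists_sing_ne hQ h2 hn hu0
  refine ⟨(polar Q v u)⁻¹ • v, ?_, ?_⟩
  · rw [Q_smul hQ, hv, mul_zero]
  · rw [b_smul_right hQ, b_comm u v, inv_mul_cancel₀ hvu]

/-- a singular vector orthogonal to `b` but not to `a` -/
theorem exists_sing_perp_ne (h2 : (2 : K) ≠ 0) (hn : 9 ≤ n) {a b : Fin n → K}
    (h : a ∉ Submodule.span K {b}) : ∃ v, Q v = 0 ∧ polar Q v a ≠ 0 ∧ polar Q v b = 0 := by
  have h1 := finrank_span_singleton_le_one b
  obtain ⟨v, hvS, hv, hva⟩ := exists_singular hQ h2 (Submodule.span K {b}) (by omega) h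
  exact ⟨v, hv, hva, (mem_perp_singleton hQ).1 hvS⟩

end Cfsg.Agent.Helper94.SubO
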