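import Mathlib
import Cfsg.Agent.Helper94.SubO2
import Cfsg.Agent.Helper94.ORootG

set_option autoImplicit false
set_option linter.unusedSectionVars false
set_option linter.unusedVariables false
set_option linter.unusedSimpArgs false
set_option linter.style.haveILetI false

/-!
# Rational structures on `ι → F` (general index type)

The `F₀`-structure spanned by the columns of `P` is parametrised by `emb : (Fin n → F₀) → (ι → F)`;
membership in the subfield group in terms of `emb`.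
-/

namespace Cfsg.Agent.Helper94.SubW

open Matrix Cfsg Cfsg.Geo

variable {ι : Type} [Fintype ι] [DecidableEq ι] {F : Type*} [Field F] {n : ℕ}

/-- the embedding of `F₀ ^ n` onto the rational structure -/
def emb (F₀ : Subfield F) (P : GL ι F) (e : ι ≃ Fin n) (x : Fin n → F₀) : ι → F :=
  (P : Matrix ι ι F) *ᵥ (fun i => (x (e i) : F))

section Emb

variable {F₀ : Subfield F} {P : GL ι F} {e : ι ≃ Fin n}

theorem P_injective {x y : ι → F} (h : (P : Matrix ι ι F) *ᵥ x = (P : Matrix ι ι F) *ᵥ y) :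
    x = y := by
  have := congrArg (fun w => ((P⁻¹ : GL ι F) : Matrix ι ι F) *ᵥ w) h
  simp only [Matrix.mulVec_mulVec] at this
  rwa [← Units.val_mul, inv_mul_cancel, Units.val_one, Matrix.one_mulVec, Matrix.one_mulVec]
    at this

theorem emb_add (x y : Fin n → F₀) : emb F₀ P e (x + y) = emb F₀ P e x + emb F₀ P e y := by
  unfold emb
  rw [← Matrix.mulVec_add]
  congr 1

theorem emb_smul (c : F₀) (x : Fin n → F₀) : emb F₀ P e (c • x) = (c : F) • emb F₀ P e x := by
  unfold emb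
  rw [← Matrix.mulVec_smul]
  congr 1

theorem emb_zero : emb F₀ P e 0 = 0 := by
  unfold emb
  have : (fun i => (((0 : Fin n → F₀) (e i) : F₀) : F)) = 0 := by
    funext i; simp
  rw [this, Matrix.mulVec_zero]

theorem emb_neg (x : Fin n → F₀) : emb F₀ P e (-x) = -emb F₀ P e x := by
  have h := emb_smul (P := P) (e := e) (-1 : F₀) x
  rw [neg_one_smul] at h
  rw [h]
  simp

theorem emb_sub (x y : Fin n → F₀) : emb F₀ P e (x - y) = emb F₀ P e x - emb F₀ P e y := by
  rw [sub_eq_add_neg, emb_add, emb_neg, ← sub_eq_add_neg]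

theorem emb_injective {x y : Fin n → F₀} (h : emb F₀ P e x = emb F₀ P e y) : x = y := by
  have h1 := P_injective (P := P) h
  funext j
  have h2 := congrFun h1 (e.symm j)
  simp only [Equiv.apply_symm_apply] at h2
  exact Subtype.ext h2

theorem emb_ne_zero {x : Fin n → F₀} (hx : x ≠ 0) : emb F₀ P e x ≠ 0 := by
  intro h
  apply hx
  apply emb_injective (P := P) (e := e)
  rw [h, emb_zero]

theorem emb_eq_zero_iff {x : Fin n → F₀} : emb F₀ P e x = 0 ↔ x = 0 := by
  constructor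
  · intro h
    by_contra hx
    exact emb_ne_zero hx h
  · rintro rfl
    exact emb_zero

/-- rational coordinate vectors are in the image of `emb` -/
theorem exists_emb_of_rat (u : ι → F) (hu : ∀ i, u i ∈ F₀) :
    ∃ x, emb F₀ P e x = (P : Matrix ι ι F) *ᵥ u := by
  refine ⟨fun j => ⟨u (e.symm j), hu _⟩, ?_⟩
  unfold emb
  congr 1
  funext i
  simp

/-- the coordinates of `emb x` -/
theorem emb_eq (x : Fin n → F₀) :
    emb F₀ P e x = (P : Matrix ι ι F) *ᵥ (fun i => (x (e i) : F)) := rfl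

theorem emb_rat (x : Fin n → F₀) (i : ι) : (fun i => (x (e i) : F)) i ∈ F₀ := (x (e i)).2

/-- every vector is an `F`-combination of rational vectors -/
theorem emb_span_induction (C : (ι → F) → Prop) (hadd : ∀ v w, C v → C w → C (v + w))
    (hsmul : ∀ (c : F) v, C v → C (c • v)) (hemb : ∀ x : Fin n → F₀, C (emb F₀ P e x)) :
    ∀ v, C v := by
  intro v
  have h0 : C 0 := by
    have := hsmul 0 _ (hemb 0)
    rwa [zero_smul] at this
  obtain ⟨u, hu⟩ : ∃ u, u = ((P⁻¹ : GL ι F) : Matrix ι ι F) *ᵥ v := ⟨_, rfl⟩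
  have hv : v = (P : Matrix ι ι F) *ᵥ u := by
    rw [hu, Matrix.mulVec_mulVec, ← Units.val_mul, mul_inv_cancel, Units.val_one,
      Matrix.one_mulVec]
  have hsum : (P : Matrix ι ι F) *ᵥ u
      = ∑ j, u j • ((P : Matrix ι ι F) *ᵥ (Pi.single j (1 : F))) := by
    have h1 : u = ∑ j, u j • (Pi.single j (1 : F) : ι → F) := by
      funext i
      simp [Finset.sum_apply, Pi.single_apply]
    conv_lhs => rw [h1]
    rw [Matrix.mulVec_sum]
    apply Finset.sum_congr rfl
    intro j _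
    rw [Matrix.mulVec_smul]
  rw [hv, hsum]
  apply Finset.sum_induction _ C hadd h0
  intro j _
  apply hsmul
  obtain ⟨x, hx⟩ := exists_emb_of_rat (F₀ := F₀) (P := P) (e := e) (Pi.single j (1 : F)) (by
    intro i
    by_cases h : i = j
    · subst h; rw [Pi.single_eq_same]; exact F₀.one_mem
    · rw [Pi.single_eq_of_ne h]; exact F₀.zero_mem)
  rw [← hx]
  exact hemb x

/-- the scalar relating two rational vectors is rational -/
theorem scalar_mem {x y : Fin n → F₀} (hx : x ≠ 0) {lam : F}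
    (h : emb F₀ P e x = lam • emb F₀ P e y) : lam ∈ F₀ := by
  have h1 : (fun i => (x (e i) : F)) = lam • (fun i => (y (e i) : F)) := by
    apply P_injective (P := P)
    rw [Matrix.mulVec_smul]
    exact h
  obtain ⟨j, hj⟩ : ∃ j, x j ≠ 0 := by
    by_contra hcon
    push Not at hcon
    exact hx (funext hcon)
  have h2 := congrFun h1 (e.symm j)
  simp only [Equiv.apply_symm_apply, Pi.smul_apply, smul_eq_mul] at h2
  have hxj : (x j : F) ≠ 0 := by
    intro h0
    apply hj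
    exact Subtype.ext h0
  have hyj : (y j : F) ≠ 0 := by
    intro h0
    rw [h0, mul_zero] at h2
    exact hxj h2
  have h3 : lam = (x j : F) / (y j : F) := by
    rw [h2, mul_div_cancel_right₀ _ hyj]
  rw [h3]
  exact F₀.div_mem (x j).2 (y j).2

end Emb

/-- matrices whose entries, divided by a non-zero scalar, lie in the subfield give elements of the
subfield group -/
theorem mem_subfieldSubgroup_of_entries (F₀ : Subfield F) (P g : GL ι F) (lam : F)
    (hlam : lam ≠ 0)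
    (h : ∀ i j, ((P⁻¹ * g * P : GL ι F) : Matrix ι ι F) i j / lam ∈ F₀) :
    g ∈ Cfsg.Geo.subfieldSubgroup F₀ P := by
  obtain ⟨A, hA⟩ : ∃ A : GL ι F, A = P⁻¹ * g * P := ⟨_, rfl⟩
  rw [← hA] at h
  obtain ⟨M₀, hM₀⟩ : ∃ M₀ : Matrix ι ι F₀,
      M₀ = Matrix.of fun i j => (⟨(A : Matrix ι ι F) i j / lam, h i j⟩ : F₀) := ⟨_, rfl⟩
  have hmap : (F₀.subtype).mapMatrix M₀ = lam⁻¹ • (A : Matrix ι ι F) := by
    ext i j
    rw [hM₀]
    simp [div_eq_inv_mul]
  have hdet : M₀.det ≠ 0 := by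
    intro h0
    have h1 : ((F₀.subtype).mapMatrix M₀).det = 0 := by
      rw [← RingHom.map_det, h0, map_zero]
    rw [hmap, Matrix.det_smul] at h1
    have h2 : (A : Matrix ι ι F).det ≠ 0 := by
      have := (Matrix.GeneralLinearGroup.det A).ne_zero
      simpa using this
    rcases mul_eq_zero.mp h1 with h3 | h3
    · exact pow_ne_zero _ (inv_ne_zero hlam) h3
    · exact h2 h3
  obtain ⟨A₀, hA₀⟩ : ∃ A₀ : GL ι F₀, (A₀ : Matrix ι ι F₀) = M₀ :=
    ⟨Matrix.GeneralLinearGroup.mkOfDetNeZero M₀ hdet, rfl⟩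
  obtain ⟨sc, hsc⟩ : ∃ sc : GL ι F, sc ∈ Cfsg.Geo.scalars ι F ∧
      (sc : Matrix ι ι F) = lam • (1 : Matrix ι ι F) := by
    refine ⟨Units.map (Matrix.scalar ι : F →+* Matrix ι ι F).toMonoidHom
      (Units.mk0 lam hlam), ⟨_, rfl⟩, ?_⟩
    simp [Matrix.smul_one_eq_diagonal]
  have hx : Matrix.GeneralLinearGroup.map (F₀.subtype : F₀ →+* F) A₀ * sc = A := by
    apply Units.ext
    rw [Units.val_mul, hsc.2]
    have : ((Matrix.GeneralLinearGroup.map (F₀.subtype : F₀ →+* F) A₀ : GL ι F) :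
        Matrix ι ι F) = (F₀.subtype).mapMatrix (A₀ : Matrix ι ι F₀) := rfl
    rw [this, hA₀, hmap]
    rw [Matrix.smul_mul, Matrix.mul_smul, Matrix.mul_one, smul_smul, inv_mul_cancel₀ hlam,
      one_smul]
  unfold Cfsg.Geo.subfieldSubgroup
  rw [Subgroup.mem_map]
  refine ⟨A, ?_, ?_⟩
  · rw [← hx]
    exact Subgroup.mul_mem_sup ⟨A₀, rfl⟩ hsc.1
  · show P * A * P⁻¹ = g
    rw [hA]
    group

/-- elements of the subfield group map rational points to rational points -/
theorem rat_of_mem_subfieldSubgroup (F₀ : Subfield F) (P g : GL ι F)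
    (hg : g ∈ Cfsg.Geo.subfieldSubgroup F₀ P) :
    ∃ lam : F, lam ≠ 0 ∧ ∀ u : ι → F, (∀ i, u i ∈ F₀) → ∃ v : ι → F, (∀ i, v i ∈ F₀) ∧
      (g : Matrix ι ι F) *ᵥ ((P : Matrix ι ι F) *ᵥ u)
        = lam • ((P : Matrix ι ι F) *ᵥ v) := by
  unfold Cfsg.Geo.subfieldSubgroup at hg
  rw [Subgroup.mem_map] at hg
  obtain ⟨x, hx, hxg⟩ := hg
  rw [Subgroup.mem_sup_of_normal_right] at hx
  obtain ⟨y, ⟨A₀, rfl⟩, z, hz, rfl⟩ := hx
  rw [Cfsg.Geo.mem_scalars_iff] at hz
  obtain ⟨c, hc⟩ := hz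
  refine ⟨(c : F), c.ne_zero, ?_⟩
  intro u hu
  refine ⟨((Matrix.GeneralLinearGroup.map (F₀.subtype : F₀ →+* F) A₀ : GL ι F) :
      Matrix ι ι F) *ᵥ u, ?_, ?_⟩
  · intro i
    have : ((Matrix.GeneralLinearGroup.map (F₀.subtype : F₀ →+* F) A₀ : GL ι F) :
        Matrix ι ι F) = (F₀.subtype).mapMatrix (A₀ : Matrix ι ι F₀) := rfl
    rw [this]
    simp only [Matrix.mulVec, dotProduct]
    refine F₀.sum_mem fun j _ => F₀.mul_mem ?_ (hu j)
    simp
  · have hg' : (g : Matrix ι ι F) = (P : Matrix ι ι F)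
        * (((Matrix.GeneralLinearGroup.map (F₀.subtype : F₀ →+* F) A₀ : GL ι F) :
          Matrix ι ι F) * (z : Matrix ι ι F))
        * ((P⁻¹ : GL ι F) : Matrix ι ι F) := by
      rw [← hxg]
      rfl
    have e1 : ((P⁻¹ : GL ι F) : Matrix ι ι F) * (P : Matrix ι ι F)
        = 1 := by rw [← Units.val_mul, inv_mul_cancel, Units.val_one]
    rw [hg']
    simp only [← Matrix.mulVec_mulVec]
    rw [Matrix.mulVec_mulVec _ ((P⁻¹ : GL ι F) : Matrix ι ι F)
      (P : Matrix ι ι F), e1, Matrix.one_mulVec, hc, Matrix.smul_mulVec,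
      Matrix.one_mulVec, Matrix.mulVec_smul, Matrix.mulVec_smul]

section Mem

variable {F₀ : Subfield F} {P : GL ι F} {e : ι ≃ Fin n}

/-- membership in the subfield group through the rational structure -/
theorem mem_subfieldSubgroup_of_emb (g : GL ι F) (lam : F) (hlam : lam ≠ 0)
    (h : ∀ x : Fin n → F₀, ∃ y : Fin n → F₀,
      (g : Matrix ι ι F) *ᵥ emb F₀ P e x = lam • emb F₀ P e y) :
    g ∈ Cfsg.Geo.subfieldSubgroup F₀ P := by
  apply mem_subfieldSubgroup_of_entries F₀ P g lam hlam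
  intro i j
  obtain ⟨x, hx⟩ := exists_emb_of_rat (F₀ := F₀) (P := P) (e := e) (Pi.single j (1 : F)) (by
    intro i
    by_cases h : i = j
    · subst h; rw [Pi.single_eq_same]; exact F₀.one_mem
    · rw [Pi.single_eq_of_ne h]; exact F₀.zero_mem)
  obtain ⟨y, hy⟩ := h x
  rw [hx] at hy
  have h1 : ((P⁻¹ * g * P : GL ι F) : Matrix ι ι F) *ᵥ Pi.single j 1
      = lam • (fun i => (y (e i) : F)) := by
    rw [Units.val_mul, Units.val_mul, ← Matrix.mulVec_mulVec, ← Matrix.mulVec_mulVec, hy,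
      Matrix.mulVec_smul, emb_eq, Matrix.mulVec_mulVec, ← Units.val_mul, inv_mul_cancel,
      Units.val_one, Matrix.one_mulVec]
  have h2 := congrFun h1 i
  rw [Matrix.mulVec_single_one] at h2
  have h3 : ((P⁻¹ * g * P : GL ι F) : Matrix ι ι F) i j = lam * (y (e i) : F) := by
    simpa using h2
  rw [h3, mul_div_cancel_left₀ _ hlam]
  exact (y (e i)).2

/-- elements of the subfield group respect the rational structure up to a scalar -/
theorem emb_of_mem_subfieldSubgroup (g : GL ι F)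
    (hg : g ∈ Cfsg.Geo.subfieldSubgroup F₀ P) :
    ∃ lam : F, lam ≠ 0 ∧ ∀ x : Fin n → F₀, ∃ y : Fin n → F₀,
      (g : Matrix ι ι F) *ᵥ emb F₀ P e x = lam • emb F₀ P e y := by
  obtain ⟨lam, hlam, h⟩ := rat_of_mem_subfieldSubgroup F₀ P g hg
  refine ⟨lam, hlam, ?_⟩
  intro x
  obtain ⟨w, hw, hgw⟩ := h _ (emb_rat (e := e) x)
  obtain ⟨y, hy⟩ := exists_emb_of_rat (F₀ := F₀) (P := P) (e := e) w hw
  exact ⟨y, by rw [hy]; exact hgw⟩

end Mem

end Cfsg.Agent.Helper94.SubW
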