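import Mathlib
import Cfsg.Agent.Helper94.SubW1

set_option autoImplicit false
set_option linter.unusedSectionVars false
set_option linter.unusedVariables false
set_option linter.unusedSimpArgs false
set_option linter.style.haveILetI false

/-!
# The quadratic form induced on a rational structure
-/

namespace Cfsg.Agent.Helper94.SubW

open Matrix Cfsg Cfsg.Geo Cfsg.Agent.Helper94

variable {ι : Type} [Fintype ι] [DecidableEq ι] {F : Type*} [Field F] {n : ℕ}
variable {Q : (ι → F) → F}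

section Fixed

variable (hQ : IsNondegenerateQuadraticForm Q) (F₀ : Subfield F) {P : GL ι F} (e : ι ≃ Fin n)
  (hP : Cfsg.Geo.IsQuadFormRationalStructure Q F₀ P)

/-- the quadratic form on `F₀ ^ n` -/
def Qz (x : Fin n → F₀) : F₀ := ⟨Q (emb F₀ P e x), hP _ (emb_rat (e := e) x)⟩

theorem coe_Qz (x : Fin n → F₀) : ((Qz F₀ e hP x : F₀) : F) = Q (emb F₀ P e x) := rfl

theorem coe_polar_Qz (x y : Fin n → F₀) :
    ((QuadraticMap.polar (Qz F₀ e hP) x y : F₀) : F)
      = QuadraticMap.polar Q (emb F₀ P e x) (emb F₀ P e y) := by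
  unfold QuadraticMap.polar
  rw [Subfield.coe_sub, Subfield.coe_sub, coe_Qz, coe_Qz, coe_Qz, emb_add]

include hP in
theorem polar_emb_mem (x y : Fin n → F₀) :
    QuadraticMap.polar Q (emb F₀ P e x) (emb F₀ P e y) ∈ F₀ := by
  rw [← coe_polar_Qz F₀ e hP]
  exact (QuadraticMap.polar (Qz F₀ e hP) x y).2

include hP in
theorem Q_emb_mem (x : Fin n → F₀) : Q (emb F₀ P e x) ∈ F₀ := (Qz F₀ e hP x).2

include hQ in
/-- non-degeneracy is detected by rational vectors -/
theorem eq_zero_of_emb_perp {x : ι → F}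
    (h : ∀ y : Fin n → F₀, QuadraticMap.polar Q (emb F₀ P e y) x = 0) : x = 0 := by
  by_contra hx
  obtain ⟨⟨v, hv⟩, -⟩ := hQ.nondegenerate x hx
  have hall : ∀ v, QuadraticMap.polar Q v x = 0 := by
    apply emb_span_induction (F₀ := F₀) (P := P) (e := e)
    · intro v w hv hw
      rw [B_add_left hQ, hv, hw, add_zero]
    · intro c v hv
      rw [B_smul_left hQ, hv, mul_zero]
    · intro y
      exact h y
  exact hv (hall v)

include hQ in
theorem Qz_eq_zero_iff (x : Fin n → F₀) : Qz F₀ e hP x = 0 ↔ Q (emb F₀ P e x) = 0 := by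
  constructor
  · intro h
    rw [← coe_Qz F₀ e hP, h]
    rfl
  · intro h
    apply Subtype.ext
    rw [coe_Qz, h]
    rfl

include hQ in
theorem polar_Qz_eq_zero_iff (x y : Fin n → F₀) :
    QuadraticMap.polar (Qz F₀ e hP) x y = 0
      ↔ QuadraticMap.polar Q (emb F₀ P e x) (emb F₀ P e y) = 0 := by
  rw [← coe_polar_Qz F₀ e hP]
  constructor
  · intro h; rw [h]; rfl
  · intro h; exact Subtype.ext h

include hQ in
theorem nondeg_Qz : IsNondegenerateQuadraticForm (Qz F₀ e hP) := by
  refine ⟨?_, ⟨?_, ?_, ?_, ?_⟩, ?_⟩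
  · intro c v
    apply Subtype.ext
    rw [Subfield.coe_mul, coe_Qz, coe_Qz, emb_smul, Q_smul hQ, SubmonoidClass.coe_pow]
  · intro x y v
    apply Subtype.ext
    rw [Subfield.coe_add, coe_polar_Qz, coe_polar_Qz, coe_polar_Qz, emb_add, B_add_left hQ]
  · intro c x v
    apply Subtype.ext
    rw [Subfield.coe_mul, coe_polar_Qz, coe_polar_Qz, emb_smul, B_smul_left hQ]
  · intro v x y
    apply Subtype.ext
    rw [Subfield.coe_add, coe_polar_Qz, coe_polar_Qz, coe_polar_Qz, emb_add, B_add_right hQ]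
  · intro c v x
    apply Subtype.ext
    rw [Subfield.coe_mul, coe_polar_Qz, coe_polar_Qz, emb_smul, B_smul_right hQ]
  · intro v hv
    have h1 : ∃ x : Fin n → F₀, QuadraticMap.polar (Qz F₀ e hP) x v ≠ 0 := by
      by_contra hcon
      push Not at hcon
      apply emb_ne_zero (P := P) (e := e) hv
      apply eq_zero_of_emb_perp hQ F₀ e
      intro y
      exact (polar_Qz_eq_zero_iff hQ F₀ e hP y v).1 (hcon y)
    obtain ⟨x, hx⟩ := h1
    refine ⟨⟨x, hx⟩, ⟨x, ?_⟩⟩
    rwa [QuadraticMap.polar_comm]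

theorem two_mem (F₀ : Subfield F) : (2 : F) ∈ F₀ := by
  rw [← one_add_one_eq_two]
  exact F₀.add_mem F₀.one_mem F₀.one_mem

theorem two_ne_zero_sub (h2 : (2 : F) ≠ 0) : (2 : F₀) ≠ 0 := by
  intro h
  apply h2
  have h1 : ((1 : F₀) + 1 : F₀) = 0 := by rw [one_add_one_eq_two]; exact h
  have := congrArg (Subtype.val : F₀ → F) h1
  rw [Subfield.coe_add, Subfield.coe_one, one_add_one_eq_two] at this
  exact this

include hQ hP in
/-- a vector whose polar values against the rational structure are rational is rational -/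
theorem exists_emb_of_polar_mem [Finite F] {y : ι → F}
    (h : ∀ x : Fin n → F₀, QuadraticMap.polar Q y (emb F₀ P e x) ∈ F₀) :
    ∃ z : Fin n → F₀, y = emb F₀ P e z := by
  haveI : Fintype F₀ := Fintype.ofFinite F₀
  obtain ⟨φ, hφ⟩ : ∃ φ : Module.Dual F₀ (Fin n → F₀), ∀ x, ((φ x : F₀) : F)
      = QuadraticMap.polar Q y (emb F₀ P e x) := by
    refine ⟨{ toFun := fun x => ⟨QuadraticMap.polar Q y (emb F₀ P e x), h x⟩,
              map_add' := ?_, map_smul' := ?_ }, fun x => rfl⟩
    · intro x x'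
      apply Subtype.ext
      rw [Subfield.coe_add]
      show QuadraticMap.polar Q y (emb F₀ P e (x + x')) = _
      rw [emb_add, B_add_right hQ]
    · intro c x
      apply Subtype.ext
      show QuadraticMap.polar Q y (emb F₀ P e (c • x)) = _
      rw [emb_smul, B_smul_right hQ]
      rfl
  obtain ⟨w, hw⟩ := Cfsg.Agent.Helper45.OrInSL.exists_bd_eq (nondeg_Qz hQ F₀ e hP) φ
  refine ⟨w, ?_⟩
  have h1 : y - emb F₀ P e w = 0 := by
    apply eq_zero_of_emb_perp hQ F₀ e
    intro x
    rw [B_sub_right hQ, B_comm (emb F₀ P e x) y, ← hφ x, hw,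
      Cfsg.Agent.Helper45.OrInSL.bd_apply, coe_polar_Qz, sub_self]
  exact sub_eq_zero.mp h1

end Fixed

end Cfsg.Agent.Helper94.SubW
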