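import Mathlib
import Cfsg.Agent.Helper94.SubW2
import Cfsg.Agent.Helper45.TsMax2

set_option autoImplicit false
set_option linter.unusedSectionVars false
set_option linter.unusedVariables false
set_option linter.unusedSimpArgs false
set_option linter.style.haveILetI false

/-!
# Siegel elements, Eichler transformations and `Ω`; rational Siegel elements
-/

namespace Cfsg.Agent.Helper94.SubW

open Matrix Cfsg Cfsg.Geo Cfsg.Agent.Helper94 Cfsg.Agent.Helper94.ORoot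

variable {ι : Type} [Fintype ι] [DecidableEq ι] {F : Type*} [Field F] {n : ℕ}
variable (Qf : QuadraticForm F (ι → F)) (hQ : IsNondegenerateQuadraticForm ⇑Qf)

theorem act_eq_lin (g : ↥(isometryGroup F ⇑Qf)) (x : ι → F) :
    act g x = Cfsg.Agent.Helper45.OmegaParity.lin Qf g x := rfl

/-- Siegel elements are Eichler transformations -/
theorem sg_eq_eichlerO {u v : ι → F} (h : SP ⇑Qf u v) :
    sg hQ u v = Cfsg.Agent.Helper5.eichlerO Qf v u := by
  apply iso_ext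
  intro x
  have h1 : QuadraticMap.polar ⇑Qf v u = 0 := by rw [B_comm, h.2.2]
  rw [act_sg hQ h, act_eq_lin, Cfsg.Agent.Helper5.lin_eichlerO Qf h.2.1 h1, h.1, zero_mul,
    zero_smul, sub_zero]

include hQ in
theorem sg_mem_Omega [Fintype F] (hn : 5 ≤ Fintype.card ι) (u v : ι → F) :
    sg hQ u v ∈ Cfsg.Omega F ⇑Qf := by
  by_cases h : SP ⇑Qf u v
  · rw [sg_eq_eichlerO Qf hQ h]
    exact Cfsg.Agent.Helper44.eichlerO_mem_Omega Qf
      (Cfsg.Agent.Helper45.OmegaParity.nondeg_of_geo Qf hQ) hn v u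
  · unfold sg
    rw [dif_neg h]
    exact one_mem _

include hQ in
theorem tg_mem_Omega [Fintype F] (hn : 5 ≤ Fintype.card ι) (p r : ι → F) (c : F) :
    tg hQ p r c ∈ Cfsg.Omega F ⇑Qf := sg_mem_Omega Qf hQ hn p (c • r)

/-- membership in `Ω` as a subgroup of `GL` -/
theorem mem_omegaGL_iff (g : ↥(isometryGroup F ⇑Qf)) :
    (g : GL ι F) ∈ Cfsg.Geo.omegaGL ⇑Qf ↔ g ∈ Cfsg.Omega F ⇑Qf := by
  unfold Cfsg.Geo.omegaGL
  exact Subgroup.mem_map_iff_mem (Subgroup.subtype_injective _)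

section Rational

variable (F₀ : Subfield F) {P : GL ι F} (e : ι ≃ Fin n)
  (hP : Cfsg.Geo.IsQuadFormRationalStructure ⇑Qf F₀ P)

include hP in
/-- rational Siegel elements lie in the subfield group -/
theorem sg_emb_mem_subfield {a b : Fin n → F₀} (h : SP ⇑Qf (emb F₀ P e a) (emb F₀ P e b)) :
    ((sg hQ (emb F₀ P e a) (emb F₀ P e b) : ↥(isometryGroup F ⇑Qf)) : GL ι F)
      ∈ Cfsg.Geo.subfieldSubgroup F₀ P := by
  apply mem_subfieldSubgroup_of_emb (e := e) _ 1 one_ne_zero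
  intro x
  refine ⟨x + QuadraticMap.polar (Qz F₀ e hP) a x • b - QuadraticMap.polar (Qz F₀ e hP) b x • a,
    ?_⟩
  have h1 := act_sg hQ h (emb F₀ P e x)
  unfold act at h1
  rw [h1, one_smul, emb_sub, emb_add, emb_smul, emb_smul, coe_polar_Qz, coe_polar_Qz]

include hP in
/-- rational Siegel elements lie in the subfield subgroup of `Ω` -/
theorem sg_emb_mem_H [Fintype F] (hn : 5 ≤ Fintype.card ι) {a b : Fin n → F₀}
    (h : SP ⇑Qf (emb F₀ P e a) (emb F₀ P e b)) :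
    sg hQ (emb F₀ P e a) (emb F₀ P e b)
      ∈ (Cfsg.Geo.subfieldSubgroup F₀ P ⊓ Cfsg.Geo.omegaGL ⇑Qf).comap
        (isometryGroup F ⇑Qf).subtype := by
  rw [Subgroup.mem_comap]
  refine Subgroup.mem_inf.mpr ⟨sg_emb_mem_subfield Qf hQ F₀ e hP h, ?_⟩
  exact (mem_omegaGL_iff Qf _).2 (sg_mem_Omega Qf hQ hn _ _)

include hP in
/-- rational parametrised Siegel elements lie in the subfield subgroup of `Ω` -/
theorem tg_emb_mem_H [Fintype F] (hn : 5 ≤ Fintype.card ι) {a b : Fin n → F₀}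
    (h : SP ⇑Qf (emb F₀ P e a) (emb F₀ P e b)) {c : F} (hc : c ∈ F₀) :
    tg hQ (emb F₀ P e a) (emb F₀ P e b) c
      ∈ (Cfsg.Geo.subfieldSubgroup F₀ P ⊓ Cfsg.Geo.omegaGL ⇑Qf).comap
        (isometryGroup F ⇑Qf).subtype := by
  unfold tg
  have h1 : c • emb F₀ P e b = emb F₀ P e ((⟨c, hc⟩ : F₀) • b) := by
    rw [emb_smul]
  rw [h1]
  apply sg_emb_mem_H Qf hQ F₀ e hP hn
  rw [← h1]
  exact h.smul_right hQ c

include hQ in
/-- singular pairs of the rational form give singular pairs -/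
theorem SP_emb {a b : Fin n → F₀} (h : SP (Qz F₀ e hP) a b) :
    SP ⇑Qf (emb F₀ P e a) (emb F₀ P e b) :=
  ⟨(Qz_eq_zero_iff hQ F₀ e hP a).1 h.1, (Qz_eq_zero_iff hQ F₀ e hP b).1 h.2.1,
    (polar_Qz_eq_zero_iff hQ F₀ e hP a b).1 h.2.2⟩

end Rational

end Cfsg.Agent.Helper94.SubW
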