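import Mathlib
import Cfsg.Agent.Helper94.SubW3
import Cfsg.Agent.Helper46.SL2SubfieldGen

set_option autoImplicit false
set_option linter.unusedSectionVars false
set_option linter.unusedVariables false
set_option linter.unusedSimpArgs false
set_option linter.style.haveILetI false

/-!
# Pairs of Siegel root groups: generation over a subfield extension
-/

namespace Cfsg.Agent.Helper94.SubW

open Matrix Cfsg Cfsg.Geo Cfsg.Agent.Helper94 Cfsg.Agent.Helper94.ORoot

variable {ι : Type} [Fintype ι] [DecidableEq ι] {F : Type*} [Field F]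

/-- a prime degree extension of finite fields is generated by any element outside the subfield -/
theorem closure_eq_top [Fintype F] (F₀ : Subfield F) {r : ℕ} (hr : r.Prime)
    (hcard : Fintype.card F = Nat.card F₀ ^ r) {θ : F} (hθ : θ ∉ F₀) :
    Subfield.closure ((F₀ : Set F) ∪ {θ}) = ⊤ := by
  haveI : Fintype F₀ := Fintype.ofFinite F₀
  have h2 : Module.finrank F₀ F = r := by
    have h := Module.card_eq_pow_finrank (K := F₀) (V := F)
    rw [Nat.card_eq_fintype_card] at hcard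
    rw [hcard] at h
    have h1 : 2 ≤ Fintype.card F₀ := Fintype.one_lt_card
    exact (Nat.pow_right_injective h1 h).symm
  haveI := IntermediateField.isSimpleOrder_of_finrank_prime F₀ F (h2 ▸ hr)
  obtain ⟨K, hK⟩ : ∃ K : IntermediateField F₀ F, K = IntermediateField.adjoin F₀ ({θ} : Set F) :=
    ⟨_, rfl⟩
  have hθK : θ ∈ K := by
    rw [hK]
    exact IntermediateField.mem_adjoin_simple_self F₀ θ
  rcases eq_bot_or_eq_top K with h | h
  · exfalso
    rw [h, IntermediateField.mem_bot] at hθK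
    obtain ⟨x, hx⟩ := hθK
    apply hθ
    rw [← hx]
    exact x.2
  · have h6 : K.toSubfield = Subfield.closure (Set.range (algebraMap F₀ F) ∪ {θ}) := by
      rw [hK]; rfl
    have h7 : Set.range (algebraMap F₀ F) = (F₀ : Set F) := Subtype.range_coe
    rw [h7] at h6
    rw [← h6, h]
    rfl

theorem uU_eq_U (c : F) : Cfsg.Agent.Helper46.Dk.uU c = Cfsg.Agent.S5016.U c := by
  apply Subtype.ext
  rw [Cfsg.Agent.S5016.U_apply]
  rfl

theorem vV_eq_L (c : F) : Cfsg.Agent.Helper46.Dk.vV c = Cfsg.Agent.S5016.L c := by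
  apply Subtype.ext
  rw [Cfsg.Agent.S5016.L_apply]
  rfl

variable {Q : (ι → F) → F} (hQ : IsNondegenerateQuadraticForm Q)

/-- the hyperbolic quadruple of two singular pairs with invertible Gram matrix -/
theorem exists_hyp4_of_det {p r p' r' : ι → F} (h : SP Q p r) (h' : SP Q p' r') {Δ : F}
    (hΔ : Δ = QuadraticMap.polar Q p p' * QuadraticMap.polar Q r r'
      - QuadraticMap.polar Q p r' * QuadraticMap.polar Q r p') (hΔ0 : Δ ≠ 0) :
    ∃ f1 f2 : ι → F, Hyp4 Q p r f1 f2 ∧ (∀ t : F, tg hQ f1 f2 t = tg hQ p' r' (t / Δ)) ∧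
      ∃ a b c d : F, f1 = a • p' + b • r' ∧ f2 = c • p' + d • r' := by
  obtain ⟨m11, h11⟩ : ∃ m, m = QuadraticMap.polar Q p p' := ⟨_, rfl⟩
  obtain ⟨m12, h12⟩ : ∃ m, m = QuadraticMap.polar Q p r' := ⟨_, rfl⟩
  obtain ⟨m21, h21⟩ : ∃ m, m = QuadraticMap.polar Q r p' := ⟨_, rfl⟩
  obtain ⟨m22, h22⟩ : ∃ m, m = QuadraticMap.polar Q r r' := ⟨_, rfl⟩
  rw [← h11, ← h12, ← h21, ← h22] at hΔ
  have hsp := h'.comb hQ (m22 / Δ) (-m21 / Δ) (-m12 / Δ) (m11 / Δ)
  refine ⟨(m22 / Δ) • p' + (-m21 / Δ) • r', (-m12 / Δ) • p' + (m11 / Δ) • r', ?_, ?_,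
    ⟨_, _, _, _, rfl, rfl⟩⟩
  · refine ⟨h.1, h.2.1, hsp.1, hsp.2.1, h.2.2, hsp.2.2, ?_, ?_, ?_, ?_⟩
    · rw [B_add_right hQ, B_smul_right hQ, B_smul_right hQ, ← h11, ← h12]
      field_simp
      rw [hΔ]; ring
    · rw [B_add_right hQ, B_smul_right hQ, B_smul_right hQ, ← h21, ← h22]
      field_simp
      rw [hΔ]; ring
    · rw [B_add_right hQ, B_smul_right hQ, B_smul_right hQ, ← h11, ← h12]
      field_simp
      ring
    · rw [B_add_right hQ, B_smul_right hQ, B_smul_right hQ, ← h21, ← h22]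
      field_simp
      ring
  · intro t
    rw [tg_comb hQ h']
    congr 1
    field_simp
    rw [hΔ]; ring

/-- **pair lemma**: a subfield root group and an opposite one with irrational Gram determinant
generate the full root group -/
theorem full_of_pair [Fintype F] (F₀ : Subfield F) {r : ℕ} (hr : r.Prime)
    (hcard : Fintype.card F = Nat.card F₀ ^ r) (h2 : (2 : F) ≠ 0)
    (M' : Subgroup ↥(isometryGroup F Q)) {p r₁ p' r' : ι → F} (h : SP Q p r₁) (h' : SP Q p' r')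
    (hM : ∀ c ∈ F₀, tg hQ p r₁ c ∈ M') (hM' : ∀ c ∈ F₀, tg hQ p' r' c ∈ M') {Δ : F}
    (hΔ : Δ = QuadraticMap.polar Q p p' * QuadraticMap.polar Q r₁ r'
      - QuadraticMap.polar Q p r' * QuadraticMap.polar Q r₁ p') (hΔ0 : Δ ∉ F₀)
    (hexc : ¬ (Nat.card F₀ = 3 ∧ Δ ^ 2 = -1)) : ∀ t : F, tg hQ p r₁ t ∈ M' := by
  have hΔne : Δ ≠ 0 := by
    rintro rfl
    exact hΔ0 F₀.zero_mem
  obtain ⟨f1, f2, hh, htg, -⟩ := exists_hyp4_of_det hQ h h' hΔ hΔne
  obtain ⟨X, hX⟩ : ∃ X : Subgroup (Matrix.SpecialLinearGroup (Fin 2) F),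
      X = M'.comap (slHom hQ hh) := ⟨_, rfl⟩
  have hU : ∀ c ∈ F₀, Cfsg.Agent.Helper46.Dk.uU c ∈ X := by
    intro c hc
    rw [hX, Subgroup.mem_comap, uU_eq_U, slHom_U]
    exact hM _ (F₀.neg_mem hc)
  have hL : ∀ c ∈ F₀, Cfsg.Agent.Helper46.Dk.vV (Δ * c) ∈ X := by
    intro c hc
    rw [hX, Subgroup.mem_comap, vV_eq_L, slHom_L, htg, mul_div_cancel_left₀ _ hΔne]
    exact hM' c hc
  have hle : Subgroup.closure ({g : Matrix.SpecialLinearGroup (Fin 2) F |
        ∃ c ∈ F₀, g = Cfsg.Agent.Helper46.Dk.uU c} ∪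
      {g : Matrix.SpecialLinearGroup (Fin 2) F |
        ∃ c ∈ F₀, g = Cfsg.Agent.Helper46.Dk.vV (Δ * c)}) ≤ X := by
    rw [Subgroup.closure_le]
    rintro g (⟨c, hc, rfl⟩ | ⟨c, hc, rfl⟩)
    · exact hU c hc
    · exact hL c hc
  intro t
  have h1 : (-t) ∈ Subfield.closure ((F₀ : Set F) ∪ {Δ}) := by
    rw [closure_eq_top F₀ hr hcard hΔ0]
    exact Subfield.mem_top _
  have h3 := hle (Cfsg.Agent.Helper46.Dk.uU_mem_closure_of_mem F₀ Δ hΔne
    (fun h20 => absurd h20 h2) hexc h1)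
  rw [hX, Subgroup.mem_comap, uU_eq_U, slHom_U, neg_neg] at h3
  exact h3

end Cfsg.Agent.Helper94.SubW
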