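import Mathlib
import Cfsg.Agent.Helper94.SubW4

set_option autoImplicit false
set_option linter.unusedSectionVars false
set_option linter.unusedVariables false
set_option linter.unusedSimpArgs false
set_option linter.style.haveILetI false

/-!
# Pairs of Siegel root groups: transfer between opposite lines, and the exceptional element
-/

namespace Cfsg.Agent.Helper94.SubW

open Matrix Cfsg Cfsg.Geo Cfsg.Agent.Helper94 Cfsg.Agent.Helper94.ORoot Cfsg.Agent.S5016
open Cfsg.Agent.Helper46.Dk (ext' mul_00 mul_01 mul_10 mul_11)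

variable {ι : Type} [Fintype ι] [DecidableEq ι] {F : Type*} [Field F]

theorem U_00 (c : F) : (U c : Matrix.SpecialLinearGroup (Fin 2) F).1 0 0 = 1 := by
  rw [Cfsg.Agent.S5016.U_apply]; rfl
theorem U_01 (c : F) : (U c : Matrix.SpecialLinearGroup (Fin 2) F).1 0 1 = c := by
  rw [Cfsg.Agent.S5016.U_apply]; rfl
theorem U_10 (c : F) : (U c : Matrix.SpecialLinearGroup (Fin 2) F).1 1 0 = 0 := by
  rw [Cfsg.Agent.S5016.U_apply]; rfl
theorem U_11 (c : F) : (U c : Matrix.SpecialLinearGroup (Fin 2) F).1 1 1 = 1 := by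
  rw [Cfsg.Agent.S5016.U_apply]; rfl
theorem L_00 (c : F) : (L c : Matrix.SpecialLinearGroup (Fin 2) F).1 0 0 = 1 := by
  rw [Cfsg.Agent.S5016.L_apply]; rfl
theorem L_01 (c : F) : (L c : Matrix.SpecialLinearGroup (Fin 2) F).1 0 1 = 0 := by
  rw [Cfsg.Agent.S5016.L_apply]; rfl
theorem L_10 (c : F) : (L c : Matrix.SpecialLinearGroup (Fin 2) F).1 1 0 = c := by
  rw [Cfsg.Agent.S5016.L_apply]; rfl
theorem L_11 (c : F) : (L c : Matrix.SpecialLinearGroup (Fin 2) F).1 1 1 = 1 := by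
  rw [Cfsg.Agent.S5016.L_apply]; rfl

/-- the Weyl element conjugates upper to lower unipotent elements -/
theorem L_mul_weyl (s : F) :
    (L s : Matrix.SpecialLinearGroup (Fin 2) F) * (U 1 * L (-1) * U 1)
      = (U 1 * L (-1) * U 1) * U (-s) := by
  apply ext' <;>
  simp only [mul_00, mul_01, mul_10, mul_11, U_00, U_01, U_10, U_11, L_00, L_01, L_10, L_11] <;>
  ring

/-- the diagonal element of the exceptional group -/
theorem diag_word {θ : F} (hθ : θ ^ 2 = -1) :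
    ((U 1 * L θ * U (-1) * L (-θ) * U 1 * L θ : Matrix.SpecialLinearGroup (Fin 2) F).1 0 0 = θ) ∧
    ((U 1 * L θ * U (-1) * L (-θ) * U 1 * L θ : Matrix.SpecialLinearGroup (Fin 2) F).1 0 1 = 0) ∧
    ((U 1 * L θ * U (-1) * L (-θ) * U 1 * L θ : Matrix.SpecialLinearGroup (Fin 2) F).1 1 0 = 0) ∧
    ((U 1 * L θ * U (-1) * L (-θ) * U 1 * L θ : Matrix.SpecialLinearGroup (Fin 2) F).1 1 1 = -θ)
    := by
  refine ⟨?_, ?_, ?_, ?_⟩ <;>
  simp only [mul_00, mul_01, mul_10, mul_11, U_00, U_01, U_10, U_11, L_00, L_01, L_10, L_11]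
  · linear_combination (1 + θ) * hθ
  · linear_combination hθ
  · linear_combination θ * hθ
  · linear_combination hθ

variable {Q : (ι → F) → F} (hQ : IsNondegenerateQuadraticForm Q)

/-- transfer of a full root group to an opposite line -/
theorem full_of_opp (M' : Subgroup ↥(isometryGroup F Q)) {p r p' r' : ι → F} (h : SP Q p r)
    (h' : SP Q p' r') {Δ : F}
    (hΔ : Δ = QuadraticMap.polar Q p p' * QuadraticMap.polar Q r r'
      - QuadraticMap.polar Q p r' * QuadraticMap.polar Q r p') (hΔ0 : Δ ≠ 0)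
    (hM : ∀ t : F, tg hQ p r t ∈ M') (hM1 : tg hQ p' r' (1 / Δ) ∈ M') :
    ∀ t : F, tg hQ p' r' t ∈ M' := by
  obtain ⟨f1, f2, hh, htg, -⟩ := exists_hyp4_of_det hQ h h' hΔ hΔ0
  have hU : ∀ t, slHom hQ hh (U t) ∈ M' := by
    intro t
    rw [slHom_U]
    exact hM _
  have hL1 : slHom hQ hh (L 1) ∈ M' := by
    rw [slHom_L, htg]
    exact hM1
  have hLm1 : slHom hQ hh (L (-1)) ∈ M' := by
    rw [slHom_L, ← tg_inv hQ (sp12' hh), ← slHom_L hQ hh]
    exact M'.inv_mem hL1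
  have hw : slHom hQ hh (U 1 * L (-1) * U 1) ∈ M' := by
    rw [map_mul, map_mul]
    exact M'.mul_mem (M'.mul_mem (hU 1) hLm1) (hU 1)
  intro t
  have key := L_mul_weyl (t * Δ)
  have h3 : (L (t * Δ) : Matrix.SpecialLinearGroup (Fin 2) F)
      = (U 1 * L (-1) * U 1) * U (-(t * Δ)) * (U 1 * L (-1) * U 1)⁻¹ :=
    eq_mul_inv_of_mul_eq key
  have h4 : slHom hQ hh (L (t * Δ)) ∈ M' := by
    rw [h3, map_mul, map_mul, map_inv]
    exact M'.mul_mem (M'.mul_mem hw (hU _)) (M'.inv_mem hw)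
  rw [slHom_L, htg, mul_div_cancel_right₀ _ hΔ0] at h4
  exact h4

/-- the exceptional diagonal element -/
theorem exists_exceptional (M' : Subgroup ↥(isometryGroup F Q)) {p r p' r' : ι → F}
    (h : SP Q p r) (h' : SP Q p' r') {Δ : F}
    (hΔ : Δ = QuadraticMap.polar Q p p' * QuadraticMap.polar Q r r'
      - QuadraticMap.polar Q p r' * QuadraticMap.polar Q r p') (hsq : Δ ^ 2 = -1)
    (hM1 : tg hQ p r 1 ∈ M') (hM1' : tg hQ p' r' 1 ∈ M') :
    ∃ D ∈ M', act D p = Δ • p ∧ ∀ y : ι → F, QuadraticMap.polar Q p y = 0 →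
      QuadraticMap.polar Q r y = 0 → QuadraticMap.polar Q p' y = 0 →
      QuadraticMap.polar Q r' y = 0 → act D y = y := by
  have hΔ0 : Δ ≠ 0 := by
    rintro rfl
    norm_num at hsq
  obtain ⟨f1, f2, hh, htg, a, b, c, d, hf1, hf2⟩ := exists_hyp4_of_det hQ h h' hΔ hΔ0
  have hUm : slHom hQ hh (U (-1)) ∈ M' := by
    rw [slHom_U, neg_neg]
    exact hM1
  have hU1 : slHom hQ hh (U 1) ∈ M' := by
    rw [slHom_U, ← tg_inv hQ h]
    exact M'.inv_mem hM1
  have hL : slHom hQ hh (L Δ) ∈ M' := by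
    rw [slHom_L, htg, div_self hΔ0]
    exact hM1'
  have hLm : slHom hQ hh (L (-Δ)) ∈ M' := by
    rw [slHom_L, htg, neg_div, div_self hΔ0, ← tg_inv hQ h']
    exact M'.inv_mem hM1'
  obtain ⟨g, hg⟩ : ∃ g : Matrix.SpecialLinearGroup (Fin 2) F,
      g = U 1 * L Δ * U (-1) * L (-Δ) * U 1 * L Δ := ⟨_, rfl⟩
  obtain ⟨e00, e01, e10, e11⟩ := diag_word hsq
  rw [← hg] at e00 e01 e10 e11
  have g00 : g 0 0 = Δ := e00
  have g01 : g 0 1 = 0 := e01
  have g10 : g 1 0 = 0 := e10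
  have g11 : g 1 1 = -Δ := e11
  refine ⟨slHom hQ hh g, ?_, ?_, ?_⟩
  · rw [hg]
    simp only [map_mul]
    exact M'.mul_mem (M'.mul_mem (M'.mul_mem (M'.mul_mem (M'.mul_mem hU1 hL) hUm) hLm) hU1) hL
  · rw [act_slHom, slLin_apply, g00, g01, g10, g11, B_comm f1 p, hh.e1f1, B_comm f2 p, hh.e1f2,
      h.self_left hQ, B_comm r p, h.2.2]
    module
  · intro y hpy hry hp'y hr'y
    have hf1y : QuadraticMap.polar Q f1 y = 0 := by
      rw [hf1, B_add_left hQ, B_smul_left hQ, B_smul_left hQ, hp'y, hr'y]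
      ring
    have hf2y : QuadraticMap.polar Q f2 y = 0 := by
      rw [hf2, B_add_left hQ, B_smul_left hQ, B_smul_left hQ, hp'y, hr'y]
      ring
    rw [act_slHom, slLin_apply, hf1y, hf2y, hpy, hry]
    simp

end Cfsg.Agent.Helper94.SubW
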