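import Mathlib
import Cfsg.Agent.Helper94.SubW5

set_option autoImplicit false
set_option linter.unusedSectionVars false
set_option linter.unusedVariables false
set_option linter.unusedSimpArgs false
set_option linter.style.haveILetI false

/-!
# From one full rational root group to `Ω`
-/

namespace Cfsg.Agent.Helper94.SubW

open Matrix Cfsg Cfsg.Geo Cfsg.Agent.Helper94 Cfsg.Agent.Helper94.ORoot

variable {ι : Type} [Fintype ι] [DecidableEq ι] {F : Type*} [Field F] {n : ℕ}
variable (Qf : QuadraticForm F (ι → F)) (hQ : IsNondegenerateQuadraticForm ⇑Qf)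

/-- Eichler transformations with singular second vector are Siegel elements -/
theorem eichlerO_eq_tg {u b : ι → F} (h : SP ⇑Qf u b) (t : F) :
    Cfsg.Agent.Helper5.eichlerO Qf u (t • b) = tg hQ b u t := by
  apply iso_ext
  intro x
  have h1 : QuadraticMap.polar ⇑Qf u (t • b) = 0 := by rw [B_smul_right hQ, h.2.2, mul_zero]
  have h3 : Qf (t • b) = 0 := by
    have := Q_smul hQ t b
    rw [this, h.2.1, mul_zero]
  rw [act_tg hQ h.symm, act_eq_lin, Cfsg.Agent.Helper5.lin_eichlerO Qf h.1 h1, h3, zero_mul,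
    zero_smul, sub_zero, B_smul_left hQ, smul_smul, mul_comm (QuadraticMap.polar ⇑Qf u x) t]

section Fixed

variable (F₀ : Subfield F) {P : GL ι F} (e : ι ≃ Fin n)
  (hP : Cfsg.Geo.IsQuadFormRationalStructure ⇑Qf F₀ P)
  (M' : Subgroup ↥(isometryGroup F ⇑Qf))
  (hHM : (Cfsg.Geo.subfieldSubgroup F₀ P ⊓ Cfsg.Geo.omegaGL ⇑Qf).comap
    (isometryGroup F ⇑Qf).subtype ≤ M')

local notation "E" => emb F₀ P e
local notation "Qz'" => Qz F₀ e hP

theorem card_eq (e : ι ≃ Fin n) : Fintype.card ι = n := by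
  rw [Fintype.card_congr e, Fintype.card_fin]

include hHM in
/-- the rational root groups lie in every overgroup of the subfield group -/
theorem tg_rat_mem [Fintype F] (hn : 5 ≤ n) {a b : Fin n → F₀} (h : SP Qz' a b) {c : F}
    (hc : c ∈ F₀) : tg hQ (E a) (E b) c ∈ M' := by
  apply hHM
  exact tg_emb_mem_H Qf hQ F₀ e hP (by rw [card_eq e]; exact hn) (SP_emb Qf hQ F₀ e hP h) hc

include hHM in
/-- transfer of fullness between opposite rational lines -/
theorem full_of_opp_rat [Fintype F] (hn : 5 ≤ n) {a b a' b' : Fin n → F₀} (h : SP Qz' a b)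
    (h' : SP Qz' a' b')
    (hδ : QuadraticMap.polar Qz' a a' * QuadraticMap.polar Qz' b b'
      - QuadraticMap.polar Qz' a b' * QuadraticMap.polar Qz' b a' ≠ 0)
    (hfull : ∀ t : F, tg hQ (E a) (E b) t ∈ M') : ∀ t : F, tg hQ (E a') (E b') t ∈ M' := by
  obtain ⟨δ, hδdef⟩ : ∃ δ : F₀, δ = QuadraticMap.polar Qz' a a' * QuadraticMap.polar Qz' b b'
      - QuadraticMap.polar Qz' a b' * QuadraticMap.polar Qz' b a' := ⟨_, rfl⟩
  rw [← hδdef] at hδ
  have hΔ : (δ : F) = QuadraticMap.polar ⇑Qf (E a) (E a') * QuadraticMap.polar ⇑Qf (E b) (E b')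
      - QuadraticMap.polar ⇑Qf (E a) (E b') * QuadraticMap.polar ⇑Qf (E b) (E a') := by
    rw [hδdef, Subfield.coe_sub, Subfield.coe_mul, Subfield.coe_mul, coe_polar_Qz, coe_polar_Qz,
      coe_polar_Qz, coe_polar_Qz]
  have hΔ0 : (δ : F) ≠ 0 := by
    intro h0
    apply hδ
    exact Subtype.ext h0
  apply full_of_opp hQ M' (SP_emb Qf hQ F₀ e hP h) (SP_emb Qf hQ F₀ e hP h') hΔ hΔ0 hfull
  exact tg_rat_mem Qf hQ F₀ e hP M' hHM hn h' (F₀.div_mem F₀.one_mem δ.2)

include hHM in
/-- fullness of one rational root group gives fullness of all of them -/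
theorem full_all [Fintype F] (hn : 6 ≤ n) {a b : Fin n → F₀} (h : SP Qz' a b)
    (hli : LinearIndependent F₀ ![a, b]) (hfull : ∀ t : F, tg hQ (E a) (E b) t ∈ M')
    {a' b' : Fin n → F₀} (h' : SP Qz' a' b') (hli' : LinearIndependent F₀ ![a', b']) :
    ∀ t : F, tg hQ (E a') (E b') t ∈ M' := by
  haveI : Fintype F₀ := Fintype.ofFinite F₀
  have hQz := nondeg_Qz hQ F₀ e hP
  obtain ⟨u, v, huv, hd₁, hd₂⟩ := exists_common_opp hQz (by rw [Fintype.card_fin]; exact hn)
    h h' hli hli'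
  have h1 : ∀ t : F, tg hQ (E u) (E v) t ∈ M' := by
    apply full_of_opp_rat Qf hQ F₀ e hP M' hHM (by omega) h huv _ hfull
    intro h0
    apply hd₁
    rw [B_comm u a, B_comm v b, B_comm u b, B_comm v a]
    rw [← h0]
    ring
  exact full_of_opp_rat Qf hQ F₀ e hP M' hHM (by omega) huv h' hd₂ h1

include hQ in
/-- the perpendicular space of a rational singular vector is spanned by rational singular
vectors -/
theorem mem_span_sing_perp [Fintype F] (h2 : (2 : F) ≠ 0) (hn : 11 ≤ n) {u : Fin n → F₀}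
    (hu : Qz' u = 0) (hu0 : u ≠ 0) {w : ι → F} (hw : QuadraticMap.polar ⇑Qf (E u) w = 0) :
    w ∈ Submodule.span F {v : ι → F | ∃ b : Fin n → F₀, Qz' b = 0 ∧
      QuadraticMap.polar Qz' u b = 0 ∧ v = E b} := by
  haveI : Fintype F₀ := Fintype.ofFinite F₀
  have hQz := nondeg_Qz hQ F₀ e hP
  have h2' := two_ne_zero_sub (F₀ := F₀) h2
  obtain ⟨WF, hWF⟩ : ∃ WF : Submodule F (ι → F), WF = Submodule.span F {v : ι → F |
      ∃ b : Fin n → F₀, Qz' b = 0 ∧ QuadraticMap.polar Qz' u b = 0 ∧ v = E b} := ⟨_, rfl⟩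
  rw [← hWF]
  obtain ⟨W₀, hW₀⟩ : ∃ W₀ : Submodule F₀ (Fin n → F₀), ∀ x, x ∈ W₀ ↔ E x ∈ WF := by
    refine ⟨{ carrier := {x | E x ∈ WF}, add_mem' := ?_, zero_mem' := ?_, smul_mem' := ?_ },
      fun x => Iff.rfl⟩
    · intro x y hx hy
      show E (x + y) ∈ WF
      rw [emb_add]
      exact WF.add_mem hx hy
    · show E 0 ∈ WF
      rw [emb_zero]
      exact WF.zero_mem
    · intro c x hx
      show E (c • x) ∈ WF
      rw [emb_smul]
      exact WF.smul_mem _ hx
  have h1 : Cfsg.Agent.Helper45.OrInSL.perp hQz (Submodule.span F₀ {u}) ≤ W₀ := by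
    have hfr := Cfsg.Agent.Helper45.OrInSL.finrank_span_singleton_le_one u
    apply Cfsg.Agent.Helper45.OrInSL.perp_le_of_singular hQz h2' _ (by omega)
    intro y hy hyQ _
    rw [hW₀, hWF]
    apply Submodule.subset_span
    refine ⟨y, hyQ, ?_, rfl⟩
    rw [QuadraticMap.polar_comm]
    exact (Cfsg.Agent.Helper45.OrInSL.mem_perp_singleton hQz).1 hy
  obtain ⟨u', hu', huu'⟩ := Cfsg.Agent.Helper94.SubO.exists_hyp hQz h2' (by omega) hu0
  have key : ∀ w : ι → F, w - QuadraticMap.polar ⇑Qf (E u) w • E u' ∈ WF := by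
    apply emb_span_induction (F₀ := F₀) (P := P) (e := e)
    · intro v w hv hw
      have : v + w - QuadraticMap.polar ⇑Qf (E u) (v + w) • E u'
          = (v - QuadraticMap.polar ⇑Qf (E u) v • E u')
            + (w - QuadraticMap.polar ⇑Qf (E u) w • E u') := by
        rw [B_add_right hQ]
        module
      rw [this]
      exact WF.add_mem hv hw
    · intro c v hv
      have : c • v - QuadraticMap.polar ⇑Qf (E u) (c • v) • E u'
          = c • (v - QuadraticMap.polar ⇑Qf (E u) v • E u') := by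
        rw [B_smul_right hQ]
        module
      rw [this]
      exact WF.smul_mem _ hv
    · intro x
      have : E x - QuadraticMap.polar ⇑Qf (E u) (E x) • E u'
          = E (x - QuadraticMap.polar Qz' u x • u') := by
        rw [emb_sub, emb_smul, coe_polar_Qz]
      rw [this, ← hW₀]
      apply h1
      rw [Cfsg.Agent.Helper45.OrInSL.mem_perp_singleton hQz,
        Cfsg.Agent.Helper45.OrInSL.b_sub_left hQz, Cfsg.Agent.Helper45.OrInSL.b_smul_left hQz,
        QuadraticMap.polar_comm (Qz') u' u, huu', QuadraticMap.polar_comm (Qz') x u]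
      ring
  have := key w
  rwa [hw, zero_smul, sub_zero] at this

include hHM in
/-- a rational singular vector is an Eichler direction, once all rational root groups are full -/
theorem emb_mem_eDir [Fintype F] (h2 : (2 : F) ≠ 0) (hn : 11 ≤ n)
    (hall : ∀ a b : Fin n → F₀, SP Qz' a b → LinearIndependent F₀ ![a, b] →
      ∀ t : F, tg hQ (E a) (E b) t ∈ M')
    {u : Fin n → F₀} (hu : Qz' u = 0) (hu0 : u ≠ 0) :
    E u ∈ Cfsg.Agent.Helper45.OmegaParity.eDir Qf M' := by
  haveI : Fintype F₀ := Fintype.ofFinite F₀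
  have huE : Qf (E u) = 0 := (Qz_eq_zero_iff hQ F₀ e hP u).1 hu
  refine ⟨huE, ?_⟩
  have stepA : ∀ b : Fin n → F₀, Qz' b = 0 → QuadraticMap.polar Qz' u b = 0 → ∀ t : F,
      Cfsg.Agent.Helper5.eichlerO Qf (E u) (t • E b) ∈ M' := by
    intro b hb hub t
    have hsp : SP Qz' u b := ⟨hu, hb, hub⟩
    have hspE := SP_emb Qf hQ F₀ e hP hsp
    rw [eichlerO_eq_tg Qf hQ hspE]
    by_cases hbu : b ∈ Submodule.span F₀ {u}
    · obtain ⟨c, rfl⟩ := Submodule.mem_span_singleton.1 hbu
      have h1 : tg hQ (E (c • u)) (E u) t = 1 := by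
        apply iso_ext
        intro x
        rw [act_tg hQ hspE.symm, act_one, emb_smul, B_smul_left hQ]
        module
      rw [h1]
      exact M'.one_mem
    · apply hall b u hsp.symm
      rw [LinearIndependent.pair_iff]
      intro s t hst
      by_cases hs : s = 0
      · subst hs
        rw [zero_smul, zero_add] at hst
        rcases smul_eq_zero.1 hst with h | h
        · exact ⟨rfl, h⟩
        · exact absurd h hu0
      · exfalso
        apply hbu
        rw [Submodule.mem_span_singleton]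
        refine ⟨-(s⁻¹ * t), ?_⟩
        have h3 : s • b = -(t • u) := eq_neg_of_add_eq_zero_left hst
        have h4 : b = s⁻¹ • (s • b) := by rw [smul_smul, inv_mul_cancel₀ hs, one_smul]
        rw [h4, h3]
        module
  intro w hw
  have hspan := mem_span_sing_perp Qf hQ F₀ e hP h2 hn hu hu0 hw
  have hind : QuadraticMap.polar ⇑Qf (E u) w = 0 ∧ Cfsg.Agent.Helper5.eichlerO Qf (E u) w ∈ M' := by
    refine Submodule.closure_induction
      (p := fun w _ => QuadraticMap.polar ⇑Qf (E u) w = 0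
        ∧ Cfsg.Agent.Helper5.eichlerO Qf (E u) w ∈ M') ?_ ?_ ?_ hspan
    · refine ⟨B_zero_right hQ _, ?_⟩
      rw [Cfsg.Agent.Helper5.eichlerO_zero]
      exact M'.one_mem
    · intro x y _ _ hx hy
      refine ⟨by rw [B_add_right hQ, hx.1, hy.1, add_zero], ?_⟩
      rw [← Cfsg.Agent.Helper5.eichlerO_mul Qf huE hx.1 hy.1]
      exact M'.mul_mem hx.2 hy.2
    · rintro t x ⟨b, hb, hub, rfl⟩
      refine ⟨?_, stepA b hb hub t⟩
      rw [B_smul_right hQ, ← coe_polar_Qz F₀ e hP, hub]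
      simp
  exact hind.2

include hHM in
/-- **one full rational root group forces `Ω`** -/
theorem Omega_le_of_full [Fintype F] (h2 : (2 : F) ≠ 0) (hn : 13 ≤ n) {a b : Fin n → F₀}
    (h : SP Qz' a b) (hli : LinearIndependent F₀ ![a, b])
    (hfull : ∀ t : F, tg hQ (E a) (E b) t ∈ M') : Cfsg.Omega F ⇑Qf ≤ M' := by
  haveI : Fintype F₀ := Fintype.ofFinite F₀
  have hQz := nondeg_Qz hQ F₀ e hP
  have h2' := two_ne_zero_sub (F₀ := F₀) h2
  have hall : ∀ a' b' : Fin n → F₀, SP Qz' a' b' → LinearIndependent F₀ ![a', b'] →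
      ∀ t : F, tg hQ (E a') (E b') t ∈ M' := fun a' b' h' hli' =>
    full_all Qf hQ F₀ e hP M' hHM (by omega) h hli hfull h' hli'
  obtain ⟨u, hu0, hu, -⟩ := Cfsg.Agent.Helper94.SubO.exists_sing_perp4 hQz h2' (by omega)
    (0 : Fin n → F₀) 0 0 0
  obtain ⟨u', hu', huu'⟩ := Cfsg.Agent.Helper94.SubO.exists_hyp hQz h2' (by omega) hu0
  have hu'0 : u' ≠ 0 := by
    rintro rfl
    rw [Cfsg.Agent.Helper45.OrInSL.b_zero_right hQz] at huu'
    exact zero_ne_one huu'
  have hD := emb_mem_eDir Qf hQ F₀ e hP M' hHM h2 (by omega) hall hu hu0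
  have hD' := emb_mem_eDir Qf hQ F₀ e hP M' hHM h2 (by omega) hall hu' hu'0
  have hnd := Cfsg.Agent.Helper45.OmegaParity.nondeg_of_geo Qf hQ
  have hb : QuadraticMap.polar ⇑Qf (E u) (E u') ≠ 0 := by
    rw [← coe_polar_Qz F₀ e hP, huu']
    simp
  apply Cfsg.Agent.Helper45.OmegaParity.Omega_le_of_eDir_all hnd (by rw [card_eq e]; omega)
  intro z hz
  exact Cfsg.Agent.Helper45.OmegaParity.eDir_all hnd hD hD' hb z hz

end Fixed

end Cfsg.Agent.Helper94.SubW
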