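import Mathlib
import Cfsg.Agent.Helper94.TpD

set_option autoImplicit false
set_option linter.unusedSectionVars false
set_option linter.style.haveILetI false

/-!
# The hypothesis of the statements on isometric copies of an odd-dimensional space: reductions
-/

namespace Cfsg.Agent.Helper94.Tp

open Module Polynomial Matrix
open Cfsg
open Cfsg.Agent.Helper44 Cfsg.Agent.Helper44.QType
open Cfsg.Agent.Helper59.InvChain Cfsg.Agent.Helper59.Elusive
open Cfsg.Agent.Helper99.RDecomp Cfsg.Agent.Helper99.SpStruct Cfsg.Agent.Helper99.SpElt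
open Cfsg.Agent.Helper94.Ti Cfsg.Agent.Helper94.Ts Cfsg.Agent.Helper94.Tn

universe u

variable {F : Type u} [Field F] [Fintype F] {ι : Type} [Fintype ι] [DecidableEq ι]
variable (Q : QuadraticForm F (ι → F))

/-- the hypothesis of the statements, for elements of `Ω` -/
def StmtProp (W₀ : Submodule F (ι → F)) (r : ℕ) : Prop :=
  ∀ y : ↥(Cfsg.isometryGroup F ⇑Q), y ∈ Cfsg.Omega F ⇑Q →
    (∃ z : F, (((y : GL ι F) ^ r : GL ι F) : Matrix ι ι F) = z • (1 : Matrix ι ι F)) →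
    (∀ z : F, ((y : GL ι F) : Matrix ι ι F) ≠ z • (1 : Matrix ι ι F)) →
    ∃ W : Submodule F (ι → F), Nd (qB Q) W ∧ Iso (qB Q) W W₀ ∧
      Inv (Matrix.toLin' ((y : GL ι F) : Matrix ι ι F)) W

/-- the statement's hypothesis in terms of `StmtProp` -/
theorem stmt_iff (h2 : (2 : F) ≠ 0) {W₀ : Submodule F (ι → F)} {m : ℕ}
    (hW₀ : finrank F ↥W₀ = m) (r : ℕ) :
    (∀ x : GL ι F, x ∈ Cfsg.Geo.omegaGL (⇑Q) →
      (∃ z : F, ((x ^ r : GL ι F) : Matrix ι ι F) = z • (1 : Matrix ι ι F)) →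
      (∀ z : F, (x : Matrix ι ι F) ≠ z • (1 : Matrix ι ι F)) →
      ∃ W : Submodule F (ι → F), (finrank F ↥W = m ∧
        Cfsg.Geo.IsNondegenerateOn (QuadraticMap.polar (⇑Q)) W ∧
        Cfsg.Geo.AreIsometricFor (⇑Q) W W₀) ∧
        W.map (Matrix.toLin' (x : Matrix ι ι F)) ≤ W) ↔ StmtProp Q W₀ r := by
  constructor
  · intro H y hyΩ hz hns
    obtain ⟨W, ⟨-, h3, h4⟩, h5⟩ := H (y : GL ι F) (Subgroup.mem_map.mpr ⟨y, hyΩ, rfl⟩) hz hns
    exact ⟨W, (nd_iff_isNondegenerateOn' Q).mpr h3, (iso_iff_areIsometricFor Q h2).mpr h4, h5⟩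
  · intro H x hx hz hns
    obtain ⟨y, hyΩ, rfl⟩ := Subgroup.mem_map.mp hx
    obtain ⟨W, h3, h4, h5⟩ := H y hyΩ hz hns
    exact ⟨W, ⟨by rw [h4.finrank_eq, hW₀], (nd_iff_isNondegenerateOn' Q).mp h3,
      (iso_iff_areIsometricFor Q h2).mp h4⟩, h5⟩

theorem pow_matrix_eq_iff (y : ↥(Cfsg.isometryGroup F ⇑Q)) (r : ℕ) (z : F) :
    (((y : GL ι F) ^ r : GL ι F) : Matrix ι ι F) = z • (1 : Matrix ι ι F) ↔
      (Matrix.toLin' ((y : GL ι F) : Matrix ι ι F)) ^ r = z • (1 : Module.End F (ι → F)) := by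
  rw [Units.val_pow_eq_pow_val, ← Matrix.toLin'_pow]
  constructor
  · intro h
    rw [h, map_smul, Matrix.toLin'_one]
    rfl
  · intro h
    apply Matrix.toLin'.injective
    rw [h, map_smul, Matrix.toLin'_one]
    rfl

/-- scalars of an isometry: `z² = 1` -/
theorem scalar_sq_of_isom (h2 : (2 : F) ≠ 0) (hnd : (qB Q).Nondegenerate)
    (hdim : 2 ≤ finrank F (ι → F)) {X : Module.End F (ι → F)} (hX : ∀ u, Q (X u) = Q u) {z : F}
    (hz : X = z • (1 : Module.End F (ι → F))) : z * z = 1 := by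
  obtain ⟨u, hu⟩ := exists_Q_eq Q h2 hnd hdim 1
  have h1 := hX u
  rw [hz, LinearMap.smul_apply, Module.End.one_apply, QuadraticMap.map_smul, hu] at h1
  simpa using h1

theorem iter_isom {X : Module.End F (ι → F)} (hX : ∀ u, Q (X u) = Q u) (k : ℕ) (u : ι → F) :
    Q ((X ^ k) u) = Q u := by
  induction k with
  | zero => simp
  | succ k ih => rw [pow_succ', Module.End.mul_apply, hX, ih]

/-- `r = 2` -/
theorem stmtProp_two_iff {W₀ : Submodule F (ι → F)} (hW₀ : Nd (qB Q) W₀) :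
    StmtProp Q W₀ 2 ↔ TwoProp Q W₀ := by
  have key : ∀ (y : ↥(Cfsg.isometryGroup F ⇑Q)) (z : F),
      (((y : GL ι F) ^ 2 : GL ι F) : Matrix ι ι F) = z • (1 : Matrix ι ι F) ↔
      ∀ v : ι → F, (y.1 : Matrix ι ι F) *ᵥ ((y.1 : Matrix ι ι F) *ᵥ v) = z • v := by
    intro y z
    rw [Units.val_pow_eq_pow_val, pow_two]
    constructor
    · intro h v
      rw [Matrix.mulVec_mulVec, h, Matrix.smul_mulVec, Matrix.one_mulVec]
    · intro h
      apply Matrix.mulVec_injective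
      funext v
      rw [← Matrix.mulVec_mulVec, h, Matrix.smul_mulVec, Matrix.one_mulVec]
  constructor
  · intro H g hgΩ ⟨z, hz⟩
    by_cases hns : ∀ z' : F, ((g : GL ι F) : Matrix ι ι F) ≠ z' • (1 : Matrix ι ι F)
    · exact H g hgΩ ⟨z, (key g z).mpr hz⟩ hns
    · push Not at hns
      obtain ⟨z', hz'⟩ := hns
      refine ⟨W₀, hW₀, iso_refl W₀, ?_⟩
      rw [inv_iff]
      intro w hw
      rw [hz', map_smul, Matrix.toLin'_one]
      exact W₀.smul_mem z' hw
  · intro H y hyΩ ⟨z, hz⟩ _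
    exact H y hyΩ ⟨z, (key y z).mp hz⟩

variable {p : ℕ} [Fact p.Prime] [CharP F p]

/-- `r = p`: a unipotent witness refutes the hypothesis -/
theorem not_stmtProp_char {W₀ : Submodule F (ι → F)} {m : ℕ} (hW₀ : finrank F ↥W₀ = m)
    (y : ↥(Cfsg.isometryGroup F ⇑Q)) (hyΩ : y ∈ Cfsg.Omega F ⇑Q) (hyord : orderOf y = p)
    (hy : ∀ W : Submodule F (ι → F), Nd (qB Q) W → finrank F ↥W = m →
      Inv (Matrix.toLin' ((y : GL ι F) : Matrix ι ι F)) W → False) :
    ¬ StmtProp Q W₀ p := by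
  intro H
  have hp : p.Prime := Fact.out
  have hyp : y ^ p = 1 := by rw [← hyord]; exact pow_orderOf_eq_one y
  have hy1 : y ≠ 1 := by
    intro h
    rw [h, orderOf_one] at hyord
    exact hp.one_lt.ne hyord
  have hmat : (((y : GL ι F) ^ p : GL ι F) : Matrix ι ι F) = (1 : F) • (1 : Matrix ι ι F) := by
    have h3 : ((y ^ p : ↥(Cfsg.isometryGroup F ⇑Q)) : GL ι F) = 1 := by rw [hyp]; rfl
    rw [Subgroup.coe_pow] at h3
    rw [h3, one_smul]
    rfl
  have hns : ∀ z : F, ((y : GL ι F) : Matrix ι ι F) ≠ z • (1 : Matrix ι ι F) := by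
    intro z hz
    have h3 : (((y : GL ι F) ^ p : GL ι F) : Matrix ι ι F) = (z ^ p) • (1 : Matrix ι ι F) := by
      rw [Units.val_pow_eq_pow_val, hz, _root_.smul_pow, one_pow]
    rw [hmat] at h3
    by_cases hι : Nonempty ι
    · obtain ⟨k⟩ := hι
      have h4 := congrFun (congrFun h3 k) k
      simp only [Matrix.smul_apply, Matrix.one_apply_eq, smul_eq_mul, mul_one] at h4
      have h5 : (z - 1) ^ p = 0 := by
        rw [sub_pow_char, one_pow, ← h4, sub_self]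
      have h6 : z = 1 := sub_eq_zero.mp (pow_eq_zero_iff hp.ne_zero |>.mp h5)
      apply hy1
      apply Subtype.ext
      apply Units.ext
      rw [hz, h6, one_smul]
      rfl
    · apply hy1
      apply Subtype.ext
      apply Units.ext
      ext k
      exact absurd ⟨k⟩ hι
  obtain ⟨W, hWnd, hWiso, hWinv⟩ := H y hyΩ ⟨1, hmat⟩ hns
  exact hy W hWnd (by rw [hWiso.finrank_eq, hW₀]) hWinv

/-- odd `r`, (⇒): the hypothesis of the statement gives `IsoProp` -/
theorem isoProp_of_stmtProp (h2 : (2 : F) ≠ 0) (hnd : (qB Q).Nondegenerate)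
    (hdim : 2 ≤ finrank F (ι → F)) {W₀ : Submodule F (ι → F)} (r : ℕ) [Fact r.Prime]
    (hr2 : r ≠ 2) (H : StmtProp Q W₀ r) : IsoProp Q W₀ r := by
  intro y hyΩ hyord
  have hr : r.Prime := Fact.out
  have hyr : y ^ r = 1 := by rw [← hyord]; exact pow_orderOf_eq_one y
  have hy1 : y ≠ 1 := by
    intro h
    rw [h, orderOf_one] at hyord
    exact hr.one_lt.ne hyord
  have hmat : (((y : GL ι F) ^ r : GL ι F) : Matrix ι ι F) = (1 : F) • (1 : Matrix ι ι F) := by
    have h3 : ((y ^ r : ↥(Cfsg.isometryGroup F ⇑Q)) : GL ι F) = 1 := by rw [hyr]; rfl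
    rw [Subgroup.coe_pow] at h3
    rw [h3, one_smul]
    rfl
  have hne : Nonempty ι := by
    by_contra hcon
    rw [not_nonempty_iff] at hcon
    rw [Module.finrank_fintype_fun_eq_card, Fintype.card_eq_zero] at hdim
    omega
  have hns : ∀ z : F, ((y : GL ι F) : Matrix ι ι F) ≠ z • (1 : Matrix ι ι F) := by
    intro z hz
    have hX : Matrix.toLin' ((y : GL ι F) : Matrix ι ι F) = z • (1 : Module.End F (ι → F)) := by
      rw [hz, map_smul, Matrix.toLin'_one]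
      rfl
    have hzz := scalar_sq_of_isom Q h2 hnd hdim (toLin_iso y) hX
    have h3 : (((y : GL ι F) ^ r : GL ι F) : Matrix ι ι F) = (z ^ r) • (1 : Matrix ι ι F) := by
      rw [Units.val_pow_eq_pow_val, hz, _root_.smul_pow, one_pow]
    rw [hmat] at h3
    obtain ⟨k⟩ := hne
    have h4 := congrFun (congrFun h3 k) k
    simp only [Matrix.smul_apply, Matrix.one_apply_eq, smul_eq_mul, mul_one] at h4
    obtain ⟨e, he⟩ := hr.odd_of_ne_two hr2
    have h5 : z ^ r = z := by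
      rw [he, pow_succ, pow_mul, pow_two, hzz, one_pow, one_mul]
    have h6 : z = 1 := by rw [← h5, ← h4]
    apply hy1
    apply Subtype.ext
    apply Units.ext
    rw [hz, h6, one_smul]
    rfl
  obtain ⟨W, hWnd, hWiso, hWinv⟩ := H y hyΩ ⟨1, hmat⟩ hns
  exact ⟨W, hWnd, hWiso, hWinv⟩

/-- odd `r ≠ p`, (⇐) for an isometry `Y` with `Y ^ r = 1` -/
theorem exists_inv_iso_of_cond (h2 : (2 : F) ≠ 0) (hnd : (qB Q).Nondegenerate) {d : ℕ}
    (hι : Fintype.card ι = 2 * d) {ε : ℤ} (hT : HasType (⇑Q) d ε)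
    (r : ℕ) [Fact r.Prime] (hrp : r ≠ p) (hr2 : r ≠ 2) {W₀ : Submodule F (ι → F)}
    (hW₀ : Nd (qB Q) W₀) {t : ℕ} (hdim : finrank F ↥W₀ = 2 * t + 1) (hlt : 2 * t + 1 < 2 * d)
    (hcond : (2 * t + 1) % blockSize (orderOf ((Fintype.card F : ℕ) : ZMod r)) <
        (2 * d) % blockSize (orderOf ((Fintype.card F : ℕ) : ZMod r)) ∨
      ((2 * d) % blockSize (orderOf ((Fintype.card F : ℕ) : ZMod r)) = 0 ∧
        ((Fintype.card F : ℕ) : ZMod r) ^ d ≠ ((ε : ℤ) : ZMod r)))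
    (Y : Module.End F (ι → F)) (hYiso : ∀ u, Q (Y u) = Q u) (hYr : Y ^ r = 1) :
    ∃ W : Submodule F (ι → F), Inv Y W ∧ Nd (qB Q) W ∧ Iso (qB Q) W W₀ := by
  have hrq := not_dvd_card_of_ne (F := F) r hrp
  have hV : finrank F (ι → F) = 2 * d := by rw [Module.finrank_fintype_fun_eq_card, hι]
  have hset := qSetup_of Q hnd r hrp hr2 Y hYiso hYr
  have hipos : 0 < orderOf ((Fintype.card F : ℕ) : ZMod r) := orderOf_card_pos r hrp
  set c := blockSize (orderOf ((Fintype.card F : ℕ) : ZMod r)) with hcdef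
  have hcpos : 0 < c := blockSize_pos hipos
  obtain ⟨k', hk1, hk2, hk3⟩ := hset.exists_blocks_eq
  rw [hV, ← hcdef] at hk1 hk3
  rw [← hcdef] at hk2
  apply exists_inv_iso_of_fix hset h2 hV hW₀ hdim hlt hipos
  rw [← hcdef]
  rcases hcond with hlt' | ⟨hρ, hne⟩
  · exact lt_of_lt_of_le hlt' hk3
  · have hmodlt : (2 * t + 1) % c < c := Nat.mod_lt _ hcpos
    have hfmod : finrank F ↥(fixSp Y) % c = 0 := by
      rw [← hρ, ← hk1, Nat.add_mul_mod_self_right]
    have hfpos : 0 < finrank F ↥(fixSp Y) := by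
      rcases Nat.eq_zero_or_pos (finrank F ↥(fixSp Y)) with h0 | h0
      · exfalso
        apply hne
        have hcyc : cycSp r Y = ⊤ := by
          apply Submodule.eq_top_of_finrank_eq
          rw [hk2, hV]
          omega
        exact sType_fpf hset h2 hrq (inv_top Y) (nd_top_of_nondeg' hnd) (by rw [hcyc])
          (by rw [finrank_top, hV]) (sType_top Q h2 hT)
      · exact h0
    have hcle : c ≤ finrank F ↥(fixSp Y) :=
      Nat.le_of_dvd hfpos (Nat.dvd_of_mod_eq_zero hfmod)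
    omega

/-- odd `r ≠ p`, (⇐): the hypothesis of the statement -/
theorem stmtProp_of_cond (h2 : (2 : F) ≠ 0) (hnd : (qB Q).Nondegenerate) {d : ℕ}
    (hι : Fintype.card ι = 2 * d) (hd : 1 ≤ d) {ε : ℤ} (hT : HasType (⇑Q) d ε)
    (r : ℕ) [Fact r.Prime] (hrp : r ≠ p) (hr2 : r ≠ 2) {W₀ : Submodule F (ι → F)}
    (hW₀ : Nd (qB Q) W₀) {t : ℕ} (hdim : finrank F ↥W₀ = 2 * t + 1) (hlt : 2 * t + 1 < 2 * d)
    (hcond : (2 * t + 1) % blockSize (orderOf ((Fintype.card F : ℕ) : ZMod r)) <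
        (2 * d) % blockSize (orderOf ((Fintype.card F : ℕ) : ZMod r)) ∨
      ((2 * d) % blockSize (orderOf ((Fintype.card F : ℕ) : ZMod r)) = 0 ∧
        ((Fintype.card F : ℕ) : ZMod r) ^ d ≠ ((ε : ℤ) : ZMod r))) :
    StmtProp Q W₀ r := by
  intro y hyΩ ⟨z, hz⟩ _
  have hr : r.Prime := Fact.out
  have hV : finrank F (ι → F) = 2 * d := by rw [Module.finrank_fintype_fun_eq_card, hι]
  set X := Matrix.toLin' ((y : GL ι F) : Matrix ι ι F) with hX
  have hXr : X ^ r = z • (1 : Module.End F (ι → F)) := (pow_matrix_eq_iff Q y r z).mp hz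
  have hXiso : ∀ u, Q (X u) = Q u := toLin_iso y
  have hzz : z * z = 1 :=
    scalar_sq_of_isom Q h2 hnd (by rw [hV]; omega) (iter_isom Q hXiso r) hXr
  have hYiso : ∀ u, Q ((z • X) u) = Q u := by
    intro u
    rw [LinearMap.smul_apply, QuadraticMap.map_smul, hzz, hXiso]
    simp
  have hYr : (z • X) ^ r = 1 := by
    obtain ⟨e, he⟩ := hr.odd_of_ne_two hr2
    rw [_root_.smul_pow, hXr, smul_smul]
    have : z ^ r * z = 1 := by
      rw [he, pow_succ, pow_mul, pow_two, hzz, one_pow, one_mul, hzz]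
    rw [this, one_smul]
  obtain ⟨W, hWinv, hWnd, hWiso⟩ := exists_inv_iso_of_cond Q h2 hnd hι hT r hrp hr2 hW₀ hdim hlt
    hcond (z • X) hYiso hYr
  refine ⟨W, hWnd, hWiso, ?_⟩
  rw [inv_iff]
  intro w hw
  have h1 : X w = z • ((z • X) w) := by
    rw [LinearMap.smul_apply, smul_smul, hzz, one_smul]
  rw [h1]
  exact W.smul_mem z (hWinv.apply_mem hw)

end Cfsg.Agent.Helper94.Tp
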