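import Mathlib
import Cfsg.Agent.Helper94.TpI
import Cfsg.Agent.Helper5.OrthSimpleStd

set_option autoImplicit false
set_option linter.unusedSectionVars false
set_option linter.style.haveILetI false

/-!
# The minus-type orthogonal space: isometries with square `-1`
-/

namespace Cfsg.Agent.Helper94.Tp

open Module Polynomial Matrix
open Cfsg
open Cfsg.Agent.Helper44 Cfsg.Agent.Helper44.QType
open Cfsg.Agent.Helper59.InvChain Cfsg.Agent.Helper59.Elusive
open Cfsg.Agent.Helper99.RDecomp Cfsg.Agent.Helper99.SpStruct Cfsg.Agent.Helper99.SpElt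
open Cfsg.Agent.Helper94.Ti Cfsg.Agent.Helper94.Ts Cfsg.Agent.Helper94.Tn

universe u v

section minus

variable {F : Type u} [Field F] {k : ℕ}

/-- the isometry with square `-1` of the minus space (`k` even): the rotation on the split part and
multiplication by a norm one element of trace zero on the anisotropic plane -/
def sqM (k : ℕ) (a b α β : F) : Module.End F ((Fin k ⊕ Fin k) ⊕ Fin 2 → F) where
  toFun w := fun j => match j with
    | .inl j => sqJ k F (w ∘ Sum.inl) j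
    | .inr j => ![α * w (.inr 0) - b * β * w (.inr 1), β * w (.inr 0) + (α + a * β) * w (.inr 1)] j
  map_add' v w := by
    funext j
    rcases j with j | j
    · show sqJ k F ((v + w) ∘ Sum.inl) j = sqJ k F (v ∘ Sum.inl) j + sqJ k F (w ∘ Sum.inl) j
      have : (v + w) ∘ Sum.inl = v ∘ Sum.inl + w ∘ (Sum.inl : Fin k ⊕ Fin k → (Fin k ⊕ Fin k) ⊕ Fin 2) :=
        rfl
      rw [this, map_add]
      rfl
    · fin_cases j
      · show α * (v + w) (.inr 0) - b * β * (v + w) (.inr 1) =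
          (α * v (.inr 0) - b * β * v (.inr 1)) + (α * w (.inr 0) - b * β * w (.inr 1))
        simp only [Pi.add_apply]; ring
      · show β * (v + w) (.inr 0) + (α + a * β) * (v + w) (.inr 1) =
          (β * v (.inr 0) + (α + a * β) * v (.inr 1)) + (β * w (.inr 0) + (α + a * β) * w (.inr 1))
        simp only [Pi.add_apply]; ring
  map_smul' c v := by
    funext j
    rcases j with j | j
    · show sqJ k F ((c • v) ∘ Sum.inl) j = c • sqJ k F (v ∘ Sum.inl) j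
      have : (c • v) ∘ Sum.inl = c • (v ∘ (Sum.inl : Fin k ⊕ Fin k → (Fin k ⊕ Fin k) ⊕ Fin 2)) :=
        rfl
      rw [this, map_smul]
      rfl
    · fin_cases j
      · show α * (c • v) (.inr 0) - b * β * (c • v) (.inr 1) =
          c • (α * v (.inr 0) - b * β * v (.inr 1))
        simp only [Pi.smul_apply, smul_eq_mul]; ring
      · show β * (c • v) (.inr 0) + (α + a * β) * (c • v) (.inr 1) =
          c • (β * v (.inr 0) + (α + a * β) * v (.inr 1))
        simp only [Pi.smul_apply, smul_eq_mul]; ring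

theorem sqM_inl (a b α β : F) (w : (Fin k ⊕ Fin k) ⊕ Fin 2 → F) :
    (sqM k a b α β w) ∘ Sum.inl = sqJ k F (w ∘ Sum.inl) := rfl

theorem sqM_inr0 (a b α β : F) (w : (Fin k ⊕ Fin k) ⊕ Fin 2 → F) :
    sqM k a b α β w (.inr 0) = α * w (.inr 0) - b * β * w (.inr 1) := rfl

theorem sqM_inr1 (a b α β : F) (w : (Fin k ⊕ Fin k) ⊕ Fin 2 → F) :
    sqM k a b α β w (.inr 1) = β * w (.inr 0) + (α + a * β) * w (.inr 1) := rfl

theorem sqM_iso (hk : Even k) {a b α β : F} (h1 : 2 * α + a * β = 0)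
    (h2 : α * α - b * β * β = -1) (w : (Fin k ⊕ Fin k) ⊕ Fin 2 → F) :
    Cfsg.quadFormMinus k F a b (sqM k a b α β w) = Cfsg.quadFormMinus k F a b w := by
  rw [quadFormMinus_eq, quadFormMinus_eq, sqM_inl, sqJ_iso hk, sqM_inr0, sqM_inr1]
  have hn : α * α + a * α * β + b * β * β = 1 := by linear_combination α * h1 - h2
  linear_combination (w (.inr 0) ^ 2 + a * w (.inr 0) * w (.inr 1) + b * w (.inr 1) ^ 2) * hn

theorem sqM_sq (hk : Even k) {a b α β : F} (h1 : 2 * α + a * β = 0)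
    (h2 : α * α - b * β * β = -1) (w : (Fin k ⊕ Fin k) ⊕ Fin 2 → F) :
    sqM k a b α β (sqM k a b α β w) = -w := by
  funext j
  rcases j with j | j
  · have e1 : sqM k a b α β (sqM k a b α β w) (.inl j) =
        ((sqM k a b α β (sqM k a b α β w)) ∘ Sum.inl) j := rfl
    rw [e1, sqM_inl, sqM_inl, sqJ_sq hk]
    rfl
  · fin_cases j
    · show sqM k a b α β (sqM k a b α β w) (.inr 0) = -w (.inr 0)
      rw [sqM_inr0, sqM_inr0, sqM_inr1]
      linear_combination (-b * β * w (.inr 1)) * h1 + (w (.inr 0)) * h2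
    · show sqM k a b α β (sqM k a b α β w) (.inr 1) = -w (.inr 1)
      rw [sqM_inr1, sqM_inr0, sqM_inr1]
      linear_combination (β * w (.inr 0) + a * β * w (.inr 1)) * h1 + (w (.inr 1)) * h2

end minus

section minusgroup

variable {F : Type u} [Field F] [Fintype F] {k : ℕ}

theorem mB_nondeg {a b : F}
    (hab : ∀ z₁ z₂ : F, z₁ ^ 2 + a * z₁ * z₂ + b * z₂ ^ 2 = 0 → z₁ = 0 ∧ z₂ = 0) :
    (qB (minusForm k F a b)).Nondegenerate :=
  Cfsg.Agent.Helper5.nondegenerate_minusForm_of_aniso k a b hab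

theorem card_minus : Fintype.card ((Fin k ⊕ Fin k) ⊕ Fin 2) = 2 * (k + 1) := by
  rw [Fintype.card_sum, Fintype.card_sum, Fintype.card_fin, Fintype.card_fin]
  ring

theorem hT_minus {a b : F}
    (hab : ∀ z₁ z₂ : F, z₁ ^ 2 + a * z₁ * z₂ + b * z₂ ^ 2 = 0 → z₁ = 0 ∧ z₂ = 0) :
    HasType (⇑(minusForm k F a b)) (k + 1) (-1) := by
  rw [minusForm_coe]
  exact hasType_minus k a b hab

/-- the discriminant of an anisotropic binary form is a non-square -/
theorem not_isSquare_disc (h2 : (2 : F) ≠ 0) {a b : F}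
    (hab : ∀ z₁ z₂ : F, z₁ ^ 2 + a * z₁ * z₂ + b * z₂ ^ 2 = 0 → z₁ = 0 ∧ z₂ = 0) :
    ¬ IsSquare (a ^ 2 - 4 * b) := by
  rintro ⟨s, hs⟩
  have := hab ((s - a) / 2) 1 (by
    field_simp
    linear_combination -hs)
  exact one_ne_zero this.2

/-- if `-1` is a non-square then minus the discriminant is a nonzero square -/
theorem exists_sq_disc (h2 : (2 : F) ≠ 0) {a b : F}
    (hab : ∀ z₁ z₂ : F, z₁ ^ 2 + a * z₁ * z₂ + b * z₂ ^ 2 = 0 → z₁ = 0 ∧ z₂ = 0)
    (hneg : ¬ IsSquare (-1 : F)) : ∃ s : F, s ≠ 0 ∧ s * s = 4 * b - a ^ 2 := by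
  classical
  have h1 := not_isSquare_disc h2 hab
  have hne : 4 * b - a ^ 2 ≠ 0 := by
    intro h
    apply h1
    refine ⟨0, ?_⟩
    linear_combination -h
  have hχ : quadraticChar F (4 * b - a ^ 2) = 1 := by
    have e : 4 * b - a ^ 2 = (-1) * (a ^ 2 - 4 * b) := by ring
    rw [e, map_mul, quadraticChar_neg_one_iff_not_isSquare.mpr hneg,
      quadraticChar_neg_one_iff_not_isSquare.mpr h1]
    norm_num
  obtain ⟨s, hs⟩ := (quadraticChar_one_iff_isSquare hne).mp hχ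
  refine ⟨s, ?_, hs.symm⟩
  rintro rfl
  apply hne
  rw [hs, mul_zero]

theorem exists_minus_sq_neg (h2 : (2 : F) ≠ 0) {a b : F}
    (hab : ∀ z₁ z₂ : F, z₁ ^ 2 + a * z₁ * z₂ + b * z₂ ^ 2 = 0 → z₁ = 0 ∧ z₂ = 0)
    (hk : Even k) (hneg : ¬ IsSquare (-1 : F)) :
    ∃ g : ↥(Cfsg.isometryGroup F ⇑(minusForm k F a b)),
      ∀ v : (Fin k ⊕ Fin k) ⊕ Fin 2 → F,
      (g.1 : Matrix ((Fin k ⊕ Fin k) ⊕ Fin 2) ((Fin k ⊕ Fin k) ⊕ Fin 2) F) *ᵥ
        ((g.1 : Matrix ((Fin k ⊕ Fin k) ⊕ Fin 2) ((Fin k ⊕ Fin k) ⊕ Fin 2) F) *ᵥ v) = -v := by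
  obtain ⟨s, hs0, hs⟩ := exists_sq_disc h2 hab hneg
  have h1 : 2 * (-a / s) + a * (2 / s) = 0 := by
    field_simp
    ring
  have h3 : (-a / s) * (-a / s) - b * (2 / s) * (2 / s) = -1 := by
    field_simp
    linear_combination hs
  obtain ⟨g, hg⟩ := exists_isom_elt (minusForm k F a b) (mB_nondeg hab)
    (sqM k a b (-a / s) (2 / s)) (sqM_iso hk h1 h3)
  exact ⟨g, fun v => by rw [hg, hg]; exact sqM_sq hk h1 h3 v⟩

theorem fc_minus_mul {a b : F}
    (hab : ∀ z₁ z₂ : F, z₁ ^ 2 + a * z₁ * z₂ + b * z₂ ^ 2 = 0 → z₁ = 0 ∧ z₂ = 0) :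
    fc (⇑(minusForm k F a b)) 1 * Fintype.card F =
      Fintype.card F ^ (k + 1) * (Fintype.card F ^ (k + 1) + 1) := by
  have hV : finrank F ((Fin k ⊕ Fin k) ⊕ Fin 2 → F) = 2 * (k + 1) := by
    rw [Module.finrank_fintype_fun_eq_card, card_minus]
  have h1 := fc_one_mul (minusForm k F a b) hV ((nondeg_iff _).mp (mB_nondeg hab)) (hT_minus hab)
  rw [Nat.card_eq_fintype_card] at h1
  have : ((fc (⇑(minusForm k F a b)) 1 * Fintype.card F : ℕ) : ℤ) =
      ((Fintype.card F ^ (k + 1) * (Fintype.card F ^ (k + 1) + 1) : ℕ) : ℤ) := by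
    push_cast
    rw [h1]
    ring
  exact_mod_cast this

theorem eight_dvd_fc_minus_iff {q : ℕ} (hq : Fintype.card F = q) (hodd : Odd q) {a b : F}
    (hab : ∀ z₁ z₂ : F, z₁ ^ 2 + a * z₁ * z₂ + b * z₂ ^ 2 = 0 → z₁ = 0 ∧ z₂ = 0) :
    8 ∣ fc (⇑(minusForm k F a b)) 1 ↔ (Odd (k + 1) ∧ q % 8 = 7) := by
  have h1 := fc_minus_mul (k := k) hab
  rw [hq] at h1
  have hcop : Nat.Coprime 8 q := by
    have : Nat.Coprime 2 q := (Nat.coprime_two_left).mpr hodd
    exact Nat.Coprime.pow_left 3 this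
  have hmod := pow_mod_eight hodd (k + 1)
  have key : 8 ∣ fc (⇑(minusForm k F a b)) 1 ↔ 8 ∣ q ^ (k + 1) + 1 := by
    constructor
    · intro h
      have h3 : 8 ∣ q ^ (k + 1) * (q ^ (k + 1) + 1) := by rw [← h1]; exact Dvd.dvd.mul_right h _
      exact (Nat.Coprime.pow_right (k + 1) hcop).dvd_of_dvd_mul_left h3
    · intro h
      have h3 : 8 ∣ fc (⇑(minusForm k F a b)) 1 * q := by rw [h1]; exact Dvd.dvd.mul_left h _
      exact hcop.dvd_of_dvd_mul_right h3
  rw [key]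
  by_cases hde : Even (k + 1)
  · rw [if_pos hde] at hmod
    constructor
    · intro _; omega
    · rintro ⟨h, -⟩
      exact absurd hde (Nat.not_even_iff_odd.mpr h)
  · rw [if_neg hde] at hmod
    constructor
    · intro h
      exact ⟨Nat.not_even_iff_odd.mp hde, by omega⟩
    · rintro ⟨-, h⟩
      omega

/-- elements of `Ω⁻` with square `-1` exist iff `k + 1` is odd and `q ≡ 7 mod 8` -/
theorem exists_minus_Omega_sq_neg_iff (h2 : (2 : F) ≠ 0) {q : ℕ} (hq : Fintype.card F = q)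
    (hodd : Odd q) {a b : F}
    (hab : ∀ z₁ z₂ : F, z₁ ^ 2 + a * z₁ * z₂ + b * z₂ ^ 2 = 0 → z₁ = 0 ∧ z₂ = 0) :
    (∃ g : ↥(Cfsg.isometryGroup F ⇑(minusForm k F a b)), g ∈ Cfsg.Omega F ⇑(minusForm k F a b) ∧
      ∀ v : (Fin k ⊕ Fin k) ⊕ Fin 2 → F,
      (g.1 : Matrix ((Fin k ⊕ Fin k) ⊕ Fin 2) ((Fin k ⊕ Fin k) ⊕ Fin 2) F) *ᵥ
        ((g.1 : Matrix ((Fin k ⊕ Fin k) ⊕ Fin 2) ((Fin k ⊕ Fin k) ⊕ Fin 2) F) *ᵥ v) = -v) ↔
      (Odd (k + 1) ∧ q % 8 = 7) := by
  constructor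
  · rintro ⟨g, hgΩ, hg⟩
    obtain ⟨-, h3⟩ := mem_Omega_iff_of_sq_neg (minusForm k F a b) h2 (mB_nondeg hab) card_minus g hg
    exact (eight_dvd_fc_minus_iff hq hodd hab).mp (h3.mp hgΩ)
  · intro hcase
    have hk : Even k := by
      have := hcase.1
      rcases Nat.even_or_odd k with h | h
      · exact h
      · exfalso
        rw [← Nat.not_even_iff_odd] at this
        exact this (by rw [Nat.even_add_one, Nat.not_even_iff_odd]; exact h)
    have hneg : ¬ IsSquare (-1 : F) := by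
      rw [FiniteField.isSquare_neg_one_iff, hq]
      omega
    obtain ⟨g, hg⟩ := exists_minus_sq_neg (F := F) h2 hab hk hneg
    obtain ⟨-, h3⟩ := mem_Omega_iff_of_sq_neg (minusForm k F a b) h2 (mB_nondeg hab) card_minus g hg
    exact ⟨g, h3.mpr ((eight_dvd_fc_minus_iff hq hodd hab).mpr hcase), hg⟩

end minusgroup

end Cfsg.Agent.Helper94.Tp
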