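import Mathlib
import Cfsg.Agent.Helper99.QSpGlue
import Cfsg.Agent.Helper94.TsD
import Cfsg.Agent.Helper94.TiE

set_option autoImplicit false
set_option linter.unusedSectionVars false
set_option linter.style.haveILetI false

/-!
# Totally singular invariant subspaces of a quadratic space, all characteristics

A thin layer over the two engines `Helper94.Ts` (symmetric forms, `2 ≠ 0`) and `Helper94.Ti`
(alternating forms, used for the polar form when `2 = 0`), stated for a quadratic form `Q`: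
`TS Q W` means `Q` vanishes on `W`.
-/

namespace Cfsg.Agent.Helper94.Tq

open Module Polynomial
open Cfsg.Agent.Helper59.InvChain Cfsg.Agent.Helper59.Elusive
open Cfsg.Agent.Helper99.RDecomp Cfsg.Agent.Helper99.SpStruct
open Cfsg.Agent.Helper99.QSp Cfsg.Agent.Helper99.QSpGlue
open Cfsg.Agent.Helper44 Cfsg.Agent.Helper44.QType

universe u v

variable {F : Type u} [Field F] [Fintype F]
variable {V : Type v} [AddCommGroup V] [Module F V] [FiniteDimensional F V]
variable {Q : QuadraticForm F V} {r : ℕ} {y : Module.End F V}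

/-- the symmetric engine, `2 ≠ 0` -/
theorem toO (h : QSetup Q r y) :
    Cfsg.Agent.Helper94.Ts.OSetup (pB Q) r y (orderOf ((Fintype.card F : ℕ) : ZMod r)) where
  symm := pB_symm Q
  nondeg := h.nondeg
  isom := isom_pB h.iso
  setup := h.setup
  hp := h.hp
  odd := h.odd

/-- the alternating engine, `2 = 0` -/
theorem toSp (h : QSetup Q r y) (h2 : (2 : F) = 0) :
    SpSetup (pB Q) r y (orderOf ((Fintype.card F : ℕ) : ZMod r)) where
  alt := fun x => by rw [pB_self, h2, zero_mul]
  nondeg := h.nondeg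
  isom := isom_pB h.iso
  setup := h.setup
  hp := h.hp

omit [Fintype F] [FiniteDimensional F V] in
/-- `2 ≠ 0`: totally isotropic for the polar form is totally singular -/
theorem ts_of_orth (h2 : (2 : F) ≠ 0) {U : Submodule F V} (hU : Orth (pB Q) U U) : TS Q U := by
  intro u hu
  have h1 := hU u hu u hu
  rw [pB_self] at h1
  exact (mul_eq_zero.mp h1).resolve_left h2

omit [Fintype F] [FiniteDimensional F V] in
theorem q_sub (a b : V) : Q (a - b) = Q a + Q b - pB Q a b := by
  have h1 : Q a = Q (a - b) + Q b + QuadraticMap.polar Q (a - b) b := by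
    unfold QuadraticMap.polar
    rw [sub_add_cancel]; ring
  rw [QuadraticMap.polar_sub_left, QuadraticMap.polar_self, two_smul] at h1
  rw [pB_apply]
  linear_combination -h1

/-- `2 = 0`: an invariant totally isotropic subspace of the cyclotomic part is totally singular -/
theorem ts_of_ti_cyc (h : QSetup Q r y) (h2 : (2 : F) = 0) {U : Submodule F V}
    (hUc : U ≤ cycSp r y) (hUinv : Inv y U) (hU : Orth (pB Q) U U) : TS Q U := by
  haveI : Fact r.Prime := ⟨h.setup.prime⟩
  -- `y - 1` restricted to `U`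
  have hmap : ∀ u : ↥U, y (u : V) - u ∈ U := fun u => U.sub_mem (hUinv.apply_mem u.2) u.2
  let φ : ↥U →ₗ[F] ↥U :=
    { toFun := fun u => ⟨y (u : V) - u, hmap u⟩
      map_add' := fun a b => by
        apply Subtype.ext
        show y ((a : V) + b) - ((a : V) + b) = (y a - a) + (y b - b)
        rw [map_add]; abel
      map_smul' := fun c a => by
        apply Subtype.ext
        show y (c • (a : V)) - c • (a : V) = c • (y a - a)
        rw [map_smul, smul_sub] }
  have hinj : Function.Injective φ := by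
    rw [← LinearMap.ker_eq_bot, LinearMap.ker_eq_bot']
    intro u hu
    have h1 : y (u : V) - u = 0 := congrArg Subtype.val hu
    have h3 : (u : V) ∈ fixSp y ⊓ cycSp r y :=
      ⟨mem_fixSp.mpr (sub_eq_zero.mp h1), hUc u.2⟩
    rw [disjoint_fix_cyc r h.setup.ne_zero y, Submodule.mem_bot] at h3
    exact Subtype.ext h3
  have hsurj : Function.Surjective φ := LinearMap.surjective_of_injective hinj
  intro u hu
  obtain ⟨u', hu'⟩ := hsurj ⟨u, hu⟩
  have h1 : y (u' : V) - u' = u := congrArg Subtype.val hu'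
  rw [← h1, q_sub, h.iso, hU _ (hUinv.apply_mem u'.2) _ u'.2, sub_zero, ← two_mul, h2, zero_mul]

/-- invariant totally singular subspaces of the cyclotomic part -/
theorem exists_ts_cyc (h : QSetup Q r y) (b : ℕ)
    (hb : (¬ Even (orderOf ((Fintype.card F : ℕ) : ZMod r)) ∧
        2 * (b * orderOf ((Fintype.card F : ℕ) : ZMod r)) ≤ finrank F ↥(cycSp r y)) ∨
      b = 0 ∨ r + 2 * ((b - 1) * orderOf ((Fintype.card F : ℕ) : ZMod r)) ≤
        finrank F ↥(cycSp r y)) :
    ∃ U : Submodule F V, U ≤ cycSp r y ∧ Inv y U ∧ TS Q U ∧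
      finrank F ↥U = b * orderOf ((Fintype.card F : ℕ) : ZMod r) := by
  by_cases h2 : (2 : F) = 0
  · have hS := toSp h h2
    rcases hb with ⟨hi, hb⟩ | hb
    · obtain ⟨U, hUc, hUinv, hUti, hUdim⟩ := Cfsg.Agent.Helper94.Ti.exists_ti_cyc_odd hS hi b hb
      exact ⟨U, hUc, hUinv, ts_of_ti_cyc h h2 hUc hUinv hUti, hUdim⟩
    · obtain ⟨U, hUc, hUinv, hUti, hUdim⟩ :=
        Cfsg.Agent.Helper94.Ti.exists_ti_cyc_even hS h.odd b hb
      exact ⟨U, hUc, hUinv, ts_of_ti_cyc h h2 hUc hUinv hUti, hUdim⟩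
  · have hS := toO h
    rcases hb with ⟨hi, hb⟩ | hb
    · obtain ⟨U, hUc, hUinv, hUti, hUdim⟩ := Cfsg.Agent.Helper94.Ts.exists_ts_cyc_odd hS hi b hb
      exact ⟨U, hUc, hUinv, ts_of_orth h2 hUti, hUdim⟩
    · obtain ⟨U, hUc, hUinv, hUti, hUdim⟩ := Cfsg.Agent.Helper94.Ts.exists_ts_cyc_even hS b hb
      exact ⟨U, hUc, hUinv, ts_of_orth h2 hUti, hUdim⟩

/-- an invariant totally singular subspace splits -/
theorem ts_inv_split (h : QSetup Q r y) {W : Submodule F V} (hWinv : Inv y W) (hW : TS Q W) :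
    finrank F ↥W = finrank F ↥(W ⊓ fixSp y) + finrank F ↥(W ⊓ cycSp r y) ∧
      orderOf ((Fintype.card F : ℕ) : ZMod r) ∣ finrank F ↥(W ⊓ cycSp r y) ∧
      2 * finrank F ↥(W ⊓ cycSp r y) ≤ finrank F ↥(cycSp r y) := by
  by_cases h2 : (2 : F) = 0
  · obtain ⟨h1, -, h3, h4⟩ := Cfsg.Agent.Helper94.Ti.ti_inv_split (toSp h h2) hWinv hW.orth
    exact ⟨h1, h3, h4⟩
  · obtain ⟨h1, -, h3, h4⟩ := Cfsg.Agent.Helper94.Ts.ts_inv_split (toO h) hWinv hW.orth
    exact ⟨h1, h3, h4⟩

/-- no invariant totally singular subspaces in the cyclotomic part of a multiplicity free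
element (`i` even) -/
theorem aniso_of_ker_le (h : QSetup Q r y)
    (hi : Even (orderOf ((Fintype.card F : ℕ) : ZMod r)))
    (hker : ∀ P : F[X], Irreducible P → P ∣ cyclotomic r F →
      finrank F ↥(LinearMap.ker (aeval y P)) ≤ orderOf ((Fintype.card F : ℕ) : ZMod r))
    (U : Submodule F V) (hUc : U ≤ cycSp r y) (hUinv : Inv y U) (hU : TS Q U) : U = ⊥ := by
  by_cases h2 : (2 : F) = 0
  · exact Cfsg.Agent.Helper94.Ti.aniso_of_ker_le (toSp h h2) hi hker U hUc hUinv hU.orth
  · exact Cfsg.Agent.Helper94.Ts.aniso_of_ker_le' (toO h) hi hker U hUc hUinv hU.orth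

/-- gluing a totally singular subspace of the fixed part with an invariant one of the
cyclotomic part -/
theorem ts_glue (h : QSetup Q r y) {A U : Submodule F V} (hA : A ≤ fixSp y) (hAts : TS Q A)
    (hUc : U ≤ cycSp r y) (hUinv : Inv y U) (hUts : TS Q U) :
    TS Q (A ⊔ U) ∧ Inv y (A ⊔ U) ∧ finrank F ↥(A ⊔ U) = finrank F ↥A + finrank F ↥U := by
  haveI : Fact r.Prime := ⟨h.setup.prime⟩
  refine ⟨?_, inv_sup (inv_of_le_fixSp hA) hUinv, ?_⟩
  · intro w hw
    obtain ⟨a, ha, u, hu, rfl⟩ := Submodule.mem_sup.mp hw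
    have h0 : pB Q a u = 0 := QSetup.orth_fix_cyc h a (hA ha) u (hUc hu)
    have h1 : Q (a + u) = Q a + Q u + pB Q a u := by
      rw [pB_apply]; unfold QuadraticMap.polar; ring
    rw [h1, hAts a ha, hUts u hu, h0]; simp
  · have hdis : Disjoint A U := by
      rw [disjoint_iff, eq_bot_iff]
      intro v hv
      have : v ∈ fixSp y ⊓ cycSp r y := ⟨hA hv.1, hUc hv.2⟩
      rwa [disjoint_fix_cyc r h.setup.ne_zero y] at this
    rw [← Submodule.finrank_sup_add_finrank_inf_eq A U, hdis.eq_bot, finrank_bot, add_zero]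

end Cfsg.Agent.Helper94.Tq
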