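import Mathlib
import Cfsg.Agent.Helper94.TqA

set_option autoImplicit false
set_option linter.unusedSectionVars false
set_option linter.style.haveILetI false

/-!
# Totally singular subspaces and types; the criterion for one element of odd prime order
-/

namespace Cfsg.Agent.Helper94.Tq

open Module Polynomial
open Cfsg.Agent.Helper59.InvChain Cfsg.Agent.Helper59.Elusive
open Cfsg.Agent.Helper99.RDecomp Cfsg.Agent.Helper99.SpStruct
open Cfsg.Agent.Helper99.QSp Cfsg.Agent.Helper99.QSpGlue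
open Cfsg.Agent.Helper44 Cfsg.Agent.Helper44.QType

universe u v

section sub

variable {F : Type u} [Field F]
variable {V : Type v} [AddCommGroup V] [Module F V] [FiniteDimensional F V]

/-- subspaces of every smaller dimension -/
theorem exists_sub_finrank (U : Submodule F V) {a : ℕ} (ha : a ≤ finrank F ↥U) :
    ∃ U' : Submodule F V, U' ≤ U ∧ finrank F ↥U' = a := by
  obtain ⟨f, hf⟩ := exists_linearIndependent_of_le_finrank (R := F) (M := ↥U) ha
  have hf' : LinearIndependent F (fun k => (f k : V)) := by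
    have := hf.map' U.subtype (Submodule.ker_subtype _)
    simpa [Function.comp_def] using this
  refine ⟨Submodule.span F (Set.range fun k => (f k : V)), ?_, ?_⟩
  · rw [Submodule.span_le]
    rintro _ ⟨k, rfl⟩
    exact (f k).2
  · rw [finrank_span_eq_card hf', Fintype.card_fin]

end sub

variable {F : Type u} [Field F] [Fintype F]
variable {V : Type v} [AddCommGroup V] [Module F V] [FiniteDimensional F V]
variable {Q : QuadraticForm F V} {r : ℕ} {y : Module.End F V}

omit [Fintype F] [FiniteDimensional F V] in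
theorem ts_mono {U U' : Submodule F V} (h : TS Q U) (hle : U' ≤ U) : TS Q U' :=
  fun u hu => h u (hle hu)

/-- totally singular subspaces of a nondegenerate subspace of given type: existence -/
theorem exists_ts_typed {X : Submodule F V} (hX : Nd (pB Q) X) {g : ℕ}
    (hdim : finrank F ↥X = 2 * g) {ε : ℤ} (hε : QType Q X g ε) {a : ℕ}
    (ha : (ε = 1 ∧ a ≤ g) ∨ a + 1 ≤ g) :
    ∃ A : Submodule F V, A ≤ X ∧ TS Q A ∧ finrank F ↥A = a := by
  rcases ha with ⟨rfl, ha⟩ | ha
  · obtain ⟨U, hUX, hUts, hUdim⟩ := (hyp_iff_qType Q hX hdim).mpr hε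
    obtain ⟨A, hAU, hAdim⟩ := exists_sub_finrank U (a := a) (by omega)
    exact ⟨A, hAU.trans hUX, ts_mono hUts hAU, hAdim⟩
  · obtain ⟨W, hWX, hWnd, hWdim, hWty⟩ :=
      exists_typed_sub Q hX hdim (t := g - 1) (by omega) 1 (Or.inl rfl)
    obtain ⟨U, hUW, hUts, hUdim⟩ := (hyp_iff_qType Q hWnd hWdim).mpr hWty
    obtain ⟨A, hAU, hAdim⟩ := exists_sub_finrank U (a := a) (by omega)
    exact ⟨A, (hAU.trans hUW).trans hWX, ts_mono hUts hAU, hAdim⟩

/-- totally singular subspaces of a nondegenerate subspace of given type: the bound -/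
theorem ts_finrank_le_typed (hnd : (pB Q).Nondegenerate) {X : Submodule F V} (hX : Nd (pB Q) X)
    {g : ℕ} (hdim : finrank F ↥X = 2 * g) {ε : ℤ} (hε : QType Q X g ε) {A : Submodule F V}
    (hAX : A ≤ X) (hA : TS Q A) : finrank F ↥A ≤ g ∧ (ε = -1 → finrank F ↥A + 1 ≤ g) := by
  have h1 := Cfsg.Agent.Helper94.Ti.ti_finrank_le (pB_refl Q) hnd hAX hX hA.orth
  refine ⟨by omega, ?_⟩
  rintro rfl
  by_contra hcon
  have hAg : finrank F ↥A = g := by omega
  have hhyp : Hyp Q X := ⟨A, hAX, hA, by rw [hAg, hdim]⟩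
  have := ((hyp_iff_qType Q hX hdim).mp hhyp).unique hε
  norm_num at this

/-- the type of the fixed space -/
theorem fix_type (h : QSetup Q r y) (hrq : ¬ r ∣ Fintype.card F) {d : ℕ}
    (hV : finrank F V = 2 * d) {εV : ℤ} (hεV : QType Q ⊤ d εV) {b : ℕ}
    (hb : finrank F ↥(cycSp r y) = b * blockSize (orderOf ((Fintype.card F : ℕ) : ZMod r)))
    {g : ℕ} (hg : finrank F ↥(fixSp y) = 2 * g) :
    QType Q (fixSp y) g (εV * bsign (orderOf ((Fintype.card F : ℕ) : ZMod r)) b) :=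
  Cfsg.Agent.Helper79.QSp.qType_fix h (QSetup.deps h hrq) hV hεV hb hg

/-- existence of an invariant totally singular subspace -/
theorem exists_ts_inv (h : QSetup Q r y) (hrq : ¬ r ∣ Fintype.card F) {d : ℕ}
    (hV : finrank F V = 2 * d) {εV : ℤ} (hεV : QType Q ⊤ d εV) {k g : ℕ}
    (hk : finrank F ↥(cycSp r y) = k * blockSize (orderOf ((Fintype.card F : ℕ) : ZMod r)))
    (hg : finrank F ↥(fixSp y) = 2 * g) (a b : ℕ)
    (ha : (εV * bsign (orderOf ((Fintype.card F : ℕ) : ZMod r)) k = 1 ∧ a ≤ g) ∨ a + 1 ≤ g)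
    (hb : (¬ Even (orderOf ((Fintype.card F : ℕ) : ZMod r)) ∧
        2 * (b * orderOf ((Fintype.card F : ℕ) : ZMod r)) ≤ finrank F ↥(cycSp r y)) ∨
      b = 0 ∨ r + 2 * ((b - 1) * orderOf ((Fintype.card F : ℕ) : ZMod r)) ≤
        finrank F ↥(cycSp r y)) :
    ∃ W : Submodule F V, finrank F ↥W = a + b * orderOf ((Fintype.card F : ℕ) : ZMod r) ∧
      TS Q W ∧ Inv y W := by
  obtain ⟨U, hUc, hUinv, hUts, hUdim⟩ := exists_ts_cyc h b hb
  obtain ⟨A, hAX, hAts, hAdim⟩ := exists_ts_typed (QSetup.nd_fix h) hg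
    (fix_type h hrq hV hεV hk hg) ha
  obtain ⟨h1, h3, h4⟩ := ts_glue h hAX hAts hUc hUinv hUts
  exact ⟨A ⊔ U, by rw [h4, hAdim, hUdim], h1, h3⟩

/-- necessary conditions for an invariant totally singular subspace -/
theorem ts_inv_cond (h : QSetup Q r y) (hrq : ¬ r ∣ Fintype.card F) {d : ℕ}
    (hV : finrank F V = 2 * d) {εV : ℤ} (hεV : QType Q ⊤ d εV) {k g : ℕ}
    (hk : finrank F ↥(cycSp r y) = k * blockSize (orderOf ((Fintype.card F : ℕ) : ZMod r)))
    (hg : finrank F ↥(fixSp y) = 2 * g) {W : Submodule F V} (hWinv : Inv y W) (hW : TS Q W) :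
    ∃ a b : ℕ, finrank F ↥W = a + b * orderOf ((Fintype.card F : ℕ) : ZMod r) ∧
      2 * (b * orderOf ((Fintype.card F : ℕ) : ZMod r)) ≤
        k * blockSize (orderOf ((Fintype.card F : ℕ) : ZMod r)) ∧ a ≤ g ∧
      (εV * bsign (orderOf ((Fintype.card F : ℕ) : ZMod r)) k = -1 → a + 1 ≤ g) ∧
      ((∀ U : Submodule F V, U ≤ cycSp r y → Inv y U → TS Q U → U = ⊥) → b = 0) := by
  obtain ⟨h1, ⟨b, hb⟩, h3⟩ := ts_inv_split h hWinv hW
  obtain ⟨h4, h5⟩ := ts_finrank_le_typed h.nondeg (QSetup.nd_fix h) hg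
    (fix_type h hrq hV hεV hk hg) (inf_le_right : W ⊓ fixSp y ≤ fixSp y) (ts_mono hW inf_le_left)
  refine ⟨finrank F ↥(W ⊓ fixSp y), b, ?_, ?_, h4, h5, ?_⟩
  · rw [h1, hb, mul_comm]
  · rw [← hk, mul_comm b, ← hb]; exact h3
  · intro han
    have := han (W ⊓ cycSp r y) inf_le_right (inv_inf hWinv (inv_cycSp r y)) (ts_mono hW inf_le_left)
    rw [this, finrank_bot] at hb
    have hipos := h.setup.c_pos
    rcases Nat.eq_zero_or_pos b with h0 | h0
    · exact h0
    · have := Nat.mul_pos hipos h0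
      omega

end Cfsg.Agent.Helper94.Tq
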