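import Mathlib
import Cfsg.Agent.Helper94.TqB
import Cfsg.Agent.Helper94.TsF

set_option autoImplicit false
set_option linter.unusedSectionVars false
set_option linter.style.haveILetI false

/-!
# Counting totally singular subspaces of a quadratic space of even dimension and given type,
all characteristics
-/

namespace Cfsg.Agent.Helper94.Tq

open Module
open Cfsg.Agent.Helper59.InvChain
open Cfsg.Agent.Helper99.RDecomp Cfsg.Agent.Helper99.SpStruct
open Cfsg.Agent.Helper99.QSp Cfsg.Agent.Helper99.QSpGlue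
open Cfsg.Agent.Helper44 Cfsg.Agent.Helper44.QType
open Cfsg.Agent.Helper94.Ti
open Cfsg.Agent.Helper59.SubCount

universe u v

variable {F : Type u} [Field F] [Fintype F]
variable {V : Type v} [AddCommGroup V] [Module F V] [FiniteDimensional F V]
variable {Q : QuadraticForm F V}

/-- totally singular frames -/
def IsTsFrame (Q : QuadraticForm F V) {m : ℕ} (s : Fin m → V) : Prop :=
  IsTiFrame (pB Q) s ∧ ∀ a, Q (s a) = 0

theorem ti_span {m : ℕ} {s : Fin m → V} (hs : IsTiFrame (pB Q) s) :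
    Orth (pB Q) (Submodule.span F (Set.range s)) (Submodule.span F (Set.range s)) := by
  intro u hu v hv
  have hv' : v ∈ (pB Q).orthogonal (Submodule.span F (Set.range s)) := by
    rw [mem_orthogonal_span_iff]
    intro b
    have hle : Submodule.span F (Set.range s) ≤ LinearMap.ker (pB Q (s b)) := by
      rw [Submodule.span_le]
      rintro _ ⟨a, rfl⟩
      rw [SetLike.mem_coe, LinearMap.mem_ker]
      exact hs.2 b a
    exact LinearMap.mem_ker.mp (hle hv)
  rw [LinearMap.BilinForm.mem_orthogonal_iff] at hv'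
  exact hv' u hu

/-- a subspace spanned by pairwise orthogonal singular vectors is totally singular -/
theorem ts_span {m : ℕ} {s : Fin m → V} (hs : IsTsFrame Q s) :
    TS Q (Submodule.span F (Set.range s)) := by
  have hti := ti_span hs.1
  intro u hu
  induction hu using Submodule.span_induction with
  | mem x hx =>
    obtain ⟨a, rfl⟩ := hx
    exact hs.2 a
  | zero => exact map_zero _
  | add x y hx hy ihx ihy =>
    have h0 : pB Q x y = 0 := hti x hx y hy
    have h1 : Q (x + y) = Q x + Q y + pB Q x y := by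
      rw [pB_apply]; unfold QuadraticMap.polar; ring
    rw [h1, ihx, ihy, h0]; simp
  | smul c x hx ihx =>
    rw [QuadraticMap.map_smul, ihx, smul_zero]

/-- the singular vectors orthogonal to a totally singular subspace -/
theorem card_sing_orth (hnd : (pB Q).Nondegenerate) {d : ℕ} (hV : finrank F V = 2 * d)
    {εV : ℤ} (hεV : QType Q ⊤ d εV) {S : Submodule F V} (hS : TS Q S) {m : ℕ}
    (hSdim : finrank F ↥S = m) :
    (Nat.card {v : V // v ∈ (pB Q).orthogonal S ∧ Q v = 0} : ℤ) * (Fintype.card F : ℤ) =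
      (Fintype.card F : ℤ) ^ m * ((Fintype.card F : ℤ) ^ (2 * (d - m)) +
        εV * ((Fintype.card F : ℤ) ^ (d - m + 1) - (Fintype.card F : ℤ) ^ (d - m))) := by
  classical
  haveI : Finite V := Module.finite_of_finite F
  have hrefl := pB_refl Q
  have hone : Inv (1 : Module.End F V) S := by
    rw [inv_iff]
    intro x hx
    exact hx
  obtain ⟨C, -, -, hCnd, hSC, hdis, hCdim⟩ :=
    (Cfsg.Agent.Helper94.Ts.rIso_one hrefl hnd).exists_compl_ti
      (inv_top _) (Cfsg.Agent.Helper94.Ts.nd_top_of_nondeg' hnd) (le_top : S ≤ ⊤) hone hS.orth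
  rw [finrank_top, hV, hSdim] at hCdim
  have hmd : m ≤ d := by omega
  have hCdim' : finrank F ↥C = 2 * (d - m) := by omega
  have hSle : S ≤ (pB Q).orthogonal S := orth_iff_le.mp hS.orth
  have hCle : C ≤ (pB Q).orthogonal S := orth_iff_le.mp hSC
  have hsup : S ⊔ C = (pB Q).orthogonal S := by
    apply Submodule.eq_of_le_of_finrank_eq (sup_le hSle hCle)
    rw [finrank_sup_of_disjoint hdis, LinearMap.BilinForm.finrank_orthogonal hnd, hSdim, hV]
    omega
  -- the type of `C`
  have hndtop := Cfsg.Agent.Helper94.Ts.nd_top_of_nondeg' hnd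
  have hC'nd : Nd (pB Q) (⊤ ⊓ (pB Q).orthogonal C) := hCnd.inf_orth hrefl le_top hndtop
  have hC'dim : finrank F ↥(⊤ ⊓ (pB Q).orthogonal C : Submodule F V) = 2 * m := by
    have := hCnd.finrank_inf_orth hrefl (le_top : C ≤ ⊤)
    rw [finrank_top, hV] at this
    omega
  have hSC' : S ≤ ⊤ ⊓ (pB Q).orthogonal C := le_inf le_top (orth_iff_le.mp (hSC.symm hrefl))
  have hC'ty : QType Q (⊤ ⊓ (pB Q).orthogonal C) m 1 :=
    (hyp_iff_qType Q hC'nd hC'dim).mp ⟨S, hSC', hS, by rw [hSdim, hC'dim]⟩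
  obtain ⟨ε, -, hCty⟩ := exists_qType Q hCnd hCdim'
  have hsum := qType_sup Q hCnd hC'nd orth_inf_orth hCdim' hC'dim hCty hC'ty
  have htop : C ⊔ (⊤ ⊓ (pB Q).orthogonal C) = ⊤ := (hCnd.sup_inf_orth hrefl le_top).1
  have hε : ε = εV := by
    have h1 := Cfsg.Agent.Helper79.QSp.qType_congr htop (by omega : d - m + m = d) (mul_one ε) hsum
    exact h1.unique hεV
  subst hε
  have hcardC : (Nat.card {c : ↥C // qSub Q C c = 0} : ℤ) * (Fintype.card F : ℤ) =
      (Fintype.card F : ℤ) ^ (2 * (d - m)) +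
        ε * ((Fintype.card F : ℤ) ^ (d - m + 1) - (Fintype.card F : ℤ) ^ (d - m)) := by
    have := hCty
    unfold QType HasType fc at this
    have hqF : Nat.card F = Fintype.card F := Nat.card_eq_fintype_card
    rw [hqF] at this
    exact this
  have hcardS : Nat.card ↥S = Fintype.card F ^ m := by
    rw [Module.natCard_eq_pow_finrank (K := F) (V := ↥S), hSdim, Nat.card_eq_fintype_card]
  have hkey : ∀ s ∈ S, ∀ c ∈ C, Q (s + c) = Q c := by
    intro s hs c hc
    have h1 : Q (s + c) = Q s + Q c + pB Q s c := by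
      rw [pB_apply]; unfold QuadraticMap.polar; ring
    rw [h1, hS s hs, hSC s hs c hc]; simp
  let φ : ↥S × {c : ↥C // qSub Q C c = 0} → {v : V // v ∈ (pB Q).orthogonal S ∧ Q v = 0} :=
    fun p => ⟨(p.1 : V) + (p.2.1 : V), by
      rw [← hsup]
      exact Submodule.add_mem_sup p.1.2 p.2.1.2, by
      rw [hkey _ p.1.2 _ p.2.1.2]; exact p.2.2⟩
  have hφ : Function.Bijective φ := by
    constructor
    · rintro ⟨s, c⟩ ⟨s', c'⟩ h
      have h1 : (s : V) + (c.1 : V) = (s' : V) + (c'.1 : V) := congrArg Subtype.val h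
      have h3 : (s : V) - (s' : V) = (c'.1 : V) - (c.1 : V) := by
        rw [sub_eq_sub_iff_add_eq_add, h1, add_comm]
      have h4 : (s : V) - (s' : V) ∈ S ⊓ C :=
        ⟨S.sub_mem s.2 s'.2, by rw [h3]; exact C.sub_mem c'.1.2 c.1.2⟩
      rw [hdis.eq_bot, Submodule.mem_bot] at h4
      have h5 : (s : V) = s' := sub_eq_zero.mp h4
      have h6 : (c.1 : V) = (c'.1 : V) := by
        rw [h5] at h1
        exact add_left_cancel h1
      exact Prod.ext (Subtype.ext h5) (Subtype.ext (Subtype.ext h6))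
    · rintro ⟨v, hv, hvv⟩
      rw [← hsup] at hv
      obtain ⟨s, hs, c, hc, rfl⟩ := Submodule.mem_sup.mp hv
      refine ⟨(⟨s, hs⟩, ⟨⟨c, hc⟩, ?_⟩), rfl⟩
      show Q c = 0
      rw [← hkey s hs c hc]; exact hvv
  rw [← Nat.card_congr (Equiv.ofBijective φ hφ), Nat.card_prod, hcardS]
  push_cast
  rw [mul_assoc, hcardC]

variable (Q)

theorem isTsFrame_cons {m : ℕ} (v : V) (s : Fin m → V) :
    IsTsFrame Q (Fin.cons v s : Fin (m + 1) → V) ↔
      IsTsFrame Q s ∧ (v ∈ (pB Q).orthogonal (Submodule.span F (Set.range s)) ∧ Q v = 0) ∧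
        v ∉ Submodule.span F (Set.range s) := by
  unfold IsTsFrame IsTiFrame
  rw [linearIndependent_finCons, mem_orthogonal_span_iff]
  constructor
  · rintro ⟨⟨⟨h1, h2⟩, h3⟩, h4⟩
    refine ⟨⟨⟨h1, fun a b => ?_⟩, fun a => ?_⟩, ⟨fun b => ?_, ?_⟩, h2⟩
    · have := h3 a.succ b.succ
      rwa [Fin.cons_succ, Fin.cons_succ] at this
    · have := h4 a.succ
      rwa [Fin.cons_succ] at this
    · have := h3 b.succ 0
      rwa [Fin.cons_succ, Fin.cons_zero] at this
    · have := h4 0
      rwa [Fin.cons_zero] at this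
  · rintro ⟨⟨⟨h1, h2⟩, h6⟩, ⟨h3, h5⟩, h4⟩
    refine ⟨⟨⟨h1, h4⟩, fun a b => ?_⟩, fun a => ?_⟩
    · refine Fin.cases ?_ (fun a' => ?_) a <;> refine Fin.cases ?_ (fun b' => ?_) b
      · rw [Fin.cons_zero, pB_self, h5, mul_zero]
      · rw [Fin.cons_zero, Fin.cons_succ]
        exact (pB_refl Q) _ _ (h3 b')
      · rw [Fin.cons_zero, Fin.cons_succ]; exact h3 a'
      · rw [Fin.cons_succ, Fin.cons_succ]; exact h2 a' b'
    · refine Fin.cases ?_ (fun a' => ?_) a
      · rw [Fin.cons_zero]; exact h5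
      · rw [Fin.cons_succ]; exact h6 a'

/-- forgetting the first vector of a frame -/
noncomputable def tsTailMap (m : ℕ) :
    {s : Fin (m + 1) → V // IsTsFrame Q s} → {s : Fin m → V // IsTsFrame Q s} :=
  fun s => ⟨Fin.tail s.1, by
    have h := s.2
    rw [← Fin.cons_self_tail s.1] at h
    exact ((isTsFrame_cons Q _ _).mp h).1⟩

/-- the fibre of `tsTailMap` -/
noncomputable def tsTailFiberEquiv (m : ℕ) (s : {s : Fin m → V // IsTsFrame Q s}) :
    {s' : {s' : Fin (m + 1) → V // IsTsFrame Q s'} // tsTailMap Q m s' = s} ≃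
      {v : V // (v ∈ (pB Q).orthogonal (Submodule.span F (Set.range s.1)) ∧ Q v = 0) ∧
        v ∉ Submodule.span F (Set.range s.1)} where
  toFun s' := ⟨s'.1.1 0, by
    have h := s'.1.2
    rw [← Fin.cons_self_tail s'.1.1] at h
    have h2 := ((isTsFrame_cons Q _ _).mp h).2
    have h3 : Fin.tail s'.1.1 = s.1 := congrArg Subtype.val s'.2
    rwa [h3] at h2⟩
  invFun v := ⟨⟨Fin.cons v.1 s.1, (isTsFrame_cons Q _ _).mpr ⟨s.2, v.2⟩⟩, by
    apply Subtype.ext
    show Fin.tail (Fin.cons v.1 s.1 : Fin (m + 1) → V) = s.1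
    exact Fin.tail_cons _ _⟩
  left_inv s' := by
    apply Subtype.ext; apply Subtype.ext
    have h3 : Fin.tail s'.1.1 = s.1 := congrArg Subtype.val s'.2
    show Fin.cons (s'.1.1 0) s.1 = s'.1.1
    rw [← h3]
    exact Fin.cons_self_tail _
  right_inv v := by
    apply Subtype.ext
    show (Fin.cons v.1 s.1 : Fin (m + 1) → V) 0 = v.1
    exact Fin.cons_zero _ _

end Cfsg.Agent.Helper94.Tq
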