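import Mathlib
import Cfsg.Agent.Helper94.TqC

set_option autoImplicit false
set_option linter.unusedSectionVars false
set_option linter.style.haveILetI false

/-!
# The number of totally singular `m`-spaces of a quadratic space of dimension `2 d` and type `ε`
-/

namespace Cfsg.Agent.Helper94.Tq

open Module
open Cfsg.Agent.Helper59.InvChain
open Cfsg.Agent.Helper99.RDecomp Cfsg.Agent.Helper99.SpStruct
open Cfsg.Agent.Helper99.QSp Cfsg.Agent.Helper99.QSpGlue
open Cfsg.Agent.Helper44 Cfsg.Agent.Helper44.QType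
open Cfsg.Agent.Helper94.Ti
open Cfsg.Agent.Helper59.SubCount

universe u v

variable {F : Type u} [Field F] [Fintype F]
variable {V : Type v} [AddCommGroup V] [Module F V] [FiniteDimensional F V]
variable (Q : QuadraticForm F V)

/-- the number of ways to extend a frame -/
theorem card_ts_fiber (hnd : (pB Q).Nondegenerate) {d : ℕ} (hV : finrank F V = 2 * d)
    {εV : ℤ} (hε : εV = 1 ∨ εV = -1) (hεV : QType Q ⊤ d εV) {m : ℕ} (hmd : m < d)
    (s : Fin m → V) (hs : IsTsFrame Q s) :
    (Nat.card {v : V // (v ∈ (pB Q).orthogonal (Submodule.span F (Set.range s)) ∧ Q v = 0) ∧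
        v ∉ Submodule.span F (Set.range s)} : ℤ) =
      (Fintype.card F : ℤ) ^ m * (((Fintype.card F : ℤ) ^ (d - m) - εV) *
        ((Fintype.card F : ℤ) ^ (d - m - 1) + εV)) := by
  classical
  haveI : Finite V := Module.finite_of_finite F
  set S := Submodule.span F (Set.range s) with hS
  have hSdim : finrank F ↥S = m := by
    rw [hS, finrank_span_eq_card hs.1.1, Fintype.card_fin]
  have hSts : TS Q S := ts_span hs
  have hSA : (S : Set V) ⊆ {v : V | v ∈ (pB Q).orthogonal S ∧ Q v = 0} := by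
    intro x hx
    exact ⟨orth_iff_le.mp hSts.orth hx, hSts x hx⟩
  have h1 : Nat.card {v : V // (v ∈ (pB Q).orthogonal S ∧ Q v = 0) ∧ v ∉ S} =
      ({v : V | v ∈ (pB Q).orthogonal S ∧ Q v = 0} \ (S : Set V)).ncard := by
    rw [← Nat.card_coe_set_eq]
    rfl
  have h2 := card_sing_orth hnd hV hεV hSts hSdim
  have e4 : Nat.card ↥S = Fintype.card F ^ m := by
    rw [Module.natCard_eq_pow_finrank (K := F) (V := ↥S), hSdim, Nat.card_eq_fintype_card]
  have h3 : ({v : V | v ∈ (pB Q).orthogonal S ∧ Q v = 0} \ (S : Set V)).ncard + Nat.card ↥S =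
      Nat.card {v : V // v ∈ (pB Q).orthogonal S ∧ Q v = 0} := by
    rw [Set.ncard_sdiff hSA (Set.toFinite _), ← Nat.card_coe_set_eq, ← Nat.card_coe_set_eq]
    have hle : Nat.card ↥(S : Set V) ≤ Nat.card ↥{v : V | v ∈ (pB Q).orthogonal S ∧ Q v = 0} :=
      Nat.card_mono (Set.toFinite _) hSA
    have e2 : Nat.card ↥(S : Set V) = Nat.card ↥S := rfl
    have e3 : Nat.card ↥{v : V | v ∈ (pB Q).orthogonal S ∧ Q v = 0} =
      Nat.card {v : V // v ∈ (pB Q).orthogonal S ∧ Q v = 0} := rfl
    omega
  rw [h1]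
  have h4 : ((({v : V | v ∈ (pB Q).orthogonal S ∧ Q v = 0} \ (S : Set V)).ncard : ℕ) : ℤ) =
      (Nat.card {v : V // v ∈ (pB Q).orthogonal S ∧ Q v = 0} : ℤ) - (Fintype.card F : ℤ) ^ m := by
    rw [← h3, e4]; push_cast; ring
  rw [h4]
  have hq0 : (Fintype.card F : ℤ) ≠ 0 := by
    have := Fintype.card_pos (α := F)
    exact_mod_cast this.ne'
  apply mul_right_cancel₀ hq0
  rw [sub_mul, h2]
  obtain ⟨g, hg⟩ : ∃ g, d - m = g + 1 := ⟨d - m - 1, by omega⟩
  have hg' : d - m - 1 = g := by omega
  rw [hg', hg]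
  have hε2 : εV * εV = 1 := by rcases hε with rfl | rfl <;> norm_num
  have e5 : (Fintype.card F : ℤ) ^ (2 * (g + 1)) =
      (Fintype.card F : ℤ) ^ (g + 1) * (Fintype.card F : ℤ) ^ (g + 1) := by
    rw [two_mul, pow_add]
  rw [e5, pow_succ ((Fintype.card F : ℤ)) (g + 1), pow_succ ((Fintype.card F : ℤ)) g]
  linear_combination ((Fintype.card F : ℤ) ^ m * (Fintype.card F : ℤ)) * hε2

/-- the number of totally singular frames -/
theorem card_tsFrame (hnd : (pB Q).Nondegenerate) {d : ℕ} (hV : finrank F V = 2 * d)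
    {εV : ℤ} (hε : εV = 1 ∨ εV = -1) (hεV : QType Q ⊤ d εV) (m : ℕ) (hmd : m ≤ d) :
    (Nat.card {s : Fin m → V // IsTsFrame Q s} : ℤ) =
      ∏ k : Fin m, ((Fintype.card F : ℤ) ^ k.val * (((Fintype.card F : ℤ) ^ (d - k.val) - εV) *
        ((Fintype.card F : ℤ) ^ (d - k.val - 1) + εV))) := by
  classical
  haveI : Finite V := Module.finite_of_finite F
  induction m with
  | zero =>
    rw [Finset.univ_eq_empty, Finset.prod_empty]
    haveI : Unique {s : Fin 0 → V // IsTsFrame Q s} :=
      { default := ⟨Fin.elim0, ⟨linearIndependent_empty_type, fun a => a.elim0⟩,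
          fun a => a.elim0⟩
        uniq := fun s => Subtype.ext (funext fun a => a.elim0) }
    rw [Nat.card_unique]; rfl
  | succ m ih =>
    haveI : Fintype {s : Fin m → V // IsTsFrame Q s} := Fintype.ofFinite _
    rw [Nat.card_congr (Equiv.sigmaFiberEquiv (tsTailMap Q m)).symm, Nat.card_sigma]
    have hfib : ∀ s : {s : Fin m → V // IsTsFrame Q s},
        (Nat.card {s' : {s' : Fin (m + 1) → V // IsTsFrame Q s'} // tsTailMap Q m s' = s} : ℤ) =
          (Fintype.card F : ℤ) ^ m * (((Fintype.card F : ℤ) ^ (d - m) - εV) *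
            ((Fintype.card F : ℤ) ^ (d - m - 1) + εV)) := by
      intro s
      rw [Nat.card_congr (tsTailFiberEquiv Q m s),
        card_ts_fiber Q hnd hV hε hεV (by omega) s.1 s.2]
    push_cast
    rw [Finset.sum_congr rfl (fun s _ => hfib s), Finset.sum_const, Finset.card_univ,
      ← Nat.card_eq_fintype_card, nsmul_eq_mul, ih (by omega), Fin.prod_univ_castSucc]
    simp only [Fin.val_castSucc, Fin.val_last]

/-- the span map on totally singular frames -/
noncomputable def tsSpanMap (m : ℕ) :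
    {s : Fin m → V // IsTsFrame Q s} → {W : Submodule F V // finrank F ↥W = m ∧ TS Q W} :=
  fun s => ⟨Submodule.span F (Set.range s.1), by
    rw [finrank_span_eq_card s.2.1.1]; simp, ts_span s.2⟩

/-- the fibre of the span map over `W` is the set of bases of `W` -/
noncomputable def tsFiberEquiv (m : ℕ)
    (W : {W : Submodule F V // finrank F ↥W = m ∧ TS Q W}) :
    {s : {s : Fin m → V // IsTsFrame Q s} // tsSpanMap Q m s = W} ≃
      {s' : Fin m → ↥W.1 // LinearIndependent F s'} where
  toFun s := ⟨fun k => ⟨s.1.1 k, by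
      have h := congrArg Subtype.val s.2
      simp only [tsSpanMap] at h
      rw [← h]
      exact Submodule.subset_span ⟨k, rfl⟩⟩, by
    have := s.1.2.1.1
    exact LinearIndependent.of_comp W.1.subtype (by simpa [Function.comp_def] using this)⟩
  invFun s' := ⟨⟨fun k => (s'.1 k : V), ⟨by
      have := s'.2.map' W.1.subtype (Submodule.ker_subtype _)
      simpa [Function.comp_def] using this,
      fun a b => W.2.2.orth _ (s'.1 a).2 _ (s'.1 b).2⟩, fun a => W.2.2 _ (s'.1 a).2⟩, by
    apply Subtype.ext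
    simp only [tsSpanMap]
    have hspan : Submodule.span F (Set.range s'.1) = ⊤ := by
      apply LinearIndependent.span_eq_top_of_card_eq_finrank' s'.2
      rw [Fintype.card_fin, W.2.1]
    have : Submodule.span F (Set.range fun k => (s'.1 k : V)) =
        (Submodule.span F (Set.range s'.1)).map W.1.subtype := by
      rw [Submodule.map_span, ← Set.range_comp]; rfl
    rw [this, hspan, Submodule.map_top, Submodule.range_subtype]⟩
  left_inv s := by
    apply Subtype.ext; apply Subtype.ext; rfl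
  right_inv s' := by
    apply Subtype.ext; funext k; rfl

/-- **counting identity** for totally singular `m`-spaces -/
theorem card_ts_mul (hnd : (pB Q).Nondegenerate) {d : ℕ} (hV : finrank F V = 2 * d)
    {εV : ℤ} (hε : εV = 1 ∨ εV = -1) (hεV : QType Q ⊤ d εV) (m : ℕ) (hmd : m ≤ d) :
    ((Nat.card {W : Submodule F V // finrank F ↥W = m ∧ TS Q W} *
        ∏ k : Fin m, (Fintype.card F ^ m - Fintype.card F ^ k.val) : ℕ) : ℤ) =
      ∏ k : Fin m, ((Fintype.card F : ℤ) ^ k.val * (((Fintype.card F : ℤ) ^ (d - k.val) - εV) *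
        ((Fintype.card F : ℤ) ^ (d - k.val - 1) + εV))) := by
  classical
  haveI : Finite V := Module.finite_of_finite F
  haveI : Fintype {W : Submodule F V // finrank F ↥W = m ∧ TS Q W} := Fintype.ofFinite _
  rw [← card_tsFrame Q hnd hV hε hεV m hmd,
    Nat.card_congr (Equiv.sigmaFiberEquiv (tsSpanMap Q m)).symm, Nat.card_sigma]
  have hfib : ∀ W : {W : Submodule F V // finrank F ↥W = m ∧ TS Q W},
      Nat.card {s : {s : Fin m → V // IsTsFrame Q s} // tsSpanMap Q m s = W} =
        ∏ k : Fin m, (Fintype.card F ^ m - Fintype.card F ^ k.val) := by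
    intro W
    rw [Nat.card_congr (tsFiberEquiv Q m W),
      card_linearIndependent (K := F) (V := ↥W.1) (by rw [W.2.1]), W.2.1]
  rw [Finset.sum_congr rfl (fun W _ => hfib W), Finset.sum_const, Finset.card_univ,
    Nat.card_eq_fintype_card, smul_eq_mul]

/-- the reduced counting identity -/
theorem card_ts_mul' (hnd : (pB Q).Nondegenerate) {d : ℕ} (hV : finrank F V = 2 * d)
    {εV : ℤ} (hε : εV = 1 ∨ εV = -1) (hεV : QType Q ⊤ d εV) (m : ℕ) (hmd : m ≤ d) :
    ((Nat.card {W : Submodule F V // finrank F ↥W = m ∧ TS Q W} *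
        ∏ k : Fin m, (Fintype.card F ^ (m - k.val) - 1) : ℕ) : ℤ) =
      ∏ k : Fin m, (((Fintype.card F : ℤ) ^ (d - k.val) - εV) *
        ((Fintype.card F : ℤ) ^ (d - k.val - 1) + εV)) := by
  have h := card_ts_mul Q hnd hV hε hεV m hmd
  rw [prod_sub_eq _ _ m le_rfl, Finset.prod_mul_distrib] at h
  have hpos : (∏ k : Fin m, (Fintype.card F : ℤ) ^ k.val) ≠ 0 := by
    apply Finset.prod_ne_zero_iff.mpr
    intro k _
    have := Fintype.card_pos (α := F)
    exact pow_ne_zero _ (by exact_mod_cast this.ne')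
  apply mul_left_cancel₀ hpos
  rw [← h]
  push_cast
  ring

end Cfsg.Agent.Helper94.Tq
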