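import Mathlib
import Cfsg.Agent.Helper94.TqD

set_option autoImplicit false
set_option linter.unusedSectionVars false
set_option linter.style.haveILetI false

/-!
# Divisibility consequences of the count of totally singular subspaces
-/

namespace Cfsg.Agent.Helper94.Tq

open Module
open Cfsg.Agent.Helper99.RDecomp Cfsg.Agent.Helper99.SpStruct
open Cfsg.Agent.Helper99.QSp Cfsg.Agent.Helper99.QSpGlue
open Cfsg.Agent.Helper44 Cfsg.Agent.Helper44.QType

universe u v

variable {F : Type u} [Field F] [Fintype F]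
variable {V : Type v} [AddCommGroup V] [Module F V] [FiniteDimensional F V]
variable (Q : QuadraticForm F V)

/-- a prime dividing the number of totally singular `m`-spaces divides some
`(q^(d-k) - ε) (q^(d-k-1) + ε)`, `k < m` -/
theorem exists_dvd_of_dvd_card_ts (hnd : (pB Q).Nondegenerate) {d : ℕ}
    (hV : finrank F V = 2 * d) {εV : ℤ} (hε : εV = 1 ∨ εV = -1) (hεV : QType Q ⊤ d εV) (m : ℕ)
    (hmd : m ≤ d) (r : ℕ) (hr : r.Prime)
    (hdvd : r ∣ Nat.card {W : Submodule F V // finrank F ↥W = m ∧ TS Q W}) :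
    ∃ k : ℕ, k < m ∧ (r : ℤ) ∣ ((Fintype.card F : ℤ) ^ (d - k) - εV) *
      ((Fintype.card F : ℤ) ^ (d - k - 1) + εV) := by
  have h := card_ts_mul' Q hnd hV hε hεV m hmd
  have h1 : (r : ℤ) ∣ ∏ k : Fin m, (((Fintype.card F : ℤ) ^ (d - k.val) - εV) *
      ((Fintype.card F : ℤ) ^ (d - k.val - 1) + εV)) := by
    rw [← h]
    exact Int.natCast_dvd_natCast.mpr (Dvd.dvd.mul_right hdvd _)
  have hrZ : Prime (r : ℤ) := Nat.prime_iff_prime_int.mp hr
  obtain ⟨k, -, hk⟩ := (hrZ.dvd_finsetProd_iff _).mp h1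
  exact ⟨k.val, k.2, hk⟩

/-- the characteristic does not divide the number of totally singular `m`-spaces, `m < d` -/
theorem char_not_dvd_card_ts (hnd : (pB Q).Nondegenerate) {d : ℕ}
    (hV : finrank F V = 2 * d) {εV : ℤ} (hε : εV = 1 ∨ εV = -1) (hεV : QType Q ⊤ d εV) (m : ℕ)
    (hmd : m < d) (p : ℕ) [Fact p.Prime] [CharP F p] :
    ¬ p ∣ Nat.card {W : Submodule F V // finrank F ↥W = m ∧ TS Q W} := by
  intro hdvd
  have hp : p.Prime := Fact.out
  obtain ⟨k, hk, hd⟩ := exists_dvd_of_dvd_card_ts Q hnd hV hε hεV m hmd.le p hp hdvd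
  have hpq : (p : ℤ) ∣ (Fintype.card F : ℤ) := by
    obtain ⟨e, -, he⟩ := FiniteField.card F p
    rw [he]
    push_cast
    exact dvd_pow_self _ e.pos.ne'
  have hpZ : Prime (p : ℤ) := Nat.prime_iff_prime_int.mp hp
  have hunit : ¬ (p : ℤ) ∣ εV := by
    intro h1
    have h2 : (p : ℤ) ∣ 1 := by
      rcases hε with rfl | rfl
      · exact h1
      · exact (dvd_neg.mp h1)
    exact hpZ.not_isUnit (isUnit_of_dvd_one h2)
  rcases hpZ.dvd_or_dvd hd with h1 | h1
  · have hj : d - k ≠ 0 := by omega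
    have h2 : (p : ℤ) ∣ (Fintype.card F : ℤ) ^ (d - k) := Dvd.dvd.trans hpq (dvd_pow_self _ hj)
    exact hunit ((dvd_sub_right h2).mp h1)
  · have hj : d - k - 1 ≠ 0 := by omega
    have h2 : (p : ℤ) ∣ (Fintype.card F : ℤ) ^ (d - k - 1) :=
      Dvd.dvd.trans hpq (dvd_pow_self _ hj)
    exact hunit ((dvd_add_right h2).mp h1)

end Cfsg.Agent.Helper94.Tq
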