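import Mathlib

set_option autoImplicit false
set_option linter.unusedVariables false

/-!
# Arithmetic for totally singular subspaces of even-dimensional orthogonal spaces
(S5973, S5987): core lemmas in terms of `h = i / 2` (for `i` even) resp. `i` (for `i` odd)
-/

namespace Cfsg.Agent.Helper94.Tq

/-- `i = 2 h` even, type `+`: every admissible number `k'` of blocks admits a solution -/
theorem core_even_exists (h n' κ m' ℓ k' t : ℕ) (hh : 1 ≤ h) (hκ : κ < h) (hℓ : ℓ < 2 * h)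
    (hm' : 1 ≤ m') (hs : t + 2 * m' ≤ n') (hk1 : 1 ≤ k') (hkn : k' ≤ n')
    (hadm : k' = n' → κ = 0 → Even k')
    (hABC : (ℓ ≤ h ∧ κ = 0 ∧ Odd n' ∧ t + 2 * m' < n') ∨ (ℓ ≤ κ ∧ Even n') ∨
      (ℓ < κ ∧ Odd n')) :
    ∃ a b : ℕ, a + b * (2 * h) = m' * (2 * h) + ℓ ∧ (b = 0 ∨ t + 2 * b ≤ k' + 1) ∧
      ((Even k' ∧ a + k' * h ≤ n' * h + κ) ∨ a + 1 + k' * h ≤ n' * h + κ) := by
  -- the choice of `b`
  obtain ⟨b, hb1, hb2, hb3⟩ : ∃ b : ℕ, b ≤ m' ∧ (b = 0 ∨ t + 2 * b ≤ k' + 1) ∧
      (b = m' ∨ (b < m' ∧ k' ≤ t + 2 * b)) := by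
    by_cases h1 : t ≤ k' + 1
    · by_cases h2 : (k' + 1 - t) / 2 ≤ m'
      · by_cases h3 : (k' + 1 - t) / 2 = m'
        · exact ⟨m', le_rfl, Or.inr (by omega), Or.inl rfl⟩
        · exact ⟨(k' + 1 - t) / 2, h2, Or.inr (by omega), Or.inr ⟨by omega, by omega⟩⟩
      · exact ⟨m', le_rfl, Or.inr (by omega), Or.inl rfl⟩
    · exact ⟨0, by omega, Or.inl rfl, Or.inr ⟨by omega, by omega⟩⟩
  have hsplit : (m' - b) * (2 * h) + b * (2 * h) = m' * (2 * h) := by
    rw [← Nat.add_mul]; congr 1; omega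
  -- `X = n' - k' - 2 (m' - b) ≥ 0`
  have hX0 : k' + 2 * (m' - b) ≤ n' := by
    rcases hb3 with rfl | ⟨hb3, hb4⟩
    · omega
    · omega
  obtain ⟨X, hX⟩ : ∃ X, n' = k' + 2 * (m' - b) + X := ⟨n' - (k' + 2 * (m' - b)), by omega⟩
  have hnh : n' * h = k' * h + 2 * ((m' - b) * h) + X * h := by rw [hX]; ring
  have hY : (m' - b) * (2 * h) = 2 * ((m' - b) * h) := by ring
  refine ⟨(m' - b) * (2 * h) + ℓ, b, by omega, hb2, ?_⟩
  have hXh1 : 1 ≤ X → h ≤ X * h := fun hX1 => Nat.le_mul_of_pos_left h hX1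
  have hXh2 : 2 ≤ X → 2 * h ≤ X * h := fun hX2 => Nat.mul_le_mul_right h hX2
  rcases Nat.even_or_odd k' with hk | hk
  · left
    refine ⟨hk, ?_⟩
    rw [hnh, hY]
    obtain ⟨k₀, hk₀⟩ := hk
    rcases hABC with ⟨h1, h2, ⟨n₀, hn₀⟩, h4⟩ | ⟨h1, ⟨n₀, hn₀⟩⟩ | ⟨h1, ⟨n₀, hn₀⟩⟩
    · have : 1 ≤ X := by omega
      have := hXh1 this
      omega
    · omega
    · omega
  · right
    rw [hnh, hY]
    obtain ⟨k₀, hk₀⟩ := hk
    rcases hABC with ⟨h1, h2, ⟨n₀, hn₀⟩, h4⟩ | ⟨h1, ⟨n₀, hn₀⟩⟩ | ⟨h1, ⟨n₀, hn₀⟩⟩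
    · have hkne : k' ≠ n' := by
        intro hkn'
        have h5 := hadm hkn' h2
        rw [Nat.even_iff] at h5
        omega
      have hX2 : 2 ≤ X := by
        rcases hb3 with rfl | ⟨hb3, hb4⟩
        · omega
        · omega
      have := hXh2 hX2
      omega
    · have : 1 ≤ X := by omega
      have := hXh1 this
      omega
    · omega

theorem mod_helper (c n x A : ℕ) (hA : A = n * c + x) (hx : x < c) (hd : c ∣ A) : x = 0 := by
  subst hA
  have := (Nat.dvd_add_right (dvd_mul_left c n)).mp hd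
  exact Nat.eq_zero_of_dvd_of_lt this hx

theorem divmod_unique (c m' ℓ a b : ℕ) (h : m' * c + ℓ = a + b * c) (hℓ : ℓ < c) (ha : a < c) :
    a = ℓ ∧ b = m' := by
  have h1 : (m' * c + ℓ) % c = ℓ := by
    rw [Nat.mul_comm, Nat.mul_add_mod, Nat.mod_eq_of_lt hℓ]
  have h2 : (a + b * c) % c = a := by
    rw [Nat.add_mul_mod_self_right, Nat.mod_eq_of_lt ha]
  have h3 : a = ℓ := by rw [← h1, ← h2, h]
  subst h3
  have h4 : m' * c = b * c := by omega
  have hc : 0 < c := by omega
  exact ⟨rfl, (Nat.eq_of_mul_eq_mul_right hc h4).symm⟩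

/-- `i = 2 h` even, type `+`: the conditions forced by the test elements -/
theorem core_even_rhs (h n' κ m' ℓ t : ℕ) (hh : 1 ≤ h) (hκ : κ < h) (hℓ : ℓ < 2 * h)
    (ht : 1 ≤ t) (hm : 1 ≤ m' * (2 * h) + ℓ) (hmd : m' * (2 * h) + ℓ < n' * h + κ)
    (hstar : ∃ k, k < m' * (2 * h) + ℓ ∧ (2 * h ∣ n' * h + κ - k ∨
      (2 * h ∣ 2 * (n' * h + κ - k - 1) ∧ ¬ 2 * h ∣ n' * h + κ - k - 1)))
    (hT1 : ∀ k', 1 ≤ k' → k' ≤ n' → (k' = n' → κ = 0 → Even k') →
      ∃ a b, m' * (2 * h) + ℓ = a + b * (2 * h) ∧ 2 * b ≤ k' ∧ a + k' * h ≤ n' * h + κ ∧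
        (Odd k' → a + 1 + k' * h ≤ n' * h + κ))
    (hT2 : ∀ u, 1 ≤ u → u ≤ t → u ≤ n' → (u = n' → κ = 0 → Even u) →
      m' * (2 * h) + ℓ + u * h ≤ n' * h + κ ∧
        (Odd u → m' * (2 * h) + ℓ + 1 + u * h ≤ n' * h + κ)) :
    1 ≤ m' ∧ t + 2 * m' ≤ n' ∧ ((ℓ ≤ h ∧ κ = 0 ∧ Odd n' ∧ t + 2 * m' < n') ∨
      (ℓ ≤ κ ∧ Even n') ∨ (ℓ < κ ∧ Odd n')) := by
  obtain ⟨k, hkm, hk⟩ := hstar
  have h2h : 0 < 2 * h := by omega
  -- the divisibility by `2 h` of `2 x` is divisibility of `x` by `h`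
  have hdvd2 : ∀ x : ℕ, 2 * h ∣ 2 * x → h ∣ x := fun x hx =>
    (Nat.mul_dvd_mul_iff_left (by norm_num : 0 < 2)).mp hx
  rcases Nat.even_or_odd n' with ⟨n₀, hn₀⟩ | ⟨n₀, hn₀⟩
  · -- `n'` even
    have hnh : n' * h = n₀ * (2 * h) := by rw [hn₀]; ring
    have hnh' : n' * h = (2 * n₀) * h := by rw [hn₀]; ring
    by_cases hn0 : n₀ = 0
    · -- `d = κ < h`
      exfalso
      rw [hn0] at hnh
      simp only [zero_mul] at hnh
      rcases hk with hk | ⟨hk1, hk2⟩
      · have := mod_helper (2 * h) 0 (n' * h + κ - k) _ (by omega) (by omega) hk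
        omega
      · have h3 := hdvd2 _ hk1
        have := mod_helper h 0 (n' * h + κ - k - 1) _ (by omega) (by omega) h3
        apply hk2
        rw [this]
        exact dvd_zero _
    · obtain ⟨a, b, hab, hb, ha, -⟩ := hT1 n' (by omega) le_rfl
        (fun _ _ => ⟨n₀, hn₀⟩)
      have haκ : a ≤ κ := by omega
      obtain ⟨rfl, rfl⟩ := divmod_unique (2 * h) m' ℓ a b hab hℓ (by omega)
      have hm'1 : 1 ≤ b := by
        by_contra hcon
        have hb0 : b = 0 := by omega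
        subst hb0
        simp only [zero_mul, zero_add] at hkm hm hmd
        rcases hk with hk | ⟨hk1, hk2⟩
        · have := mod_helper (2 * h) n₀ (κ - k) (n' * h + κ - k) (by omega) (by omega) hk
          omega
        · have h3 := hdvd2 _ hk1
          have h4 := mod_helper h (2 * n₀) (κ - k - 1) (n' * h + κ - k - 1) (by omega)
            (by omega) h3
          apply hk2
          have : n' * h + κ - k - 1 = n₀ * (2 * h) := by omega
          rw [this]
          exact dvd_mul_left _ _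
      refine ⟨hm'1, ?_, Or.inr (Or.inl ⟨haκ, ⟨n₀, hn₀⟩⟩)⟩
      by_contra hcon
      push Not at hcon
      obtain ⟨u, hu⟩ : ∃ u, u + 2 * b = n' + 1 := ⟨n' + 1 - 2 * b, by omega⟩
      have huodd : Odd u := by rw [Nat.odd_iff]; omega
      obtain ⟨-, h5⟩ := hT2 u (by omega) (by omega) (by omega) (fun h6 => by omega)
      have h6 := h5 huodd
      have h7 : (u + 2 * b) * h = (n' + 1) * h := by rw [hu]
      have h8 : (u + 2 * b) * h = u * h + b * (2 * h) := by ring
      have h9 : (n' + 1) * h = n' * h + h := by ring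
      omega
  · -- `n'` odd
    have hnh : n' * h = n₀ * (2 * h) + h := by rw [hn₀]; ring
    have hnh' : n' * h = (2 * n₀) * h + h := by rw [hn₀]; ring
    have hnodd : Odd n' := ⟨n₀, hn₀⟩
    by_cases hκ0 : κ = 0
    · subst hκ0
      by_cases hn0 : n₀ = 0
      · exfalso
        rw [hn0] at hnh
        simp only [zero_mul, zero_add] at hnh
        rcases hk with hk | ⟨hk1, hk2⟩
        · have := mod_helper (2 * h) 0 (n' * h + 0 - k) _ (by omega) (by omega) hk
          omega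
        · have h3 := hdvd2 _ hk1
          have := mod_helper h 0 (n' * h + 0 - k - 1) _ (by omega) (by omega) h3
          omega
      · have hk'h : (n' - 1) * h = n₀ * (2 * h) := by
          have : n' - 1 = 2 * n₀ := by omega
          rw [this]; ring
        obtain ⟨a, b, hab, hb, ha, -⟩ := hT1 (n' - 1) (by omega) (by omega)
          (fun h6 => by omega)
        have hah : a ≤ h := by omega
        obtain ⟨rfl, rfl⟩ := divmod_unique (2 * h) m' ℓ a b hab hℓ (by omega)
        have hm'1 : 1 ≤ b := by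
          by_contra hcon
          have hb0 : b = 0 := by omega
          subst hb0
          simp only [zero_mul, zero_add] at hkm hm hmd
          rcases hk with hk | ⟨hk1, hk2⟩
          · have := mod_helper (2 * h) n₀ (h - k) (n' * h + 0 - k) (by omega) (by omega) hk
            omega
          · have h3 := hdvd2 _ hk1
            have h4 := mod_helper h (2 * n₀) (h - k - 1) (n' * h + 0 - k - 1) (by omega)
              (by omega) h3
            apply hk2
            have : n' * h + 0 - k - 1 = n₀ * (2 * h) := by omega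
            rw [this]
            exact dvd_mul_left _ _
        have hlt : t + 2 * b < n' := by
          by_contra hcon
          push Not at hcon
          obtain ⟨u, hu⟩ : ∃ u, u + 2 * b = n' := ⟨n' - 2 * b, by omega⟩
          have huodd : Odd u := by rw [Nat.odd_iff]; omega
          obtain ⟨-, h5⟩ := hT2 u (by omega) (by omega) (by omega) (fun h6 => by omega)
          have h6 := h5 huodd
          have h7 : (u + 2 * b) * h = n' * h := by rw [hu]
          have h8 : (u + 2 * b) * h = u * h + b * (2 * h) := by ring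
          omega
        exact ⟨hm'1, by omega, Or.inl ⟨hah, rfl, hnodd, hlt⟩⟩
    · obtain ⟨a, b, hab, hb, -, ha⟩ := hT1 n' (by omega) le_rfl (fun _ h6 => absurd h6 hκ0)
      have ha' := ha hnodd
      have haκ : a < κ := by omega
      obtain ⟨rfl, rfl⟩ := divmod_unique (2 * h) m' ℓ a b hab hℓ (by omega)
      have hm'1 : 1 ≤ b := by
        by_contra hcon
        have hb0 : b = 0 := by omega
        subst hb0
        simp only [zero_mul, zero_add] at hkm hm hmd
        rcases hk with hk | ⟨hk1, hk2⟩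
        · have := mod_helper (2 * h) n₀ (h + κ - k) (n' * h + κ - k) (by omega) (by omega) hk
          omega
        · have h3 := hdvd2 _ hk1
          have h4 := mod_helper h (2 * n₀ + 1) (κ - k - 1) (n' * h + κ - k - 1)
            (by rw [Nat.add_mul, one_mul]; omega) (by omega) h3
          omega
      refine ⟨hm'1, ?_, Or.inr (Or.inr ⟨haκ, hnodd⟩)⟩
      by_contra hcon
      push Not at hcon
      obtain ⟨u, hu⟩ : ∃ u, u + 2 * b = n' + 1 := ⟨n' + 1 - 2 * b, by omega⟩
      obtain ⟨h5, -⟩ := hT2 u (by omega) (by omega) (by omega) (fun _ h6 => absurd h6 hκ0)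
      have h7 : (u + 2 * b) * h = (n' + 1) * h := by rw [hu]
      have h8 : (u + 2 * b) * h = u * h + b * (2 * h) := by ring
      have h9 : (n' + 1) * h = n' * h + h := by ring
      omega

end Cfsg.Agent.Helper94.Tq
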