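import Mathlib
import Cfsg.Agent.Helper94.TqF

set_option autoImplicit false
set_option linter.unusedVariables false

/-!
# Arithmetic for S5973 (type `+`): from the right hand side to solutions `(a, b)` for every
element, and from the test elements to the right hand side
-/

namespace Cfsg.Agent.Helper94.Tq

/-- the right hand side of S5973 for even `i` (`t = (r - 1) / i`) -/
def EvenRHSp (i d m t : ℕ) : Prop :=
  i ≤ m ∧ t + 2 * (m / i) ≤ (2 * d) / i ∧
    ((2 * (m % i) ≤ i ∧ (2 * d) % i = 0 ∧ Odd ((2 * d) / i) ∧ t + 2 * (m / i) < (2 * d) / i) ∨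
     (2 * (m % i) ≤ (2 * d) % i ∧ Even ((2 * d) / i)) ∨
     (2 * (m % i) < (2 * d) % i ∧ Odd ((2 * d) / i)))

/-- the right hand side of S5973 for odd `i` -/
def OddRHSp (i d m : ℕ) : Prop := i ≤ m ∧ 2 * (m % i) ≤ (2 * d) % (2 * i)

/-- the consequence of `r ∣ #Ω` in terms of `i`, type `+` -/
def StarP (i d m : ℕ) : Prop :=
  ∃ k : ℕ, k < m ∧ (i ∣ d - k ∨ (i ∣ 2 * (d - k - 1) ∧ ¬ i ∣ d - k - 1))

theorem evenRHSp_iff (h d m t : ℕ) (hh : 1 ≤ h) :
    EvenRHSp (2 * h) d m t ↔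
      (1 ≤ m / (2 * h) ∧ t + 2 * (m / (2 * h)) ≤ d / h ∧
        ((m % (2 * h) ≤ h ∧ d % h = 0 ∧ Odd (d / h) ∧ t + 2 * (m / (2 * h)) < d / h) ∨
         (m % (2 * h) ≤ d % h ∧ Even (d / h)) ∨ (m % (2 * h) < d % h ∧ Odd (d / h)))) := by
  unfold EvenRHSp
  have h1 : (2 * d) / (2 * h) = d / h := Nat.mul_div_mul_left d h (by norm_num)
  have h2 : (2 * d) % (2 * h) = 2 * (d % h) := Nat.mul_mod_mul_left 2 d h
  rw [h1, h2]
  have h3 : 2 * h ≤ m ↔ 1 ≤ m / (2 * h) := by
    rw [Nat.le_div_iff_mul_le (by omega), one_mul]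
  rw [h3]
  constructor
  · rintro ⟨a1, a2, a3⟩
    refine ⟨a1, a2, ?_⟩
    rcases a3 with ⟨b1, b2, b3, b4⟩ | ⟨b1, b2⟩ | ⟨b1, b2⟩
    · exact Or.inl ⟨by omega, by omega, b3, b4⟩
    · exact Or.inr (Or.inl ⟨by omega, b2⟩)
    · exact Or.inr (Or.inr ⟨by omega, b2⟩)
  · rintro ⟨a1, a2, a3⟩
    refine ⟨a1, a2, ?_⟩
    rcases a3 with ⟨b1, b2, b3, b4⟩ | ⟨b1, b2⟩ | ⟨b1, b2⟩
    · exact Or.inl ⟨by omega, by omega, b3, b4⟩
    · exact Or.inr (Or.inl ⟨by omega, b2⟩)
    · exact Or.inr (Or.inr ⟨by omega, b2⟩)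

/-- `k h ≤ n' h + κ` with `κ < h` gives `k ≤ n'` -/
theorem le_of_mul_le_add (h k n' κ : ℕ) (hκ : κ < h) (hle : k * h ≤ n' * h + κ) : k ≤ n' := by
  by_contra hcon
  push Not at hcon
  have h1 : (n' + 1) * h ≤ k * h := Nat.mul_le_mul_right h hcon
  have h2 : (n' + 1) * h = n' * h + h := by ring
  omega

/-- (⇐), `i` even -/
theorem even_exists_ab {i d m t : ℕ} (hi : Even i) (hipos : 0 < i) (hmd : m < d)
    (hrhs : EvenRHSp i d m t) {k g : ℕ} (hk1 : 1 ≤ k) (hkg : 2 * g + k * i = 2 * d)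
    (hadm : g = 0 → Even k) :
    ∃ a b : ℕ, a + b * i = m ∧ (b = 0 ∨ t + 2 * b ≤ k + 1) ∧ ((Even k ∧ a ≤ g) ∨ a + 1 ≤ g) := by
  obtain ⟨h, hh⟩ := hi
  have hi2 : i = 2 * h := by omega
  subst hi2
  have hh1 : 1 ≤ h := by omega
  obtain ⟨c1, c2, c3⟩ := (evenRHSp_iff h d m t hh1).mp hrhs
  have hd := Nat.div_add_mod d h
  have hm := Nat.div_add_mod m (2 * h)
  have hκ : d % h < h := Nat.mod_lt _ (by omega)
  have hℓ : m % (2 * h) < 2 * h := Nat.mod_lt _ (by omega)
  generalize hn' : d / h = n' at *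
  generalize hκdef : d % h = κ at *
  generalize hm' : m / (2 * h) = m' at *
  generalize hℓdef : m % (2 * h) = ℓ at *
  have e1 : h * n' = n' * h := mul_comm _ _
  have e2 : 2 * h * m' = m' * (2 * h) := mul_comm _ _
  have e3 : k * (2 * h) = 2 * (k * h) := by ring
  have hkn : k ≤ n' := le_of_mul_le_add h k n' κ hκ (by omega)
  obtain ⟨a, b, h1, h2, h3⟩ := core_even_exists h n' κ m' ℓ k t hh1 hκ hℓ c1 c2 hk1 hkn
    (fun h4 h5 => hadm (by
      subst h4
      omega)) c3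
  refine ⟨a, b, by omega, h2, ?_⟩
  rcases h3 with ⟨h3, h4⟩ | h3
  · exact Or.inl ⟨h3, by omega⟩
  · exact Or.inr (by omega)

/-- (⇒), `i` even -/
theorem even_rhs_of_tests {i d m t : ℕ} (hi : Even i) (hipos : 0 < i) (ht : 1 ≤ t) (hm1 : 1 ≤ m)
    (hmd : m < d) (hstar : StarP i d m)
    (hT1 : ∀ k g : ℕ, 1 ≤ k → 2 * g + k * i = 2 * d → (g = 0 → Even k) →
      ∃ a b : ℕ, m = a + b * i ∧ 2 * (b * i) ≤ k * i ∧ a ≤ g ∧ (Odd k → a + 1 ≤ g))
    (hT2 : ∀ u g : ℕ, 1 ≤ u → u ≤ t → 2 * g + u * i = 2 * d → (g = 0 → Even u) →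
      m ≤ g ∧ (Odd u → m + 1 ≤ g)) :
    EvenRHSp i d m t := by
  obtain ⟨h, hh⟩ := hi
  have hi2 : i = 2 * h := by omega
  subst hi2
  have hh1 : 1 ≤ h := by omega
  rw [evenRHSp_iff h d m t hh1]
  have hd := Nat.div_add_mod d h
  have hm := Nat.div_add_mod m (2 * h)
  have hκ : d % h < h := Nat.mod_lt _ (by omega)
  have hℓ : m % (2 * h) < 2 * h := Nat.mod_lt _ (by omega)
  generalize hn' : d / h = n' at *
  generalize hκdef : d % h = κ at *
  generalize hm' : m / (2 * h) = m' at *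
  generalize hℓdef : m % (2 * h) = ℓ at *
  have e1 : h * n' = n' * h := mul_comm _ _
  have e2 : 2 * h * m' = m' * (2 * h) := mul_comm _ _
  have hdeq : d = n' * h + κ := by omega
  have hmeq : m = m' * (2 * h) + ℓ := by omega
  apply core_even_rhs h n' κ m' ℓ t hh1 hκ hℓ ht (by omega) (by omega)
  · obtain ⟨k, hk1, hk2⟩ := hstar
    refine ⟨k, by omega, ?_⟩
    rw [← hdeq]
    exact hk2
  · intro k hk1 hkn hadm
    have hkh : k * h ≤ n' * h := Nat.mul_le_mul_right h hkn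
    have e3 : k * (2 * h) = 2 * (k * h) := by ring
    obtain ⟨a, b, h1, h2, h3, h4⟩ := hT1 k (d - k * h) hk1 (by omega) (fun h5 => by
      apply hadm
      · by_contra hne
        have hlt : k + 1 ≤ n' := by omega
        have := Nat.mul_le_mul_right h hlt
        have e4 : (k + 1) * h = k * h + h := by ring
        omega
      · by_contra hne
        omega)
    refine ⟨a, b, by omega, ?_, by omega, fun hodd => by have := h4 hodd; omega⟩
    have h5 : 2 * b * (2 * h) ≤ k * (2 * h) := by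
      have : 2 * b * (2 * h) = 2 * (b * (2 * h)) := by ring
      omega
    exact Nat.le_of_mul_le_mul_right h5 (by omega)
  · intro u hu1 hut hun hadm
    have hkh : u * h ≤ n' * h := Nat.mul_le_mul_right h hun
    have e3 : u * (2 * h) = 2 * (u * h) := by ring
    obtain ⟨h1, h2⟩ := hT2 u (d - u * h) hu1 hut (by omega) (fun h5 => by
      apply hadm
      · by_contra hne
        have hlt : u + 1 ≤ n' := by omega
        have := Nat.mul_le_mul_right h hlt
        have e4 : (u + 1) * h = u * h + h := by ring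
        omega
      · by_contra hne
        omega)
    exact ⟨by omega, fun hodd => by have := h2 hodd; omega⟩

/-- (⇐), `i` odd -/
theorem odd_exists_ab {i d m : ℕ} (hipos : 0 < i) (hmd : m < d) (hrhs : OddRHSp i d m)
    {k g : ℕ} (hk1 : 1 ≤ k) (hkg : 2 * g + k * (2 * i) = 2 * d) :
    ∃ a b : ℕ, a + b * i = m ∧ 2 * (b * i) ≤ k * (2 * i) ∧ a ≤ g := by
  obtain ⟨c1, c2⟩ := hrhs
  have h2 : (2 * d) % (2 * i) = 2 * (d % i) := Nat.mul_mod_mul_left 2 d i
  rw [h2] at c2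
  have hd := Nat.div_add_mod d i
  have hm := Nat.div_add_mod m i
  have hκ : d % i < i := Nat.mod_lt _ hipos
  have hℓ : m % i < i := Nat.mod_lt _ hipos
  generalize hn' : d / i = n' at *
  generalize hκdef : d % i = κ at *
  generalize hm' : m / i = m' at *
  generalize hℓdef : m % i = ℓ at *
  have e1 : i * n' = n' * i := mul_comm _ _
  have e2 : i * m' = m' * i := mul_comm _ _
  have e3 : k * (2 * i) = 2 * (k * i) := by ring
  by_cases hcase : k ≤ m'
  · have h1 : k * i ≤ m' * i := Nat.mul_le_mul_right i hcase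
    exact ⟨m - k * i, k, by omega, by omega, by omega⟩
  · push Not at hcase
    have h1 : m' * i ≤ k * i := Nat.mul_le_mul_right i (le_of_lt hcase)
    have hkn : k ≤ n' := le_of_mul_le_add i k n' κ hκ (by omega)
    have h3 : k * i ≤ n' * i := Nat.mul_le_mul_right i hkn
    exact ⟨ℓ, m', by omega, by omega, by omega⟩

/-- (⇒), `i` odd -/
theorem odd_rhs_of_tests {i d m : ℕ} (hi : Odd i) (hm1 : 1 ≤ m) (hmd : m < d)
    (hstar : StarP i d m)
    (hT1 : ∀ k g : ℕ, 1 ≤ k → 2 * g + k * (2 * i) = 2 * d →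
      ∃ a b : ℕ, m = a + b * i ∧ 2 * (b * i) ≤ k * (2 * i) ∧ a ≤ g) :
    OddRHSp i d m := by
  have hipos : 0 < i := hi.pos
  unfold OddRHSp
  have h2 : (2 * d) % (2 * i) = 2 * (d % i) := Nat.mul_mod_mul_left 2 d i
  rw [h2]
  have hd := Nat.div_add_mod d i
  have hm := Nat.div_add_mod m i
  have hκ : d % i < i := Nat.mod_lt _ hipos
  have hℓ : m % i < i := Nat.mod_lt _ hipos
  generalize hn' : d / i = n' at *
  generalize hκdef : d % i = κ at *
  generalize hm' : m / i = m' at *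
  generalize hℓdef : m % i = ℓ at *
  have e1 : i * n' = n' * i := mul_comm _ _
  have e2 : i * m' = m' * i := mul_comm _ _
  obtain ⟨k, hkm, hk⟩ := hstar
  have hk' : i ∣ d - k := by
    rcases hk with hk | ⟨hk1, hk2⟩
    · exact hk
    · exfalso
      apply hk2
      have hcop : Nat.Coprime i 2 := Nat.coprime_two_right.mpr hi
      exact hcop.dvd_of_dvd_mul_left hk1
  by_cases hn0 : n' = 0
  · exfalso
    rw [hn0, mul_zero, zero_add] at hd
    have hlt : d - k < i := by omega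
    have hdk0 : d - k = 0 := Nat.eq_zero_of_dvd_of_lt hk' hlt
    omega
  · obtain ⟨a, b, h3, h4, h5⟩ := hT1 n' κ (by omega) (by
      have : n' * (2 * i) = 2 * (n' * i) := by ring
      omega)
    obtain ⟨rfl, rfl⟩ := divmod_unique i m' ℓ a b (by omega) hℓ (by omega)
    have hb1 : 1 ≤ b := by
      by_contra hcon
      have hb0 : b = 0 := by omega
      subst hb0
      have := mod_helper i n' (κ - k) (d - k) (by omega) (by omega) hk'
      omega
    have hib : i ≤ b * i := Nat.le_mul_of_pos_left i hb1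
    exact ⟨by omega, by omega⟩

end Cfsg.Agent.Helper94.Tq
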