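import Mathlib
import Cfsg.Agent.Helper94.TqB
import Cfsg.Agent.Helper94.TqG
import Cfsg.Agent.Helper94.TpB
import Cfsg.Agent.Helper94.TsH

set_option autoImplicit false
set_option linter.unusedSectionVars false
set_option linter.unusedVariables false
set_option linter.style.haveILetI false

/-!
# Test elements with a multiplicity free cyclotomic part; the criterion of S5973 for one element
(type `+`)
-/

namespace Cfsg.Agent.Helper94.Tq

open Module Polynomial
open Cfsg.Agent.Helper59.InvChain Cfsg.Agent.Helper59.Elusive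
open Cfsg.Agent.Helper99.RDecomp Cfsg.Agent.Helper99.SpStruct Cfsg.Agent.Helper99.SpElt
open Cfsg.Agent.Helper99.QSp Cfsg.Agent.Helper99.QSpGlue
open Cfsg.Agent.Helper44 Cfsg.Agent.Helper44.QType
open Cfsg.Agent.Helper43.SpPrime

universe u v

section elt

variable {F : Type u} [Field F] [Fintype F] {p : ℕ} [Fact p.Prime] [CharP F p]
variable {ι : Type} [Fintype ι] [DecidableEq ι] (Q : QuadraticForm F (ι → F))

/-- test elements: `u ≤ (r-1)/i` distinct irreducible factors, each with multiplicity one -/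
theorem exists_q_elt_aniso (hnd : (pB Q).Nondegenerate) {m : ℕ} (hι : Fintype.card ι = 2 * m)
    {ε : ℤ} (hε : ε = 1 ∨ ε = -1) (hT : HasType (⇑Q) m ε) (r : ℕ) [Fact r.Prime] (hrp : r ≠ p)
    (hr2 : r ≠ 2) (hi : Even (orderOf ((Fintype.card F : ℕ) : ZMod r))) (u : ℕ) (hu : 0 < u)
    (hut : u * orderOf ((Fintype.card F : ℕ) : ZMod r) ≤ r - 1)
    (hud : u * orderOf ((Fintype.card F : ℕ) : ZMod r) ≤ 2 * m)
    (hgood : u * orderOf ((Fintype.card F : ℕ) : ZMod r) = 2 * m →
      ((Fintype.card F : ℕ) : ZMod r) ^ m = ((ε : ℤ) : ZMod r)) :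
    ∃ y : ↥(Cfsg.isometryGroup F ⇑Q), orderOf y = r ∧
      finrank F ↥(fixSp (Matrix.toLin' ((y : GL ι F) : Matrix ι ι F))) =
        2 * m - u * orderOf ((Fintype.card F : ℕ) : ZMod r) ∧
      ∀ P : F[X], Irreducible P → P ∣ cyclotomic r F →
        finrank F ↥(LinearMap.ker (aeval (Matrix.toLin' ((y : GL ι F) : Matrix ι ι F)) P)) ≤
          orderOf ((Fintype.card F : ℕ) : ZMod r) := by
  classical
  have hr : r.Prime := Fact.out
  obtain ⟨S, hS, hScard, ⟨hfm, hfd, hfr, hfac, hne⟩⟩ :=
    Cfsg.Agent.Helper94.Ts.exists_aniso_poly (F := F) m r hrp hi u hu hut hud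
  obtain ⟨y, hyord, hych⟩ := exists_isometry_of_poly p Q hι ((nondeg_iff Q).mp hnd) hε hT r hr
    hr2 hrp hfm hfd hfr hfac hne (by
      intro hndvd
      rw [Nat.card_eq_fintype_card]
      apply hgood
      by_contra hlt
      apply hndvd
      have hpos : 2 * m - u * orderOf ((Fintype.card F : ℕ) : ZMod r) ≠ 0 := by omega
      exact Dvd.dvd.mul_left (dvd_pow_self _ hpos) _)
  have hyr : y ^ r = 1 := by rw [← hyord]; exact pow_orderOf_eq_one y
  have hAr : ((y : GL ι F) : Matrix ι ι F) ^ r = 1 := by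
    have h3 : ((y ^ r : ↥(Cfsg.isometryGroup F ⇑Q)) : GL ι F) = 1 := by rw [hyr]; rfl
    have h4 := congrArg (fun z : GL ι F => (z : Matrix ι ι F)) h3
    simpa using h4
  obtain ⟨h1, h3⟩ := Cfsg.Agent.Helper94.Ts.ker_le_of_charpoly _ r hrp hAr S hS _ hych
  exact ⟨y, hyord, h1, h3⟩

end elt

section crit

variable {F : Type u} [Field F] [Fintype F]
variable {V : Type v} [AddCommGroup V] [Module F V] [FiniteDimensional F V]
variable {Q : QuadraticForm F V} {r : ℕ} {y : Module.End F V}

theorem bsign_even_even {i k : ℕ} (hi : Even i) (hk : Even k) : bsign i k = 1 := by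
  unfold bsign
  rw [if_pos hi, hk.neg_one_pow]

theorem bsign_even_odd {i k : ℕ} (hi : Even i) (hk : Odd k) : bsign i k = -1 := by
  unfold bsign
  rw [if_pos hi, hk.neg_one_pow]

theorem bsign_odd {i k : ℕ} (hi : ¬ Even i) : bsign i k = 1 := by
  unfold bsign
  rw [if_neg hi]

/-- (⇐) for one element, type `+` -/
theorem exists_ts_of_rhs_plus (h : QSetup Q r y) (hrq : ¬ r ∣ Fintype.card F)
    (hir : orderOf ((Fintype.card F : ℕ) : ZMod r) ∣ r - 1) {d : ℕ}
    (hV : finrank F V = 2 * d) (hεV : QType Q ⊤ d 1) (hy1 : y ≠ 1) {m : ℕ} (hmd : m < d)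
    (hrhs : (Odd (orderOf ((Fintype.card F : ℕ) : ZMod r)) ∧
        OddRHSp (orderOf ((Fintype.card F : ℕ) : ZMod r)) d m) ∨
      (Even (orderOf ((Fintype.card F : ℕ) : ZMod r)) ∧
        EvenRHSp (orderOf ((Fintype.card F : ℕ) : ZMod r)) d m
          ((r - 1) / orderOf ((Fintype.card F : ℕ) : ZMod r)))) :
    ∃ W : Submodule F V, finrank F ↥W = m ∧ TS Q W ∧ Inv y W := by
  have hipos := h.setup.c_pos
  generalize hidef : orderOf ((Fintype.card F : ℕ) : ZMod r) = i at *
  obtain ⟨k, hk⟩ := QSetup.blockSize_dvd h (inv_cycSp r y) (QSetup.nd_cyc h) le_rfl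
  rw [hidef, mul_comm] at hk
  have hadm := QSetup.admissible h hrq hV hεV (b := k) (by rw [hidef]; exact hk)
  rw [hidef] at hadm
  obtain ⟨hadm1, hadm2, hadm3⟩ := hadm
  have hk1 := hadm3 hy1
  have htot := h.setup.total
  rw [hV, hk] at htot
  obtain ⟨c', hc'⟩ := even_blockSize i
  obtain ⟨g, hg⟩ : ∃ g, finrank F ↥(fixSp y) = 2 * g := ⟨d - k * c', by
    have : k * blockSize i = 2 * (k * c') := by rw [hc']; ring
    omega⟩
  have hex := exists_ts_inv h hrq hV hεV (k := k) (g := g) (by rw [hidef]; exact hk) hg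
  rw [hidef, one_mul] at hex
  rcases hrhs with ⟨hio, hrhs⟩ | ⟨hie, hrhs⟩
  · have hne : ¬ Even i := Nat.not_even_iff_odd.mpr hio
    have hc : blockSize i = 2 * i := blockSize_odd hne
    rw [hc] at hk htot
    obtain ⟨a, b, hab, hb, ha⟩ := odd_exists_ab hipos hmd hrhs hk1 (g := g) (by omega)
    obtain ⟨W, hW1, hW2, hW3⟩ := hex a b (Or.inl ⟨bsign_odd hne, ha⟩)
      (Or.inl ⟨hne, by rw [hk]; exact hb⟩)
    exact ⟨W, by rw [hW1, hab], hW2, hW3⟩
  · have hc : blockSize i = i := blockSize_even hie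
    rw [hc] at hk htot hadm2
    obtain ⟨t, ht⟩ := hir
    have hrpos := h.setup.prime.pos
    have htdiv : (r - 1) / i = t := by rw [ht]; exact Nat.mul_div_cancel_left t hipos
    rw [htdiv] at hrhs
    obtain ⟨a, b, hab, hb, ha⟩ := even_exists_ab hie hipos hmd hrhs hk1 (g := g) (by omega)
      (fun hg0 => by
        have h1 := hadm2 (by omega)
        by_contra hodd
        rw [Nat.not_even_iff_odd] at hodd
        rw [bsign_even_odd hie hodd] at h1
        norm_num at h1)
    obtain ⟨W, hW1, hW2, hW3⟩ := hex a b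
      (by
        rcases ha with ⟨ha1, ha2⟩ | ha
        · exact Or.inl ⟨bsign_even_even hie ha1, ha2⟩
        · exact Or.inr ha)
      (Or.inr (by
        rcases hb with hb | hb
        · exact Or.inl hb
        · by_cases hb0 : b = 0
          · exact Or.inl hb0
          right
          rw [hk]
          · have h3 : (t + 2 * b) * i ≤ (k + 1) * i := Nat.mul_le_mul_right i hb
            have e1 : (k + 1) * i = k * i + i := by ring
            have e2 : i * t = t * i := mul_comm _ _
            have e3 : (t + 2 * b) * i = t * i + 2 * (b * i) := by ring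
            have e4 : (b - 1) * i + i = b * i := by
              rw [← Nat.succ_mul]; congr 1; omega
            omega))
    exact ⟨W, by rw [hW1, hab], hW2, hW3⟩

end crit

end Cfsg.Agent.Helper94.Tq
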