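import Mathlib
import Cfsg.Agent.Helper94.TqH
import Cfsg.Agent.Helper94.TqQ

set_option autoImplicit false
set_option linter.unusedSectionVars false
set_option linter.unusedVariables false
set_option linter.style.haveILetI false

/-!
# The criterion of S5987 for one element (type `-`), and the right hand side from an abstract
family of test elements
-/

namespace Cfsg.Agent.Helper94.Tq

open Module Polynomial
open Cfsg.Agent.Helper59.InvChain Cfsg.Agent.Helper59.Elusive
open Cfsg.Agent.Helper99.RDecomp Cfsg.Agent.Helper99.SpStruct Cfsg.Agent.Helper99.SpElt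
open Cfsg.Agent.Helper99.QSp Cfsg.Agent.Helper99.QSpGlue
open Cfsg.Agent.Helper44 Cfsg.Agent.Helper44.QType

universe u v

variable {F : Type u} [Field F] [Fintype F]
variable {V : Type v} [AddCommGroup V] [Module F V] [FiniteDimensional F V]
variable {Q : QuadraticForm F V} {r : ℕ} {y : Module.End F V}

/-- (⇐) for one element, type `-` -/
theorem exists_ts_of_rhs_minus (h : QSetup Q r y) (hrq : ¬ r ∣ Fintype.card F)
    (hir : orderOf ((Fintype.card F : ℕ) : ZMod r) ∣ r - 1) {d : ℕ}
    (hV : finrank F V = 2 * d) (hεV : QType Q ⊤ d (-1)) (hy1 : y ≠ 1) {m : ℕ} (hmd : m < d)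
    (hrhs : (Odd (orderOf ((Fintype.card F : ℕ) : ZMod r)) ∧
        OddRHSm (orderOf ((Fintype.card F : ℕ) : ZMod r)) d m) ∨
      (Even (orderOf ((Fintype.card F : ℕ) : ZMod r)) ∧
        EvenRHSm (orderOf ((Fintype.card F : ℕ) : ZMod r)) d m
          ((r - 1) / orderOf ((Fintype.card F : ℕ) : ZMod r)))) :
    ∃ W : Submodule F V, finrank F ↥W = m ∧ TS Q W ∧ Inv y W := by
  have hipos := h.setup.c_pos
  generalize hidef : orderOf ((Fintype.card F : ℕ) : ZMod r) = i at *
  obtain ⟨k, hk⟩ := QSetup.blockSize_dvd h (inv_cycSp r y) (QSetup.nd_cyc h) le_rfl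
  rw [hidef, mul_comm] at hk
  have hadm := QSetup.admissible h hrq hV hεV (b := k) (by rw [hidef]; exact hk)
  rw [hidef] at hadm
  obtain ⟨hadm1, hadm2, hadm3⟩ := hadm
  have hk1 := hadm3 hy1
  have htot := h.setup.total
  rw [hV, hk] at htot
  obtain ⟨c', hc'⟩ := even_blockSize i
  obtain ⟨g, hg⟩ : ∃ g, finrank F ↥(fixSp y) = 2 * g := ⟨d - k * c', by
    have : k * blockSize i = 2 * (k * c') := by rw [hc']; ring
    omega⟩
  have hex := exists_ts_inv h hrq hV hεV (k := k) (g := g) (by rw [hidef]; exact hk) hg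
  rw [hidef] at hex
  rcases hrhs with ⟨hio, hrhs⟩ | ⟨hie, hrhs⟩
  · have hne : ¬ Even i := Nat.not_even_iff_odd.mpr hio
    have hc : blockSize i = 2 * i := blockSize_odd hne
    rw [hc] at hk htot hadm2
    have hg1 : 1 ≤ g := by
      by_contra hcon
      have h1 := hadm2 (by omega)
      rw [bsign_odd hne] at h1
      norm_num at h1
    obtain ⟨a, b, hab, hb, ha⟩ := odd_exists_ab_minus hipos hmd hrhs hk1 (g := g) (by omega) hg1
    obtain ⟨W, hW1, hW2, hW3⟩ := hex a b (Or.inr ha)
      (Or.inl ⟨hne, by rw [hk]; exact hb⟩)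
    exact ⟨W, by rw [hW1, hab], hW2, hW3⟩
  · have hc : blockSize i = i := blockSize_even hie
    rw [hc] at hk htot hadm2
    obtain ⟨t, ht⟩ := hir
    have hrpos := h.setup.prime.pos
    have htdiv : (r - 1) / i = t := by rw [ht]; exact Nat.mul_div_cancel_left t hipos
    rw [htdiv] at hrhs
    obtain ⟨a, b, hab, hb, ha⟩ := even_exists_ab_minus hie hipos hmd hrhs hk1 (g := g)
      (by omega) (fun hg0 => by
        have h1 := hadm2 (by omega)
        by_contra hev
        rw [Nat.not_odd_iff_even] at hev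
        rw [bsign_even_even hie hev] at h1
        norm_num at h1)
    obtain ⟨W, hW1, hW2, hW3⟩ := hex a b
      (by
        rcases ha with ⟨ha1, ha2⟩ | ha
        · refine Or.inl ⟨?_, ha2⟩
          rw [bsign_even_odd hie ha1]
          norm_num
        · exact Or.inr ha)
      (Or.inr (by
        rcases hb with hb | hb
        · exact Or.inl hb
        · by_cases hb0 : b = 0
          · exact Or.inl hb0
          right
          rw [hk]
          · have h3 : (t + 2 * b) * i ≤ (k + 1) * i := Nat.mul_le_mul_right i hb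
            have e1 : (k + 1) * i = k * i + i := by ring
            have e2 : i * t = t * i := mul_comm _ _
            have e3 : (t + 2 * b) * i = t * i + 2 * (b * i) := by ring
            have e4 : (b - 1) * i + i = b * i := by
              rw [← Nat.succ_mul]; congr 1; omega
            omega))
    exact ⟨W, by rw [hW1, hab], hW2, hW3⟩

/-- (⇒), type `-`: the right hand side from an abstract family of test elements having an
invariant totally singular `m`-space. `hT1`: for every admissible pair `(k, g)` (`k` blocks, fixed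
space of dimension `2 g`) some element of order `r` with these invariants has an invariant
totally singular `m`-space; `hT2` (`i` even): the same for `u ≤ (r - 1)/i` blocks and an element
whose irreducible factors have multiplicity one. -/
theorem rhs_of_tests_minus (hr : r.Prime) (hr2 : r ≠ 2) (hrq : ¬ r ∣ Fintype.card F)
    (hipos : 0 < orderOf ((Fintype.card F : ℕ) : ZMod r))
    (hir : orderOf ((Fintype.card F : ℕ) : ZMod r) ∣ r - 1) {d : ℕ}
    (hV : finrank F V = 2 * d) (hεV : QType Q ⊤ d (-1)) {m : ℕ} (hm : 1 ≤ m) (hmd : m < d)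
    (hstar : StarM (orderOf ((Fintype.card F : ℕ) : ZMod r)) d m)
    (hT1 : ∀ k g : ℕ, 1 ≤ k →
      2 * g + k * blockSize (orderOf ((Fintype.card F : ℕ) : ZMod r)) = 2 * d →
      (g = 0 → Even (orderOf ((Fintype.card F : ℕ) : ZMod r)) ∧ Odd k) →
      ∃ y : Module.End F V, QSetup Q r y ∧ finrank F ↥(fixSp y) = 2 * g ∧
        ∃ W : Submodule F V, finrank F ↥W = m ∧ TS Q W ∧ Inv y W)
    (hT2 : Even (orderOf ((Fintype.card F : ℕ) : ZMod r)) → ∀ u g : ℕ, 1 ≤ u →
      u * orderOf ((Fintype.card F : ℕ) : ZMod r) ≤ r - 1 →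
      2 * g + u * orderOf ((Fintype.card F : ℕ) : ZMod r) = 2 * d → (g = 0 → Odd u) →
      ∃ y : Module.End F V, QSetup Q r y ∧ finrank F ↥(fixSp y) = 2 * g ∧
        (∀ P : F[X], Irreducible P → P ∣ cyclotomic r F →
          finrank F ↥(LinearMap.ker (aeval y P)) ≤ orderOf ((Fintype.card F : ℕ) : ZMod r)) ∧
        ∃ W : Submodule F V, finrank F ↥W = m ∧ TS Q W ∧ Inv y W) :
    (Odd (orderOf ((Fintype.card F : ℕ) : ZMod r)) ∧
        OddRHSm (orderOf ((Fintype.card F : ℕ) : ZMod r)) d m) ∨
      (Even (orderOf ((Fintype.card F : ℕ) : ZMod r)) ∧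
        EvenRHSm (orderOf ((Fintype.card F : ℕ) : ZMod r)) d m
          ((r - 1) / orderOf ((Fintype.card F : ℕ) : ZMod r))) := by
  classical
  -- the information given by one test element
  have hkey : ∀ (y : Module.End F V) (k g : ℕ), QSetup Q r y →
      finrank F ↥(fixSp y) = 2 * g →
      2 * g + k * blockSize (orderOf ((Fintype.card F : ℕ) : ZMod r)) = 2 * d →
      (∃ W : Submodule F V, finrank F ↥W = m ∧ TS Q W ∧ Inv y W) →
      ∃ a b : ℕ, m = a + b * orderOf ((Fintype.card F : ℕ) : ZMod r) ∧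
        2 * (b * orderOf ((Fintype.card F : ℕ) : ZMod r)) ≤
          k * blockSize (orderOf ((Fintype.card F : ℕ) : ZMod r)) ∧ a ≤ g ∧
        (bsign (orderOf ((Fintype.card F : ℕ) : ZMod r)) k = 1 → a + 1 ≤ g) ∧
        ((∀ P : F[X], Irreducible P → P ∣ cyclotomic r F →
          finrank F ↥(LinearMap.ker (aeval y P)) ≤ orderOf ((Fintype.card F : ℕ) : ZMod r)) →
          Even (orderOf ((Fintype.card F : ℕ) : ZMod r)) → b = 0) := by
    intro y k g hS hfix hkg ⟨W, hWdim, hWts, hWinv⟩
    have htot := hS.setup.total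
    rw [hV, hfix] at htot
    obtain ⟨a, b, h1, h2, h3, h4, h5⟩ := ts_inv_cond hS hrq hV hεV (k := k)
      (g := g) (by omega) hfix hWinv hWts
    refine ⟨a, b, by rw [← hWdim, h1], h2, h3, ?_, ?_⟩
    · intro hb1
      apply h4
      rw [hb1]
      norm_num
    · intro hker hie
      exact h5 (aniso_of_ker_le hS hie hker)
  generalize hidef : orderOf ((Fintype.card F : ℕ) : ZMod r) = i at *
  by_cases hie : Even i
  · right
    refine ⟨hie, ?_⟩
    have hc : blockSize i = i := blockSize_even hie
    obtain ⟨t, ht⟩ := hir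
    have htdiv : (r - 1) / i = t := by rw [ht]; exact Nat.mul_div_cancel_left t hipos
    rw [htdiv]
    have ht1 : 1 ≤ t := by
      by_contra hcon
      have : t = 0 := by omega
      subst this
      have := hr.two_le
      omega
    rw [hc] at hkey hT1
    apply even_rhs_of_tests_minus hie hipos ht1 hm hmd hstar
    · intro k g hk1 hkg hadm
      obtain ⟨y, hS, hfix, hW⟩ := hT1 k g hk1 hkg (fun hg0 => ⟨hie, hadm hg0⟩)
      obtain ⟨a, b, h1, h2, h3, h4, -⟩ := hkey y k g hS hfix hkg hW
      exact ⟨a, b, h1, h2, h3, fun hev => h4 (bsign_even_even hie hev)⟩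
    · intro u g hu1 hut hug hadm
      have hui : u * i ≤ t * i := Nat.mul_le_mul_right i hut
      have e2 : i * t = t * i := mul_comm _ _
      obtain ⟨y, hS, hfix, hker, hW⟩ := hT2 hie u g hu1 (by omega) hug hadm
      obtain ⟨a, b, h1, h2, h3, h4, h5⟩ := hkey y u g hS hfix hug hW
      have hb0 := h5 hker hie
      subst hb0
      rw [zero_mul, add_zero] at h1
      subst h1
      exact ⟨h3, fun hev => h4 (bsign_even_even hie hev)⟩
  · left
    have hio : Odd i := Nat.not_even_iff_odd.mp hie
    refine ⟨hio, ?_⟩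
    have hc : blockSize i = 2 * i := blockSize_odd hie
    rw [hc] at hkey hT1
    apply odd_rhs_of_tests_minus hio hm hmd hstar
    intro k g hk1 hkg hg1
    obtain ⟨y, hS, hfix, hW⟩ := hT1 k g hk1 hkg (fun hg0 => by omega)
    obtain ⟨a, b, h1, h2, h3, h4, -⟩ := hkey y k g hS hfix hkg hW
    exact ⟨a, b, h1, h2, h4 (bsign_odd hie)⟩

end Cfsg.Agent.Helper94.Tq
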