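import Mathlib
import Cfsg.Agent.Helper94.SubW6

set_option autoImplicit false
set_option linter.unusedSectionVars false
set_option linter.unusedVariables false
set_option linter.unusedSimpArgs false
set_option linter.style.haveILetI false

/-!
# Alternating forms that are rational on singular pairs are rational
-/

namespace Cfsg.Agent.Helper94.SubW

open Matrix Cfsg Cfsg.Geo Cfsg.Agent.Helper94 Cfsg.Agent.Helper94.ORoot

section Generic

open Cfsg.Agent.Helper45.OrInSL Module QuadraticMap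

variable {K : Type*} [Field K] [Fintype K] {n : ℕ}
variable {Q : (Fin n → K) → K} (hQ : IsNondegenerateQuadraticForm Q)

include hQ in
/-- a hyperbolic pair orthogonal to a given hyperbolic pair -/
theorem exists_hyp_perp_pair (h2 : (2 : K) ≠ 0) (hn : 11 ≤ n) {a a' : Fin n → K} (ha : Q a = 0)
    (ha' : Q a' = 0) (haa' : polar Q a a' = 1) :
    ∃ w₁ w₂, Q w₁ = 0 ∧ Q w₂ = 0 ∧ polar Q w₁ w₂ = -1 ∧ polar Q w₁ a = 0 ∧ polar Q w₁ a' = 0 ∧
      polar Q w₂ a = 0 ∧ polar Q w₂ a' = 0 := by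
  obtain ⟨w₁, hw₁0, hw₁, hw₁a, hw₁a', -, -⟩ :=
    Cfsg.Agent.Helper94.SubO.exists_sing_perp4 hQ h2 (by omega) a a' 0 0
  have hfr := finrank_span_pair_le a a'
  have hw₁S : w₁ ∉ Submodule.span K {a, a'} := by
    intro hmem
    obtain ⟨s, t, rfl⟩ := Submodule.mem_span_pair.1 hmem
    have haa : polar Q a a = 0 := by rw [b_self hQ, ha, mul_zero]
    have ha'a' : polar Q a' a' = 0 := by rw [b_self hQ, ha', mul_zero]
    have h1 : t = 0 := by
      have := hw₁a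
      rw [b_add_left hQ, b_smul_left hQ, b_smul_left hQ, haa, b_comm a' a, haa'] at this
      linear_combination this
    have h3 : s = 0 := by
      have := hw₁a'
      rw [b_add_left hQ, b_smul_left hQ, b_smul_left hQ, ha'a', haa'] at this
      linear_combination this
    apply hw₁0
    rw [h1, h3]
    simp
  obtain ⟨y, hyS, hy, hyw⟩ := exists_singular hQ h2 (Submodule.span K {a, a'}) (by omega) hw₁S
  rw [mem_perp_span] at hyS
  have hya : polar Q y a = 0 := hyS a (by simp)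
  have hya' : polar Q y a' = 0 := hyS a' (by simp)
  refine ⟨w₁, (-(polar Q y w₁)⁻¹) • y, hw₁, ?_, ?_, hw₁a, hw₁a', ?_, ?_⟩
  · rw [Cfsg.Agent.Helper45.OrInSL.Q_smul hQ, hy, mul_zero]
  · rw [b_smul_right hQ, b_comm w₁ y]
    field_simp
  · rw [b_smul_left hQ, hya, mul_zero]
  · rw [b_smul_left hQ, hya', mul_zero]

include hQ in
/-- two non-orthogonal singular vectors orthogonal to a given singular vector -/
theorem exists_two_sing_perp (h2 : (2 : K) ≠ 0) (hn : 11 ≤ n) {p : Fin n → K} (hp : Q p = 0)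
    (hp0 : p ≠ 0) :
    ∃ r₁ r₂, Q r₁ = 0 ∧ Q r₂ = 0 ∧ polar Q r₁ p = 0 ∧ polar Q r₂ p = 0 ∧ polar Q r₁ r₂ ≠ 0 := by
  obtain ⟨p', hp', hpp'⟩ := Cfsg.Agent.Helper94.SubO.exists_hyp hQ h2 (by omega) hp0
  have hfr := finrank_span_singleton_le_one p
  have hp'S : p' ∉ Submodule.span K {p} := by
    intro hmem
    obtain ⟨c, rfl⟩ := Submodule.mem_span_singleton.1 hmem
    rw [b_smul_right hQ, b_self hQ, hp] at hpp'
    simp at hpp'
  obtain ⟨r₁, hr₁S, hr₁, -, hr₁n⟩ := exists_singular' hQ h2 (Submodule.span K {p}) (by omega) hp'S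
  obtain ⟨r₂, hr₂S, hr₂, hr₂r₁⟩ := exists_singular hQ h2 (Submodule.span K {p}) (by omega) hr₁n
  refine ⟨r₁, r₂, hr₁, hr₂, (mem_perp_singleton hQ).1 hr₁S, (mem_perp_singleton hQ).1 hr₂S, ?_⟩
  rw [b_comm]
  exact hr₂r₁

include hQ in
/-- **a biadditive alternating map that is rational on singular pairs is rational** -/
theorem rational_of_SP (h2 : (2 : K) ≠ 0) (hn : 11 ≤ n) {L : Type*} [Field L] (K₀ : Subfield L)
    (φ : K →+* L) (hφ : ∀ c, φ c ∈ K₀) (h2L : (2 : L) ≠ 0)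
    (ω : (Fin n → K) → (Fin n → K) → L)
    (hadd_l : ∀ x y z, ω (x + y) z = ω x z + ω y z)
    (hsmul_l : ∀ (c : K) x z, ω (c • x) z = φ c * ω x z)
    (hadd_r : ∀ z x y, ω z (x + y) = ω z x + ω z y)
    (hsmul_r : ∀ (c : K) z x, ω z (c • x) = φ c * ω z x)
    (hanti : ∀ x y, ω x y = - ω y x)
    (hSP : ∀ a b, Q a = 0 → Q b = 0 → polar Q a b = 0 → ω a b ∈ K₀) :
    ∀ a b, ω a b ∈ K₀ := by
  -- singular, singular
  have step1 : ∀ a b, Q a = 0 → Q b = 0 → ω a b ∈ K₀ := by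
    intro a b ha hb
    by_cases hab : polar Q a b = 0
    · exact hSP a b ha hb hab
    obtain ⟨β, hβ⟩ : ∃ β, β = polar Q a b := ⟨_, rfl⟩
    rw [← hβ] at hab
    obtain ⟨a', ha'def⟩ : ∃ a', a' = β⁻¹ • b := ⟨_, rfl⟩
    have ha' : Q a' = 0 := by rw [ha'def, Cfsg.Agent.Helper45.OrInSL.Q_smul hQ, hb, mul_zero]
    have haa' : polar Q a a' = 1 := by
      rw [ha'def, b_smul_right hQ, ← hβ, inv_mul_cancel₀ hab]
    obtain ⟨w₁, w₂, hw₁, hw₂, hw₁w₂, hw₁a, hw₁a', hw₂a, hw₂a'⟩ :=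
      exists_hyp_perp_pair hQ h2 hn ha ha' haa'
    have e1 : ω (a + w₁) (a' + w₂) ∈ K₀ := by
      apply hSP
      · rw [Cfsg.Agent.Helper45.OrInSL.Q_add Q, ha, hw₁, b_comm, hw₁a]; ring
      · rw [Cfsg.Agent.Helper45.OrInSL.Q_add Q, ha', hw₂, b_comm, hw₂a']; ring
      · rw [b_add_left hQ, b_add_right hQ, b_add_right hQ, haa', hw₁w₂, hw₁a', b_comm a w₂, hw₂a]
        ring
    have e2 : ω (a' + w₁) (a + w₂) ∈ K₀ := by
      apply hSP
      · rw [Cfsg.Agent.Helper45.OrInSL.Q_add Q, ha', hw₁, b_comm, hw₁a']; ring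
      · rw [Cfsg.Agent.Helper45.OrInSL.Q_add Q, ha, hw₂, b_comm, hw₂a]; ring
      · rw [b_add_left hQ, b_add_right hQ, b_add_right hQ, b_comm a' a, haa', hw₁w₂, hw₁a,
          b_comm a' w₂, hw₂a']
        ring
    have e3 : ω a w₂ ∈ K₀ := hSP a w₂ ha hw₂ (by rw [b_comm]; exact hw₂a)
    have e4 : ω w₁ a' ∈ K₀ := hSP w₁ a' hw₁ ha' hw₁a'
    have e5 : ω a' w₂ ∈ K₀ := hSP a' w₂ ha' hw₂ (by rw [b_comm]; exact hw₂a')
    have e6 : ω w₁ a ∈ K₀ := hSP w₁ a hw₁ ha hw₁a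
    rw [hadd_l, hadd_r, hadd_r] at e1 e2
    have e7 : (2 : L) * ω a a' ∈ K₀ := by
      have : (2 : L) * ω a a' = (ω a a' + ω a w₂ + (ω w₁ a' + ω w₁ w₂))
          - (ω a' a + ω a' w₂ + (ω w₁ a + ω w₁ w₂)) - ω a w₂ - ω w₁ a' + ω a' w₂ + ω w₁ a := by
        rw [hanti a' a]
        ring
      rw [this]
      exact K₀.add_mem (K₀.add_mem (K₀.sub_mem (K₀.sub_mem (K₀.sub_mem e1 e2) e3) e4) e5) e6
    have e8 : ω a a' ∈ K₀ := by
      have h2mem : (2 : L) ∈ K₀ := by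
        rw [← one_add_one_eq_two]
        exact K₀.add_mem K₀.one_mem K₀.one_mem
      have : ω a a' = (2 : L)⁻¹ * ((2 : L) * ω a a') := by
        rw [← mul_assoc, inv_mul_cancel₀ h2L, one_mul]
      rw [this]
      exact K₀.mul_mem (K₀.inv_mem h2mem) e7
    have hb' : b = β • a' := by
      rw [ha'def, smul_smul, mul_inv_cancel₀ hab, one_smul]
    rw [hb', hsmul_r]
    exact K₀.mul_mem (hφ β) e8
  -- singular, arbitrary
  have step2 : ∀ a, Q a = 0 → ∀ b, ω a b ∈ K₀ := by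
    intro a ha
    obtain ⟨W, hW⟩ : ∃ W : Submodule K (Fin n → K), ∀ b, b ∈ W ↔ ω a b ∈ K₀ := by
      refine ⟨{ carrier := {b | ω a b ∈ K₀}, add_mem' := ?_, zero_mem' := ?_, smul_mem' := ?_ },
        fun b => Iff.rfl⟩
      · intro x y hx hy
        show ω a (x + y) ∈ K₀
        rw [hadd_r]
        exact K₀.add_mem hx hy
      · show ω a 0 ∈ K₀
        have := hsmul_r 0 a 0
        rw [zero_smul, map_zero, zero_mul] at this
        rw [this]
        exact K₀.zero_mem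
      · intro c x hx
        show ω a (c • x) ∈ K₀
        rw [hsmul_r]
        exact K₀.mul_mem (hφ c) hx
    intro b
    rw [← hW]
    exact Cfsg.Agent.Helper94.SubO.top_le_of_sing hQ h2 (by omega) W
      (fun y hy => (hW y).2 (step1 a y ha hy)) b
  -- arbitrary, arbitrary
  intro a b
  obtain ⟨W, hW⟩ : ∃ W : Submodule K (Fin n → K), ∀ a, a ∈ W ↔ ω a b ∈ K₀ := by
    refine ⟨{ carrier := {a | ω a b ∈ K₀}, add_mem' := ?_, zero_mem' := ?_, smul_mem' := ?_ },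
      fun a => Iff.rfl⟩
    · intro x y hx hy
      show ω (x + y) b ∈ K₀
      rw [hadd_l]
      exact K₀.add_mem hx hy
    · show ω 0 b ∈ K₀
      have := hsmul_l 0 0 b
      rw [zero_smul, map_zero, zero_mul] at this
      rw [this]
      exact K₀.zero_mem
    · intro c x hx
      show ω (c • x) b ∈ K₀
      rw [hsmul_l]
      exact K₀.mul_mem (hφ c) hx
  rw [← hW]
  exact Cfsg.Agent.Helper94.SubO.top_le_of_sing hQ h2 (by omega) W
    (fun y hy => (hW y).2 (step2 y hy b)) a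

end Generic

end Cfsg.Agent.Helper94.SubW
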