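import Mathlib
import Cfsg.Agent.Helper94.SubW7

set_option autoImplicit false
set_option linter.unusedSectionVars false
set_option linter.unusedVariables false
set_option linter.unusedSimpArgs false
set_option linter.style.haveILetI false

/-!
# Lines with rational Gram determinants are rational
-/

namespace Cfsg.Agent.Helper94.SubW

open Matrix Cfsg Cfsg.Geo Cfsg.Agent.Helper94 Cfsg.Agent.Helper94.ORoot

variable {ι : Type} [Fintype ι] [DecidableEq ι] {F : Type*} [Field F] {n : ℕ}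
variable (Qf : QuadraticForm F (ι → F)) (hQ : IsNondegenerateQuadraticForm ⇑Qf)

/-- the Gram determinant of the pair `x, z` against a rational pair -/
def om (F₀ : Subfield F) (P : GL ι F) (e : ι ≃ Fin n) (x z : ι → F) (a b : Fin n → F₀) : F :=
  QuadraticMap.polar ⇑Qf x (emb F₀ P e a) * QuadraticMap.polar ⇑Qf z (emb F₀ P e b)
    - QuadraticMap.polar ⇑Qf x (emb F₀ P e b) * QuadraticMap.polar ⇑Qf z (emb F₀ P e a)

section Fixed

variable (F₀ : Subfield F) {P : GL ι F} (e : ι ≃ Fin n)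
  (hP : Cfsg.Geo.IsQuadFormRationalStructure ⇑Qf F₀ P)

local notation "E" => emb F₀ P e
local notation "Qz'" => Qz F₀ e hP

include hQ in
/-- rationality on singular pairs implies rationality -/
theorem om_rational [Fintype F] (h2 : (2 : F) ≠ 0) (hn : 11 ≤ n) (x z : ι → F)
    (hSP : ∀ a b : Fin n → F₀, SP Qz' a b → om Qf F₀ P e x z a b ∈ F₀) :
    ∀ a b : Fin n → F₀, om Qf F₀ P e x z a b ∈ F₀ := by
  haveI : Fintype F₀ := Fintype.ofFinite F₀
  have hQz := nondeg_Qz hQ F₀ e hP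
  have h2' := two_ne_zero_sub (F₀ := F₀) h2
  apply rational_of_SP hQz h2' hn F₀ F₀.subtype (fun c => c.2) h2 (om Qf F₀ P e x z)
  · intro a a' b
    unfold om
    rw [emb_add, B_add_right hQ, B_add_right hQ]
    ring
  · intro c a b
    unfold om
    rw [emb_smul, B_smul_right hQ, B_smul_right hQ]
    simp only [Subfield.coe_subtype]
    ring
  · intro a b b'
    unfold om
    rw [emb_add, B_add_right hQ, B_add_right hQ]
    ring
  · intro c a b
    unfold om
    rw [emb_smul, B_smul_right hQ, B_smul_right hQ]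
    simp only [Subfield.coe_subtype]
    ring
  · intro a b
    unfold om
    ring
  · intro a b ha hb hab
    exact hSP a b ⟨ha, hb, hab⟩

include hQ hP in
/-- a pair of independent vectors with rational Gram determinants spans a rational line -/
theorem exists_rational_basis [Fintype F] {x z : ι → F}
    (hind : ∀ s t : F, s • x + t • z = 0 → s = 0 ∧ t = 0)
    (hrat : ∀ a b : Fin n → F₀, om Qf F₀ P e x z a b ∈ F₀) :
    ∃ y₁ y₂ : Fin n → F₀, ∃ α₁ α₂ β₁ β₂ c₁ c₂ c₃ c₄ : F,
      x = α₁ • E y₁ + α₂ • E y₂ ∧ z = β₁ • E y₁ + β₂ • E y₂ ∧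
      E y₁ = c₁ • x + c₂ • z ∧ E y₂ = c₃ • x + c₄ • z := by
  -- the form is not identically zero
  have hne : ∃ a₀ b₀ : Fin n → F₀, om Qf F₀ P e x z a₀ b₀ ≠ 0 := by
    by_contra hcon
    push Not at hcon
    have h1 : ∀ (b : Fin n → F₀) (v : ι → F), QuadraticMap.polar ⇑Qf x v *
        QuadraticMap.polar ⇑Qf z (E b) - QuadraticMap.polar ⇑Qf x (E b) *
        QuadraticMap.polar ⇑Qf z v = 0 := by
      intro b
      apply emb_span_induction (F₀ := F₀) (P := P) (e := e)
      · intro v w hv hw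
        rw [B_add_right hQ, B_add_right hQ]
        linear_combination hv + hw
      · intro c v hv
        rw [B_smul_right hQ, B_smul_right hQ]
        linear_combination c * hv
      · intro a
        exact hcon a b
    have h3 : ∀ v w : ι → F, QuadraticMap.polar ⇑Qf x v * QuadraticMap.polar ⇑Qf z w
        - QuadraticMap.polar ⇑Qf x w * QuadraticMap.polar ⇑Qf z v = 0 := by
      intro v
      apply emb_span_induction (F₀ := F₀) (P := P) (e := e)
      · intro w w' hw hw'
        rw [B_add_right hQ, B_add_right hQ]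
        linear_combination hw + hw'
      · intro c w hw
        rw [B_smul_right hQ, B_smul_right hQ]
        linear_combination c * hw
      · intro b
        exact h1 b v
    have hx0 : x ≠ 0 := by
      rintro rfl
      have := (hind 1 0 (by simp)).1
      exact one_ne_zero this
    obtain ⟨v, hv⟩ := exists_B_ne_zero hQ hx0
    obtain ⟨c, hc⟩ : ∃ c, c = QuadraticMap.polar ⇑Qf z v / QuadraticMap.polar ⇑Qf x v :=
      ⟨_, rfl⟩
    have h4 : z - c • x = 0 := by
      by_contra hne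
      obtain ⟨-, ⟨w, hw⟩⟩ := hQ.nondegenerate _ hne
      apply hw
      rw [B_sub_left hQ, B_smul_left hQ, hc]
      have := h3 v w
      field_simp
      linear_combination this
    have h5 := (hind (-c) 1 (by rw [← h4]; module)).2
    exact one_ne_zero h5
  obtain ⟨a₀, b₀, hδ⟩ := hne
  obtain ⟨ξa, hξa⟩ : ∃ s, s = QuadraticMap.polar ⇑Qf x (E a₀) := ⟨_, rfl⟩
  obtain ⟨ξb, hξb⟩ : ∃ s, s = QuadraticMap.polar ⇑Qf x (E b₀) := ⟨_, rfl⟩
  obtain ⟨ζa, hζa⟩ : ∃ s, s = QuadraticMap.polar ⇑Qf z (E a₀) := ⟨_, rfl⟩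
  obtain ⟨ζb, hζb⟩ : ∃ s, s = QuadraticMap.polar ⇑Qf z (E b₀) := ⟨_, rfl⟩
  obtain ⟨δ, hδdef⟩ : ∃ δ, δ = ξa * ζb - ξb * ζa := ⟨_, rfl⟩
  have hδ0 : δ ≠ 0 := by
    rw [hδdef, hξa, hξb, hζa, hζb]
    exact hδ
  obtain ⟨y₁, hy₁⟩ := exists_emb_of_polar_mem hQ F₀ e hP (y := ζb • x - ξb • z) (by
    intro v
    have := hrat v b₀
    unfold om at this
    rw [B_sub_left hQ, B_smul_left hQ, B_smul_left hQ, hζb, hξb]
    have h1 : QuadraticMap.polar ⇑Qf z (E b₀) * QuadraticMap.polar ⇑Qf x (E v)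
        - QuadraticMap.polar ⇑Qf x (E b₀) * QuadraticMap.polar ⇑Qf z (E v)
        = QuadraticMap.polar ⇑Qf x (E v) * QuadraticMap.polar ⇑Qf z (E b₀)
          - QuadraticMap.polar ⇑Qf x (E b₀) * QuadraticMap.polar ⇑Qf z (E v) := by ring
    rw [h1]
    exact this)
  obtain ⟨y₂, hy₂⟩ := exists_emb_of_polar_mem hQ F₀ e hP (y := ξa • z - ζa • x) (by
    intro v
    have := hrat a₀ v
    unfold om at this
    rw [B_sub_left hQ, B_smul_left hQ, B_smul_left hQ, hζa, hξa]
    have h1 : QuadraticMap.polar ⇑Qf x (E a₀) * QuadraticMap.polar ⇑Qf z (E v)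
        - QuadraticMap.polar ⇑Qf z (E a₀) * QuadraticMap.polar ⇑Qf x (E v)
        = QuadraticMap.polar ⇑Qf x (E a₀) * QuadraticMap.polar ⇑Qf z (E v)
          - QuadraticMap.polar ⇑Qf x (E v) * QuadraticMap.polar ⇑Qf z (E a₀) := by ring
    rw [h1]
    exact this)
  refine ⟨y₁, y₂, ξa / δ, ξb / δ, ζa / δ, ζb / δ, ζb, -ξb, -ζa, ξa, ?_, ?_, ?_, ?_⟩
  · rw [← hy₁, ← hy₂]
    have h1 : (ξa / δ) • (ζb • x - ξb • z) + (ξb / δ) • (ξa • z - ζa • x)
        = ((ξa * ζb - ξb * ζa) / δ) • x := by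
      match_scalars <;> field_simp <;> ring
    rw [h1, ← hδdef, div_self hδ0, one_smul]
  · rw [← hy₁, ← hy₂]
    have h1 : (ζa / δ) • (ζb • x - ξb • z) + (ζb / δ) • (ξa • z - ζa • x)
        = ((ξa * ζb - ξb * ζa) / δ) • z := by
      match_scalars <;> field_simp <;> ring
    rw [h1, ← hδdef, div_self hδ0, one_smul]
  · rw [← hy₁]
    module
  · rw [← hy₂]
    module

end Fixed

end Cfsg.Agent.Helper94.SubW
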