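import Mathlib
import Cfsg.Agent.Helper94.SubW8

set_option autoImplicit false
set_option linter.unusedSectionVars false
set_option linter.unusedVariables false
set_option linter.unusedSimpArgs false
set_option linter.style.haveILetI false

/-!
# Isometries with rational Gram determinants lie in the subfield group
-/

namespace Cfsg.Agent.Helper94.SubW

open Matrix Cfsg Cfsg.Geo Cfsg.Agent.Helper94 Cfsg.Agent.Helper94.ORoot

variable {ι : Type} [Fintype ι] [DecidableEq ι] {F : Type*} [Field F] {n : ℕ}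
variable (Qf : QuadraticForm F (ι → F)) (hQ : IsNondegenerateQuadraticForm ⇑Qf)

section Fixed

variable (F₀ : Subfield F) {P : GL ι F} (e : ι ≃ Fin n)
  (hP : Cfsg.Geo.IsQuadFormRationalStructure ⇑Qf F₀ P)

local notation "E" => emb F₀ P e
local notation "Qz'" => Qz F₀ e hP

/-- a rational relation between the coefficients makes a vector proportional to a rational
vector -/
theorem prop_of_rel {x : ι → F} {α₁ α₂ : F} {y₁ y₂ : Fin n → F₀}
    (hx : x = α₁ • E y₁ + α₂ • E y₂) {ν₁ ν₂ : F₀} (hν : ¬ (ν₁ = 0 ∧ ν₂ = 0))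
    (hrel : α₁ * (ν₁ : F) + α₂ * (ν₂ : F) = 0) : ∃ lam : F, ∃ p₁ : Fin n → F₀, x = lam • E p₁ := by
  by_cases hν₂ : ν₂ = 0
  · have hν₁ : (ν₁ : F) ≠ 0 := by
      intro h0
      exact hν ⟨Subtype.ext h0, hν₂⟩
    rw [hν₂] at hrel
    have hα₁ : α₁ = 0 := by
      have h1 : α₁ * (ν₁ : F) = 0 := by
        rw [← hrel]
        simp
      exact (mul_eq_zero.1 h1).resolve_right hν₁
    refine ⟨α₂, y₂, ?_⟩
    rw [hx, hα₁, zero_smul, zero_add]
  · have hν₂' : (ν₂ : F) ≠ 0 := by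
      intro h0
      exact hν₂ (Subtype.ext h0)
    refine ⟨α₁, y₁ - (ν₁ / ν₂) • y₂, ?_⟩
    have hα₂ : α₂ = -(α₁ * (ν₁ : F) / (ν₂ : F)) := by
      field_simp
      linear_combination hrel
    rw [hx, emb_sub, emb_smul, Subfield.coe_div, hα₂]
    module

include hQ hP in
/-- the image of a rational singular point is a rational point -/
theorem exists_scalar_of_rational [Fintype F] (h2 : (2 : F) ≠ 0) (hn : 13 ≤ n)
    (g : ↥(isometryGroup F ⇑Qf))
    (Hrat : ∀ p r a b : Fin n → F₀, SP Qz' p r → SP Qz' a b →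
      om Qf F₀ P e (act g (E p)) (act g (E r)) a b ∈ F₀)
    {p : Fin n → F₀} (hp : Qz' p = 0) (hp0 : p ≠ 0) :
    ∃ lam : F, ∃ p₁ : Fin n → F₀, act g (E p) = lam • E p₁ := by
  haveI : Fintype F₀ := Fintype.ofFinite F₀
  have hQz := nondeg_Qz hQ F₀ e hP
  have h2' := two_ne_zero_sub (F₀ := F₀) h2
  obtain ⟨r₁, r₂, hr₁, hr₂, hr₁p, hr₂p, hr₁r₂⟩ := exists_two_sing_perp hQz h2' (by omega) hp hp0
  have hpr₁ : QuadraticMap.polar Qz' p r₁ = 0 := by rw [QuadraticMap.polar_comm]; exact hr₁p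
  have hpr₂ : QuadraticMap.polar Qz' p r₂ = 0 := by rw [QuadraticMap.polar_comm]; exact hr₂p
  have hsp₁ : SP Qz' p r₁ := ⟨hp, hr₁, hpr₁⟩
  have hsp₂ : SP Qz' p r₂ := ⟨hp, hr₂, hpr₂⟩
  have hEp0 : E p ≠ 0 := emb_ne_zero hp0
  -- independence
  have hind : ∀ r r' : Fin n → F₀, QuadraticMap.polar Qz' r r' ≠ 0 →
      QuadraticMap.polar Qz' p r' = 0 → ∀ s t : F,
      s • act g (E p) + t • act g (E r) = 0 → s = 0 ∧ t = 0 := by
    intro r r' hrr' hpr' s t hst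
    have h1 : s • E p + t • E r = 0 := by
      apply act_injective g
      rw [act_add, act_smul, act_smul, act_zero]
      exact hst
    have h3 : QuadraticMap.polar ⇑Qf (s • E p + t • E r) (E r') = 0 := by
      rw [h1, B_zero_left hQ]
    rw [B_add_left hQ, B_smul_left hQ, B_smul_left hQ, ← coe_polar_Qz F₀ e hP,
      ← coe_polar_Qz F₀ e hP, hpr'] at h3
    have ht : t = 0 := by
      have h4 : t * ((QuadraticMap.polar Qz' r r' : F₀) : F) = 0 := by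
        rw [← h3]
        simp
      rcases mul_eq_zero.1 h4 with h5 | h5
      · exact h5
      · exact absurd (Subtype.ext h5) hrr'
    rw [ht, zero_smul, add_zero] at h1
    rcases smul_eq_zero.1 h1 with h5 | h5
    · exact ⟨h5, ht⟩
    · exact absurd h5 hEp0
  obtain ⟨x, hx⟩ : ∃ x, x = act g (E p) := ⟨_, rfl⟩
  obtain ⟨z₁, hz₁⟩ : ∃ z, z = act g (E r₁) := ⟨_, rfl⟩
  obtain ⟨z₂, hz₂⟩ : ∃ z, z = act g (E r₂) := ⟨_, rfl⟩
  have hrat₁ := om_rational Qf hQ F₀ e hP h2 (by omega) x z₁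
    (fun a b hab => by rw [hx, hz₁]; exact Hrat p r₁ a b hsp₁ hab)
  have hrat₂ := om_rational Qf hQ F₀ e hP h2 (by omega) x z₂
    (fun a b hab => by rw [hx, hz₂]; exact Hrat p r₂ a b hsp₂ hab)
  obtain ⟨y₁, y₂, α₁, α₂, β₁, β₂, c₁, c₂, c₃, c₄, hx₁, hzz₁, hy₁, hy₂⟩ :=
    exists_rational_basis Qf hQ F₀ e hP
      (by rw [hx, hz₁]; exact hind r₁ r₂ hr₁r₂ hpr₂) hrat₁
  obtain ⟨y₁', y₂', α₁', α₂', β₁', β₂', c₁', c₂', c₃', c₄', hx₂, hzz₂, hy₁', hy₂'⟩ :=
    exists_rational_basis Qf hQ F₀ e hP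
      (by
        rw [hx, hz₂]
        apply hind r₂ r₁ _ hpr₁
        rw [QuadraticMap.polar_comm]
        exact hr₁r₂) hrat₂
  have hxx : QuadraticMap.polar ⇑Qf x x = 0 := by
    rw [B_self hQ, hx, Q_act g, (Qz_eq_zero_iff hQ F₀ e hP p).1 hp, mul_zero]
  have hxz₂ : QuadraticMap.polar ⇑Qf x z₂ = 0 := by
    rw [hx, hz₂, B_act, ← coe_polar_Qz F₀ e hP, hpr₂]
    rfl
  have hxy₁' : QuadraticMap.polar ⇑Qf x (E y₁') = 0 := by
    rw [hy₁', B_add_right hQ, B_smul_right hQ, B_smul_right hQ, hxx, hxz₂]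
    ring
  have hxy₂' : QuadraticMap.polar ⇑Qf x (E y₂') = 0 := by
    rw [hy₂', B_add_right hQ, B_smul_right hQ, B_smul_right hQ, hxx, hxz₂]
    ring
  have hz : QuadraticMap.polar ⇑Qf z₁ z₂ ≠ 0 := by
    rw [hz₁, hz₂, B_act, ← coe_polar_Qz F₀ e hP]
    intro h0
    exact hr₁r₂ (Subtype.ext h0)
  have hexp : QuadraticMap.polar ⇑Qf z₁ z₂
      = β₁ * β₁' * ((QuadraticMap.polar Qz' y₁ y₁' : F₀) : F)
        + β₁ * β₂' * ((QuadraticMap.polar Qz' y₁ y₂' : F₀) : F)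
        + β₂ * β₁' * ((QuadraticMap.polar Qz' y₂ y₁' : F₀) : F)
        + β₂ * β₂' * ((QuadraticMap.polar Qz' y₂ y₂' : F₀) : F) := by
    rw [hzz₁, hzz₂]
    simp only [B_add_left hQ, B_add_right hQ, B_smul_left hQ, B_smul_right hQ, coe_polar_Qz]
    ring
  have hrel₁ : α₁ * ((QuadraticMap.polar Qz' y₁ y₁' : F₀) : F)
      + α₂ * ((QuadraticMap.polar Qz' y₂ y₁' : F₀) : F) = 0 := by
    rw [← hxy₁']
    conv_rhs => rw [hx₁]
    simp only [B_add_left hQ, B_smul_left hQ, coe_polar_Qz]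
  have hrel₂ : α₁ * ((QuadraticMap.polar Qz' y₁ y₂' : F₀) : F)
      + α₂ * ((QuadraticMap.polar Qz' y₂ y₂' : F₀) : F) = 0 := by
    rw [← hxy₂']
    conv_rhs => rw [hx₁]
    simp only [B_add_left hQ, B_smul_left hQ, coe_polar_Qz]
  rw [← hx]
  by_cases h11 : QuadraticMap.polar Qz' y₁ y₁' = 0 ∧ QuadraticMap.polar Qz' y₂ y₁' = 0
  · by_cases h12 : QuadraticMap.polar Qz' y₁ y₂' = 0 ∧ QuadraticMap.polar Qz' y₂ y₂' = 0
    · exfalso
      apply hz
      rw [hexp, h11.1, h11.2, h12.1, h12.2]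
      simp
    · exact prop_of_rel F₀ e hx₁ h12 hrel₂
  · exact prop_of_rel F₀ e hx₁ h11 hrel₁

end Fixed

end Cfsg.Agent.Helper94.SubW
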