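import Mathlib
import Cfsg.Agent.Helper94.SubW9

set_option autoImplicit false
set_option linter.unusedSectionVars false
set_option linter.unusedVariables false
set_option linter.unusedSimpArgs false
set_option linter.style.haveILetI false

/-!
# Isometries mapping rational singular points to rational points lie in the subfield group
-/

namespace Cfsg.Agent.Helper94.SubW

open Matrix Cfsg Cfsg.Geo Cfsg.Agent.Helper94 Cfsg.Agent.Helper94.ORoot

variable {ι : Type} [Fintype ι] [DecidableEq ι] {F : Type*} [Field F] {n : ℕ}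
variable (Qf : QuadraticForm F (ι → F)) (hQ : IsNondegenerateQuadraticForm ⇑Qf)

section Fixed

variable (F₀ : Subfield F) {P : GL ι F} (e : ι ≃ Fin n)
  (hP : Cfsg.Geo.IsQuadFormRationalStructure ⇑Qf F₀ P)

local notation "E" => emb F₀ P e
local notation "Qz'" => Qz F₀ e hP

include hQ hP in
/-- an isometry mapping the rational singular points to rational points lies in the subfield
group -/
theorem mem_subfield_of_sing [Fintype F] (h2 : (2 : F) ≠ 0) (hn : 13 ≤ n)
    (g : ↥(isometryGroup F ⇑Qf))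
    (hsing : ∀ p : Fin n → F₀, Qz' p = 0 → p ≠ 0 →
      ∃ lam : F, ∃ p₁ : Fin n → F₀, act g (E p) = lam • E p₁) :
    (g : GL ι F) ∈ Cfsg.Geo.subfieldSubgroup F₀ P := by
  haveI : Fintype F₀ := Fintype.ofFinite F₀
  have hQz := nondeg_Qz hQ F₀ e hP
  have h2' := two_ne_zero_sub (F₀ := F₀) h2
  -- products of the scalars of non-orthogonal points are rational
  have key : ∀ (p s : Fin n → F₀), QuadraticMap.polar Qz' p s ≠ 0 → ∀ (lam : F)
      (p₁ : Fin n → F₀), act g (E p) = lam • E p₁ → ∀ (mu : F) (s₁ : Fin n → F₀),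
      act g (E s) = mu • E s₁ → lam * mu ∈ F₀ ∧ lam * mu ≠ 0 := by
    intro p s hps lam p₁ hp mu s₁ hs
    have h1 : QuadraticMap.polar ⇑Qf (act g (E p)) (act g (E s))
        = ((QuadraticMap.polar Qz' p s : F₀) : F) := by
      rw [B_act, coe_polar_Qz]
    rw [hp, hs, B_smul_left hQ, B_smul_right hQ, ← coe_polar_Qz F₀ e hP] at h1
    have hβ : ((QuadraticMap.polar Qz' p s : F₀) : F) ≠ 0 := by
      intro h0
      exact hps (Subtype.ext h0)
    have hγ : ((QuadraticMap.polar Qz' p₁ s₁ : F₀) : F) ≠ 0 := by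
      intro h0
      rw [h0, mul_zero, mul_zero] at h1
      exact hβ h1.symm
    have h3 : lam * mu = ((QuadraticMap.polar Qz' p s : F₀) : F)
        / ((QuadraticMap.polar Qz' p₁ s₁ : F₀) : F) := by
      field_simp
      linear_combination h1
    refine ⟨?_, ?_⟩
    · rw [h3]
      exact F₀.div_mem (QuadraticMap.polar Qz' p s).2 (QuadraticMap.polar Qz' p₁ s₁).2
    · rw [h3]
      exact div_ne_zero hβ hγ
  -- three mutually non-orthogonal points
  obtain ⟨p₀, hp₀0, hp₀, -⟩ := Cfsg.Agent.Helper94.SubO.exists_sing_perp4 hQz h2' (by omega)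
    (0 : Fin n → F₀) 0 0 0
  obtain ⟨s₀, hs₀, hps₀⟩ := Cfsg.Agent.Helper94.SubO.exists_hyp hQz h2' (by omega) hp₀0
  have hs₀0 : s₀ ≠ 0 := by
    rintro rfl
    rw [Cfsg.Agent.Helper45.OrInSL.b_zero_right hQz] at hps₀
    exact zero_ne_one hps₀
  obtain ⟨t₀, ht₀, htp₀, hts₀⟩ := Cfsg.Agent.Helper94.SubO.exists_sing_ne_both hQz h2'
    (by omega) hp₀0 hs₀0
  have ht₀0 : t₀ ≠ 0 := by
    rintro rfl
    rw [Cfsg.Agent.Helper45.OrInSL.b_zero_left hQz] at htp₀
    exact htp₀ rfl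
  obtain ⟨lam₀, p₁, hlp⟩ := hsing p₀ hp₀ hp₀0
  obtain ⟨mu₀, s₁, hms⟩ := hsing s₀ hs₀ hs₀0
  obtain ⟨nu₀, t₁, hnt⟩ := hsing t₀ ht₀ ht₀0
  have k1 := key p₀ s₀ (by rw [hps₀]; exact one_ne_zero) lam₀ p₁ hlp mu₀ s₁ hms
  have k2 := key p₀ t₀ (by rw [QuadraticMap.polar_comm]; exact htp₀) lam₀ p₁ hlp nu₀ t₁ hnt
  have k3 := key s₀ t₀ (by rw [QuadraticMap.polar_comm]; exact hts₀) mu₀ s₁ hms nu₀ t₁ hnt
  have hlam₀ : lam₀ ≠ 0 := left_ne_zero_of_mul k1.2
  have hsq : lam₀ ^ 2 ∈ F₀ := by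
    have : lam₀ ^ 2 = (lam₀ * mu₀) * (lam₀ * nu₀) / (mu₀ * nu₀) := by
      have hmu : mu₀ ≠ 0 := right_ne_zero_of_mul k1.2
      have hnu : nu₀ ≠ 0 := right_ne_zero_of_mul k2.2
      field_simp
    rw [this]
    exact F₀.div_mem (F₀.mul_mem k1.1 k2.1) k3.1
  -- all singular points have scalars in `lam₀ F₀`
  have main : ∀ s : Fin n → F₀, Qz' s = 0 → ∃ y : Fin n → F₀, act g (E s) = lam₀ • E y := by
    intro s hs
    by_cases hs0 : s = 0
    · refine ⟨0, ?_⟩
      rw [hs0, emb_zero, act_zero, smul_zero]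
    obtain ⟨mu, s₁, hmu⟩ := hsing s hs hs0
    suffices hq : mu / lam₀ ∈ F₀ by
      refine ⟨(⟨mu / lam₀, hq⟩ : F₀) • s₁, ?_⟩
      rw [hmu, emb_smul, smul_smul]
      congr 1
      field_simp
    by_cases hps : QuadraticMap.polar Qz' p₀ s ≠ 0
    · have k := key p₀ s hps lam₀ p₁ hlp mu s₁ hmu
      have : mu / lam₀ = lam₀ * mu / lam₀ ^ 2 := by
        field_simp
      rw [this]
      exact F₀.div_mem k.1 hsq
    · push Not at hps
      obtain ⟨t, ht, htp, hts⟩ := Cfsg.Agent.Helper94.SubO.exists_sing_ne_both hQz h2'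
        (by omega) hp₀0 hs0
      have ht0 : t ≠ 0 := by
        rintro rfl
        rw [Cfsg.Agent.Helper45.OrInSL.b_zero_left hQz] at htp
        exact htp rfl
      obtain ⟨nu, t₁', hnu⟩ := hsing t ht ht0
      have ka := key p₀ t (by rw [QuadraticMap.polar_comm]; exact htp) lam₀ p₁ hlp nu t₁' hnu
      have kb := key t s hts nu t₁' hnu mu s₁ hmu
      have hnu0 : nu ≠ 0 := right_ne_zero_of_mul ka.2
      have : mu / lam₀ = nu * mu / (lam₀ * nu) := by
        field_simp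
      rw [this]
      exact F₀.div_mem kb.1 ka.1
  -- all rational points
  obtain ⟨W, hW⟩ : ∃ W : Submodule F₀ (Fin n → F₀), ∀ x, x ∈ W ↔
      ∃ y : Fin n → F₀, act g (E x) = lam₀ • E y := by
    refine ⟨{ carrier := Set.ofPred (fun x => ∃ y : Fin n → F₀, act g (E x) = lam₀ • E y),
              add_mem' := ?_, zero_mem' := ?_, smul_mem' := ?_ }, fun x => Iff.rfl⟩
    · rintro x x' ⟨y, hy⟩ ⟨y', hy'⟩
      refine ⟨y + y', ?_⟩
      rw [emb_add, act_add, hy, hy', emb_add, smul_add]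
    · refine ⟨0, ?_⟩
      rw [emb_zero, act_zero, smul_zero]
    · rintro c x ⟨y, hy⟩
      refine ⟨c • y, ?_⟩
      rw [emb_smul, act_smul, hy, emb_smul, smul_comm]
  have hall := Cfsg.Agent.Helper94.SubO.top_le_of_sing hQz h2' (by omega) W
    (fun y hy => (hW y).2 (main y hy))
  apply mem_subfieldSubgroup_of_emb (e := e) _ lam₀ hlam₀
  intro x
  exact (hW x).1 (hall x)

include hQ hP in
/-- **rationality criterion**: an isometry all of whose Gram determinants between images of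
rational singular pairs and rational singular pairs are rational lies in the subfield group -/
theorem mem_subfield_of_rational [Fintype F] (h2 : (2 : F) ≠ 0) (hn : 13 ≤ n)
    (g : ↥(isometryGroup F ⇑Qf))
    (Hrat : ∀ p r a b : Fin n → F₀, SP Qz' p r → SP Qz' a b →
      om Qf F₀ P e (act g (E p)) (act g (E r)) a b ∈ F₀) :
    (g : GL ι F) ∈ Cfsg.Geo.subfieldSubgroup F₀ P :=
  mem_subfield_of_sing Qf hQ F₀ e hP h2 hn g
    (fun p hp hp0 => exists_scalar_of_rational Qf hQ F₀ e hP h2 hn g Hrat hp hp0)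

end Fixed

end Cfsg.Agent.Helper94.SubW
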