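import Mathlib
import Cfsg.Agent.Helper94.SubW10

set_option autoImplicit false
set_option linter.unusedSectionVars false
set_option linter.unusedVariables false
set_option linter.unusedSimpArgs false
set_option linter.style.haveILetI false

/-!
# The exceptional case `F₀ = 𝔽₃`, `Δ² = -1`
-/

namespace Cfsg.Agent.Helper94.SubW

open Matrix Cfsg Cfsg.Geo Cfsg.Agent.Helper94 Cfsg.Agent.Helper94.ORoot

variable {ι : Type} [Fintype ι] [DecidableEq ι] {F : Type*} [Field F] {n : ℕ}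

/-- if `Δ² = -1` and `Δ` generates `F` over `F₀`, every element is `α + Δ β` -/
theorem exists_scalar_decomp [Fintype F] (F₀ : Subfield F) {Δ : F} (hsq : Δ ^ 2 = -1)
    (htop : Subfield.closure ((F₀ : Set F) ∪ {Δ}) = ⊤) (s : F) :
    ∃ α β : F₀, s = (α : F) + Δ * (β : F) := by
  obtain ⟨R, hR⟩ : ∃ R : Subring F, ∀ x, x ∈ R ↔ ∃ α β : F₀, x = (α : F) + Δ * (β : F) := by
    refine ⟨{ carrier := Set.ofPred (fun x => ∃ α β : F₀, x = (α : F) + Δ * (β : F)),
              mul_mem' := ?_, one_mem' := ?_, add_mem' := ?_, zero_mem' := ?_, neg_mem' := ?_ },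
      fun x => Iff.rfl⟩
    · rintro x y ⟨α, β, rfl⟩ ⟨α', β', rfl⟩
      refine ⟨α * α' - β * β', α * β' + α' * β, ?_⟩
      push_cast
      linear_combination (↑β * ↑β' : F) * hsq
    · exact ⟨1, 0, by simp⟩
    · rintro x y ⟨α, β, rfl⟩ ⟨α', β', rfl⟩
      refine ⟨α + α', β + β', ?_⟩
      push_cast
      ring
    · exact ⟨0, 0, by simp⟩
    · rintro x ⟨α, β, rfl⟩
      refine ⟨-α, -β, ?_⟩
      push_cast
      ring
  obtain ⟨K, hK⟩ : ∃ K : Subfield F, ∀ x, x ∈ K ↔ x ∈ R := by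
    refine ⟨{ R with inv_mem' := ?_ }, fun x => Iff.rfl⟩
    intro x hx
    by_cases hx0 : x = 0
    · rw [hx0, _root_.inv_zero]
      exact R.zero_mem
    · have h1 : x⁻¹ = x ^ (Fintype.card F - 2) := by
        have h3 := FiniteField.pow_card_sub_one_eq_one x hx0
        have h4 : 2 ≤ Fintype.card F := Fintype.one_lt_card
        have h5 : Fintype.card F - 1 = (Fintype.card F - 2) + 1 := by omega
        rw [h5, pow_succ] at h3
        exact (eq_inv_of_mul_eq_one_left h3).symm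
      rw [h1]
      exact R.pow_mem hx _
  have hle : Subfield.closure ((F₀ : Set F) ∪ {Δ}) ≤ K := by
    rw [Subfield.closure_le]
    rintro x (hx | hx)
    · rw [SetLike.mem_coe, hK, hR]
      exact ⟨⟨x, hx⟩, 0, by simp⟩
    · rw [Set.mem_singleton_iff] at hx
      rw [SetLike.mem_coe, hK, hR, hx]
      exact ⟨0, 1, by simp⟩
  rw [htop] at hle
  have := hle (Subfield.mem_top s)
  rwa [hK, hR] at this

variable (Qf : QuadraticForm F (ι → F)) (hQ : IsNondegenerateQuadraticForm ⇑Qf)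

/-- conjugation of parametrised Siegel elements -/
theorem tg_conj (g : ↥(isometryGroup F ⇑Qf)) {p r : ι → F} (h : SP ⇑Qf p r) (c : F) :
    g * tg hQ p r c * g⁻¹ = tg hQ (act g p) (act g r) c := by
  unfold tg
  rw [sg_conj hQ g (h.smul_right hQ c), act_smul]

section Fixed

variable (F₀ : Subfield F) {P : GL ι F} (e : ι ≃ Fin n)
  (hP : Cfsg.Geo.IsQuadFormRationalStructure ⇑Qf F₀ P)

local notation "E" => emb F₀ P e
local notation "Qz'" => Qz F₀ e hP

/-- decomposition of vectors into rational parts -/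
theorem exists_vec_decomp {Δ : F} (hdec : ∀ s : F, ∃ α β : F₀, s = (α : F) + Δ * (β : F))
    (v : ι → F) : ∃ v' v'' : Fin n → F₀, v = E v' + Δ • E v'' := by
  obtain ⟨u, hu⟩ : ∃ u, u = ((P⁻¹ : GL ι F) : Matrix ι ι F) *ᵥ v := ⟨_, rfl⟩
  have hv : v = (P : Matrix ι ι F) *ᵥ u := by
    rw [hu, Matrix.mulVec_mulVec, ← Units.val_mul, mul_inv_cancel, Units.val_one,
      Matrix.one_mulVec]
  choose α β hαβ using hdec
  refine ⟨fun j => α (u (e.symm j)), fun j => β (u (e.symm j)), ?_⟩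
  unfold emb
  rw [← Matrix.mulVec_smul, ← Matrix.mulVec_add, hv]
  congr 1
  funext i
  simp only [Pi.add_apply, Pi.smul_apply, smul_eq_mul, Equiv.symm_apply_apply]
  exact hαβ (u i)

/-- linear independence descends to the rational structure -/
theorem li_of_emb {a b : Fin n → F₀} (h : LinearIndependent F ![E a, E b]) :
    LinearIndependent F₀ ![a, b] := by
  rw [LinearIndependent.pair_iff] at h ⊢
  intro s t hst
  have h1 : (s : F) • E a + (t : F) • E b = 0 := by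
    rw [← emb_smul, ← emb_smul, ← emb_add, hst, emb_zero]
  obtain ⟨h3, h4⟩ := h _ _ h1
  exact ⟨Subtype.ext h3, Subtype.ext h4⟩

variable (M' : Subgroup ↥(isometryGroup F ⇑Qf))
  (hHM : (Cfsg.Geo.subfieldSubgroup F₀ P ⊓ Cfsg.Geo.omegaGL ⇑Qf).comap
    (isometryGroup F ⇑Qf).subtype ≤ M')

include hHM in
/-- the exceptional case: a full rational root group on a neighbouring line -/
theorem full_of_exceptional [Fintype F] (h2 : (2 : F) ≠ 0) (hn : 13 ≤ n) {a b : Fin n → F₀}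
    (hab : SP Qz' a b) {x z : ι → F} (hxz : SP ⇑Qf x z) (hM' : ∀ c ∈ F₀, tg hQ x z c ∈ M')
    {Δ : F}
    (hΔ : Δ = QuadraticMap.polar ⇑Qf (E a) x * QuadraticMap.polar ⇑Qf (E b) z
      - QuadraticMap.polar ⇑Qf (E a) z * QuadraticMap.polar ⇑Qf (E b) x)
    (hsq : Δ ^ 2 = -1) (htop : Subfield.closure ((F₀ : Set F) ∪ {Δ}) = ⊤) :
    ∃ c : Fin n → F₀, SP Qz' a c ∧ LinearIndependent F₀ ![a, c] ∧
      ∀ t : F, tg hQ (E a) (E c) t ∈ M' := by
  haveI : Fintype F₀ := Fintype.ofFinite F₀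
  have hQz := nondeg_Qz hQ F₀ e hP
  have h2' := two_ne_zero_sub (F₀ := F₀) h2
  have hΔ0 : Δ ≠ 0 := by
    rintro rfl
    norm_num at hsq
  have hdec := exists_scalar_decomp F₀ hsq htop
  obtain ⟨x', x'', hx⟩ := exists_vec_decomp F₀ e hdec x
  obtain ⟨z', z'', hz⟩ := exists_vec_decomp F₀ e hdec z
  obtain ⟨S, hS⟩ : ∃ S : Submodule F₀ (Fin n → F₀),
      S = Submodule.span F₀ (Set.range ![a, b, x', x'', z', z'']) := ⟨_, rfl⟩
  have hfr : Module.finrank F₀ S ≤ 6 := by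
    have := finrank_range_le_card (R := F₀) ![a, b, x', x'', z', z'']
    rw [hS]
    simpa [Set.finrank] using this
  have hperp := Cfsg.Agent.Helper45.OrInSL.finrank_perp hQz S
  obtain ⟨c, hcS, hc0, hc⟩ := Cfsg.Agent.Helper45.OrInSL.exists_singular_of_finrank hQz h2'
    (Cfsg.Agent.Helper45.OrInSL.perp hQz S) (by omega)
  rw [hS, Cfsg.Agent.Helper45.OrInSL.mem_perp_span] at hcS
  have hca : QuadraticMap.polar Qz' c a = 0 := hcS a ⟨0, rfl⟩
  have hcb : QuadraticMap.polar Qz' c b = 0 := hcS b ⟨1, rfl⟩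
  have hcx' : QuadraticMap.polar Qz' c x' = 0 := hcS x' ⟨2, rfl⟩
  have hcx'' : QuadraticMap.polar Qz' c x'' = 0 := hcS x'' ⟨3, rfl⟩
  have hcz' : QuadraticMap.polar Qz' c z' = 0 := hcS z' ⟨4, rfl⟩
  have hcz'' : QuadraticMap.polar Qz' c z'' = 0 := hcS z'' ⟨5, rfl⟩
  have hEca : QuadraticMap.polar ⇑Qf (E a) (E c) = 0 := by
    rw [B_comm, ← coe_polar_Qz F₀ e hP, hca]; rfl
  have hEcb : QuadraticMap.polar ⇑Qf (E b) (E c) = 0 := by
    rw [B_comm, ← coe_polar_Qz F₀ e hP, hcb]; rfl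
  have hEcx : QuadraticMap.polar ⇑Qf x (E c) = 0 := by
    rw [B_comm, hx, B_add_right hQ, B_smul_right hQ, ← coe_polar_Qz F₀ e hP,
      ← coe_polar_Qz F₀ e hP, hcx', hcx'']
    simp
  have hEcz : QuadraticMap.polar ⇑Qf z (E c) = 0 := by
    rw [B_comm, hz, B_add_right hQ, B_smul_right hQ, ← coe_polar_Qz F₀ e hP,
      ← coe_polar_Qz F₀ e hP, hcz', hcz'']
    simp
  have hac : SP Qz' a c := ⟨hab.1, hc, by rw [QuadraticMap.polar_comm]; exact hca⟩
  have hacE := SP_emb Qf hQ F₀ e hP hac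
  have habE := SP_emb Qf hQ F₀ e hP hab
  refine ⟨c, hac, ?_, ?_⟩
  · rw [LinearIndependent.pair_iff]
    intro s t hst
    by_cases hs : s = 0
    · subst hs
      rw [zero_smul, zero_add] at hst
      rcases smul_eq_zero.1 hst with h | h
      · exact ⟨rfl, h⟩
      · exact absurd h hc0
    · exfalso
      have h3 : s • a = -(t • c) := eq_neg_of_add_eq_zero_left hst
      have h4 : a = (-(s⁻¹ * t)) • c := by
        have : a = s⁻¹ • (s • a) := by rw [smul_smul, inv_mul_cancel₀ hs, one_smul]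
        rw [this, h3]
        module
      apply hΔ0
      rw [hΔ, h4, emb_smul, B_smul_left hQ, B_smul_left hQ, B_comm (E c) x, B_comm (E c) z,
        hEcx, hEcz]
      ring
  · obtain ⟨D, hDM, hDa, hDfix⟩ := exists_exceptional hQ M' habE hxz hΔ hsq
      (tg_rat_mem Qf hQ F₀ e hP M' hHM (by omega) hab F₀.one_mem) (hM' 1 F₀.one_mem)
    have hDc : act D (E c) = E c := hDfix (E c) hEca hEcb hEcx hEcz
    have hrat : ∀ t ∈ F₀, tg hQ (E a) (E c) t ∈ M' := fun t ht =>
      tg_rat_mem Qf hQ F₀ e hP M' hHM (by omega) hac ht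
    have hirr : ∀ t ∈ F₀, tg hQ (E a) (E c) (Δ * t) ∈ M' := by
      intro t ht
      have h1 : D * tg hQ (E a) (E c) t * D⁻¹ ∈ M' :=
        M'.mul_mem (M'.mul_mem hDM (hrat t ht)) (M'.inv_mem hDM)
      rw [tg_conj Qf hQ D hacE, hDa, hDc] at h1
      have e1 : Δ • E a = Δ • E a + (0 : F) • E c := by simp
      have e2 : E c = (0 : F) • E a + (1 : F) • E c := by simp
      rw [e1] at h1
      nth_rewrite 2 [e2] at h1
      rw [tg_comb hQ hacE] at h1
      have e3 : t * (Δ * 1 - 0 * 0) = Δ * t := by ring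
      rwa [e3] at h1
    intro t
    obtain ⟨α, β, rfl⟩ := hdec t
    rw [← tg_mul hQ hacE]
    exact M'.mul_mem (hrat _ α.2) (hirr _ β.2)

end Fixed

end Cfsg.Agent.Helper94.SubW
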