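import Mathlib
import Cfsg.Agent.Helper94.SubW11

set_option autoImplicit false
set_option linter.unusedSectionVars false
set_option linter.unusedVariables false
set_option linter.unusedSimpArgs false
set_option linter.style.haveILetI false

/-!
# Maximality of the subfield subgroup of `Ω` (odd characteristic)
-/

namespace Cfsg.Agent.Helper94.SubW

open Matrix Cfsg Cfsg.Geo Cfsg.Agent.Helper94 Cfsg.Agent.Helper94.ORoot

variable {ι : Type} [Fintype ι] [DecidableEq ι] {F : Type*} [Field F] {n : ℕ}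
variable (Qf : QuadraticForm F (ι → F)) (hQ : IsNondegenerateQuadraticForm ⇑Qf)

section Fixed

variable (F₀ : Subfield F) {P : GL ι F} (e : ι ≃ Fin n)
  (hP : Cfsg.Geo.IsQuadFormRationalStructure ⇑Qf F₀ P)

local notation "E" => emb F₀ P e
local notation "Qz'" => Qz F₀ e hP

include hQ hP in
/-- an independent rational singular pair -/
theorem exists_rat_pair [Fintype F] (h2 : (2 : F) ≠ 0) (hn : 13 ≤ n) :
    ∃ a b : Fin n → F₀, SP Qz' a b ∧ LinearIndependent F₀ ![a, b] ∧ a ≠ 0 ∧ b ≠ 0 ∧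
      a ∉ Submodule.span F₀ {b} := by
  haveI : Fintype F₀ := Fintype.ofFinite F₀
  have hQz := nondeg_Qz hQ F₀ e hP
  have h2' := two_ne_zero_sub (F₀ := F₀) h2
  obtain ⟨p, hp0, hp, -⟩ := Cfsg.Agent.Helper94.SubO.exists_sing_perp4 hQz h2' (by omega)
    (0 : Fin n → F₀) 0 0 0
  obtain ⟨r₁, r₂, hr₁, hr₂, hr₁p, hr₂p, hr₁r₂⟩ := exists_two_sing_perp hQz h2' (by omega) hp hp0
  have hpr₂ : QuadraticMap.polar Qz' p r₂ = 0 := by rw [QuadraticMap.polar_comm]; exact hr₂p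
  have hr₁0 : r₁ ≠ 0 := by
    rintro rfl
    rw [Cfsg.Agent.Helper45.OrInSL.b_zero_left hQz] at hr₁r₂
    exact hr₁r₂ rfl
  have hspan : p ∉ Submodule.span F₀ {r₁} := by
    intro hmem
    obtain ⟨c, rfl⟩ := Submodule.mem_span_singleton.1 hmem
    rw [Cfsg.Agent.Helper45.OrInSL.b_smul_left hQz] at hpr₂
    rcases mul_eq_zero.1 hpr₂ with h | h
    · apply hp0
      rw [h, zero_smul]
    · exact hr₁r₂ h
  refine ⟨p, r₁, ⟨hp, hr₁, by rw [QuadraticMap.polar_comm]; exact hr₁p⟩, ?_, hp0, hr₁0, hspan⟩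
  rw [LinearIndependent.pair_iff]
  intro s t hst
  by_cases hs : s = 0
  · subst hs
    rw [zero_smul, zero_add] at hst
    rcases smul_eq_zero.1 hst with h | h
    · exact ⟨rfl, h⟩
    · exact absurd h hr₁0
  · exfalso
    apply hspan
    rw [Submodule.mem_span_singleton]
    refine ⟨-(s⁻¹ * t), ?_⟩
    have h3 : s • p = -(t • r₁) := eq_neg_of_add_eq_zero_left hst
    have h4 : p = s⁻¹ • (s • p) := by rw [smul_smul, inv_mul_cancel₀ hs, one_smul]
    rw [h4, h3]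
    module

include hQ hP in
/-- an irrational Siegel element does not lie in the subfield group -/
theorem tg_not_mem_subfield [Fintype F] (h2 : (2 : F) ≠ 0) (hn : 13 ≤ n) {a b : Fin n → F₀}
    (hab : SP Qz' a b) (ha0 : a ≠ 0) (hb0 : b ≠ 0) (hspan : a ∉ Submodule.span F₀ {b}) {θ : F}
    (hθ : θ ∉ F₀) :
    ((tg hQ (E a) (E b) θ : ↥(isometryGroup F ⇑Qf)) : GL ι F)
      ∉ Cfsg.Geo.subfieldSubgroup F₀ P := by
  haveI : Fintype F₀ := Fintype.ofFinite F₀
  have hQz := nondeg_Qz hQ F₀ e hP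
  have h2' := two_ne_zero_sub (F₀ := F₀) h2
  have habE := SP_emb Qf hQ F₀ e hP hab
  intro hmem
  obtain ⟨lam, hlam, hr⟩ := emb_of_mem_subfieldSubgroup (e := e) _ hmem
  have hact : ∀ x : Fin n → F₀, ∃ y : Fin n → F₀,
      act (tg hQ (E a) (E b) θ) (E x) = lam • E y := hr
  -- the scalar is rational
  have hlam₀ : lam ∈ F₀ := by
    obtain ⟨y, hy⟩ := hact a
    rw [act_tg hQ habE, habE.self_left hQ, B_comm (E b) (E a), habE.2.2] at hy
    simp only [mul_zero, zero_smul, add_zero, sub_zero] at hy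
    exact scalar_mem ha0 hy
  obtain ⟨v, hv, hva, hvb⟩ := Cfsg.Agent.Helper94.SubO.exists_sing_perp_ne hQz h2' (by omega)
    hspan
  obtain ⟨y, hy⟩ := hact v
  rw [act_tg hQ habE, B_comm (E b) (E v), ← coe_polar_Qz F₀ e hP, ← coe_polar_Qz F₀ e hP, hvb] at hy
  simp only [Subfield.coe_zero, mul_zero, zero_smul, sub_zero] at hy
  -- `θ β • E b` is rational
  obtain ⟨β, hβ⟩ : ∃ β : F₀, β = QuadraticMap.polar Qz' a v := ⟨_, rfl⟩
  rw [← hβ] at hy
  have hβ0 : (β : F) ≠ 0 := by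
    intro h0
    apply hva
    rw [QuadraticMap.polar_comm, ← hβ]
    exact Subtype.ext h0
  have hθ0 : θ ≠ 0 := by
    rintro rfl
    exact hθ F₀.zero_mem
  have h1 : E ((⟨lam, hlam₀⟩ : F₀) • y - v) = (θ * (β : F)) • E b := by
    rw [emb_sub, emb_smul, ← hy]
    simp
  have hne : (⟨lam, hlam₀⟩ : F₀) • y - v ≠ 0 := by
    intro h0
    rw [h0, emb_zero] at h1
    rcases smul_eq_zero.1 h1.symm with h | h
    · exact mul_ne_zero hθ0 hβ0 h
    · exact emb_ne_zero hb0 h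
  have h3 := scalar_mem hne h1
  apply hθ
  have : θ = θ * (β : F) / (β : F) := by field_simp
  rw [this]
  exact F₀.div_mem h3 β.2

include hQ hP e in
/-- **maximality of the subfield subgroup of `Ω`** (bundled form, index type equivalent to
`Fin n`) -/
theorem isMaximalIn_subfield_aux [Fintype F] (h2 : (2 : F) ≠ 0) (hn : 13 ≤ n) {r : ℕ}
    (hr : r.Prime) (hcard : Fintype.card F = Nat.card F₀ ^ r) :
    Cfsg.Geo.IsMaximalIn (Cfsg.Geo.omegaGL ⇑Qf)
      (Cfsg.Geo.subfieldSubgroup F₀ P ⊓ Cfsg.Geo.omegaGL ⇑Qf) := by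
  haveI : Fintype F₀ := Fintype.ofFinite F₀
  obtain ⟨a₀, b₀, hab₀, hli₀, ha₀0, hb₀0, hspan₀⟩ := exists_rat_pair Qf hQ F₀ e hP h2 hn
  refine ⟨lt_of_le_of_ne inf_le_right ?_, ?_⟩
  · intro heq
    obtain ⟨θ, hθ⟩ : ∃ θ : F, θ ∉ F₀ := by
      by_contra hcon
      push Not at hcon
      have h1 : Nat.card F₀ = Fintype.card F := by
        rw [← Nat.card_eq_fintype_card]
        exact Nat.card_congr (Equiv.subtypeUnivEquiv hcon)
      rw [h1] at hcard
      have hq : 1 < Fintype.card F := Fintype.one_lt_card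
      have h3 : Fintype.card F ^ 1 < Fintype.card F ^ r := Nat.pow_lt_pow_right hq hr.one_lt
      rw [pow_one] at h3
      omega
    have h1 : ((tg hQ (E a₀) (E b₀) θ : ↥(isometryGroup F ⇑Qf)) : GL ι F)
        ∈ Cfsg.Geo.omegaGL ⇑Qf :=
      (mem_omegaGL_iff Qf _).2 (tg_mem_Omega Qf hQ (by rw [card_eq e]; omega) _ _ _)
    rw [← heq] at h1
    exact tg_not_mem_subfield Qf hQ F₀ e hP h2 hn hab₀ ha₀0 hb₀0 hspan₀ hθ h1.1
  · intro M hHM hMΩ
    by_cases hle : M ≤ Cfsg.Geo.subfieldSubgroup F₀ P ⊓ Cfsg.Geo.omegaGL ⇑Qf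
    · left
      exact le_antisymm hle hHM
    · right
      obtain ⟨g, hgM, hgH⟩ := SetLike.not_le_iff_exists.1 hle
      obtain ⟨g', hg'Ω, rfl⟩ := hMΩ hgM
      obtain ⟨M', hM'def⟩ : ∃ M' : Subgroup ↥(isometryGroup F ⇑Qf),
          M' = M.comap (isometryGroup F ⇑Qf).subtype := ⟨_, rfl⟩
      have hHM' : (Cfsg.Geo.subfieldSubgroup F₀ P ⊓ Cfsg.Geo.omegaGL ⇑Qf).comap
          (isometryGroup F ⇑Qf).subtype ≤ M' := by
        rw [hM'def]
        exact Subgroup.comap_mono hHM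
      have hg'M : g' ∈ M' := by
        rw [hM'def]
        exact hgM
      have hg'S : (g' : GL ι F) ∉ Cfsg.Geo.subfieldSubgroup F₀ P :=
        fun h => hgH ⟨h, ⟨g', hg'Ω, rfl⟩⟩
      obtain ⟨p, r₁, a, b, hpr, hab, hΔ⟩ : ∃ p r₁ a b : Fin n → F₀, SP Qz' p r₁ ∧ SP Qz' a b ∧
          om Qf F₀ P e (act g' (E p)) (act g' (E r₁)) a b ∉ F₀ := by
        by_contra hcon
        push Not at hcon
        exact hg'S (mem_subfield_of_rational Qf hQ F₀ e hP h2 hn g'
          (fun p r a b h h' => hcon p r a b h h'))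
      have hprE := SP_emb Qf hQ F₀ e hP hpr
      have habE := SP_emb Qf hQ F₀ e hP hab
      obtain ⟨x, hx⟩ : ∃ x, x = act g' (E p) := ⟨_, rfl⟩
      obtain ⟨z, hz⟩ : ∃ z, z = act g' (E r₁) := ⟨_, rfl⟩
      rw [← hx, ← hz] at hΔ
      have hxz : SP ⇑Qf x z :=
        ⟨by rw [hx, Q_act g' (E p), hprE.1], by rw [hz, Q_act g' (E r₁), hprE.2.1],
          by rw [hx, hz, B_act, hprE.2.2]⟩
      have hM'xz : ∀ c ∈ F₀, tg hQ x z c ∈ M' := by
        intro c hc
        rw [hx, hz, ← tg_conj Qf hQ g' hprE]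
        exact M'.mul_mem (M'.mul_mem hg'M (tg_rat_mem Qf hQ F₀ e hP M' hHM' (by omega) hpr hc))
          (M'.inv_mem hg'M)
      obtain ⟨Δ, hΔdef⟩ : ∃ Δ, Δ = QuadraticMap.polar ⇑Qf (E a) x * QuadraticMap.polar ⇑Qf (E b) z
          - QuadraticMap.polar ⇑Qf (E a) z * QuadraticMap.polar ⇑Qf (E b) x := ⟨_, rfl⟩
      have hΔom : Δ = om Qf F₀ P e x z a b := by
        unfold om
        rw [hΔdef, B_comm (E a) x, B_comm (E b) z, B_comm (E a) z, B_comm (E b) x]
        ring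
      have hΔ0 : Δ ∉ F₀ := by
        rw [hΔom]
        exact hΔ
      obtain ⟨a', c', hsp', hli', hfull'⟩ : ∃ a' c' : Fin n → F₀, SP Qz' a' c' ∧
          LinearIndependent F₀ ![a', c'] ∧ ∀ t : F, tg hQ (E a') (E c') t ∈ M' := by
        by_cases hexc : Nat.card F₀ = 3 ∧ Δ ^ 2 = -1
        · obtain ⟨c, h1, h3, h4⟩ := full_of_exceptional Qf hQ F₀ e hP M' hHM' h2 hn hab hxz hM'xz
            hΔdef hexc.2 (closure_eq_top F₀ hr hcard hΔ0)
          exact ⟨a, c, h1, h3, h4⟩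
        · refine ⟨a, b, hab, ?_, full_of_pair hQ F₀ hr hcard h2 M' habE hxz
            (fun c hc => tg_rat_mem Qf hQ F₀ e hP M' hHM' (by omega) hab hc) hM'xz hΔdef hΔ0
            hexc⟩
          apply li_of_emb F₀ e
          apply li_of_det hQ (p := x) (r := z)
          rw [← hΔdef]
          rintro rfl
          exact hΔ0 F₀.zero_mem
      have hΩ := Omega_le_of_full Qf hQ F₀ e hP M' hHM' h2 hn hsp' hli' hfull'
      apply le_antisymm hMΩ
      rintro _ ⟨ω, hω, rfl⟩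
      have := hΩ hω
      rw [hM'def] at this
      exact Subgroup.mem_comap.1 this

end Fixed

/-- **Maximality of the subfield subgroup of `Ω`** for a quadratic form with non-degenerate polar
form over a finite field of odd characteristic, in dimension at least 13. -/
theorem isMaximalIn_subfield [Fintype F] (Q₀ : (ι → F) → F)
    (hQ₀ : IsNondegenerateQuadraticForm Q₀) (h2 : (2 : F) ≠ 0) (hn : 13 ≤ Fintype.card ι)
    (F₀ : Subfield F) {r : ℕ} (hr : r.Prime) (hcard : Fintype.card F = Nat.card F₀ ^ r)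
    (P : GL ι F) (hP : Cfsg.Geo.IsQuadFormRationalStructure Q₀ F₀ P) :
    Cfsg.Geo.IsMaximalIn (Cfsg.Geo.omegaGL Q₀)
      (Cfsg.Geo.subfieldSubgroup F₀ P ⊓ Cfsg.Geo.omegaGL Q₀) := by
  obtain ⟨Qf, hQcoe⟩ : ∃ Qf : QuadraticForm F (ι → F), ⇑Qf = Q₀ :=
    ⟨Cfsg.Agent.Helper45.OmegaParity.qfOfGeo Q₀ hQ₀, rfl⟩
  subst hQcoe
  exact isMaximalIn_subfield_aux Qf hQ₀ F₀ (Fintype.equivFin ι) hP h2 hn hr hcard

end Cfsg.Agent.Helper94.SubW
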