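import Cfsg.Agent.Helper94.TensorSetup

set_option autoImplicit false
set_option linter.unusedSectionVars false

namespace Cfsg.Agent.Helper94

open Cfsg Cfsg.Geo
open scoped Matrix Kronecker

section NormPM

variable {G : Type*} [Group G]

theorem normPM_aux1 {g x : G} (h1 : g * x = x⁻¹ * g) : g * x⁻¹ = x * g := by
  have : x * g * x = g := by rw [mul_assoc, h1, ← mul_assoc, mul_inv_cancel, one_mul]
  calc g * x⁻¹ = x * g * x * x⁻¹ := by rw [this]
    _ = x * g := by rw [mul_assoc (x * g), mul_inv_cancel, mul_one]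

theorem normPM_aux2 {g x : G} (h1 : g * x = x * g) : g * x⁻¹ = x⁻¹ * g := by
  calc g * x⁻¹ = x⁻¹ * (x * g) * x⁻¹ := by rw [← mul_assoc, inv_mul_cancel, one_mul]
    _ = x⁻¹ * (g * x) * x⁻¹ := by rw [h1]
    _ = x⁻¹ * g := by rw [mul_assoc, mul_assoc, mul_inv_cancel, mul_one]

/-- The elements that centralise or invert `x` under conjugation. -/
def normPM (x : G) : Subgroup G where
  carrier := {g | g * x = x * g ∨ g * x = x⁻¹ * g}
  one_mem' := Or.inl (by simp)
  mul_mem' := by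
    rintro g h hg hh
    rcases hg with hg | hg <;> rcases hh with hh | hh
    · left
      rw [mul_assoc, hh, ← mul_assoc, hg, mul_assoc]
    · right
      rw [mul_assoc, hh, ← mul_assoc, normPM_aux2 hg, mul_assoc]
    · right
      rw [mul_assoc, hh, ← mul_assoc, hg, mul_assoc]
    · left
      rw [mul_assoc, hh, ← mul_assoc, normPM_aux1 hg, mul_assoc]
  inv_mem' := by
    rintro g hg
    rcases hg with hg | hg
    · left
      calc g⁻¹ * x = g⁻¹ * (x * g) * g⁻¹ := by rw [mul_assoc, mul_assoc, mul_inv_cancel, mul_one]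
        _ = g⁻¹ * (g * x) * g⁻¹ := by rw [hg]
        _ = x * g⁻¹ := by rw [← mul_assoc, inv_mul_cancel, one_mul]
    · right
      have h3 := normPM_aux1 hg
      calc g⁻¹ * x = g⁻¹ * (x * g) * g⁻¹ := by rw [mul_assoc, mul_assoc, mul_inv_cancel, mul_one]
        _ = g⁻¹ * (g * x⁻¹) * g⁻¹ := by rw [h3]
        _ = x⁻¹ * g⁻¹ := by rw [← mul_assoc, inv_mul_cancel, one_mul]

theorem mem_normPM {x g : G} : g ∈ normPM x ↔ g * x = x * g ∨ g * x = x⁻¹ * g := Iff.rfl

end NormPM

section TConj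

variable {F : Type*} [Field F] {ι : Type} [Fintype ι] [DecidableEq ι] {n₁ n₂ : ℕ}

/-- Transport of an invertible matrix in `Fin n₁ × Fin n₂` coordinates to `GL ι F` along `e` and `P`. -/
def tconj (e : ι ≃ Fin n₁ × Fin n₂) (P : Matrix.GeneralLinearGroup ι F) :
    Matrix.GeneralLinearGroup (Fin n₁ × Fin n₂) F →* Matrix.GeneralLinearGroup ι F :=
  (MulAut.conj P).toMonoidHom.comp (glReindex e.symm).toMonoidHom

variable (e : ι ≃ Fin n₁ × Fin n₂) (P : Matrix.GeneralLinearGroup ι F)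

theorem tconj_mulVec_tau (k : Matrix.GeneralLinearGroup (Fin n₁ × Fin n₂) F) (z : Fin n₁ × Fin n₂ → F) :
    ((tconj e P k : Matrix.GeneralLinearGroup ι F) : Matrix ι ι F) *ᵥ tau e P z
      = tau e P ((k : Matrix (Fin n₁ × Fin n₂) (Fin n₁ × Fin n₂) F) *ᵥ z) := by
  unfold tau tconj
  simp only [MonoidHom.coe_comp, MulEquiv.coe_toMonoidHom, Function.comp_apply, MulAut.conj_apply,
    Units.val_mul]
  rw [← Matrix.mulVec_mulVec, ← Matrix.mulVec_mulVec, Matrix.mulVec_mulVec _ _ (P : Matrix ι ι F),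
    ← Units.val_mul, inv_mul_cancel, Units.val_one, Matrix.one_mulVec]
  congr 1
  have : ((glReindex e.symm k : Matrix.GeneralLinearGroup ι F) : Matrix ι ι F)
      = (k : Matrix (Fin n₁ × Fin n₂) (Fin n₁ × Fin n₂) F).submatrix e e := by
    simp [glReindex, Matrix.reindex_apply]
  rw [this, Matrix.submatrix_mulVec_equiv]
  simp [Function.comp_assoc]

/-- Two elements of `GL ι F` with the same action on all `tau e P z` are equal. -/
theorem gl_ext_tau {g g' : Matrix.GeneralLinearGroup ι F}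
    (h : ∀ z, (g : Matrix ι ι F) *ᵥ tau e P z = (g' : Matrix ι ι F) *ᵥ tau e P z) : g = g' := by
  apply Units.ext
  apply Matrix.mulVec_injective
  funext v
  obtain ⟨z, rfl⟩ := tau_surjective e P v
  exact h z

theorem mem_tensorProductSubgroup_of_kron {k : Matrix.GeneralLinearGroup (Fin n₁ × Fin n₂) F}
    (hk : k ∈ kroneckerSubgroup n₁ n₂ F) : tconj e P k ∈ tensorProductSubgroup n₁ n₂ e P :=
  ⟨glReindex e.symm k, ⟨k, hk, rfl⟩, rfl⟩

end TConj

section F2

variable {F : Type*} [Field F] [Fintype F]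

theorem F2_two (hq : Fintype.card F = 2) : (2 : F) = 0 := by
  have := card_nsmul_eq_zero (G := F) (x := (1 : F))
  rw [hq] at this
  simpa using this

theorem F2_cases (hq : Fintype.card F = 2) (x : F) : x = 0 ∨ x = 1 := by
  classical
  by_contra hcon
  push Not at hcon
  have hsub : ({0, 1, x} : Finset F) ⊆ Finset.univ := Finset.subset_univ _
  have hcard : ({0, 1, x} : Finset F).card = 3 := by
    rw [Finset.card_insert_of_notMem, Finset.card_insert_of_notMem, Finset.card_singleton]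
    · simp only [Finset.mem_singleton]; exact fun h => hcon.2 h.symm
    · simp only [Finset.mem_insert, Finset.mem_singleton, not_or]
      exact ⟨zero_ne_one, fun h => hcon.1 h.symm⟩
  have := Finset.card_le_card hsub
  rw [hcard, Finset.card_univ, hq] at this
  omega

theorem F2_units_subsingleton (hq : Fintype.card F = 2) : Subsingleton Fˣ := by
  classical
  rw [← Fintype.card_le_one_iff_subsingleton, Fintype.card_units, hq]

theorem mem_specialLinear_of_card_two (hq : Fintype.card F = 2) {ι : Type} [Fintype ι] [DecidableEq ι]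
    (g : Matrix.GeneralLinearGroup ι F) : g ∈ specialLinear ι F := by
  have := F2_units_subsingleton hq
  unfold specialLinear
  rw [MonoidHom.mem_ker]
  exact Subsingleton.elim _ _

/-- The element of order three of `GL_2(2)`. -/
def omegaMat (F : Type*) [Field F] : Matrix (Fin 2) (Fin 2) F := !![0, 1; 1, 1]

/-- Its square (and inverse). -/
def omegaMat2 (F : Type*) [Field F] : Matrix (Fin 2) (Fin 2) F := !![1, 1; 1, 0]

theorem omegaMat_mul_omegaMat2 (hq : Fintype.card F = 2) : omegaMat F * omegaMat2 F = 1 := by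
  have h2 := F2_two hq
  unfold omegaMat omegaMat2
  rw [Matrix.mul_fin_two, Matrix.one_fin_two]
  simp [one_add_one_eq_two, h2]

theorem omegaMat2_mul_omegaMat (hq : Fintype.card F = 2) : omegaMat2 F * omegaMat F = 1 := by
  have h2 := F2_two hq
  unfold omegaMat omegaMat2
  rw [Matrix.mul_fin_two, Matrix.one_fin_two]
  simp [one_add_one_eq_two, h2]

set_option linter.unusedSimpArgs false in
set_option linter.unusedTactic false in
/-- Every invertible `2 × 2` matrix over the field with two elements centralises or inverts `ω`. -/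
theorem omegaMat_conj (hq : Fintype.card F = 2) (a : Matrix (Fin 2) (Fin 2) F) (ha : a.det ≠ 0) :
    a * omegaMat F = omegaMat F * a ∨ a * omegaMat F = omegaMat2 F * a := by
  have h2 := F2_two hq
  have hc := F2_cases hq
  obtain ⟨p, q, r, s, rfl⟩ : ∃ p q r s : F, a = !![p, q; r, s] :=
    ⟨_, _, _, _, Matrix.eta_fin_two a⟩
  unfold omegaMat omegaMat2
  rw [Matrix.det_fin_two_of] at ha
  simp only [Matrix.mul_fin_two]
  rcases hc p with rfl | rfl <;> rcases hc q with rfl | rfl <;> rcases hc r with rfl | rfl <;>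
    rcases hc s with rfl | rfl <;>
    first
    | (exfalso; apply ha; simp [one_add_one_eq_two, h2]; done)
    | (left; simp [one_add_one_eq_two, h2]; done)
    | (right; simp [one_add_one_eq_two, h2]; done)

end F2

section Blk

variable {F : Type*} [Field F] {n₁ n₂ : ℕ}

/-- The matrix acting as `m` on the slice `F^(n₁) ⊗ e_{j₀}` and as the identity on the other slices. -/
def blk (m : Matrix (Fin n₁) (Fin n₁) F) (j₀ : Fin n₂) :
    Matrix (Fin n₁ × Fin n₂) (Fin n₁ × Fin n₂) F :=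
  Matrix.of fun a b => if a.2 = j₀ then (if b.2 = j₀ then m a.1 b.1 else 0) else (if a = b then 1 else 0)

theorem blk_mulVec (m : Matrix (Fin n₁) (Fin n₁) F) (j₀ : Fin n₂) (z : Fin n₁ × Fin n₂ → F)
    (a : Fin n₁ × Fin n₂) :
    (blk m j₀ *ᵥ z) a = if a.2 = j₀ then ∑ i', m a.1 i' * z (i', j₀) else z a := by
  obtain ⟨i, j⟩ := a
  simp only [Matrix.mulVec, dotProduct, blk, Matrix.of_apply, Fintype.sum_prod_type]
  by_cases hj : j = j₀
  · simp only [hj, if_true]
    refine Finset.sum_congr rfl fun i' _ => ?_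
    simp [Finset.sum_ite_eq']
  · simp only [hj, if_false]
    simp [Prod.ext_iff, Finset.sum_ite_eq, ite_and]

theorem blk_mulVec_pt_single (m : Matrix (Fin n₁) (Fin n₁) F) (j₀ : Fin n₂) (x : Fin n₁ → F) :
    blk m j₀ *ᵥ pt x (Pi.single j₀ 1) = pt (m *ᵥ x) (Pi.single j₀ 1) := by
  funext a
  rw [blk_mulVec]
  by_cases hj : a.2 = j₀
  · simp [hj, pt, Matrix.mulVec, dotProduct]
  · simp [hj, pt]

theorem blk_mulVec_pt_of_zero (m : Matrix (Fin n₁) (Fin n₁) F) (j₀ : Fin n₂) (x : Fin n₁ → F)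
    {y : Fin n₂ → F} (hy : y j₀ = 0) : blk m j₀ *ᵥ pt x y = pt x y := by
  funext a
  rw [blk_mulVec]
  by_cases hj : a.2 = j₀
  · simp [hj, pt, hy]
  · simp [hj]

theorem blk_mul (m m' : Matrix (Fin n₁) (Fin n₁) F) (j₀ : Fin n₂) :
    blk m j₀ * blk m' j₀ = blk (m * m') j₀ := by
  apply Matrix.mulVec_injective
  funext z a
  rw [← Matrix.mulVec_mulVec, blk_mulVec m, blk_mulVec (m * m')]
  by_cases hj : a.2 = j₀
  · rw [if_pos hj, if_pos hj]
    simp only [blk_mulVec, if_true, Matrix.mul_apply, Finset.sum_mul, Finset.mul_sum]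
    rw [Finset.sum_comm]
    refine Finset.sum_congr rfl fun i' _ => Finset.sum_congr rfl fun i'' _ => ?_
    ring
  · rw [if_neg hj, if_neg hj, blk_mulVec, if_neg hj]

theorem blk_one (j₀ : Fin n₂) : blk (1 : Matrix (Fin n₁) (Fin n₁) F) j₀ = 1 := by
  apply Matrix.mulVec_injective
  funext z a
  rw [blk_mulVec, Matrix.one_mulVec]
  by_cases hj : a.2 = j₀
  · simp only [hj, if_true]
    simp [Matrix.one_apply, Finset.sum_ite_eq]
    rw [← hj]
  · simp [hj]

/-- The block element as an element of the general linear group. -/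
def blkGL (m : Matrix.GeneralLinearGroup (Fin n₁) F) (j₀ : Fin n₂) :
    Matrix.GeneralLinearGroup (Fin n₁ × Fin n₂) F :=
  ⟨blk (m : Matrix (Fin n₁) (Fin n₁) F) j₀, blk ((m⁻¹ : Matrix.GeneralLinearGroup (Fin n₁) F) :
      Matrix (Fin n₁) (Fin n₁) F) j₀,
    by rw [blk_mul, ← Units.val_mul, mul_inv_cancel, Units.val_one, blk_one],
    by rw [blk_mul, ← Units.val_mul, inv_mul_cancel, Units.val_one, blk_one]⟩

theorem kron_one_mulVec (c : Matrix (Fin n₁) (Fin n₁) F) (z : Fin n₁ × Fin n₂ → F)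
    (a : Fin n₁ × Fin n₂) :
    ((c ⊗ₖ (1 : Matrix (Fin n₂) (Fin n₂) F)) *ᵥ z) a = ∑ i', c a.1 i' * z (i', a.2) := by
  obtain ⟨i, j⟩ := a
  simp only [Matrix.mulVec, dotProduct, Matrix.kroneckerMap_apply, Fintype.sum_prod_type,
    Matrix.one_apply]
  refine Finset.sum_congr rfl fun i' _ => ?_
  simp [Finset.sum_ite_eq]

theorem blk_comm_kron {m c : Matrix (Fin n₁) (Fin n₁) F} (h : m * c = c * m) (j₀ : Fin n₂) :
    blk m j₀ * (c ⊗ₖ (1 : Matrix (Fin n₂) (Fin n₂) F)) = (c ⊗ₖ (1 : Matrix (Fin n₂) (Fin n₂) F)) * blk m j₀ := by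
  apply Matrix.mulVec_injective
  funext z a
  rw [← Matrix.mulVec_mulVec, ← Matrix.mulVec_mulVec, blk_mulVec, kron_one_mulVec]
  by_cases hj : a.2 = j₀
  · rw [if_pos hj]
    simp only [kron_one_mulVec, blk_mulVec, hj, if_true, Finset.mul_sum]
    rw [Finset.sum_comm]
    conv_rhs => rw [Finset.sum_comm]
    refine Finset.sum_congr rfl fun i'' _ => ?_
    have h1 := congrFun (congrFun h a.1) i''
    simp only [Matrix.mul_apply] at h1
    simp only [← mul_assoc, ← Finset.sum_mul]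
    rw [h1]
  · rw [if_neg hj, kron_one_mulVec]
    refine Finset.sum_congr rfl fun i' _ => ?_
    rw [blk_mulVec, if_neg hj]

end Blk

section Main

variable {F : Type*} [Field F] [Fintype F] {ι : Type} [Fintype ι] [DecidableEq ι]

/-- `GL_2(2) ⊗ GL_{n₂}(2)` is not maximal in `SL_{2 n₂}(2)`: it normalises the cyclic group of order three
generated by `ω ⊗ 1`. -/
theorem exists_between_of_tensor_lin2 (hq : Fintype.card F = 2) (n₂ : ℕ) (hn₂ : 2 ≤ n₂)
    (e : ι ≃ Fin 2 × Fin n₂) (P : Matrix.GeneralLinearGroup ι F) :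
    ∃ K : Subgroup (Matrix.GeneralLinearGroup ι F),
      tensorProductSubgroup 2 n₂ e P ⊓ specialLinear ι F < K ∧ K < specialLinear ι F := by
  classical
  have h2 := F2_two hq
  have h12 := omegaMat_mul_omegaMat2 hq
  have h21 := omegaMat2_mul_omegaMat hq
  -- the elements
  let ωGL : Matrix.GeneralLinearGroup (Fin 2) F := ⟨omegaMat F, omegaMat2 F, h12, h21⟩
  let k₀ : Matrix.GeneralLinearGroup (Fin 2 × Fin n₂) F :=
    ⟨omegaMat F ⊗ₖ (1 : Matrix (Fin n₂) (Fin n₂) F), omegaMat2 F ⊗ₖ (1 : Matrix (Fin n₂) (Fin n₂) F),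
      by rw [← Matrix.mul_kronecker_mul, h12, mul_one, Matrix.one_kronecker_one],
      by rw [← Matrix.mul_kronecker_mul, h21, mul_one, Matrix.one_kronecker_one]⟩
  set g₀ := tconj e P k₀ with hg₀
  have hg₀act : ∀ z, (g₀ : Matrix ι ι F) *ᵥ tau e P z
      = tau e P ((omegaMat F ⊗ₖ (1 : Matrix (Fin n₂) (Fin n₂) F)) *ᵥ z) :=
    fun z => tconj_mulVec_tau e P k₀ z
  have hg₀inv : ∀ z, ((g₀⁻¹ : Matrix.GeneralLinearGroup ι F) : Matrix ι ι F) *ᵥ tau e P z
      = tau e P ((omegaMat2 F ⊗ₖ (1 : Matrix (Fin n₂) (Fin n₂) F)) *ᵥ z) := by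
    intro z
    rw [hg₀, ← map_inv]
    exact tconj_mulVec_tau e P k₀⁻¹ z
  let j₀ : Fin n₂ := ⟨0, by omega⟩
  let j₁ : Fin n₂ := ⟨1, by omega⟩
  have hj01 : j₁ ≠ j₀ := by simp [j₀, j₁, Fin.ext_iff]
  set y₀ : Fin n₂ → F := Pi.single j₀ 1 with hy₀
  set y₁ : Fin n₂ → F := Pi.single j₁ 1 with hy₁
  have hy₀j : y₀ j₀ = 1 := by simp [hy₀]
  have hy₁j : y₁ j₀ = 0 := by simp [hy₁, hj01.symm]
  have hy₁j₁ : y₁ j₁ = 1 := by simp [hy₁]
  have hy₀ne : y₀ ≠ 0 := fun h => one_ne_zero (α := F) (by rw [← hy₀j, h]; rfl)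
  have hy₁ne : y₁ ≠ 0 := fun h => one_ne_zero (α := F) (by rw [← hy₁j₁, h]; rfl)
  set x₀ : Fin 2 → F := ![1, 0] with hx₀
  have hωx₀ : omegaMat F *ᵥ x₀ = ![0, 1] := by
    funext i; fin_cases i <;> simp [omegaMat, hx₀, Matrix.mulVec, dotProduct, Fin.sum_univ_two]
  have hω2x₀ : omegaMat2 F *ᵥ x₀ = ![1, 1] := by
    funext i; fin_cases i <;> simp [omegaMat2, hx₀, Matrix.mulVec, dotProduct, Fin.sum_univ_two]
  let tM : Matrix (Fin 2) (Fin 2) F := !![1, 1; 0, 1]
  have htt : tM * tM = 1 := by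
    simp only [tM]
    rw [Matrix.mul_fin_two, Matrix.one_fin_two]
    simp [one_add_one_eq_two, h2]
  let tGL : Matrix.GeneralLinearGroup (Fin 2) F := ⟨tM, tM, htt, htt⟩
  have htx₀ : tM *ᵥ x₀ = ![1, 0] := by
    funext i; fin_cases i <;> simp [tM, hx₀, Matrix.mulVec, dotProduct, Fin.sum_univ_two]
  have htωx₀ : tM *ᵥ ![0, 1] = ![1, 1] := by
    funext i; fin_cases i <;> simp [tM, Matrix.mulVec, dotProduct, Fin.sum_univ_two]
  set g₁ := tconj e P (blkGL ωGL j₀) with hg₁
  set g₂ := tconj e P (blkGL tGL j₀) with hg₂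
  have hg₁act : ∀ z, (g₁ : Matrix ι ι F) *ᵥ tau e P z = tau e P (blk (omegaMat F) j₀ *ᵥ z) :=
    fun z => tconj_mulVec_tau e P (blkGL ωGL j₀) z
  have hg₂act : ∀ z, (g₂ : Matrix ι ι F) *ᵥ tau e P z = tau e P (blk tM j₀ *ᵥ z) :=
    fun z => tconj_mulVec_tau e P (blkGL tGL j₀) z
  have hkron : ∀ (c : Matrix (Fin 2) (Fin 2) F) (x : Fin 2 → F) (y : Fin n₂ → F),
      (c ⊗ₖ (1 : Matrix (Fin n₂) (Fin n₂) F)) *ᵥ pt x y = pt (c *ᵥ x) y := by
    intro c x y
    rw [kronecker_mulVec_pt, Matrix.one_mulVec]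
  refine exists_between_of_subgroup _ _ (normPM g₀) ?_
    g₁ (mem_specialLinear_of_card_two hq g₁) ?_ ?_
    g₂ (mem_specialLinear_of_card_two hq g₂) ?_
  · -- the tensor product subgroup normalises
    rintro g ⟨hgT, -⟩
    obtain ⟨a, b, hab⟩ := exists_of_mem_tensorProductSubgroup e P hgT
    have hadet : (a : Matrix (Fin 2) (Fin 2) F).det ≠ 0 := by
      have := (Matrix.isUnit_iff_isUnit_det _).mp a.isUnit
      exact this.ne_zero
    rcases omegaMat_conj hq _ hadet with hcomm | hcomm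
    · left
      apply gl_ext_tau e P
      intro z
      rw [Units.val_mul, Units.val_mul, ← Matrix.mulVec_mulVec, ← Matrix.mulVec_mulVec, hg₀act, hab,
        hab, hg₀act, Matrix.mulVec_mulVec, Matrix.mulVec_mulVec, ← Matrix.mul_kronecker_mul,
        ← Matrix.mul_kronecker_mul, hcomm, mul_one, one_mul]
    · right
      apply gl_ext_tau e P
      intro z
      rw [Units.val_mul, Units.val_mul, ← Matrix.mulVec_mulVec, ← Matrix.mulVec_mulVec, hg₀act, hab,
        hab, hg₀inv, Matrix.mulVec_mulVec, Matrix.mulVec_mulVec, ← Matrix.mul_kronecker_mul,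
        ← Matrix.mul_kronecker_mul, hcomm, mul_one, one_mul]
  · -- g₁ centralises g₀
    left
    apply gl_ext_tau e P
    intro z
    rw [Units.val_mul, Units.val_mul, ← Matrix.mulVec_mulVec, ← Matrix.mulVec_mulVec, hg₀act, hg₁act,
      hg₁act, hg₀act, Matrix.mulVec_mulVec, Matrix.mulVec_mulVec, blk_comm_kron rfl]
  · -- g₁ is not in the tensor product subgroup
    refine not_mem_of_fixes (isTensorSetup_right e P) (w₀ := y₀) (w₁ := y₁) hy₀ne hy₁ne ?_ ?_
      (y₀ := x₀) (z := omegaMat F *ᵥ x₀) ?_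
    · intro x
      show (g₁ : Matrix ι ι F) *ᵥ tau e P (pt x y₁) = tau e P (pt x y₁)
      rw [hg₁act, blk_mulVec_pt_of_zero _ _ _ hy₁j]
    · show (g₁ : Matrix ι ι F) *ᵥ tau e P (pt x₀ y₀) = tau e P (pt (omegaMat F *ᵥ x₀) y₀)
      rw [hg₁act, hy₀, blk_mulVec_pt_single]
    · intro γ h
      rw [hωx₀, hx₀] at h
      have h1 := congrFun h 1
      simp at h1
  · -- g₂ does not normalise
    intro hmem
    rcases hmem with h | h
    · have h1 := congrArg (fun g : Matrix.GeneralLinearGroup ι F =>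
        (g : Matrix ι ι F) *ᵥ tau e P (pt x₀ y₀)) h
      simp only [Units.val_mul, ← Matrix.mulVec_mulVec] at h1
      rw [hg₀act, hg₂act, hkron, hg₂act, hg₀act, hy₀, blk_mulVec_pt_single, blk_mulVec_pt_single,
        hkron, hωx₀, htx₀, htωx₀, ← hx₀, hωx₀] at h1
      have h3 := pt_eq_left (tau_injective e P h1) (j := j₀) (by simp)
      have := congrFun h3 0
      simp at this
    · have h1 := congrArg (fun g : Matrix.GeneralLinearGroup ι F =>
        (g : Matrix ι ι F) *ᵥ tau e P (pt x₀ y₁)) h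
      simp only [Units.val_mul, ← Matrix.mulVec_mulVec] at h1
      rw [hg₀act, hg₂act, hkron, hg₂act, hg₀inv, blk_mulVec_pt_of_zero _ _ _ hy₁j,
        blk_mulVec_pt_of_zero _ _ _ hy₁j, hkron, hωx₀, hω2x₀] at h1
      have h3 := pt_eq_left (tau_injective e P h1) (j := j₁) (by rw [hy₁j₁]; exact one_ne_zero)
      have := congrFun h3 0
      simp [hy₁j₁] at this

end Main

end Cfsg.Agent.Helper94
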