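import Mathlib
import Cfsg.Prelude.Def_GeometricClasses

set_option autoImplicit false
set_option linter.unusedSectionVars false

namespace Cfsg.Agent.Helper94

open Cfsg Cfsg.Geo
open scoped Matrix

section Quad

variable {ι : Type} [Fintype ι] [DecidableEq ι] {F : Type*} [Field F]
variable {Q : (ι → F) → F}

local notation "B" => QuadraticMap.polar Q

theorem Q_add (x y : ι → F) : Q (x + y) = Q x + Q y + QuadraticMap.polar Q x y := by
  simp [QuadraticMap.polar]

theorem Q_zero (hQ : IsNondegenerateQuadraticForm Q) : Q 0 = 0 := by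
  have := hQ.smul 0 0
  simpa using this

theorem Q_smul (hQ : IsNondegenerateQuadraticForm Q) (c : F) (x : ι → F) : Q (c • x) = c ^ 2 * Q x :=
  hQ.smul c x

theorem Q_neg (hQ : IsNondegenerateQuadraticForm Q) (x : ι → F) : Q (-x) = Q x := by
  have := hQ.smul (-1) x
  simpa using this

theorem B_comm (x y : ι → F) : QuadraticMap.polar Q x y = QuadraticMap.polar Q y x :=
  QuadraticMap.polar_comm Q x y

theorem B_add_left (hQ : IsNondegenerateQuadraticForm Q) (x y v : ι → F) :
    QuadraticMap.polar Q (x + y) v = QuadraticMap.polar Q x v + QuadraticMap.polar Q y v :=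
  hQ.polar_bilinear.add_left x y v

theorem B_add_right (hQ : IsNondegenerateQuadraticForm Q) (v x y : ι → F) :
    QuadraticMap.polar Q v (x + y) = QuadraticMap.polar Q v x + QuadraticMap.polar Q v y :=
  hQ.polar_bilinear.add_right v x y

theorem B_smul_left (hQ : IsNondegenerateQuadraticForm Q) (c : F) (x v : ι → F) :
    QuadraticMap.polar Q (c • x) v = c * QuadraticMap.polar Q x v :=
  hQ.polar_bilinear.smul_left c x v

theorem B_smul_right (hQ : IsNondegenerateQuadraticForm Q) (c : F) (v x : ι → F) :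
    QuadraticMap.polar Q v (c • x) = c * QuadraticMap.polar Q v x :=
  hQ.polar_bilinear.smul_right c v x

theorem B_zero_left (hQ : IsNondegenerateQuadraticForm Q) (v : ι → F) :
    QuadraticMap.polar Q 0 v = 0 := by
  have := B_smul_left hQ 0 0 v
  simpa using this

theorem B_zero_right (hQ : IsNondegenerateQuadraticForm Q) (v : ι → F) :
    QuadraticMap.polar Q v 0 = 0 := by
  rw [B_comm, B_zero_left hQ]

theorem B_neg_left (hQ : IsNondegenerateQuadraticForm Q) (x v : ι → F) :
    QuadraticMap.polar Q (-x) v = - QuadraticMap.polar Q x v := by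
  have := B_smul_left hQ (-1) x v
  simpa using this

theorem B_neg_right (hQ : IsNondegenerateQuadraticForm Q) (v x : ι → F) :
    QuadraticMap.polar Q v (-x) = - QuadraticMap.polar Q v x := by
  rw [B_comm, B_neg_left hQ, B_comm]

theorem B_sub_left (hQ : IsNondegenerateQuadraticForm Q) (x y v : ι → F) :
    QuadraticMap.polar Q (x - y) v = QuadraticMap.polar Q x v - QuadraticMap.polar Q y v := by
  rw [sub_eq_add_neg, B_add_left hQ, B_neg_left hQ, sub_eq_add_neg]

theorem B_sub_right (hQ : IsNondegenerateQuadraticForm Q) (v x y : ι → F) :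
    QuadraticMap.polar Q v (x - y) = QuadraticMap.polar Q v x - QuadraticMap.polar Q v y := by
  rw [sub_eq_add_neg, B_add_right hQ, B_neg_right hQ, sub_eq_add_neg]

theorem B_self (hQ : IsNondegenerateQuadraticForm Q) (x : ι → F) :
    QuadraticMap.polar Q x x = 2 * Q x := by
  have h1 : Q (x + x) = 4 * Q x := by
    have := hQ.smul 2 x
    rw [two_smul] at this
    rw [this]; norm_num
  have h2 := Q_add (Q := Q) x x
  rw [h1] at h2
  linear_combination -h2

theorem Q_sub (hQ : IsNondegenerateQuadraticForm Q) (x y : ι → F) :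
    Q (x - y) = Q x + Q y - QuadraticMap.polar Q x y := by
  rw [sub_eq_add_neg, Q_add (Q := Q), Q_neg hQ, B_neg_right hQ]
  ring

theorem B_sum_right (hQ : IsNondegenerateQuadraticForm Q) {κ : Type*} (s : Finset κ)
    (c : κ → (ι → F)) (v : ι → F) :
    QuadraticMap.polar Q v (∑ k ∈ s, c k) = ∑ k ∈ s, QuadraticMap.polar Q v (c k) := by
  classical
  induction s using Finset.induction_on with
  | empty => simp [B_zero_right hQ]
  | insert a s ha ih => rw [Finset.sum_insert ha, Finset.sum_insert ha, B_add_right hQ, ih]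

/-- `polarVec Q v ⬝ᵥ x = B(v, x)`. -/
theorem polarVec_dotProduct (hQ : IsNondegenerateQuadraticForm Q) (v x : ι → F) :
    polarVec Q v ⬝ᵥ x = QuadraticMap.polar Q v x := by
  conv_rhs => rw [pi_eq_sum_univ x]
  rw [B_sum_right hQ]
  simp only [dotProduct, polarVec]
  apply Finset.sum_congr rfl
  intro j _
  rw [B_smul_right hQ, mul_comm]
  congr 2
  ext k
  simp [Pi.single_apply, eq_comm]

/-- Action of the reflection matrix. -/
theorem reflectionMatrix_mulVec (hQ : IsNondegenerateQuadraticForm Q) (a x : ι → F) :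
    reflectionMatrix Q a *ᵥ x = x - ((Q a)⁻¹ * QuadraticMap.polar Q a x) • a := by
  unfold reflectionMatrix
  rw [Matrix.sub_mulVec, Matrix.one_mulVec, Matrix.smul_mulVec]
  congr 1
  have : Matrix.vecMulVec a (polarVec Q a) *ᵥ x = (polarVec Q a ⬝ᵥ x) • a := by
    ext j
    simp only [Matrix.mulVec, Matrix.vecMulVec_apply, dotProduct, Pi.smul_apply, smul_eq_mul]
    rw [Finset.sum_mul]
    apply Finset.sum_congr rfl
    intro k _
    ring
  rw [this, polarVec_dotProduct hQ, smul_smul]

theorem reflectionMatrix_mul_self (hQ : IsNondegenerateQuadraticForm Q) {a : ι → F} (ha : Q a ≠ 0) :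
    reflectionMatrix Q a * reflectionMatrix Q a = 1 := by
  apply Matrix.mulVec_injective
  funext x
  rw [← Matrix.mulVec_mulVec, reflectionMatrix_mulVec hQ, reflectionMatrix_mulVec hQ, Matrix.one_mulVec,
    B_sub_right hQ, B_smul_right hQ, B_self hQ]
  have : (Q a)⁻¹ * (QuadraticMap.polar Q a x - (Q a)⁻¹ * QuadraticMap.polar Q a x * (2 * Q a))
      = - ((Q a)⁻¹ * QuadraticMap.polar Q a x) := by
    field_simp
    ring
  rw [this, neg_smul, sub_neg_eq_add, sub_add_cancel]

/-- The reflection in a nonsingular vector, as an element of `GL`. -/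
noncomputable def reflGL (hQ : IsNondegenerateQuadraticForm Q) (a : ι → F) (ha : Q a ≠ 0) :
    Matrix.GeneralLinearGroup ι F :=
  ⟨reflectionMatrix Q a, reflectionMatrix Q a, reflectionMatrix_mul_self hQ ha,
    reflectionMatrix_mul_self hQ ha⟩

theorem reflGL_mulVec (hQ : IsNondegenerateQuadraticForm Q) (a : ι → F) (ha : Q a ≠ 0) (x : ι → F) :
    ((reflGL hQ a ha : Matrix.GeneralLinearGroup ι F) : Matrix ι ι F) *ᵥ x
      = x - ((Q a)⁻¹ * QuadraticMap.polar Q a x) • a :=
  reflectionMatrix_mulVec hQ a x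

theorem reflGL_inv (hQ : IsNondegenerateQuadraticForm Q) (a : ι → F) (ha : Q a ≠ 0) :
    (reflGL hQ a ha)⁻¹ = reflGL hQ a ha := rfl

theorem reflGL_mem_isometryGroup (hQ : IsNondegenerateQuadraticForm Q) (a : ι → F) (ha : Q a ≠ 0) :
    reflGL hQ a ha ∈ isometryGroup F Q := by
  intro x _
  show Q (((reflGL hQ a ha : Matrix.GeneralLinearGroup ι F) : Matrix ι ι F) *ᵥ x) = Q x
  rw [reflGL_mulVec, Q_sub hQ, Q_smul hQ, B_smul_right hQ, B_comm x a]
  field_simp
  ring

/-- A commutator of two isometries lies in `omegaGL Q`. -/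
theorem commutator_mem_omegaGL {g h : Matrix.GeneralLinearGroup ι F}
    (hg : g ∈ isometryGroup F Q) (hh : h ∈ isometryGroup F Q) :
    g * h * g⁻¹ * h⁻¹ ∈ omegaGL Q := by
  let g' : isometryGroup F Q := ⟨g, hg⟩
  let h' : isometryGroup F Q := ⟨h, hh⟩
  refine ⟨g' * h' * g'⁻¹ * h'⁻¹, ?_, rfl⟩
  show _ ∈ commutator (isometryGroup F Q)
  rw [commutator_def]
  exact Subgroup.commutator_mem_commutator (g₁ := g') (g₂ := h') (Subgroup.mem_top _) (Subgroup.mem_top _)

theorem omegaGL_le_isometryGroup : omegaGL Q ≤ isometryGroup F Q :=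
  Subgroup.map_subtype_le _

theorem mem_isometryGroup_iff (g : Matrix.GeneralLinearGroup ι F) :
    g ∈ isometryGroup F Q ↔ ∀ x, Q ((g : Matrix ι ι F) *ᵥ x) = Q x := by
  constructor
  · intro h x
    exact h x x
  · intro h x _
    exact h x

/-- The commutator of two reflections, as an element of `omegaGL Q`. -/
theorem reflComm_mem_omegaGL (hQ : IsNondegenerateQuadraticForm Q) (a b : ι → F) (ha : Q a ≠ 0)
    (hb : Q b ≠ 0) :
    reflGL hQ a ha * reflGL hQ b hb * reflGL hQ a ha * reflGL hQ b hb ∈ omegaGL Q := by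
  have := commutator_mem_omegaGL (reflGL_mem_isometryGroup hQ a ha) (reflGL_mem_isometryGroup hQ b hb)
  rwa [reflGL_inv, reflGL_inv] at this

theorem reflComm_mulVec (hQ : IsNondegenerateQuadraticForm Q) (a b : ι → F) (ha : Q a ≠ 0)
    (hb : Q b ≠ 0) (x : ι → F) :
    ((reflGL hQ a ha * reflGL hQ b hb * reflGL hQ a ha * reflGL hQ b hb :
      Matrix.GeneralLinearGroup ι F) : Matrix ι ι F) *ᵥ x =
    ((reflGL hQ a ha : Matrix.GeneralLinearGroup ι F) : Matrix ι ι F) *ᵥ
      (((reflGL hQ b hb : Matrix.GeneralLinearGroup ι F) : Matrix ι ι F) *ᵥ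
        (((reflGL hQ a ha : Matrix.GeneralLinearGroup ι F) : Matrix ι ι F) *ᵥ
          (((reflGL hQ b hb : Matrix.GeneralLinearGroup ι F) : Matrix ι ι F) *ᵥ x))) := by
  simp only [Units.val_mul, Matrix.mulVec_mulVec, mul_assoc]

end Quad

end Cfsg.Agent.Helper94
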