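import Cfsg.Agent.Helper94.Quad

set_option autoImplicit false
set_option linter.unusedSectionVars false

namespace Cfsg.Agent.Helper94

open Cfsg Cfsg.Geo
open scoped Matrix

section QuadGeom

variable {ι : Type} [Fintype ι] [DecidableEq ι] {F : Type*} [Field F]
variable {Q : (ι → F) → F}

theorem Q_add3 (hQ : IsNondegenerateQuadraticForm Q) (a b c : ι → F) :
    Q (a + b + c) = Q a + Q b + Q c + QuadraticMap.polar Q a b + QuadraticMap.polar Q a c
      + QuadraticMap.polar Q b c := by
  rw [Q_add (Q := Q) (a + b) c, Q_add (Q := Q) a b, B_add_left hQ]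
  ring

/-- Chevalley–Warning for ternary quadratic forms: among the combinations of three vectors there is a
nontrivial singular one. -/
theorem exists_singular_combination [Fintype F] (hQ : IsNondegenerateQuadraticForm Q)
    (y : Fin 3 → (ι → F)) :
    ∃ α : Fin 3 → F, α ≠ 0 ∧ Q (α 0 • y 0 + α 1 • y 1 + α 2 • y 2) = 0 := by
  classical
  obtain ⟨p, hp⟩ := CharP.exists F
  have := hp
  have hprime : p.Prime := by
    rcases CharP.char_is_prime_or_zero F p with h | h
    · exact h
    · exfalso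
      subst h
      have : CharZero F := CharP.charP_to_charZero F
      exact not_finite F
  let f : MvPolynomial (Fin 3) F :=
    MvPolynomial.C (Q (y 0)) * MvPolynomial.X 0 ^ 2 + MvPolynomial.C (Q (y 1)) * MvPolynomial.X 1 ^ 2
      + MvPolynomial.C (Q (y 2)) * MvPolynomial.X 2 ^ 2
      + MvPolynomial.C (QuadraticMap.polar Q (y 0) (y 1)) * MvPolynomial.X 0 * MvPolynomial.X 1
      + MvPolynomial.C (QuadraticMap.polar Q (y 0) (y 2)) * MvPolynomial.X 0 * MvPolynomial.X 2
      + MvPolynomial.C (QuadraticMap.polar Q (y 1) (y 2)) * MvPolynomial.X 1 * MvPolynomial.X 2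
  have heval : ∀ α : Fin 3 → F, MvPolynomial.eval α f = Q (α 0 • y 0 + α 1 • y 1 + α 2 • y 2) := by
    intro α
    rw [Q_add3 hQ]
    simp only [f, map_add, map_mul, map_pow, MvPolynomial.eval_C, MvPolynomial.eval_X, Q_smul hQ,
      B_smul_left hQ, B_smul_right hQ]
    ring
  have hdeg : f.totalDegree < Fintype.card (Fin 3) := by
    rw [Fintype.card_fin]
    have hC : ∀ a : F, (MvPolynomial.C a : MvPolynomial (Fin 3) F).totalDegree = 0 :=
      fun a => MvPolynomial.totalDegree_C a
    have hX : ∀ i : Fin 3, (MvPolynomial.X i : MvPolynomial (Fin 3) F).totalDegree = 1 :=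
      fun i => MvPolynomial.totalDegree_X i
    have h1 : ∀ (a : F) (i : Fin 3),
        (MvPolynomial.C a * MvPolynomial.X i ^ 2 : MvPolynomial (Fin 3) F).totalDegree ≤ 2 := by
      intro a i
      refine (MvPolynomial.totalDegree_mul _ _).trans ?_
      rw [hC, zero_add]
      refine (MvPolynomial.totalDegree_pow _ _).trans ?_
      rw [hX]
    have h2 : ∀ (a : F) (i j : Fin 3),
        (MvPolynomial.C a * MvPolynomial.X i * MvPolynomial.X j : MvPolynomial (Fin 3) F).totalDegree
          ≤ 2 := by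
      intro a i j
      refine (MvPolynomial.totalDegree_mul _ _).trans ?_
      rw [hX]
      have := (MvPolynomial.totalDegree_mul (MvPolynomial.C a) (MvPolynomial.X i :
        MvPolynomial (Fin 3) F))
      rw [hC, hX] at this
      omega
    have : f.totalDegree ≤ 2 := by
      simp only [f]
      refine (MvPolynomial.totalDegree_add _ _).trans (max_le ?_ (h2 _ _ _))
      refine (MvPolynomial.totalDegree_add _ _).trans (max_le ?_ (h2 _ _ _))
      refine (MvPolynomial.totalDegree_add _ _).trans (max_le ?_ (h2 _ _ _))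
      refine (MvPolynomial.totalDegree_add _ _).trans (max_le ?_ (h1 _ _))
      refine (MvPolynomial.totalDegree_add _ _).trans (max_le (h1 _ _) (h1 _ _))
    omega
  have hdvd := char_dvd_card_solutions p hdeg
  have h0 : MvPolynomial.eval (0 : Fin 3 → F) f = 0 := by
    rw [heval]
    simp [Q_zero hQ]
  have hcard : 1 < Fintype.card {x : Fin 3 → F // MvPolynomial.eval x f = 0} := by
    have hpos : 0 < Fintype.card {x : Fin 3 → F // MvPolynomial.eval x f = 0} :=
      Fintype.card_pos_iff.mpr ⟨⟨0, h0⟩⟩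
    have := Nat.le_of_dvd hpos hdvd
    have := hprime.two_le
    omega
  obtain ⟨⟨α, hα⟩, hne⟩ := Fintype.exists_ne_of_one_lt_card hcard ⟨0, h0⟩
  refine ⟨α, ?_, ?_⟩
  · intro h
    apply hne
    exact Subtype.ext h
  · rw [← heval]
    exact hα

/-- A plus-type nondegenerate plane is spanned by a hyperbolic pair. -/
theorem exists_hyperbolic_pair (hQ : IsNondegenerateQuadraticForm Q) {W : Submodule F (ι → F)}
    (hdim : Module.finrank F W = 2) (hW : IsNondegenerateOn (QuadraticMap.polar Q) W)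
    (hp : IsPlusTypeOn Q W) :
    ∃ e f : ι → F, e ∈ W ∧ f ∈ W ∧ Q e = 0 ∧ Q f = 0 ∧ QuadraticMap.polar Q e f = 1 ∧
      ∀ v ∈ W, ∃ α β : F, v = α • e + β • f := by
  obtain ⟨U, hUW, hUts, hUdim⟩ := hp
  have hU1 : Module.finrank F U = 1 := by omega
  have hUne : U ≠ ⊥ := by
    intro h
    rw [h, finrank_bot] at hU1
    omega
  obtain ⟨e, heU, he0⟩ := Submodule.exists_mem_ne_zero_of_ne_bot hUne
  have heW : e ∈ W := hUW heU
  have hQe : Q e = 0 := hUts e heU
  obtain ⟨⟨x, hxW, hxe⟩, -⟩ := hW e heW he0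
  obtain ⟨f', hf'W, hf'e⟩ : ∃ f' ∈ W, QuadraticMap.polar Q f' e = 1 :=
    ⟨(QuadraticMap.polar Q x e)⁻¹ • x, W.smul_mem _ hxW, by
      rw [B_smul_left hQ, inv_mul_cancel₀ hxe]⟩
  obtain ⟨f, hfW, hQf, hef⟩ : ∃ f ∈ W, Q f = 0 ∧ QuadraticMap.polar Q e f = 1 := by
    refine ⟨f' - Q f' • e, W.sub_mem hf'W (W.smul_mem _ heW), ?_, ?_⟩
    · rw [Q_sub hQ, Q_smul hQ, hQe, B_smul_right hQ, hf'e]
      ring
    · rw [B_sub_right hQ, B_smul_right hQ, B_self hQ, hQe, B_comm e f', hf'e]
      ring
  refine ⟨e, f, heW, hfW, hQe, hQf, hef, ?_⟩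
  have hli : LinearIndependent F ![e, f] := by
    rw [LinearIndependent.pair_iff]
    intro s t hst
    have h1 := congrArg (fun z => QuadraticMap.polar Q z f) hst
    simp only [B_add_left hQ, B_smul_left hQ, hef, B_self hQ, hQf, B_zero_left hQ, mul_one,
      mul_zero, add_zero] at h1
    have h2 := congrArg (fun z => QuadraticMap.polar Q e z) hst
    simp only [B_add_right hQ, B_smul_right hQ, hef, B_self hQ, hQe, B_zero_right hQ, mul_one,
      mul_zero, zero_add] at h2
    exact ⟨h1, h2⟩
  have hspan : Submodule.span F {e, f} = W := by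
    apply Submodule.eq_of_le_of_finrank_eq
    · rw [Submodule.span_le]
      intro x hx
      rcases hx with rfl | rfl
      · exact heW
      · exact hfW
    · have := finrank_span_eq_card hli
      have hrange : Set.range ![e, f] = {e, f} := by
        simp [Matrix.range_cons]
        exact Set.pair_comm f e
      rw [Fintype.card_fin, hrange] at this
      rw [hdim]
      exact this
  intro v hv
  rw [← hspan, Submodule.mem_span_pair] at hv
  obtain ⟨α, β, h⟩ := hv
  exact ⟨α, β, h.symm⟩

/-- The linear map `x ↦ (B(e,x), B(f,x))`. -/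
noncomputable def perpMap (hQ : IsNondegenerateQuadraticForm Q) (e f : ι → F) :
    (ι → F) →ₗ[F] F × F where
  toFun x := (QuadraticMap.polar Q e x, QuadraticMap.polar Q f x)
  map_add' x y := by simp [B_add_right hQ]
  map_smul' c x := by simp [B_smul_right hQ]

theorem mem_ker_perpMap (hQ : IsNondegenerateQuadraticForm Q) (e f x : ι → F) :
    x ∈ LinearMap.ker (perpMap hQ e f) ↔
      QuadraticMap.polar Q e x = 0 ∧ QuadraticMap.polar Q f x = 0 := by
  simp [perpMap, LinearMap.mem_ker, Prod.ext_iff]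

theorem finrank_ker_perpMap (hQ : IsNondegenerateQuadraticForm Q) (e f : ι → F) :
    Fintype.card ι ≤ Module.finrank F (LinearMap.ker (perpMap hQ e f)) + 2 := by
  have h1 := LinearMap.finrank_range_add_finrank_ker (perpMap hQ e f)
  rw [Module.finrank_fintype_fun_eq_card] at h1
  have h2 : Module.finrank F (LinearMap.range (perpMap hQ e f)) ≤ 2 := by
    have := Submodule.finrank_le (LinearMap.range (perpMap hQ e f))
    rw [Module.finrank_prod, Module.finrank_self] at this
    exact this
  omega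

/-- In the orthogonal complement of a hyperbolic plane (dimension at least 3) there are `z₁` singular
and `z₂` with `B(z₁,z₂) = 1`. -/
theorem exists_singular_pair_perp [Fintype F] (hQ : IsNondegenerateQuadraticForm Q)
    (hn : 5 ≤ Fintype.card ι) {e f : ι → F} (hQe : Q e = 0) (hQf : Q f = 0)
    (hef : QuadraticMap.polar Q e f = 1) :
    ∃ z₁ z₂ : ι → F, QuadraticMap.polar Q e z₁ = 0 ∧ QuadraticMap.polar Q f z₁ = 0 ∧
      QuadraticMap.polar Q e z₂ = 0 ∧ QuadraticMap.polar Q f z₂ = 0 ∧ Q z₁ = 0 ∧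
      QuadraticMap.polar Q z₁ z₂ = 1 := by
  have hfr : 3 ≤ Module.finrank F (LinearMap.ker (perpMap hQ e f)) := by
    have := finrank_ker_perpMap hQ e f
    omega
  obtain ⟨y, hy⟩ := exists_linearIndependent_of_le_finrank hfr
  obtain ⟨α, hα, hQα⟩ := exists_singular_combination hQ (fun i => ((y i : LinearMap.ker (perpMap hQ e f)) : ι → F))
  set z₁ : ι → F := α 0 • (y 0 : ι → F) + α 1 • (y 1 : ι → F) + α 2 • (y 2 : ι → F) with hz₁
  have hz₁mem : z₁ ∈ LinearMap.ker (perpMap hQ e f) :=
    Submodule.add_mem _ (Submodule.add_mem _ (Submodule.smul_mem _ _ (y 0).2)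
      (Submodule.smul_mem _ _ (y 1).2)) (Submodule.smul_mem _ _ (y 2).2)
  have hz₁ne : z₁ ≠ 0 := by
    intro h0
    apply hα
    have hli := Fintype.linearIndependent_iff.mp hy α (by
      apply Subtype.ext
      rw [Fin.sum_univ_three]
      simp only [Submodule.coe_add, Submodule.coe_smul, Submodule.coe_zero]
      exact h0)
    funext i
    exact hli i
  rw [mem_ker_perpMap] at hz₁mem
  obtain ⟨⟨x, hx⟩, -⟩ := hQ.nondegenerate z₁ hz₁ne
  -- project x to the complement
  set z₂' : ι → F := x - QuadraticMap.polar Q x f • e - QuadraticMap.polar Q x e • f with hz₂'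
  have h1 : QuadraticMap.polar Q e z₂' = 0 := by
    rw [hz₂', B_sub_right hQ, B_sub_right hQ, B_smul_right hQ, B_smul_right hQ, B_self hQ, hQe, hef,
      B_comm e x]
    ring
  have h2 : QuadraticMap.polar Q f z₂' = 0 := by
    rw [hz₂', B_sub_right hQ, B_sub_right hQ, B_smul_right hQ, B_smul_right hQ, B_self hQ, hQf,
      B_comm f e, hef, B_comm f x]
    ring
  have h3 : QuadraticMap.polar Q z₁ z₂' = QuadraticMap.polar Q x z₁ := by
    rw [hz₂', B_sub_right hQ, B_sub_right hQ, B_smul_right hQ, B_smul_right hQ, B_comm z₁ e,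
      B_comm z₁ f, hz₁mem.1, hz₁mem.2, B_comm z₁ x]
    ring
  refine ⟨z₁, (QuadraticMap.polar Q x z₁)⁻¹ • z₂', hz₁mem.1, hz₁mem.2, ?_, ?_, hQα, ?_⟩
  · rw [B_smul_right hQ, h1, mul_zero]
  · rw [B_smul_right hQ, h2, mul_zero]
  · rw [B_smul_right hQ, h3, inv_mul_cancel₀ hx]

theorem refl_apply_eq (hQ : IsNondegenerateQuadraticForm Q) (a : ι → F) (ha : Q a ≠ 0) (x : ι → F)
    (c : F) (hc : (Q a)⁻¹ * QuadraticMap.polar Q a x = c) :
    ((reflGL hQ a ha : Matrix.GeneralLinearGroup ι F) : Matrix ι ι F) *ᵥ x = x - c • a := by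
  rw [reflGL_mulVec, hc]

theorem sq_eq_one_of_card_le_three [Fintype F] (hq : Fintype.card F ≤ 3) {x : F} (hx : x ≠ 0) :
    x * x = 1 := by
  have h1 : 1 < Fintype.card F := Fintype.one_lt_card
  have h := FiniteField.pow_card_sub_one_eq_one x hx
  have : Fintype.card F = 2 ∨ Fintype.card F = 3 := by omega
  rcases this with h2 | h3
  · rw [h2] at h
    norm_num at h
    rw [h]; ring
  · rw [h3] at h
    norm_num at h
    rcases h with h | h <;> rw [h] <;> ring

theorem gl_mulVec_injective (g : Matrix.GeneralLinearGroup ι F) {x y : ι → F}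
    (h : (g : Matrix ι ι F) *ᵥ x = (g : Matrix ι ι F) *ᵥ y) : x = y := by
  have := congrArg (fun w => ((g⁻¹ : Matrix.GeneralLinearGroup ι F) : Matrix ι ι F) *ᵥ w) h
  simp only [Matrix.mulVec_mulVec] at this
  rwa [← Units.val_mul, inv_mul_cancel, Units.val_one, Matrix.one_mulVec, Matrix.one_mulVec] at this

end QuadGeom

end Cfsg.Agent.Helper94
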