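import Cfsg.Agent.Helper94.TensorLin
import Cfsg.Agent.Helper94.Quad
import Cfsg.Agent.Helper94.QuadGeom

set_option autoImplicit false
set_option linter.unusedSectionVars false

namespace Cfsg.Agent.Helper94

open Cfsg Cfsg.Geo
open scoped Matrix Kronecker

section OmegaT

variable {F : Type*} [Field F] [Fintype F] {ι : Type} [Fintype ι] [DecidableEq ι] {n₂ : ℕ}

/-- `ω ⊗ 1` as an invertible matrix. -/
noncomputable def omegaKron (hq : Fintype.card F = 2) (n₂ : ℕ) :
    Matrix.GeneralLinearGroup (Fin 2 × Fin n₂) F :=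
  ⟨omegaMat F ⊗ₖ (1 : Matrix (Fin n₂) (Fin n₂) F), omegaMat2 F ⊗ₖ (1 : Matrix (Fin n₂) (Fin n₂) F),
    by rw [← Matrix.mul_kronecker_mul, omegaMat_mul_omegaMat2 hq, mul_one, Matrix.one_kronecker_one],
    by rw [← Matrix.mul_kronecker_mul, omegaMat2_mul_omegaMat hq, mul_one, Matrix.one_kronecker_one]⟩

/-- The element `ω ⊗ 1` transported to `GL ι F`. -/
noncomputable def omegaT (hq : Fintype.card F = 2) (e : ι ≃ Fin 2 × Fin n₂)
    (P : Matrix.GeneralLinearGroup ι F) : Matrix.GeneralLinearGroup ι F :=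
  tconj e P (omegaKron hq n₂)

variable (hq : Fintype.card F = 2) (e : ι ≃ Fin 2 × Fin n₂) (P : Matrix.GeneralLinearGroup ι F)

theorem omegaT_act (z : Fin 2 × Fin n₂ → F) :
    (omegaT hq e P : Matrix ι ι F) *ᵥ tau e P z
      = tau e P ((omegaMat F ⊗ₖ (1 : Matrix (Fin n₂) (Fin n₂) F)) *ᵥ z) :=
  tconj_mulVec_tau e P (omegaKron hq n₂) z

theorem omegaT_inv_act (z : Fin 2 × Fin n₂ → F) :
    (((omegaT hq e P)⁻¹ : Matrix.GeneralLinearGroup ι F) : Matrix ι ι F) *ᵥ tau e P z
      = tau e P ((omegaMat2 F ⊗ₖ (1 : Matrix (Fin n₂) (Fin n₂) F)) *ᵥ z) := by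
  unfold omegaT
  rw [← map_inv]
  exact tconj_mulVec_tau e P (omegaKron hq n₂)⁻¹ z

theorem omegaT_act_pt (x : Fin 2 → F) (y : Fin n₂ → F) :
    (omegaT hq e P : Matrix ι ι F) *ᵥ tau e P (pt x y) = tau e P (pt (omegaMat F *ᵥ x) y) := by
  rw [omegaT_act, kronecker_mulVec_pt, Matrix.one_mulVec]

/-- The tensor product subgroup `GL_2(2) ⊗ GL_{n₂}(2)` normalises `⟨ω ⊗ 1⟩`. -/
theorem tensor_le_normPM : tensorProductSubgroup 2 n₂ e P ≤ normPM (omegaT hq e P) := by
  intro g hgT
  obtain ⟨a, b, hab⟩ := exists_of_mem_tensorProductSubgroup e P hgT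
  have hadet : (a : Matrix (Fin 2) (Fin 2) F).det ≠ 0 := by
    have := (Matrix.isUnit_iff_isUnit_det _).mp a.isUnit
    exact this.ne_zero
  rcases omegaMat_conj hq _ hadet with hcomm | hcomm
  · left
    apply gl_ext_tau e P
    intro z
    rw [Units.val_mul, Units.val_mul, ← Matrix.mulVec_mulVec, ← Matrix.mulVec_mulVec, omegaT_act, hab,
      hab, omegaT_act, Matrix.mulVec_mulVec, Matrix.mulVec_mulVec, ← Matrix.mul_kronecker_mul,
      ← Matrix.mul_kronecker_mul, hcomm, mul_one, one_mul]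
  · right
    apply gl_ext_tau e P
    intro z
    rw [Units.val_mul, Units.val_mul, ← Matrix.mulVec_mulVec, ← Matrix.mulVec_mulVec, omegaT_act, hab,
      hab, omegaT_inv_act, Matrix.mulVec_mulVec, Matrix.mulVec_mulVec, ← Matrix.mul_kronecker_mul,
      ← Matrix.mul_kronecker_mul, hcomm, mul_one, one_mul]

/-- `ω² = ω + 1`. -/
theorem omegaMat_sq (hq : Fintype.card F = 2) : omegaMat F * omegaMat F = omegaMat F + 1 := by
  have h2 := F2_two hq
  unfold omegaMat
  rw [Matrix.mul_fin_two, Matrix.one_fin_two]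
  ext i j
  fin_cases i <;> fin_cases j <;> simp [one_add_one_eq_two, h2]

/-- `g₀² = g₀ + 1` as an action. -/
theorem omegaT_sq (v : ι → F) :
    (omegaT hq e P : Matrix ι ι F) *ᵥ ((omegaT hq e P : Matrix ι ι F) *ᵥ v)
      = (omegaT hq e P : Matrix ι ι F) *ᵥ v + v := by
  obtain ⟨z, rfl⟩ := tau_surjective e P v
  rw [omegaT_act, omegaT_act, Matrix.mulVec_mulVec, ← Matrix.mul_kronecker_mul, omegaMat_sq hq, mul_one,
    Matrix.add_kronecker, Matrix.add_mulVec, Matrix.one_kronecker_one, Matrix.one_mulVec, tau_add]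

end OmegaT

section Induction

variable {F : Type*} [Field F] {ι : Type} [Fintype ι] [DecidableEq ι] {n₁ n₂ : ℕ}

/-- Induction principle: every vector is a sum of images of pure tensors. -/
theorem tau_induction (e : ι ≃ Fin n₁ × Fin n₂) (P : Matrix.GeneralLinearGroup ι F)
    {motive : (ι → F) → Prop} (h0 : motive 0) (hadd : ∀ u v, motive u → motive v → motive (u + v))
    (hpt : ∀ x y, motive (tau e P (pt x y))) : ∀ v, motive v := by
  classical
  intro v
  obtain ⟨z, rfl⟩ := tau_surjective e P v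
  have key : ∀ s : Finset (Fin n₁ × Fin n₂),
      motive (tau e P (∑ a ∈ s, pt (z a • (Pi.single a.1 1 : Fin n₁ → F)) (Pi.single a.2 1))) := by
    intro s
    induction s using Finset.induction_on with
    | empty => simpa [tau_zero] using h0
    | insert a s ha ih =>
      rw [Finset.sum_insert ha, tau_add]
      exact hadd _ _ (hpt _ _) ih
  have hz : z = ∑ a, pt (z a • (Pi.single a.1 1 : Fin n₁ → F)) (Pi.single a.2 1) := by
    funext b
    rw [Finset.sum_apply]
    simp only [pt, Pi.smul_apply, smul_eq_mul, Pi.single_apply]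
    rw [Finset.sum_eq_single b]
    · simp
    · intro a _ hab
      by_cases h1 : b.1 = a.1
      · have h2 : b.2 ≠ a.2 := fun h2 => hab (Prod.ext h1.symm h2.symm)
        simp [h2]
      · simp [h1]
    · intro h; exact absurd (Finset.mem_univ b) h
  rw [hz]
  exact key Finset.univ

end Induction

section Symp2

variable {F : Type*} [Field F] [Fintype F] {f : (Fin 2 → F) → (Fin 2 → F) → F}

theorem symp2_apply (hf : IsSymplecticForm f) (x x' : Fin 2 → F) :
    f x x' = f (Pi.single 0 1) (Pi.single 1 1) * (x 0 * x' 1 - x 1 * x' 0) := by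
  have hb := hf.bilinear
  have hx : x = x 0 • (Pi.single 0 1 : Fin 2 → F) + x 1 • (Pi.single 1 1 : Fin 2 → F) := by
    funext i
    fin_cases i <;> simp
  have hx' : x' = x' 0 • (Pi.single 0 1 : Fin 2 → F) + x' 1 • (Pi.single 1 1 : Fin 2 → F) := by
    funext i
    fin_cases i <;> simp
  conv_lhs => rw [hx, hx']
  simp only [hb.add_left, hb.add_right, hb.smul_left, hb.smul_right, hf.alternating]
  rw [hf.skew (Pi.single 1 1) (Pi.single 0 1)]
  ring

theorem omegaMat_mulVec (x : Fin 2 → F) : omegaMat F *ᵥ x = ![x 1, x 0 + x 1] := by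
  funext i
  fin_cases i <;> simp [omegaMat, Matrix.mulVec, dotProduct, Fin.sum_univ_two]

theorem symp2_omega (hq : Fintype.card F = 2) (hf : IsSymplecticForm f) (x x' : Fin 2 → F) :
    f (omegaMat F *ᵥ x) (omegaMat F *ᵥ x') = f x x' := by
  have h2 := F2_two hq
  rw [symp2_apply hf, symp2_apply hf x x', omegaMat_mulVec, omegaMat_mulVec]
  simp only [Matrix.cons_val_zero, Matrix.cons_val_one]
  linear_combination (-(f (Pi.single 0 1) (Pi.single 1 1) * (x 0 * x' 1 - x 1 * x' 0))) * h2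

end Symp2

section Char2

variable {F : Type*} [Field F] {ι : Type} [Fintype ι] [DecidableEq ι] {Q : (ι → F) → F}

theorem neg_eq_self_of_two (h2 : (2 : F) = 0) (t : F) : -t = t := by
  linear_combination (-t) * h2

theorem add_self_vec_of_two (h2 : (2 : F) = 0) (v : ι → F) : v + v = 0 := by
  rw [← two_smul F v, h2, zero_smul]

theorem B_self_of_two (hQ : IsNondegenerateQuadraticForm Q) (h2 : (2 : F) = 0) (v : ι → F) :
    QuadraticMap.polar Q v v = 0 := by
  rw [B_self hQ, h2, zero_mul]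

theorem refl_char2 (hQ : IsNondegenerateQuadraticForm Q) (h2 : (2 : F) = 0) (a : ι → F) (ha : Q a = 1)
    (ha' : Q a ≠ 0) (x : ι → F) :
    ((reflGL hQ a ha' : Matrix.GeneralLinearGroup ι F) : Matrix ι ι F) *ᵥ x
      = x + QuadraticMap.polar Q a x • a := by
  rw [reflGL_mulVec, ha, inv_one, one_mul, sub_eq_add_neg, ← neg_smul, neg_eq_self_of_two h2]

/-- In characteristic two the commutator of the reflections in `a`, `a'` with `Q a = Q a' = B(a,a') = 1`. -/
theorem reflComm_char2 (hQ : IsNondegenerateQuadraticForm Q) (h2 : (2 : F) = 0) {a a' : ι → F}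
    (ha : Q a = 1) (ha' : Q a' = 1) (hB : QuadraticMap.polar Q a a' = 1) (hane : Q a ≠ 0)
    (ha'ne : Q a' ≠ 0) (x : ι → F) :
    ((reflGL hQ a hane * reflGL hQ a' ha'ne * reflGL hQ a hane * reflGL hQ a' ha'ne :
      Matrix.GeneralLinearGroup ι F) : Matrix ι ι F) *ᵥ x
      = x + QuadraticMap.polar Q a x • a
        + (QuadraticMap.polar Q a x + QuadraticMap.polar Q a' x) • a' := by
  have hB' : QuadraticMap.polar Q a' a = 1 := by rw [B_comm, hB]
  have haa := B_self_of_two hQ h2 a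
  have ha'a' := B_self_of_two hQ h2 a'
  set α := QuadraticMap.polar Q a x with hα
  set β := QuadraticMap.polar Q a' x with hβ
  rw [reflComm_mulVec, refl_char2 hQ h2 a' ha', refl_char2 hQ h2 a ha, refl_char2 hQ h2 a' ha',
    refl_char2 hQ h2 a ha]
  simp only [B_add_right hQ, B_smul_right hQ, hB, hB', haa, ha'a', ← hα, ← hβ]
  have hs1 : α + β * 1 + (α + β * 1) * 0 + (β + β * 0 + (α + β * 1) * 1) * 1 = β := by
    linear_combination (α + β) * h2
  have hs2 : β + β * 0 + (α + β * 1) * 1 = α := by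
    linear_combination β * h2
  rw [hs1, hs2, mul_one]
  have hs3 : α + β + β = α := by linear_combination β * h2
  calc x + β • a' + (α + β) • a + α • a' + β • a
      = x + (α + β + β) • a + (α + β) • a' := by module
    _ = x + α • a + (α + β) • a' := by rw [hs3]

/-- Abstract lemma A: for `g₀` with `g₀² = g₀ + 1` preserving the polar form, the commutator of the
reflections in `a` and `g₀ a` commutes with `g₀`. -/
theorem reflComm_commute (hQ : IsNondegenerateQuadraticForm Q) (h2 : (2 : F) = 0)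
    (g₀ : Matrix.GeneralLinearGroup ι F)
    (hsq : ∀ x, (g₀ : Matrix ι ι F) *ᵥ ((g₀ : Matrix ι ι F) *ᵥ x) = (g₀ : Matrix ι ι F) *ᵥ x + x)
    (hiso : ∀ x y, QuadraticMap.polar Q ((g₀ : Matrix ι ι F) *ᵥ x) ((g₀ : Matrix ι ι F) *ᵥ y)
      = QuadraticMap.polar Q x y)
    {a b : ι → F} (hb : b = (g₀ : Matrix ι ι F) *ᵥ a) (ha : Q a = 1) (hbQ : Q b = 1)
    (hB : QuadraticMap.polar Q a b = 1) (hane : Q a ≠ 0) (hbne : Q b ≠ 0) :
    reflGL hQ a hane * reflGL hQ b hbne * reflGL hQ a hane * reflGL hQ b hbne * g₀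
      = g₀ * (reflGL hQ a hane * reflGL hQ b hbne * reflGL hQ a hane * reflGL hQ b hbne) := by
  apply Units.ext
  apply Matrix.mulVec_injective
  funext x
  rw [Units.val_mul, Units.val_mul g₀, ← Matrix.mulVec_mulVec, ← Matrix.mulVec_mulVec,
    reflComm_char2 hQ h2 ha hbQ hB, reflComm_char2 hQ h2 ha hbQ hB]
  have hg₀b : (g₀ : Matrix ι ι F) *ᵥ b = b + a := by rw [hb, hsq]
  have hg₀g₀b : (g₀ : Matrix ι ι F) *ᵥ ((g₀ : Matrix ι ι F) *ᵥ b) = a := by
    rw [hg₀b, Matrix.mulVec_add, hg₀b, ← hb]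
    have := add_self_vec_of_two h2 b
    calc b + a + b = (b + b) + a := by abel
      _ = a := by rw [this, zero_add]
  set α := QuadraticMap.polar Q a x with hα
  set β := QuadraticMap.polar Q b x with hβ
  have h1 : QuadraticMap.polar Q a ((g₀ : Matrix ι ι F) *ᵥ x) = α + β := by
    conv_lhs => rw [← hg₀g₀b]
    rw [hiso, hg₀b, B_add_left hQ, add_comm]
  have h2' : QuadraticMap.polar Q b ((g₀ : Matrix ι ι F) *ᵥ x) = α := by
    conv_lhs => rw [hb]
    rw [hiso]
  rw [h1, h2', Matrix.mulVec_add, Matrix.mulVec_add, Matrix.mulVec_smul, Matrix.mulVec_smul, ← hb, hg₀b]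
  have hs : α + β + α = β := by linear_combination α * h2
  rw [hs]
  have hs' : α + (α + β) = β := by linear_combination α * h2
  calc (g₀ : Matrix ι ι F) *ᵥ x + (α + β) • a + β • b
      = (g₀ : Matrix ι ι F) *ᵥ x + (α + (α + β)) • b + (α + β) • a := by rw [hs']; abel
    _ = (g₀ : Matrix ι ι F) *ᵥ x + α • b + (α + β) • (b + a) := by module

/-- Abstract lemma B: a commutator of reflections that does not normalise `⟨g₀⟩`. -/
theorem reflComm_not_mem_normPM (hQ : IsNondegenerateQuadraticForm Q) (h2 : (2 : F) = 0)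
    (g₀ : Matrix.GeneralLinearGroup ι F)
    (hsq : ∀ x, (g₀ : Matrix ι ι F) *ᵥ ((g₀ : Matrix ι ι F) *ᵥ x) = (g₀ : Matrix ι ι F) *ᵥ x + x)
    (hiso : ∀ x y, QuadraticMap.polar Q ((g₀ : Matrix ι ι F) *ᵥ x) ((g₀ : Matrix ι ι F) *ᵥ y)
      = QuadraticMap.polar Q x y)
    {a b c : ι → F} (hb : b = (g₀ : Matrix ι ι F) *ᵥ a) (ha : Q a = 1)
    (hB : QuadraticMap.polar Q a b = 1) (hac : QuadraticMap.polar Q a c = 0)
    (hbc : QuadraticMap.polar Q b c = 0) (hc : (g₀ : Matrix ι ι F) *ᵥ c ≠ c)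
    (hane : Q a ≠ 0) (ha₂ : Q (b + c) = 1) (ha₂ne : Q (b + c) ≠ 0) :
    reflGL hQ a hane * reflGL hQ (b + c) ha₂ne * reflGL hQ a hane * reflGL hQ (b + c) ha₂ne
      ∉ normPM g₀ := by
  have hg₀b : (g₀ : Matrix ι ι F) *ᵥ b = b + a := by rw [hb, hsq]
  have hBa₂ : QuadraticMap.polar Q a (b + c) = 1 := by rw [B_add_right hQ, hB, hac, add_zero]
  have hbb := B_self_of_two hQ h2 b
  have haa := B_self_of_two hQ h2 a
  have hba : QuadraticMap.polar Q b a = 1 := by rw [B_comm, hB]
  have hcb : QuadraticMap.polar Q c b = 0 := by rw [B_comm, hbc]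
  have hca : QuadraticMap.polar Q c a = 0 := by rw [B_comm, hac]
  set g₂ := reflGL hQ a hane * reflGL hQ (b + c) ha₂ne * reflGL hQ a hane * reflGL hQ (b + c) ha₂ne
    with hg₂
  have hact := reflComm_char2 hQ h2 ha ha₂ hBa₂ hane ha₂ne
  have hg₂b : (g₂ : Matrix ι ι F) *ᵥ b = a + c := by
    rw [hg₂, hact, hB, B_add_left hQ, hbb, hcb]
    have := add_self_vec_of_two h2 b
    calc b + (1 : F) • a + ((1 : F) + (0 + 0)) • (b + c) = (b + b) + a + c := by module
      _ = a + c := by rw [this, zero_add]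
  have hg₂a : (g₂ : Matrix ι ι F) *ᵥ a = a + b + c := by
    rw [hg₂, hact, haa, B_add_left hQ, hba, hca]
    module
  intro hmem
  rcases hmem with h | h
  · have h1 := congrArg (fun g : Matrix.GeneralLinearGroup ι F => (g : Matrix ι ι F) *ᵥ a) h
    simp only [Units.val_mul, ← Matrix.mulVec_mulVec] at h1
    rw [← hb, hg₂b, hg₂a, Matrix.mulVec_add, Matrix.mulVec_add, ← hb, hg₀b] at h1
    apply hc
    have hbb' := add_self_vec_of_two h2 b
    have : (g₀ : Matrix ι ι F) *ᵥ c = (b + (b + a) + (g₀ : Matrix ι ι F) *ᵥ c) - (b + b) - a := by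
      abel
    rw [← h1, hbb'] at this
    rw [this]
    abel
  · have h' : g₀ * (g₂ * g₀) = g₂ := by rw [h, ← mul_assoc, mul_inv_cancel, one_mul]
    have h1 := congrArg (fun g : Matrix.GeneralLinearGroup ι F => (g : Matrix ι ι F) *ᵥ a) h'
    simp only [Units.val_mul, ← Matrix.mulVec_mulVec] at h1
    rw [← hb, hg₂b, hg₂a, Matrix.mulVec_add, ← hb] at h1
    -- h1 : b + g₀ c = a + b + c
    have h3 : (g₀ : Matrix ι ι F) *ᵥ c = a + c := by
      have : (g₀ : Matrix ι ι F) *ᵥ c = (b + (g₀ : Matrix ι ι F) *ᵥ c) - b := by abel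
      rw [this, h1]; abel
    have h4 : QuadraticMap.polar Q b ((g₀ : Matrix ι ι F) *ᵥ c) = 0 := by
      conv_lhs => rw [hb]
      rw [hiso, hac]
    rw [h3, B_add_right hQ, hba, hbc, add_zero] at h4
    exact one_ne_zero h4

end Char2

section PerpPair

variable {F : Type*} [Field F] {κ : Type} [Fintype κ] {f : (κ → F) → (κ → F) → F}

/-- In dimension at least three there is a non-zero vector perpendicular to two given vectors. -/
theorem exists_perp_pair (hf : IsBilinearForm f) (y y' : κ → F) (h : 3 ≤ Fintype.card κ) :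
    ∃ w : κ → F, w ≠ 0 ∧ f y w = 0 ∧ f y' w = 0 := by
  let ψ : (κ → F) →ₗ[F] F × F :=
    { toFun := fun w => (f y w, f y' w)
      map_add' := fun u v => by simp [hf.add_right]
      map_smul' := fun c u => by simp [hf.smul_right] }
  have hlt : Module.finrank F (F × F) < Module.finrank F (κ → F) := by
    rw [Module.finrank_prod, Module.finrank_self, Module.finrank_fintype_fun_eq_card]
    omega
  have hker := LinearMap.ker_ne_bot_of_finrank_lt hlt (f := ψ)
  obtain ⟨w, hw, hw0⟩ := (Submodule.ne_bot_iff _).mp hker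
  rw [LinearMap.mem_ker] at hw
  have h1 : f y w = 0 := congrArg Prod.fst hw
  have h2 : f y' w = 0 := congrArg Prod.snd hw
  exact ⟨w, hw0, h1, h2⟩

end PerpPair

section MainOrth2

variable {F : Type*} [Field F] [Fintype F] {ι : Type} [Fintype ι] [DecidableEq ι]

/-- `Sp_2(2) ⊗ Sp_{n₂}(2)` is not maximal in `Ω⁺_{2 n₂}(2)`: it normalises the cyclic group of order three
generated by `ω ⊗ 1`. -/
theorem exists_between_of_tensor_orth_symp2 (hq : Fintype.card F = 2) {Q : (ι → F) → F}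
    (hQ : IsNondegenerateQuadraticForm Q) (n₂ : ℕ) (hn₂ : 3 ≤ n₂) (e : ι ≃ Fin 2 × Fin n₂)
    (P : Matrix.GeneralLinearGroup ι F) (f₁ : (Fin 2 → F) → (Fin 2 → F) → F)
    (f₂ : (Fin n₂ → F) → (Fin n₂ → F) → F) (hf₁ : IsSymplecticForm f₁) (hf₂ : IsSymplecticForm f₂)
    (hT : IsTensorFormStructure id (QuadraticMap.polar Q) f₁ f₂ e P)
    (hpure : ∀ (x₁ : Fin 2 → F) (x₂ : Fin n₂ → F), Q (tau e P (pt x₁ x₂)) = 0) :
    ∃ K : Subgroup (Matrix.GeneralLinearGroup ι F),
      tensorProductSubgroup 2 n₂ e P ⊓ omegaGL Q < K ∧ K < omegaGL Q := by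
  classical
  obtain ⟨c, hc, hT⟩ := hT
  have h2F := F2_two hq
  have hcases := F2_cases hq
  have hc1 : c = 1 := (hcases c).resolve_left hc
  have hs₁ : IsSesq id f₁ := IsSesq.of_bilinear hf₁.bilinear
  have hs₂ : IsSesq id f₂ := IsSesq.of_bilinear hf₂.bilinear
  set θ : (Fin 2 → F) → (Fin n₂ → F) → (ι → F) := fun x y => tau e P (pt x y) with hθ
  have hform : ∀ x y x' y', QuadraticMap.polar Q (θ x y) (θ x' y') = f₁ x x' * f₂ y y' := by
    intro x y x' y'
    have := tensorForm_pt e P (fun _ _ => rfl) hs₁ hs₂ hT x x' y y'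
    rw [hc1, one_mul] at this
    exact this
  have hQθ : ∀ x y, Q (θ x y) = 0 := hpure
  set g₀ := omegaT hq e P with hg₀
  have hsq := omegaT_sq hq e P
  have hg₀θ : ∀ x y, (g₀ : Matrix ι ι F) *ᵥ θ x y = θ (omegaMat F *ᵥ x) y :=
    fun x y => omegaT_act_pt hq e P x y
  -- `g₀` preserves the polar form
  have hiso : ∀ u v, QuadraticMap.polar Q ((g₀ : Matrix ι ι F) *ᵥ u) ((g₀ : Matrix ι ι F) *ᵥ v)
      = QuadraticMap.polar Q u v := by
    refine tau_induction e P ?_ ?_ ?_
    · intro v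
      rw [Matrix.mulVec_zero, B_zero_left hQ, B_zero_left hQ]
    · intro u u' hu hu' v
      rw [Matrix.mulVec_add, B_add_left hQ, B_add_left hQ, hu, hu']
    · intro x y
      refine tau_induction e P ?_ ?_ ?_
      · rw [Matrix.mulVec_zero, B_zero_right hQ, B_zero_right hQ]
      · intro v v' hv hv'
        rw [Matrix.mulVec_add, B_add_right hQ, B_add_right hQ, hv, hv']
      · intro x' y'
        show QuadraticMap.polar Q ((g₀ : Matrix ι ι F) *ᵥ θ x y) ((g₀ : Matrix ι ι F) *ᵥ θ x' y')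
          = QuadraticMap.polar Q (θ x y) (θ x' y')
        rw [hg₀θ, hg₀θ, hform, hform, symp2_omega hq hf₁]
  -- the value of `f₁`
  have hφ : f₁ (Pi.single 0 1) (Pi.single 1 1) = 1 := by
    refine (hcases _).resolve_left ?_
    intro h0
    have hne : (Pi.single 0 1 : Fin 2 → F) ≠ 0 := by
      intro h
      have := congrFun h 0
      simp at this
    obtain ⟨⟨x, hx⟩, -⟩ := hf₁.nondegenerate _ hne
    apply hx
    rw [symp2_apply hf₁, h0, zero_mul]
  have hf₁val : ∀ x x' : Fin 2 → F, f₁ x x' = x 0 * x' 1 - x 1 * x' 0 := by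
    intro x x'
    rw [symp2_apply hf₁, hφ, one_mul]
  -- vectors of the second factor
  have hpos : 0 < n₂ := by omega
  set y : Fin n₂ → F := Pi.single ⟨0, hpos⟩ 1 with hy
  have hyne : y ≠ 0 := by
    intro h
    have := congrFun h ⟨0, hpos⟩
    simp [hy] at this
  obtain ⟨-, ⟨y', hyy'0⟩⟩ := hf₂.nondegenerate y hyne
  have hyy' : f₂ y y' = 1 := (hcases _).resolve_left hyy'0
  have hy'y : f₂ y' y = 1 := by
    rw [hf₂.skew, hyy', neg_eq_self_of_two h2F]
  have hyy : f₂ y y = 0 := hf₂.alternating y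
  have hy'y'₀ : f₂ y' y' = 0 := hf₂.alternating y'
  obtain ⟨w₁, hw₁ne, hyw₁, hy'w₁⟩ := exists_perp_pair hf₂.bilinear y y' (by simpa using hn₂)
  -- the vectors a, b, c
  set e₀ : Fin 2 → F := ![1, 0] with he₀
  set e₁ : Fin 2 → F := ![0, 1] with he₁
  have hωe₀ : omegaMat F *ᵥ e₀ = ![0, 1] := by
    rw [omegaMat_mulVec, he₀]; simp
  have hωe₁ : omegaMat F *ᵥ e₁ = ![1, 1] := by
    rw [omegaMat_mulVec, he₁]; simp
  set a := θ e₀ y + θ e₁ y' with ha
  set b := θ (![0, 1] : Fin 2 → F) y + θ (![1, 1] : Fin 2 → F) y' with hb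
  have hbg : b = (g₀ : Matrix ι ι F) *ᵥ a := by
    rw [ha, Matrix.mulVec_add, hg₀θ, hg₀θ, hωe₀, hωe₁]
  have hBa : ∀ x u, QuadraticMap.polar Q a (θ x u) = x 1 * f₂ y u - x 0 * f₂ y' u := by
    intro x u
    rw [ha, B_add_left hQ, hform, hform, hf₁val, hf₁val, he₀, he₁]
    simp
    try ring
  have hBb : ∀ x u, QuadraticMap.polar Q b (θ x u) = - x 0 * f₂ y u + (x 1 - x 0) * f₂ y' u := by
    intro x u
    rw [hb, B_add_left hQ, hform, hform, hf₁val, hf₁val]
    simp
    try ring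
  have hQa : Q a = 1 := by
    rw [ha, Q_add (Q := Q), hQθ, hQθ, hform, hf₁val, hyy', he₀, he₁]
    simp
  have hQb : Q b = 1 := by
    rw [hb, Q_add (Q := Q), hQθ, hQθ, hform, hf₁val, hyy']
    simp
    linear_combination (-1 : F) * h2F
  have hBab : QuadraticMap.polar Q a b = 1 := by
    rw [hb, B_add_right hQ, hBa, hBa, hyy, hyy', hy'y, hy'y'₀]
    simp
  set cvec := θ e₀ w₁ with hcvec
  have hQc : Q cvec = 0 := hQθ _ _
  have hac : QuadraticMap.polar Q a cvec = 0 := by
    rw [hcvec, hBa, hyw₁, hy'w₁]; ring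
  have hbc : QuadraticMap.polar Q b cvec = 0 := by
    rw [hcvec, hBb, hyw₁, hy'w₁]; ring
  obtain ⟨j, hj⟩ : ∃ j, w₁ j ≠ 0 := by
    by_contra hcon
    push Not at hcon
    exact hw₁ne (funext hcon)
  have hgc : (g₀ : Matrix ι ι F) *ᵥ cvec ≠ cvec := by
    rw [hcvec, hg₀θ, hωe₀]
    intro h
    have h1 := pt_eq_left (tau_injective e P h) hj
    have := congrFun h1 0
    rw [he₀] at this
    simp [div_self hj] at this
  have hQa₂ : Q (b + cvec) = 1 := by
    rw [Q_add (Q := Q), hQb, hQc, hbc]; ring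
  have hQane : Q a ≠ 0 := by rw [hQa]; exact one_ne_zero
  have hQbne : Q b ≠ 0 := by rw [hQb]; exact one_ne_zero
  have hQa₂ne : Q (b + cvec) ≠ 0 := by rw [hQa₂]; exact one_ne_zero
  refine exists_between_of_subgroup _ _ (normPM g₀) ?_
    (reflGL hQ a hQane * reflGL hQ b hQbne * reflGL hQ a hQane * reflGL hQ b hQbne)
    (reflComm_mem_omegaGL hQ a b hQane hQbne) ?_ ?_
    (reflGL hQ a hQane * reflGL hQ (b + cvec) hQa₂ne * reflGL hQ a hQane * reflGL hQ (b + cvec) hQa₂ne)
    (reflComm_mem_omegaGL hQ a (b + cvec) hQane hQa₂ne) ?_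
  · exact fun g hg => tensor_le_normPM hq e P hg.1
  · exact Or.inl (reflComm_commute hQ h2F g₀ hsq hiso hbg hQa hQb hBab hQane hQbne)
  · -- the first witness is not in the tensor product subgroup
    intro hmem
    obtain ⟨a', b', hab⟩ := exists_of_mem_tensorProductSubgroup_pt e P hmem
    have hact := reflComm_char2 hQ h2F hQa hQb hBab hQane hQbne
    -- the slice of `w₁` is fixed
    have hfix : ∀ x, pt ((a' : Matrix (Fin 2) (Fin 2) F) *ᵥ x) ((b' : Matrix (Fin n₂) (Fin n₂) F) *ᵥ w₁)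
        = pt x w₁ := by
      intro x
      apply tau_injective e P
      rw [← hab, hact]
      show θ x w₁ + QuadraticMap.polar Q a (θ x w₁) • a
        + (QuadraticMap.polar Q a (θ x w₁) + QuadraticMap.polar Q b (θ x w₁)) • b = θ x w₁
      rw [hBa, hBb, hyw₁, hy'w₁]
      simp
    have hβ : ∀ x : Fin 2 → F, (a' : Matrix (Fin 2) (Fin 2) F) *ᵥ x = x := by
      set β := ((b' : Matrix (Fin n₂) (Fin n₂) F) *ᵥ w₁) j / w₁ j with hβdef
      have hx : ∀ x : Fin 2 → F, x = β • ((a' : Matrix (Fin 2) (Fin 2) F) *ᵥ x) :=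
        fun x => pt_eq_left (hfix x).symm hj
      have hβ1 : β = 1 := by
        refine (hcases β).resolve_left ?_
        intro h0
        have := hx e₁
        rw [h0, zero_smul] at this
        have := congrFun this 1
        rw [he₁] at this
        simp at this
      intro x
      have := hx x
      rw [hβ1, one_smul] at this
      exact this.symm
    -- evaluate at `θ e₁ y'`
    have h1 := hab e₁ y'
    rw [hact, hβ] at h1
    change θ e₁ y' + QuadraticMap.polar Q a (θ e₁ y') • a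
        + (QuadraticMap.polar Q a (θ e₁ y') + QuadraticMap.polar Q b (θ e₁ y')) • b
      = θ e₁ ((b' : Matrix (Fin n₂) (Fin n₂) F) *ᵥ y') at h1
    rw [hBa, hBb, hyy', hy'y'₀, he₁] at h1
    simp only [Matrix.cons_val_zero, Matrix.cons_val_one, one_mul, zero_mul, sub_zero, mul_zero,
      neg_zero, add_zero, one_smul] at h1
    rw [ha, hb] at h1
    -- compare coordinates
    have h3 : ∀ k : Fin n₂, y k + y' k = 0 := by
      intro k
      have hz : pt (![0, 1] : Fin 2 → F) y' + (pt e₀ y + pt (![0, 1] : Fin 2 → F) y')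
          + (pt (![0, 1] : Fin 2 → F) y + pt (![1, 1] : Fin 2 → F) y')
          = pt (![0, 1] : Fin 2 → F) ((b' : Matrix (Fin n₂) (Fin n₂) F) *ᵥ y') := by
        apply tau_injective e P
        rw [tau_add, tau_add, tau_add, tau_add]
        exact h1
      have := congrFun hz (0, k)
      simp [pt, he₀] at this
      exact this
    have hyeq : y = y' := by
      funext k
      have := h3 k
      have h4 : y k = - y' k := eq_neg_of_add_eq_zero_left this
      rw [h4, neg_eq_self_of_two h2F]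
    rw [← hyeq, hyy] at hyy'
    exact zero_ne_one hyy'
  · exact reflComm_not_mem_normPM hQ h2F g₀ hsq hiso hbg hQa hBab hac hbc hgc hQane hQa₂ hQa₂ne

end MainOrth2

end Cfsg.Agent.Helper94
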