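import Mathlib
import Cfsg.Prelude.Def_RootSubgroups
import Cfsg.Agent.Helper94.RootGlue

set_option autoImplicit false
set_option linter.unusedSectionVars false
set_option linter.unusedVariables false
set_option linter.unusedSimpArgs false

/-!
# Root subgroups of `SL_n`: the groups `R(u, φ) = {1 + c u φᵀ}` with `φ(u) = 0`
-/

namespace Cfsg.Agent.Helper94.SLRoot

open Matrix Cfsg
open scoped commutatorElement

variable {k : Type*} [Field k] {N : ℕ}

/-- the matrix `1 + c u φᵀ` -/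
def eMat (u φ : Fin N → k) (c : k) : Matrix (Fin N) (Fin N) k := 1 + c • vecMulVec u φ

theorem eMat_mulVec (u φ : Fin N → k) (c : k) (x : Fin N → k) :
    eMat u φ c *ᵥ x = x + (c * (φ ⬝ᵥ x)) • u := by
  rw [eMat, add_mulVec, one_mulVec, smul_mulVec, vecMulVec_mulVec, op_smul_eq_smul, smul_smul]

theorem vecMul_eMat (u φ : Fin N → k) (c : k) (ψ : Fin N → k) :
    ψ ᵥ* eMat u φ c = ψ + (c * (ψ ⬝ᵥ u)) • φ := by
  rw [eMat, vecMul_add, vecMul_one, vecMul_smul, vecMul_vecMulVec, smul_smul]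

theorem eMat_zero (u φ : Fin N → k) : eMat u φ 0 = 1 := by
  rw [eMat, zero_smul, add_zero]

theorem eMat_det {u φ : Fin N → k} (h : φ ⬝ᵥ u = 0) (c : k) : (eMat u φ c).det = 1 := by
  have h1 : eMat u φ c = 1 + replicateCol Unit (c • u) * replicateRow Unit φ := by
    rw [eMat, ← vecMulVec_eq, smul_vecMulVec]
  rw [h1, det_one_add_replicateCol_mul_replicateRow, dotProduct_smul, h, smul_zero, add_zero]

theorem eMat_mul {u φ : Fin N → k} (h : φ ⬝ᵥ u = 0) (c d : k) :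
    eMat u φ c * eMat u φ d = eMat u φ (c + d) := by
  rw [ext_iff_mulVec]
  intro x
  rw [← mulVec_mulVec, eMat_mulVec, eMat_mulVec, eMat_mulVec, dotProduct_add, dotProduct_smul, h,
    smul_zero, add_zero, add_assoc, ← add_smul]
  congr 2
  ring

/-- the general product formula -/
theorem eMat_mul_eMat (u φ u' φ' : Fin N → k) (c c' : k) :
    eMat u φ c * eMat u' φ' c'
      = 1 + c • vecMulVec u φ + c' • vecMulVec u' φ' + (c * c' * (φ ⬝ᵥ u')) • vecMulVec u φ' := by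
  simp only [eMat, add_mul, mul_add, one_mul, mul_one, Matrix.smul_mul, Matrix.mul_smul,
    vecMulVec_mul_vecMulVec, vecMulVec_smul, smul_smul]
  module

/-- the root element `1 + c u φᵀ` of `SL_N` -/
def E (u φ : Fin N → k) (h : φ ⬝ᵥ u = 0) (c : k) : SpecialLinearGroup (Fin N) k :=
  ⟨eMat u φ c, eMat_det h c⟩

theorem E_coe (u φ : Fin N → k) (h : φ ⬝ᵥ u = 0) (c : k) :
    ((E u φ h c : SpecialLinearGroup (Fin N) k) : Matrix (Fin N) (Fin N) k) = eMat u φ c := rfl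

theorem sl_ext {a b : SpecialLinearGroup (Fin N) k}
    (h : (a : Matrix (Fin N) (Fin N) k) = (b : Matrix (Fin N) (Fin N) k)) : a = b :=
  Subtype.ext h

theorem sl_coe_mul (a b : SpecialLinearGroup (Fin N) k) :
    ((a * b : SpecialLinearGroup (Fin N) k) : Matrix (Fin N) (Fin N) k)
      = (a : Matrix (Fin N) (Fin N) k) * (b : Matrix (Fin N) (Fin N) k) := rfl

theorem sl_coe_one :
    ((1 : SpecialLinearGroup (Fin N) k) : Matrix (Fin N) (Fin N) k) = 1 := rfl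

theorem E_mul (u φ : Fin N → k) (h : φ ⬝ᵥ u = 0) (c d : k) :
    E u φ h c * E u φ h d = E u φ h (c + d) :=
  sl_ext (eMat_mul h c d)

theorem E_zero (u φ : Fin N → k) (h : φ ⬝ᵥ u = 0) : E u φ h 0 = 1 :=
  sl_ext (eMat_zero u φ)

theorem E_inv (u φ : Fin N → k) (h : φ ⬝ᵥ u = 0) (c : k) : (E u φ h c)⁻¹ = E u φ h (-c) := by
  rw [inv_eq_iff_mul_eq_one, E_mul, add_neg_cancel, E_zero]

/-- the root subgroup `{1 + c u φᵀ}` -/
def R (u φ : Fin N → k) (h : φ ⬝ᵥ u = 0) : Subgroup (SpecialLinearGroup (Fin N) k) where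
  carrier := {g | ∃ c : k, g = E u φ h c}
  one_mem' := ⟨0, (E_zero u φ h).symm⟩
  mul_mem' := by
    rintro _ _ ⟨c, rfl⟩ ⟨d, rfl⟩
    exact ⟨c + d, E_mul u φ h c d⟩
  inv_mem' := by
    rintro _ ⟨c, rfl⟩
    exact ⟨-c, E_inv u φ h c⟩

theorem mem_R_iff {u φ : Fin N → k} {h : φ ⬝ᵥ u = 0} {g : SpecialLinearGroup (Fin N) k} :
    g ∈ R u φ h ↔ ∃ c : k, g = E u φ h c := Iff.rfl

theorem E_mem_R (u φ : Fin N → k) (h : φ ⬝ᵥ u = 0) (c : k) : E u φ h c ∈ R u φ h := ⟨c, rfl⟩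

theorem R_congr {u φ u' φ' : Fin N → k} (h : φ ⬝ᵥ u = 0) (hu : u = u') (hφ : φ = φ') :
    R u φ h = R u' φ' (by rw [← hu, ← hφ]; exact h) := by
  subst hu; subst hφ; rfl

theorem eMat_eq_one_iff {u φ : Fin N → k} (hu : u ≠ 0) (hφ : φ ≠ 0) (c : k) :
    eMat u φ c = 1 ↔ c = 0 := by
  constructor
  · intro h
    obtain ⟨i, hi⟩ := Function.ne_iff.mp hφ
    have h1 := eMat_mulVec u φ c (Pi.single i 1)
    rw [h, one_mulVec, dotProduct_single, mul_one] at h1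
    have h2 : (c * φ i) • u = 0 := by
      have := h1.symm
      rwa [add_eq_left] at this
    rcases smul_eq_zero.mp h2 with h3 | h3
    · rcases mul_eq_zero.mp h3 with h4 | h4
      · exact h4
      · exact absurd h4 hi
    · exact absurd h3 hu
  · rintro rfl
    exact eMat_zero u φ

theorem E_eq_one_iff {u φ : Fin N → k} (h : φ ⬝ᵥ u = 0) (hu : u ≠ 0) (hφ : φ ≠ 0) (c : k) :
    E u φ h c = 1 ↔ c = 0 := by
  rw [← eMat_eq_one_iff hu hφ c]
  constructor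
  · intro h1
    have := congrArg (fun g : SpecialLinearGroup (Fin N) k => (g : Matrix (Fin N) (Fin N) k)) h1
    exact this
  · intro h1
    exact sl_ext h1

theorem R_ne_bot {u φ : Fin N → k} (h : φ ⬝ᵥ u = 0) (hu : u ≠ 0) (hφ : φ ≠ 0) : R u φ h ≠ ⊥ := by
  intro hb
  have h1 : E u φ h 1 ∈ R u φ h := E_mem_R u φ h 1
  rw [hb, Subgroup.mem_bot, E_eq_one_iff h hu hφ] at h1
  exact one_ne_zero h1

theorem R_comm (u φ : Fin N → k) (h : φ ⬝ᵥ u = 0) : IsMulCommutative ↥(R u φ h) := by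
  refine ⟨⟨?_⟩⟩
  rintro ⟨_, c, rfl⟩ ⟨_, d, rfl⟩
  apply Subtype.ext
  show E u φ h c * E u φ h d = E u φ h d * E u φ h c
  rw [E_mul, E_mul, add_comm]

/-- scaling the centre or the axis does not change the root subgroup -/
theorem R_smul {u φ : Fin N → k} (h : φ ⬝ᵥ u = 0) {s t : k} (hs : s ≠ 0) (ht : t ≠ 0) :
    R (s • u) (t • φ) (by rw [smul_dotProduct, dotProduct_smul, h, smul_zero, smul_zero])
      = R u φ h := by
  have key : ∀ c : k, eMat (s • u) (t • φ) c = eMat u φ (c * s * t) := by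
    intro c
    rw [eMat, eMat, smul_vecMulVec, vecMulVec_smul, smul_smul, smul_smul]
  ext g
  rw [mem_R_iff, mem_R_iff]
  constructor
  · rintro ⟨c, rfl⟩
    exact ⟨c * s * t, sl_ext (key c)⟩
  · rintro ⟨c, rfl⟩
    refine ⟨c / (s * t), sl_ext ?_⟩
    rw [E_coe, E_coe, key]
    congr 1
    field_simp

/-- conjugation of root elements -/
theorem conj_eMat (g : SpecialLinearGroup (Fin N) k) (u φ : Fin N → k) (c : k) :
    (g : Matrix (Fin N) (Fin N) k) * eMat u φ c * ((g⁻¹ : SpecialLinearGroup (Fin N) k) :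
      Matrix (Fin N) (Fin N) k)
      = eMat ((g : Matrix (Fin N) (Fin N) k) *ᵥ u)
          (φ ᵥ* ((g⁻¹ : SpecialLinearGroup (Fin N) k) : Matrix (Fin N) (Fin N) k)) c := by
  have hgg : (g : Matrix (Fin N) (Fin N) k) * ((g⁻¹ : SpecialLinearGroup (Fin N) k) :
      Matrix (Fin N) (Fin N) k) = 1 := by
    rw [← sl_coe_mul, mul_inv_cancel, sl_coe_one]
  rw [eMat, eMat, mul_add, add_mul, mul_one, hgg, Matrix.mul_smul, Matrix.smul_mul, mul_vecMulVec,
    vecMulVec_mul]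

theorem conj_dot {g : SpecialLinearGroup (Fin N) k} {u φ : Fin N → k} (h : φ ⬝ᵥ u = 0) :
    (φ ᵥ* ((g⁻¹ : SpecialLinearGroup (Fin N) k) : Matrix (Fin N) (Fin N) k))
      ⬝ᵥ ((g : Matrix (Fin N) (Fin N) k) *ᵥ u) = 0 := by
  rw [← dotProduct_mulVec, mulVec_mulVec, ← sl_coe_mul, inv_mul_cancel,
    sl_coe_one, one_mulVec, h]

theorem conjBy_R (g : SpecialLinearGroup (Fin N) k) (u φ : Fin N → k) (h : φ ⬝ᵥ u = 0) :
    Cfsg.conjBy (R u φ h) g
      = R ((g : Matrix (Fin N) (Fin N) k) *ᵥ u)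
          (φ ᵥ* ((g⁻¹ : SpecialLinearGroup (Fin N) k) : Matrix (Fin N) (Fin N) k))
          (conj_dot h) := by
  have key : ∀ c : k, g * E u φ h c * g⁻¹ = E _ _ (conj_dot (g := g) h) c := by
    intro c
    apply sl_ext
    rw [sl_coe_mul, sl_coe_mul, E_coe, E_coe, conj_eMat]
  ext x
  rw [Cfsg.Agent.Helper83.mem_conjBy, mem_R_iff, mem_R_iff]
  constructor
  · rintro ⟨c, hc⟩
    refine ⟨c, ?_⟩
    rw [← key, ← hc]
    group
  · rintro ⟨c, rfl⟩
    refine ⟨c, ?_⟩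
    rw [← key]
    group

theorem mulVec_ne_zero (g : SpecialLinearGroup (Fin N) k) {u : Fin N → k} (hu : u ≠ 0) :
    (g : Matrix (Fin N) (Fin N) k) *ᵥ u ≠ 0 := by
  intro h
  have h1 : ((g⁻¹ : SpecialLinearGroup (Fin N) k) : Matrix (Fin N) (Fin N) k) *ᵥ
      ((g : Matrix (Fin N) (Fin N) k) *ᵥ u) = u := by
    rw [mulVec_mulVec, ← sl_coe_mul, inv_mul_cancel, sl_coe_one,
      one_mulVec]
  rw [h, mulVec_zero] at h1
  exact hu h1.symm

theorem vecMul_ne_zero (g : SpecialLinearGroup (Fin N) k) {φ : Fin N → k} (hφ : φ ≠ 0) :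
    φ ᵥ* (g : Matrix (Fin N) (Fin N) k) ≠ 0 := by
  intro h
  have h1 : (φ ᵥ* (g : Matrix (Fin N) (Fin N) k)) ᵥ*
      ((g⁻¹ : SpecialLinearGroup (Fin N) k) : Matrix (Fin N) (Fin N) k) = φ := by
    rw [vecMul_vecMul, ← sl_coe_mul, mul_inv_cancel, sl_coe_one,
      vecMul_one]
  rw [h, zero_vecMul] at h1
  exact hφ h1.symm

end Cfsg.Agent.Helper94.SLRoot
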