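import Mathlib
import Cfsg.Agent.Helper94.SLRootA
import Cfsg.Agent.Helper38.SLnTrans

set_option autoImplicit false
set_option linter.unusedSectionVars false
set_option linter.unusedVariables false
set_option linter.unusedSimpArgs false

/-!
# `SL_{n+3}` is transitive on incident (vector, covector) pairs
-/

namespace Cfsg.Agent.Helper94.SLRoot

open Matrix Cfsg
open scoped commutatorElement

variable {k : Type*} [Field k] {n : ℕ}

theorem eMat_det' (u φ : Fin (n + 3) → k) (c : k) : (eMat u φ c).det = 1 + c * (φ ⬝ᵥ u) := by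
  have h1 : eMat u φ c = 1 + replicateCol Unit (c • u) * replicateRow Unit φ := by
    rw [eMat, ← vecMulVec_eq, smul_vecMulVec]
  rw [h1, det_one_add_replicateCol_mul_replicateRow, dotProduct_smul, smul_eq_mul]

/-- first basis vector -/
abbrev b0 (k : Type*) [Field k] (n : ℕ) : Fin (n + 3) → k := Pi.single 0 1
/-- second basis vector -/
abbrev b1 (k : Type*) [Field k] (n : ℕ) : Fin (n + 3) → k := Pi.single 1 1

theorem f01 : (0 : Fin (n + 3)) ≠ 1 := Cfsg.Agent.Helper38.fin01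
theorem f02 : (0 : Fin (n + 3)) ≠ 2 := Cfsg.Agent.Helper38.fin02
theorem f12 : (1 : Fin (n + 3)) ≠ 2 := Cfsg.Agent.Helper38.fin12

theorem b0_zero : b0 k n 0 = 1 := Pi.single_eq_same _ _
theorem b1_one : b1 k n 1 = 1 := Pi.single_eq_same _ _
theorem b0_of_ne {i : Fin (n + 3)} (h : i ≠ 0) : b0 k n i = 0 := Pi.single_eq_of_ne h _
theorem b1_of_ne {i : Fin (n + 3)} (h : i ≠ 1) : b1 k n i = 0 := Pi.single_eq_of_ne h _

theorem b1_dot_b0 : b1 k n ⬝ᵥ b0 k n = 0 := by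
  rw [single_dotProduct, one_mul]
  simp [f01.symm]

/-- case of a non-zero second coordinate -/
theorem exists_fix_row_aux (ψ : Fin (n + 3) → k) (h0 : ψ 0 = 0) (h1 : ψ 1 ≠ 0) :
    ∃ z : SpecialLinearGroup (Fin (n + 3)) k,
      (z : Matrix (Fin (n + 3)) (Fin (n + 3)) k) *ᵥ b0 k n = b0 k n ∧
      b1 k n ᵥ* (z : Matrix (Fin (n + 3)) (Fin (n + 3)) k) = ψ := by
  classical
  set d : Fin (n + 3) → k := Function.update (fun _ => (1 : k)) 2 (ψ 1)⁻¹ with hd
  have hd0 : d 0 = 1 := by rw [hd, Function.update_of_ne f02]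
  have hd1 : d 1 = 1 := by rw [hd, Function.update_of_ne f12]
  have hdet : (diagonal d * eMat (b1 k n) (ψ - b1 k n) 1).det = 1 := by
    rw [det_mul, det_diagonal, eMat_det', hd, Finset.prod_update_of_mem (Finset.mem_univ _)]
    simp only [Finset.prod_const_one, mul_one, one_mul, sub_dotProduct, dotProduct_single,
      mul_one]
    rw [Pi.sub_apply, b1_one, add_sub_cancel, inv_mul_cancel₀ h1]
  refine ⟨⟨_, hdet⟩, ?_, ?_⟩
  · show (diagonal d * eMat (b1 k n) (ψ - b1 k n) 1) *ᵥ b0 k n = b0 k n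
    rw [← mulVec_mulVec, eMat_mulVec, sub_dotProduct, dotProduct_single, dotProduct_single, h0,
      b1_of_ne f01, mul_one, sub_zero, mul_zero, zero_smul, add_zero]
    ext i
    rw [mulVec_diagonal]
    by_cases hi : i = 0
    · rw [hi, hd0, one_mul]
    · rw [b0_of_ne hi, mul_zero]
  · show b1 k n ᵥ* (diagonal d * eMat (b1 k n) (ψ - b1 k n) 1) = ψ
    rw [← vecMul_vecMul, single_vecMul_diagonal, hd1, mul_one, vecMul_eMat, single_dotProduct,
      one_mul, b1_one, mul_one, one_smul]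
    show b1 k n + (ψ - b1 k n) = ψ
    abel

theorem exists_fix_row (ψ : Fin (n + 3) → k) (h0 : ψ 0 = 0) (hψ : ψ ≠ 0) :
    ∃ z : SpecialLinearGroup (Fin (n + 3)) k,
      (z : Matrix (Fin (n + 3)) (Fin (n + 3)) k) *ᵥ b0 k n = b0 k n ∧
      b1 k n ᵥ* (z : Matrix (Fin (n + 3)) (Fin (n + 3)) k) = ψ := by
  by_cases h1 : ψ 1 = 0
  · obtain ⟨i, hi⟩ := Function.ne_iff.mp hψ
    have hi0 : i ≠ 0 := by
      rintro rfl
      exact hi h0
    have hi1 : i ≠ 1 := by
      rintro rfl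
      exact hi h1
    have hw : b1 k n ⬝ᵥ (Pi.single i 1 : Fin (n + 3) → k) = 0 := by
      rw [dotProduct_single, mul_one, b1_of_ne hi1]
    obtain ⟨w, hwdef⟩ : ∃ w, w = E (Pi.single i 1 : Fin (n + 3) → k) (b1 k n) hw 1 := ⟨_, rfl⟩
    have hw0 : (w : Matrix (Fin (n + 3)) (Fin (n + 3)) k) *ᵥ b0 k n = b0 k n := by
      rw [hwdef, E_coe, eMat_mulVec, b1_dot_b0, mul_zero, zero_smul, add_zero]
    have hψ' : ψ ᵥ* (w : Matrix (Fin (n + 3)) (Fin (n + 3)) k) = ψ + ψ i • b1 k n := by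
      rw [hwdef, E_coe, vecMul_eMat, dotProduct_single, mul_one, one_mul]
    obtain ⟨z', hz0, hz1⟩ := exists_fix_row_aux (ψ + ψ i • b1 k n)
      (by rw [Pi.add_apply, Pi.smul_apply, h0, b1_of_ne f01, smul_zero, add_zero])
      (by rw [Pi.add_apply, Pi.smul_apply, h1, b1_one, smul_eq_mul, mul_one, zero_add]
          exact hi)
    refine ⟨z' * w⁻¹, ?_, ?_⟩
    · have hwi : ((w⁻¹ : SpecialLinearGroup (Fin (n + 3)) k) :
          Matrix (Fin (n + 3)) (Fin (n + 3)) k) *ᵥ b0 k n = b0 k n := by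
        conv_lhs => rw [← hw0]
        rw [mulVec_mulVec, ← sl_coe_mul, inv_mul_cancel, sl_coe_one, one_mulVec]
      rw [sl_coe_mul, ← mulVec_mulVec, hwi, hz0]
    · rw [sl_coe_mul, ← vecMul_vecMul, hz1, ← hψ', vecMul_vecMul, ← sl_coe_mul, mul_inv_cancel,
        sl_coe_one, vecMul_one]
  · exact exists_fix_row_aux ψ h0 h1

/-- transitivity on incident pairs -/
theorem exists_move {u φ : Fin (n + 3) → k} (hu : u ≠ 0) (hφ : φ ≠ 0) (h : φ ⬝ᵥ u = 0) :
    ∃ g : SpecialLinearGroup (Fin (n + 3)) k,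
      (g : Matrix (Fin (n + 3)) (Fin (n + 3)) k) *ᵥ b0 k n = u ∧
      b1 k n ᵥ* ((g⁻¹ : SpecialLinearGroup (Fin (n + 3)) k) :
        Matrix (Fin (n + 3)) (Fin (n + 3)) k) = φ := by
  obtain ⟨x, hx⟩ := Cfsg.Agent.Helper38.exists_smul_e0_eq hu
  have hx' : (x : Matrix (Fin (n + 3)) (Fin (n + 3)) k) *ᵥ b0 k n = u := hx
  have hψ0 : (φ ᵥ* (x : Matrix (Fin (n + 3)) (Fin (n + 3)) k)) 0 = 0 := by
    have : (φ ᵥ* (x : Matrix (Fin (n + 3)) (Fin (n + 3)) k)) 0
        = (φ ᵥ* (x : Matrix (Fin (n + 3)) (Fin (n + 3)) k)) ⬝ᵥ b0 k n := by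
      rw [dotProduct_single, mul_one]
    rw [this, ← dotProduct_mulVec, hx', h]
  obtain ⟨z, hz0, hz1⟩ := exists_fix_row _ hψ0 (vecMul_ne_zero x hφ)
  refine ⟨x * z⁻¹, ?_, ?_⟩
  · have hzi : ((z⁻¹ : SpecialLinearGroup (Fin (n + 3)) k) :
        Matrix (Fin (n + 3)) (Fin (n + 3)) k) *ᵥ b0 k n = b0 k n := by
      conv_lhs => rw [← hz0]
      rw [mulVec_mulVec, ← sl_coe_mul, inv_mul_cancel, sl_coe_one, one_mulVec]
    rw [sl_coe_mul, ← mulVec_mulVec, hzi, hx']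
  · rw [_root_.mul_inv_rev, inv_inv, sl_coe_mul, ← vecMul_vecMul, hz1, vecMul_vecMul, ← sl_coe_mul,
      mul_inv_cancel, sl_coe_one, vecMul_one]

/-- the root subgroup of elementary transvections `1 + c E₀₁` -/
def R0 (k : Type*) [Field k] (n : ℕ) : Subgroup (SpecialLinearGroup (Fin (n + 3)) k) :=
  Subgroup.closure {t : SpecialLinearGroup (Fin (n + 3)) k |
    ∃ c : k, (t : Matrix (Fin (n + 3)) (Fin (n + 3)) k) = Matrix.transvection 0 1 c}

theorem transvection_eq_eMat (i j : Fin (n + 3)) (c : k) :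
    Matrix.transvection i j c = eMat (Pi.single i 1 : Fin (n + 3) → k) (Pi.single j 1) c := by
  rw [Matrix.transvection, eMat]
  congr 1
  ext a b
  simp only [Matrix.single_apply, Matrix.smul_apply, vecMulVec_apply, Pi.single_apply, smul_eq_mul]
  by_cases ha : a = i
  · by_cases hb : b = j
    · subst ha; subst hb; simp
    · subst ha
      have hb' : ¬ j = b := fun h => hb h.symm
      simp [hb, hb']
  · have ha' : ¬ i = a := fun h => ha h.symm
    simp [ha, ha']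

theorem R0_eq : R0 k n = R (b0 k n) (b1 k n) b1_dot_b0 := by
  apply le_antisymm
  · rw [R0, Subgroup.closure_le]
    rintro t ⟨c, hc⟩
    refine ⟨c, sl_ext ?_⟩
    rw [hc, E_coe, transvection_eq_eMat]
  · rintro _ ⟨c, rfl⟩
    refine Subgroup.subset_closure ⟨c, ?_⟩
    rw [E_coe, transvection_eq_eMat]

/-- the class of root subgroups, as in the statement -/
def Sig (k : Type*) [Field k] (n : ℕ) : Set (Subgroup (SpecialLinearGroup (Fin (n + 3)) k)) :=
  {A | ∃ g : SpecialLinearGroup (Fin (n + 3)) k, A = Cfsg.conjBy (R0 k n) g}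

theorem R_mem_Sig {u φ : Fin (n + 3) → k} (hu : u ≠ 0) (hφ : φ ≠ 0) (h : φ ⬝ᵥ u = 0) :
    R u φ h ∈ Sig k n := by
  obtain ⟨g, hg0, hg1⟩ := exists_move hu hφ h
  refine ⟨g, ?_⟩
  rw [R0_eq, conjBy_R]
  exact R_congr h hg0.symm hg1.symm

theorem exists_of_mem_Sig {A : Subgroup (SpecialLinearGroup (Fin (n + 3)) k)} (hA : A ∈ Sig k n) :
    ∃ (u φ : Fin (n + 3) → k) (h : φ ⬝ᵥ u = 0), u ≠ 0 ∧ φ ≠ 0 ∧ A = R u φ h := by
  obtain ⟨g, rfl⟩ := hA
  refine ⟨_, _, conj_dot (g := g) b1_dot_b0, mulVec_ne_zero g ?_, vecMul_ne_zero g⁻¹ ?_, ?_⟩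
  · intro h0
    have := congrFun h0 0
    simp at this
  · intro h0
    have := congrFun h0 1
    simp at this
  · rw [R0_eq, conjBy_R]

end Cfsg.Agent.Helper94.SLRoot
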