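import Mathlib
import Cfsg.Agent.Helper94.SLRootB
import Cfsg.Agent.Helper83.RootSub3

set_option autoImplicit false
set_option linter.unusedSectionVars false
set_option linter.unusedVariables false
set_option linter.unusedSimpArgs false

/-!
# Pairs of root subgroups of `SL_n`: commuting, commutator case
-/

namespace Cfsg.Agent.Helper94.SLRoot

open Matrix Cfsg
open scoped commutatorElement

variable {k : Type*} [Field k] {N : ℕ}

theorem E_commute {u φ u' φ' : Fin N → k} (h : φ ⬝ᵥ u = 0) (h' : φ' ⬝ᵥ u' = 0)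
    (h1 : φ ⬝ᵥ u' = 0) (h2 : φ' ⬝ᵥ u = 0) (c c' : k) :
    E u φ h c * E u' φ' h' c' = E u' φ' h' c' * E u φ h c := by
  apply sl_ext
  rw [sl_coe_mul, sl_coe_mul, E_coe, E_coe, eMat_mul_eMat, eMat_mul_eMat, h1, h2, mul_zero,
    mul_zero, zero_smul, zero_smul, add_zero, add_zero]
  abel

theorem R_commute {u φ u' φ' : Fin N → k} (h : φ ⬝ᵥ u = 0) (h' : φ' ⬝ᵥ u' = 0)
    (h1 : φ ⬝ᵥ u' = 0) (h2 : φ' ⬝ᵥ u = 0) : ⁅R u φ h, R u' φ' h'⁆ = ⊥ := by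
  rw [Subgroup.commutator_eq_bot_iff_le_centralizer]
  rintro _ ⟨c, rfl⟩
  rw [Subgroup.mem_centralizer_iff]
  rintro _ ⟨c', rfl⟩
  exact (E_commute h h' h1 h2 c c').symm

theorem R_le_centralizer {u φ u' φ' : Fin N → k} (h : φ ⬝ᵥ u = 0) (h' : φ' ⬝ᵥ u' = 0)
    (h1 : φ ⬝ᵥ u' = 0) (h2 : φ' ⬝ᵥ u = 0) :
    R u φ h ≤ Subgroup.centralizer (R u' φ' h' : Set (SpecialLinearGroup (Fin N) k)) := by
  rintro _ ⟨c, rfl⟩
  rw [Subgroup.mem_centralizer_iff]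
  rintro _ ⟨c', rfl⟩
  exact (E_commute h h' h1 h2 c c').symm

/-- the commutator formula -/
theorem E_comm_formula {u φ u' φ' : Fin N → k} (h : φ ⬝ᵥ u = 0) (h' : φ' ⬝ᵥ u' = 0)
    (h2 : φ' ⬝ᵥ u = 0) (c c' : k) :
    E u φ h c * E u' φ' h' c' * (E u φ h c)⁻¹ * (E u' φ' h' c')⁻¹
      = E u φ' h2 (c * c' * (φ ⬝ᵥ u')) := by
  have key : E u φ h c * E u' φ' h' c'
      = E u φ' h2 (c * c' * (φ ⬝ᵥ u')) * E u' φ' h' c' * E u φ h c := by
    apply sl_ext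
    rw [sl_coe_mul, sl_coe_mul, sl_coe_mul, E_coe, E_coe, E_coe, ext_iff_mulVec]
    intro v
    simp only [← mulVec_mulVec, eMat_mulVec, dotProduct_add, dotProduct_smul, smul_eq_mul, h, h',
      h2, mul_zero, add_zero]
    module
  rw [key]
  group

theorem R_ne {u φ u' φ' : Fin N → k} (h : φ ⬝ᵥ u = 0) (h' : φ' ⬝ᵥ u' = 0) (hu : u ≠ 0)
    (h1 : φ ⬝ᵥ u' ≠ 0) : R u φ h ≠ R u' φ' h' := by
  intro hR
  have hmem : E u φ h 1 ∈ R u' φ' h' := hR ▸ E_mem_R u φ h 1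
  obtain ⟨t, ht⟩ := hmem
  have h3 := congrArg (fun g : SpecialLinearGroup (Fin N) k =>
    (g : Matrix (Fin N) (Fin N) k) *ᵥ u') ht
  simp only [E_coe, eMat_mulVec, h', mul_zero, zero_smul, add_zero, one_mul] at h3
  rw [add_eq_left] at h3
  rcases smul_eq_zero.mp h3 with h4 | h4
  · exact h1 h4
  · exact hu h4

/-- the commutator subgroup in the commutator case -/
theorem commutator_R {u φ u' φ' : Fin N → k} (h : φ ⬝ᵥ u = 0) (h' : φ' ⬝ᵥ u' = 0)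
    (h2 : φ' ⬝ᵥ u = 0) (h1 : φ ⬝ᵥ u' ≠ 0) : ⁅R u φ h, R u' φ' h'⁆ = R u φ' h2 := by
  apply le_antisymm
  · rw [Subgroup.commutator_le]
    rintro _ ⟨c, rfl⟩ _ ⟨c', rfl⟩
    rw [commutatorElement_def, E_comm_formula h h' h2]
    exact E_mem_R _ _ _ _
  · rintro _ ⟨t, rfl⟩
    have h3 := E_comm_formula h h' h2 1 (t / (φ ⬝ᵥ u'))
    rw [one_mul, div_mul_cancel₀ _ h1] at h3
    rw [← h3, ← commutatorElement_def]
    exact Subgroup.commutator_mem_commutator (E_mem_R _ _ _ _) (E_mem_R _ _ _ _)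

/-- the commutator case -/
theorem commCase_R {S : Set (Subgroup (SpecialLinearGroup (Fin N) k))}
    {u φ u' φ' : Fin N → k} (h : φ ⬝ᵥ u = 0) (h' : φ' ⬝ᵥ u' = 0) (hu : u ≠ 0) (hφ : φ ≠ 0)
    (hu' : u' ≠ 0) (hφ' : φ' ≠ 0)
    (h2 : φ' ⬝ᵥ u = 0) (h1 : φ ⬝ᵥ u' ≠ 0) (hS : R u φ' h2 ∈ S) :
    Cfsg.RootCommutatorCase S (R u φ h) (R u' φ' h') := by
  have hcomm := commutator_R h h' h2 h1
  refine ⟨hcomm ▸ hS, ?_, ?_, ?_⟩
  · intro z hz x hx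
    rw [hcomm] at hz
    have hle : R u φ h ⊔ R u' φ' h' ≤
        Subgroup.centralizer (R u φ' h2 : Set (SpecialLinearGroup (Fin N) k)) :=
      sup_le (R_le_centralizer h h2 h h2) (R_le_centralizer h' h2 h2 h')
    have := hle hx
    rw [Subgroup.mem_centralizer_iff] at this
    exact this z hz
  · rintro _ ⟨c, rfl⟩ hc1
    have hc : c ≠ 0 := by
      rintro rfl
      exact hc1 (E_zero u φ h)
    rw [hcomm]
    apply le_antisymm
    · rw [Subgroup.closure_le]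
      rintro _ ⟨_, ⟨c', rfl⟩, rfl⟩
      show E u φ h c * E u' φ' h' c' * (E u φ h c)⁻¹ * (E u' φ' h' c')⁻¹ ∈ R u φ' h2
      rw [E_comm_formula h h' h2]
      exact E_mem_R _ _ _ _
    · rintro _ ⟨t, rfl⟩
      refine Subgroup.subset_closure ⟨E u' φ' h' (t / (c * (φ ⬝ᵥ u'))), E_mem_R _ _ _ _, ?_⟩
      show E u φ h c * E u' φ' h' _ * (E u φ h c)⁻¹ * (E u' φ' h' _)⁻¹ = _
      rw [E_comm_formula h h' h2]
      congr 1
      field_simp
  · rintro _ ⟨c', rfl⟩ hc1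
    have hc : c' ≠ 0 := by
      rintro rfl
      exact hc1 (E_zero u' φ' h')
    rw [hcomm]
    apply le_antisymm
    · rw [Subgroup.closure_le]
      rintro _ ⟨_, ⟨c, rfl⟩, rfl⟩
      show E u φ h c * E u' φ' h' c' * (E u φ h c)⁻¹ * (E u' φ' h' c')⁻¹ ∈ R u φ' h2
      rw [E_comm_formula h h' h2]
      exact E_mem_R _ _ _ _
    · rintro _ ⟨t, rfl⟩
      refine Subgroup.subset_closure ⟨E u φ h (t / (c' * (φ ⬝ᵥ u'))), E_mem_R _ _ _ _, ?_⟩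
      show E u φ h _ * E u' φ' h' c' * (E u φ h _)⁻¹ * (E u' φ' h' c')⁻¹ = _
      rw [E_comm_formula h h' h2]
      congr 1
      field_simp

end Cfsg.Agent.Helper94.SLRoot
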