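import Mathlib
import Cfsg.Agent.Helper94.SLRootC

set_option autoImplicit false
set_option linter.unusedSectionVars false
set_option linter.unusedVariables false
set_option linter.unusedSimpArgs false

/-!
# The `SL₂` attached to an opposite pair of root subgroups of `SL_n`
-/

namespace Cfsg.Agent.Helper94.SLRoot

open Matrix Cfsg
open scoped commutatorElement

variable {k : Type*} [Field k] {N : ℕ}

/-- coefficient of `u` -/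
def cx (g : Matrix.SpecialLinearGroup (Fin 2) k) (α β : k) : k := (g 0 0 - 1) * α + g 0 1 * β

/-- coefficient of `u'` -/
def cy (g : Matrix.SpecialLinearGroup (Fin 2) k) (α β : k) : k := g 1 0 * α + (g 1 1 - 1) * β

/-- the matrix of `g ∈ SL₂` acting on the plane `⟨u, u'⟩` -/
def sl2Mat (u φ u' φ' : Fin N → k) (g : Matrix.SpecialLinearGroup (Fin 2) k) :
    Matrix (Fin N) (Fin N) k :=
  1 + vecMulVec u ((g 0 0 - 1) • φ' + g 0 1 • φ) + vecMulVec u' (g 1 0 • φ' + (g 1 1 - 1) • φ)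

theorem sl2Mat_mulVec (u φ u' φ' : Fin N → k) (g : Matrix.SpecialLinearGroup (Fin 2) k)
    (v : Fin N → k) :
    sl2Mat u φ u' φ' g *ᵥ v
      = v + cx g (φ' ⬝ᵥ v) (φ ⬝ᵥ v) • u + cy g (φ' ⬝ᵥ v) (φ ⬝ᵥ v) • u' := by
  rw [sl2Mat, add_mulVec, add_mulVec, one_mulVec, vecMulVec_mulVec, vecMulVec_mulVec,
    op_smul_eq_smul, op_smul_eq_smul, add_dotProduct, add_dotProduct, smul_dotProduct,
    smul_dotProduct, smul_dotProduct, smul_dotProduct]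
  rfl

theorem sl2Mat_mul {u φ u' φ' : Fin N → k} (h : φ ⬝ᵥ u = 0) (h' : φ' ⬝ᵥ u' = 0)
    (h1 : φ ⬝ᵥ u' = 1) (h2 : φ' ⬝ᵥ u = 1) (g g' : Matrix.SpecialLinearGroup (Fin 2) k) :
    sl2Mat u φ u' φ' (g * g') = sl2Mat u φ u' φ' g * sl2Mat u φ u' φ' g' := by
  rw [ext_iff_mulVec]
  intro v
  rw [← mulVec_mulVec, sl2Mat_mulVec, sl2Mat_mulVec, sl2Mat_mulVec]
  simp only [dotProduct_add, dotProduct_smul, smul_eq_mul, h, h', h1, h2, mul_zero, mul_one,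
    add_zero]
  obtain ⟨α, hα⟩ : ∃ α, α = φ' ⬝ᵥ v := ⟨_, rfl⟩
  obtain ⟨β, hβ⟩ : ∃ β, β = φ ⬝ᵥ v := ⟨_, rfl⟩
  rw [← hα, ← hβ]
  have hX : cx (g * g') α β = cx g' α β + cx g (α + cx g' α β) (β + cy g' α β) := by
    simp only [cx, cy, Matrix.SpecialLinearGroup.coe_mul, Matrix.mul_apply, Fin.sum_univ_two]
    ring
  have hY : cy (g * g') α β = cy g' α β + cy g (α + cx g' α β) (β + cy g' α β) := by
    simp only [cx, cy, Matrix.SpecialLinearGroup.coe_mul, Matrix.mul_apply, Fin.sum_univ_two]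
    ring
  rw [hX, hY]
  module

theorem sl2Mat_U (u φ u' φ' : Fin N → k) (b : k) :
    sl2Mat u φ u' φ' (Cfsg.Agent.S5016.U b) = eMat u φ b := by
  rw [ext_iff_mulVec]
  intro v
  rw [sl2Mat_mulVec, eMat_mulVec, cx, cy, Cfsg.Agent.S5016.U_apply]
  simp

theorem sl2Mat_L (u φ u' φ' : Fin N → k) (c : k) :
    sl2Mat u φ u' φ' (Cfsg.Agent.S5016.L c) = eMat u' φ' c := by
  rw [ext_iff_mulVec]
  intro v
  rw [sl2Mat_mulVec, eMat_mulVec, cx, cy, Cfsg.Agent.S5016.L_apply]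
  simp

theorem sl2Mat_det {u φ u' φ' : Fin N → k} (h : φ ⬝ᵥ u = 0) (h' : φ' ⬝ᵥ u' = 0)
    (h1 : φ ⬝ᵥ u' = 1) (h2 : φ' ⬝ᵥ u = 1) (g : Matrix.SpecialLinearGroup (Fin 2) k) :
    (sl2Mat u φ u' φ' g).det = 1 := by
  refine Matrix.SL2.transvection_induction (fun g => (sl2Mat u φ u' φ' g).det = 1) ?_ ?_ g
  · intro i j hij c
    fin_cases i <;> fin_cases j
    · exact absurd rfl hij
    · show (sl2Mat u φ u' φ' (Cfsg.Agent.S5016.U c)).det = 1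
      rw [sl2Mat_U, eMat_det h]
    · show (sl2Mat u φ u' φ' (Cfsg.Agent.S5016.L c)).det = 1
      rw [sl2Mat_L, eMat_det h']
    · exact absurd rfl hij
  · intro A B hA hB
    show (sl2Mat u φ u' φ' (A * B)).det = 1
    rw [sl2Mat_mul h h' h1 h2, det_mul, hA, hB, mul_one]

/-- the homomorphism `SL₂(k) → SL_N(k)` attached to an opposite pair -/
def sl2Hom {u φ u' φ' : Fin N → k} (h : φ ⬝ᵥ u = 0) (h' : φ' ⬝ᵥ u' = 0)
    (h1 : φ ⬝ᵥ u' = 1) (h2 : φ' ⬝ᵥ u = 1) :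
    Matrix.SpecialLinearGroup (Fin 2) k →* SpecialLinearGroup (Fin N) k :=
  MonoidHom.mk' (fun g => ⟨sl2Mat u φ u' φ' g, sl2Mat_det h h' h1 h2 g⟩)
    (fun g g' => sl_ext (sl2Mat_mul h h' h1 h2 g g'))

theorem sl2Hom_coe {u φ u' φ' : Fin N → k} (h : φ ⬝ᵥ u = 0) (h' : φ' ⬝ᵥ u' = 0)
    (h1 : φ ⬝ᵥ u' = 1) (h2 : φ' ⬝ᵥ u = 1) (g : Matrix.SpecialLinearGroup (Fin 2) k) :
    ((sl2Hom h h' h1 h2 g : SpecialLinearGroup (Fin N) k) : Matrix (Fin N) (Fin N) k)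
      = sl2Mat u φ u' φ' g := rfl

theorem map_upper {u φ u' φ' : Fin N → k} (h : φ ⬝ᵥ u = 0) (h' : φ' ⬝ᵥ u' = 0)
    (h1 : φ ⬝ᵥ u' = 1) (h2 : φ' ⬝ᵥ u = 1) :
    (Cfsg.upperUnipotentSL2 k).map (sl2Hom h h' h1 h2) = R u φ h := by
  ext x
  rw [Subgroup.mem_map, mem_R_iff]
  constructor
  · rintro ⟨g, hg, rfl⟩
    rw [Cfsg.Agent.S5016.eq_U_of_mem hg]
    exact ⟨_, sl_ext (by rw [sl2Hom_coe, sl2Mat_U, E_coe])⟩
  · rintro ⟨c, rfl⟩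
    exact ⟨Cfsg.Agent.S5016.U c, Cfsg.Agent.S5016.U_mem c,
      sl_ext (by rw [sl2Hom_coe, sl2Mat_U, E_coe])⟩

theorem map_lower {u φ u' φ' : Fin N → k} (h : φ ⬝ᵥ u = 0) (h' : φ' ⬝ᵥ u' = 0)
    (h1 : φ ⬝ᵥ u' = 1) (h2 : φ' ⬝ᵥ u = 1) :
    (Cfsg.lowerUnipotentSL2 k).map (sl2Hom h h' h1 h2) = R u' φ' h' := by
  ext x
  rw [Subgroup.mem_map, mem_R_iff]
  constructor
  · rintro ⟨g, hg, rfl⟩
    rw [Cfsg.Agent.S5016.eq_L_of_mem hg]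
    exact ⟨_, sl_ext (by rw [sl2Hom_coe, sl2Mat_L, E_coe])⟩
  · rintro ⟨c, rfl⟩
    exact ⟨Cfsg.Agent.S5016.L c, Cfsg.Agent.S5016.L_mem c,
      sl_ext (by rw [sl2Hom_coe, sl2Mat_L, E_coe])⟩

theorem sl2Hom_injective {u φ u' φ' : Fin N → k} (h : φ ⬝ᵥ u = 0) (h' : φ' ⬝ᵥ u' = 0)
    (h1 : φ ⬝ᵥ u' = 1) (h2 : φ' ⬝ᵥ u = 1) : Function.Injective (sl2Hom h h' h1 h2) := by
  rw [injective_iff_map_eq_one]
  intro g hg
  have hM : sl2Mat u φ u' φ' g = 1 := by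
    rw [← sl2Hom_coe h h' h1 h2, hg]
    rfl
  have key : ∀ v : Fin N → k, cx g (φ' ⬝ᵥ v) (φ ⬝ᵥ v) = 0 ∧ cy g (φ' ⬝ᵥ v) (φ ⬝ᵥ v) = 0 := by
    intro v
    have e1 := sl2Mat_mulVec u φ u' φ' g v
    rw [hM, one_mulVec] at e1
    obtain ⟨x, hx⟩ : ∃ x, x = cx g (φ' ⬝ᵥ v) (φ ⬝ᵥ v) := ⟨_, rfl⟩
    obtain ⟨y, hy⟩ : ∃ y, y = cy g (φ' ⬝ᵥ v) (φ ⬝ᵥ v) := ⟨_, rfl⟩
    rw [← hx, ← hy] at e1 ⊢
    have e2 : x • u + y • u' = 0 := by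
      have e3 : v + (x • u + y • u') = v := by rw [← add_assoc]; exact e1.symm
      rwa [add_eq_left] at e3
    have e3 := congrArg (fun z => φ' ⬝ᵥ z) e2
    have e4 := congrArg (fun z => φ ⬝ᵥ z) e2
    simp only [dotProduct_add, dotProduct_smul, smul_eq_mul, h, h', h1, h2, mul_zero, mul_one,
      add_zero, zero_add, dotProduct_zero] at e3 e4
    exact ⟨e3, e4⟩
  have ku := key u
  have ku' := key u'
  simp only [cx, cy, h, h', h1, h2, mul_zero, mul_one, add_zero, zero_add] at ku ku'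
  apply Matrix.SpecialLinearGroup.ext
  intro i j
  fin_cases i <;> fin_cases j
  · show g 0 0 = 1
    exact sub_eq_zero.mp ku.1
  · show g 0 1 = 0
    exact ku'.1
  · show g 1 0 = 0
    exact ku.2
  · show g 1 1 = 1
    exact sub_eq_zero.mp ku'.2

/-- an opposite pair is an image of the unitriangular pair of `SL₂` -/
theorem isSL2Image_R {u φ u' φ' : Fin N → k} (h : φ ⬝ᵥ u = 0) (h' : φ' ⬝ᵥ u' = 0)
    (h1 : φ ⬝ᵥ u' ≠ 0) (h2 : φ' ⬝ᵥ u ≠ 0) :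
    Cfsg.Agent.Helper94.IsSL2Image k (R u φ h) (R u' φ' h') := by
  have hs : (φ ⬝ᵥ u')⁻¹ ≠ 0 := inv_ne_zero h1
  have ht : (φ' ⬝ᵥ u)⁻¹ ≠ 0 := inv_ne_zero h2
  have h'' : ((φ' ⬝ᵥ u)⁻¹ • φ') ⬝ᵥ ((φ ⬝ᵥ u')⁻¹ • u') = 0 := by
    rw [smul_dotProduct, dotProduct_smul, h', smul_zero, smul_zero]
  have h1' : φ ⬝ᵥ ((φ ⬝ᵥ u')⁻¹ • u') = 1 := by
    rw [dotProduct_smul, smul_eq_mul, inv_mul_cancel₀ h1]
  have h2' : ((φ' ⬝ᵥ u)⁻¹ • φ') ⬝ᵥ u = 1 := by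
    rw [smul_dotProduct, smul_eq_mul, inv_mul_cancel₀ h2]
  refine ⟨sl2Hom h h'' h1' h2', ?_, map_upper h h'' h1' h2', ?_⟩
  · rw [(MonoidHom.ker_eq_bot_iff _).mpr (sl2Hom_injective h h'' h1' h2')]
    exact bot_le
  · rw [map_lower h h'' h1' h2']
    exact R_smul h' hs ht

end Cfsg.Agent.Helper94.SLRoot
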