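import Cfsg.Agent.Helper94.Frame3
import Cfsg.Prelude.Def_FischerSpaces

set_option autoImplicit false
set_option linter.unusedSectionVars false

namespace Cfsg.Agent.Helper94

open Cfsg Cfsg.Geo
open scoped Matrix

section GroupBraid

variable {G : Type*} [Group G]

theorem braid_pow_three {a b : G} (ha : a * a = 1) (hb : b * b = 1) (h : a * b * a = b * a * b) :
    (a * b) ^ 3 = 1 := by
  have e : (a * b) ^ 3 = (a * b * a) * (b * a * b) := by
    simp only [pow_succ, pow_zero, one_mul, mul_assoc]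
  rw [e, h]
  calc b * a * b * (b * a * b) = b * a * (b * b) * a * b := by simp only [mul_assoc]
    _ = b * (a * a) * b := by rw [hb, mul_one]; simp only [mul_assoc]
    _ = 1 := by rw [ha, mul_one, hb]

theorem braid_conj {a b : G} (ha : a * a = 1) (hb : b * b = 1) (h : a * b * a = b * a * b) :
    (a * b) * a * (a * b)⁻¹ = b := by
  have hainv : a⁻¹ = a := inv_eq_of_mul_eq_one_right ha
  have hbinv : b⁻¹ = b := inv_eq_of_mul_eq_one_right hb
  rw [mul_inv_rev, hainv, hbinv, h]
  calc b * a * b * (b * a) = b * a * (b * b) * a := by simp only [mul_assoc]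
    _ = b * (a * a) := by rw [hb, mul_one]; simp only [mul_assoc]
    _ = b := by rw [ha, mul_one]

end GroupBraid

section ReflGen

variable {ι : Type} [Fintype ι] [DecidableEq ι] {F : Type*} [Field F]
variable {Q : (ι → F) → F}

theorem polar_isometry_gl {g : Matrix.GeneralLinearGroup ι F} (hg : g ∈ isometryGroup F Q)
    (x y : ι → F) :
    QuadraticMap.polar Q ((g : Matrix ι ι F) *ᵥ x) ((g : Matrix ι ι F) *ᵥ y)
      = QuadraticMap.polar Q x y := by
  simp only [QuadraticMap.polar, ← Matrix.mulVec_add, (mem_isometryGroup_iff g).1 hg]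

theorem gl_mul_inv_mulVec (g : Matrix.GeneralLinearGroup ι F) (x : ι → F) :
    (g : Matrix ι ι F) *ᵥ (((g⁻¹ : Matrix.GeneralLinearGroup ι F) : Matrix ι ι F) *ᵥ x) = x := by
  rw [Matrix.mulVec_mulVec, ← Units.val_mul, mul_inv_cancel, Units.val_one, Matrix.one_mulVec]

/-- Conjugating a reflection by an isometry. -/
theorem reflGL_conj (hQ : IsNondegenerateQuadraticForm Q) {g : Matrix.GeneralLinearGroup ι F}
    (hg : g ∈ isometryGroup F Q) (a : ι → F) (ha : Q a ≠ 0)
    (ha' : Q ((g : Matrix ι ι F) *ᵥ a) ≠ 0) :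
    g * reflGL hQ a ha * g⁻¹ = reflGL hQ ((g : Matrix ι ι F) *ᵥ a) ha' := by
  apply Units.ext
  apply Matrix.mulVec_injective
  funext x
  rw [reflGL_mulVec, Units.val_mul, Units.val_mul, ← Matrix.mulVec_mulVec, ← Matrix.mulVec_mulVec,
    reflGL_mulVec, Matrix.mulVec_sub, Matrix.mulVec_smul, gl_mul_inv_mulVec,
    (mem_isometryGroup_iff g).1 hg a]
  congr 3
  conv_rhs => rw [← gl_mul_inv_mulVec g x]
  rw [polar_isometry_gl hg]

/-- The reflection only depends on the line spanned by its centre. -/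
theorem reflGL_smul (hQ : IsNondegenerateQuadraticForm Q) (a : ι → F) (ha : Q a ≠ 0) (t : F)
    (ht : t ≠ 0) (ha' : Q (t • a) ≠ 0) : reflGL hQ (t • a) ha' = reflGL hQ a ha := by
  apply Units.ext
  apply Matrix.mulVec_injective
  funext x
  rw [reflGL_mulVec, reflGL_mulVec, Q_smul hQ, B_smul_left hQ, smul_smul]
  congr 2
  field_simp

theorem reflGL_congr (hQ : IsNondegenerateQuadraticForm Q) {a b : ι → F} (hab : a = b) (ha : Q a ≠ 0)
    (hb : Q b ≠ 0) : reflGL hQ a ha = reflGL hQ b hb := by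
  subst hab; rfl

theorem reflGL_mul_self (hQ : IsNondegenerateQuadraticForm Q) (a : ι → F) (ha : Q a ≠ 0) :
    reflGL hQ a ha * reflGL hQ a ha = 1 := by
  have h := inv_mul_cancel (reflGL hQ a ha)
  rwa [reflGL_inv] at h

theorem reflGL_ne_one (hQ : IsNondegenerateQuadraticForm Q) (h2 : (2 : F) ≠ 0) (a : ι → F)
    (ha : Q a ≠ 0) : reflGL hQ a ha ≠ 1 := by
  intro h
  have h1 := reflGL_mulVec hQ a ha a
  rw [h, Units.val_one, Matrix.one_mulVec, B_self hQ] at h1
  have h3 : (Q a)⁻¹ * (2 * Q a) = 2 := by field_simp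
  rw [h3] at h1
  have h4 : (2 : F) • a = 0 := by
    have : a - (a - (2 : F) • a) = 0 := by rw [← h1]; simp
    simpa using this
  rcases smul_eq_zero.mp h4 with h5 | h5
  · exact h2 h5
  · apply ha
    rw [h5, Q_zero hQ]

/-- The functional `x ↦ B(v, x)`. -/
noncomputable def polarLin (hQ : IsNondegenerateQuadraticForm Q) (v : ι → F) : (ι → F) →ₗ[F] F where
  toFun x := QuadraticMap.polar Q v x
  map_add' x y := B_add_right hQ v x y
  map_smul' c x := by simp [B_smul_right hQ]

/-- In odd characteristic, an orthogonal family of fewer than `n` non-singular vectors has a non-singular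
vector orthogonal to all its members. -/
theorem exists_perp_nonsingular (hQ : IsNondegenerateQuadraticForm Q) (h2 : (2 : F) ≠ 0) {k : ℕ}
    (a : Fin k → ι → F) (hk : k < Fintype.card ι) (ha : ∀ i, Q (a i) ≠ 0)
    (hab : ∀ i j, i ≠ j → QuadraticMap.polar Q (a i) (a j) = 0) :
    ∃ z, (∀ i, QuadraticMap.polar Q (a i) z = 0) ∧ Q z ≠ 0 := by
  let φ : (ι → F) →ₗ[F] (Fin k → F) := LinearMap.pi (fun i => polarLin hQ (a i))
  have hφ : ∀ x, x ∈ LinearMap.ker φ ↔ ∀ i, QuadraticMap.polar Q (a i) x = 0 := by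
    intro x
    rw [LinearMap.mem_ker]
    constructor
    · intro h i
      exact congrFun h i
    · intro h
      funext i
      exact h i
  have h1 := LinearMap.finrank_range_add_finrank_ker φ
  rw [Module.finrank_fintype_fun_eq_card] at h1
  have h3 : Module.finrank F (LinearMap.range φ) ≤ k := by
    have := Submodule.finrank_le (LinearMap.range φ)
    rwa [Module.finrank_fintype_fun_eq_card, Fintype.card_fin] at this
  have hpos : 0 < Module.finrank F (LinearMap.ker φ) := by omega
  obtain ⟨⟨z₀, hz₀mem⟩, hz₀ne⟩ := Module.finrank_pos_iff_exists_ne_zero.mp hpos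
  have hz₀ : z₀ ≠ 0 := fun h => hz₀ne (Subtype.ext h)
  have hz₀a := (hφ z₀).1 hz₀mem
  by_contra hall
  push Not at hall
  obtain ⟨-, ⟨x, hx⟩⟩ := hQ.nondegenerate z₀ hz₀
  apply hx
  -- decompose x
  obtain ⟨w, hw⟩ : ∃ w, w = x - ∑ i, (QuadraticMap.polar Q (a i) x / QuadraticMap.polar Q (a i) (a i)) • a i :=
    ⟨_, rfl⟩
  have hself : ∀ i, QuadraticMap.polar Q (a i) (a i) ≠ 0 := by
    intro i
    rw [B_self hQ]
    exact mul_ne_zero h2 (ha i)
  have hwa : ∀ j, QuadraticMap.polar Q (a j) w = 0 := by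
    intro j
    rw [hw, B_sub_right hQ, B_sum_right hQ, Finset.sum_eq_single j]
    · rw [B_smul_right hQ, div_mul_cancel₀ _ (hself j), sub_self]
    · intro i _ hij
      rw [B_smul_right hQ, hab j i (Ne.symm hij), mul_zero]
    · intro h; exact absurd (Finset.mem_univ j) h
  have hQw : Q w = 0 := hall w hwa
  have hQz : Q z₀ = 0 := hall z₀ hz₀a
  have hQzw : Q (z₀ + w) = 0 := by
    apply hall
    intro i
    rw [B_add_right hQ, hz₀a i, hwa i, add_zero]
  have hzw : QuadraticMap.polar Q z₀ w = 0 := by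
    have := Q_add (Q := Q) z₀ w
    rw [hQzw, hQz, hQw] at this
    simpa using this.symm
  have hx' : x = w + ∑ i, (QuadraticMap.polar Q (a i) x / QuadraticMap.polar Q (a i) (a i)) • a i := by
    rw [hw]; abel
  rw [hx', B_add_right hQ, hzw, B_sum_right hQ, zero_add]
  apply Finset.sum_eq_zero
  intro i _
  rw [B_smul_right hQ, B_comm z₀ (a i), hz₀a i, mul_zero]

end ReflGen

section Refl3

variable {ι : Type} [Fintype ι] [DecidableEq ι] {F : Type*} [Field F]
variable {Q : (ι → F) → F}

theorem refl_comm_of_perp (hQ : IsNondegenerateQuadraticForm Q) {a b : ι → F} (ha : Q a ≠ 0)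
    (hb : Q b ≠ 0) (hab : QuadraticMap.polar Q a b = 0) :
    reflGL hQ a ha * reflGL hQ b hb = reflGL hQ b hb * reflGL hQ a ha := by
  have hfix : ((reflGL hQ a ha : Matrix.GeneralLinearGroup ι F) : Matrix ι ι F) *ᵥ b = b := by
    rw [reflGL_mulVec, hab, mul_zero, zero_smul, sub_zero]
  have hb' : Q (((reflGL hQ a ha : Matrix.GeneralLinearGroup ι F) : Matrix ι ι F) *ᵥ b) ≠ 0 := by
    rw [hfix]; exact hb
  have h := reflGL_conj hQ (reflGL_mem_isometryGroup hQ a ha) b hb hb'
  rw [reflGL_congr hQ hfix hb' hb] at h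
  calc reflGL hQ a ha * reflGL hQ b hb
      = (reflGL hQ a ha * reflGL hQ b hb * (reflGL hQ a ha)⁻¹) * reflGL hQ a ha := by
        simp only [mul_assoc, inv_mul_cancel, mul_one]
    _ = reflGL hQ b hb * reflGL hQ a ha := by rw [h]

variable [Fintype F]

theorem F3_eq_or_neg (hq3 : Fintype.card F = 3) {s t : F} (hs : s ≠ 0) (ht : t ≠ 0) :
    s = t ∨ s = -t := by
  rcases F3_cases hq3 s with h | h | h <;> rcases F3_cases hq3 t with h' | h' | h' <;> simp_all

/-- Over the field with three elements, an orthogonal family of `k ≤ n - 2` non-singular vectors has in its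
orthogonal complement vectors of every non-zero norm. -/
theorem exists_perp_of_norm (hq3 : Fintype.card F = 3) (hQ : IsNondegenerateQuadraticForm Q) {k : ℕ}
    (a : Fin k → ι → F) (hk : k + 2 ≤ Fintype.card ι) (ha : ∀ i, Q (a i) ≠ 0)
    (hab : ∀ i j, i ≠ j → QuadraticMap.polar Q (a i) (a j) = 0) {t : F} (ht : t ≠ 0) :
    ∃ z, (∀ i, QuadraticMap.polar Q (a i) z = 0) ∧ Q z = t := by
  have h2 : (2 : F) ≠ 0 := two_ne_zero_of_card_three hq3
  obtain ⟨z₁, hz₁a, hz₁⟩ := exists_perp_nonsingular hQ h2 a (by omega) ha hab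
  rcases F3_eq_or_neg hq3 hz₁ ht with h | h
  · exact ⟨z₁, hz₁a, h⟩
  have ha' : ∀ i : Fin (k + 1), Q ((Fin.cons z₁ a : Fin (k + 1) → ι → F) i) ≠ 0 := by
    intro i
    refine Fin.cases ?_ (fun j => ?_) i
    · simpa using hz₁
    · simpa using ha j
  have hab' : ∀ i j : Fin (k + 1), i ≠ j →
      QuadraticMap.polar Q ((Fin.cons z₁ a : Fin (k + 1) → ι → F) i)
        ((Fin.cons z₁ a : Fin (k + 1) → ι → F) j) = 0 := by
    intro i j
    refine Fin.cases ?_ (fun i' => ?_) i <;> refine Fin.cases ?_ (fun j' => ?_) j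
    · intro h; exact absurd rfl h
    · intro _
      simp only [Fin.cons_zero, Fin.cons_succ]
      rw [B_comm]; exact hz₁a j'
    · intro _
      simp only [Fin.cons_zero, Fin.cons_succ]
      exact hz₁a i'
    · intro hij
      simp only [Fin.cons_succ]
      apply hab
      intro h; apply hij; rw [h]
  obtain ⟨z₂, hz₂a, hz₂⟩ := exists_perp_nonsingular hQ h2 (Fin.cons z₁ a : Fin (k + 1) → ι → F)
    (by omega) ha' hab'
  have hz₂a' : ∀ i, QuadraticMap.polar Q (a i) z₂ = 0 := by
    intro i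
    have := hz₂a i.succ
    simpa using this
  have hz₁₂ : QuadraticMap.polar Q z₁ z₂ = 0 := by
    have := hz₂a 0
    simpa using this
  rcases F3_eq_or_neg hq3 hz₂ ht with h' | h'
  · exact ⟨z₂, hz₂a', h'⟩
  · refine ⟨z₁ + z₂, fun i => ?_, ?_⟩
    · rw [B_add_right hQ, hz₁a i, hz₂a' i, add_zero]
    · rw [Q_add (Q := Q), h, h', hz₁₂]
      linear_combination (-t) * F3_three hq3

theorem refl_braid (hq3 : Fintype.card F = 3) (hQ : IsNondegenerateQuadraticForm Q) {a b : ι → F}
    (ha : Q a ≠ 0) (hb : Q b ≠ 0) (hQab : Q a = Q b) (hab : QuadraticMap.polar Q a b ≠ 0) :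
    reflGL hQ a ha * reflGL hQ b hb * reflGL hQ a ha
      = reflGL hQ b hb * reflGL hQ a ha * reflGL hQ b hb := by
  obtain ⟨ε, hε⟩ : ∃ ε, ε = (Q a)⁻¹ * QuadraticMap.polar Q a b := ⟨_, rfl⟩
  have hε0 : ε ≠ 0 := by rw [hε]; exact mul_ne_zero (inv_ne_zero ha) hab
  have hεsq : ε * ε = 1 := sq_eq_one_of_card_le_three (by omega) hε0
  have hab1 : ((reflGL hQ a ha : Matrix.GeneralLinearGroup ι F) : Matrix ι ι F) *ᵥ b = b - ε • a := by
    rw [reflGL_mulVec, hε]
  have hba1 : ((reflGL hQ b hb : Matrix.GeneralLinearGroup ι F) : Matrix ι ι F) *ᵥ a = a - ε • b := by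
    rw [reflGL_mulVec, hε, ← hQab, B_comm b a]
  have hb' : Q (((reflGL hQ a ha : Matrix.GeneralLinearGroup ι F) : Matrix ι ι F) *ᵥ b) ≠ 0 := by
    rw [(mem_isometryGroup_iff _).1 (reflGL_mem_isometryGroup hQ a ha)]; exact hb
  have ha' : Q (((reflGL hQ b hb : Matrix.GeneralLinearGroup ι F) : Matrix ι ι F) *ᵥ a) ≠ 0 := by
    rw [(mem_isometryGroup_iff _).1 (reflGL_mem_isometryGroup hQ b hb)]; exact ha
  have h1 := reflGL_conj hQ (reflGL_mem_isometryGroup hQ a ha) b hb hb'
  have h2 := reflGL_conj hQ (reflGL_mem_isometryGroup hQ b hb) a ha ha'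
  rw [reflGL_inv] at h1 h2
  rw [h1, h2]
  have hrel : ((reflGL hQ b hb : Matrix.GeneralLinearGroup ι F) : Matrix ι ι F) *ᵥ a
      = (-ε) • (((reflGL hQ a ha : Matrix.GeneralLinearGroup ι F) : Matrix ι ι F) *ᵥ b) := by
    rw [hab1, hba1, smul_sub, smul_smul, neg_mul, hεsq]
    simp only [neg_smul, one_smul]
    abel
  have hne : Q ((-ε) • (((reflGL hQ a ha : Matrix.GeneralLinearGroup ι F) : Matrix ι ι F) *ᵥ b)) ≠ 0 := by
    rw [← hrel]; exact ha'
  rw [reflGL_congr hQ hrel ha' hne, reflGL_smul hQ _ hb' (-ε) (neg_ne_zero.mpr hε0) hne]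

end Refl3

section Refl3Class

variable {ι : Type} [Fintype ι] [DecidableEq ι] {F : Type*} [Field F] [Fintype F]
variable {Q : (ι → F) → F}

/-- The reflection in a vector of norm `c`, as an element of the reflection subgroup. -/
noncomputable def reflSub (hQ : IsNondegenerateQuadraticForm Q) {c : F} (hc : c ≠ 0) (a : ι → F)
    (ha : Q a = c) : reflectionSubgroup Q c :=
  ⟨⟨reflGL hQ a (by rw [ha]; exact hc), reflGL_mem_isometryGroup hQ a _⟩,
    Subgroup.subset_closure ⟨a, ha, rfl⟩⟩

/-- The inclusion of the reflection subgroup into `GL`. -/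
noncomputable def reflSubHom (Q : (ι → F) → F) (c : F) :
    reflectionSubgroup Q c →* Matrix.GeneralLinearGroup ι F :=
  (isometryGroup F Q).subtype.comp (reflectionSubgroup Q c).subtype

theorem reflSubHom_injective (c : F) : Function.Injective (reflSubHom Q c) := by
  intro x y h
  exact Subtype.ext (Subtype.ext h)

theorem reflSubHom_reflSub (hQ : IsNondegenerateQuadraticForm Q) {c : F} (hc : c ≠ 0) (a : ι → F)
    (ha : Q a = c) : reflSubHom Q c (reflSub hQ hc a ha) = reflGL hQ a (by rw [ha]; exact hc) := rfl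

theorem isThreeTranspositionClass_reflections (hq3 : Fintype.card F = 3)
    (hQ : IsNondegenerateQuadraticForm Q) (hn : 4 ≤ Fintype.card ι) {c : F} (hc : c ≠ 0) :
    IsThreeTranspositionClass
      {g : reflectionSubgroup Q c | (g : isometryGroup F Q) ∈ reflectionsOfNorm Q c} := by
  have h2 : (2 : F) ≠ 0 := two_ne_zero_of_card_three hq3
  have hinj := reflSubHom_injective (Q := Q) c
  have hne : ∀ a, Q a = c → Q a ≠ 0 := fun a ha => by rw [ha]; exact hc
  -- members are the `reflSub`
  have hmem : ∀ d : reflectionSubgroup Q c,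
      (d : isometryGroup F Q) ∈ reflectionsOfNorm Q c → ∃ a, ∃ ha : Q a = c, d = reflSub hQ hc a ha := by
    intro d hd
    obtain ⟨a, ha, hmat⟩ := hd
    exact ⟨a, ha, Subtype.ext (Subtype.ext (Units.ext hmat))⟩
  have hmem' : ∀ a (ha : Q a = c),
      ((reflSub hQ hc a ha : reflectionSubgroup Q c) : isometryGroup F Q) ∈ reflectionsOfNorm Q c :=
    fun a ha => ⟨a, ha, rfl⟩
  -- conjugacy step
  have hstep : ∀ a b (ha : Q a = c) (hb : Q b = c), QuadraticMap.polar Q a b ≠ 0 →
      IsConj (reflSub hQ hc a ha) (reflSub hQ hc b hb) := by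
    intro a b ha hb hab
    rw [isConj_iff]
    refine ⟨reflSub hQ hc a ha * reflSub hQ hc b hb, ?_⟩
    apply hinj
    simp only [map_mul, map_inv, reflSubHom_reflSub]
    exact braid_conj (reflGL_mul_self hQ a _) (reflGL_mul_self hQ b _)
      (refl_braid hq3 hQ _ _ (ha.trans hb.symm) hab)
  refine ⟨⟨?_, ?_⟩, ?_, ?_⟩
  · -- order two
    intro d hd
    obtain ⟨a, ha, rfl⟩ := hmem d hd
    have : Fact (Nat.Prime 2) := ⟨Nat.prime_two⟩
    apply orderOf_eq_prime
    · apply hinj
      rw [map_pow, reflSubHom_reflSub, map_one, pow_two]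
      exact reflGL_mul_self hQ a _
    · intro h
      have := congrArg (reflSubHom Q c) h
      rw [reflSubHom_reflSub, map_one] at this
      exact reflGL_ne_one hQ h2 a _ this
  · -- products
    intro d hd e he
    obtain ⟨a, ha, rfl⟩ := hmem d hd
    obtain ⟨b, hb, rfl⟩ := hmem e he
    by_cases hab : QuadraticMap.polar Q a b = 0
    · left
      apply hinj
      rw [map_pow, map_mul, reflSubHom_reflSub, reflSubHom_reflSub, map_one, pow_two]
      have hcomm := refl_comm_of_perp hQ (hne a ha) (hne b hb) hab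
      calc reflGL hQ a (hne a ha) * reflGL hQ b (hne b hb) * (reflGL hQ a (hne a ha) * reflGL hQ b (hne b hb))
          = reflGL hQ a (hne a ha) * reflGL hQ b (hne b hb)
              * (reflGL hQ b (hne b hb) * reflGL hQ a (hne a ha)) := by rw [hcomm]
        _ = reflGL hQ a (hne a ha) * (reflGL hQ b (hne b hb) * reflGL hQ b (hne b hb))
              * reflGL hQ a (hne a ha) := by simp only [mul_assoc]
        _ = 1 := by rw [reflGL_mul_self, mul_one, reflGL_mul_self]
    · right
      apply hinj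
      rw [map_pow, map_mul, reflSubHom_reflSub, reflSubHom_reflSub, map_one]
      exact braid_pow_three (reflGL_mul_self hQ a _) (reflGL_mul_self hQ b _)
        (refl_braid hq3 hQ _ _ (ha.trans hb.symm) hab)
  · -- a single conjugacy class
    obtain ⟨v₀, -, hv₀⟩ := exists_perp_of_norm hq3 hQ (k := 0) (fun i => i.elim0) (by omega)
      (fun i => i.elim0) (fun i => i.elim0) hc
    refine ⟨reflSub hQ hc v₀ hv₀, hmem' v₀ hv₀, ?_⟩
    ext d
    show _ ↔ IsConj (reflSub hQ hc v₀ hv₀) d
    constructor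
    · intro hd
      obtain ⟨v, hv, rfl⟩ := hmem d hd
      by_cases hab : QuadraticMap.polar Q v₀ v = 0
      · -- connect through a third vector
        have hfam : ∀ i : Fin 2, Q ((![v₀, v] : Fin 2 → ι → F) i) ≠ 0 := by
          intro i
          fin_cases i
          · simpa using hne v₀ hv₀
          · simpa using hne v hv
        have hfam' : ∀ i j : Fin 2, i ≠ j →
            QuadraticMap.polar Q ((![v₀, v] : Fin 2 → ι → F) i) ((![v₀, v] : Fin 2 → ι → F) j) = 0 := by
          intro i j hij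
          fin_cases i <;> fin_cases j
          · exact absurd rfl hij
          · simpa using hab
          · simpa [B_comm v v₀] using hab
          · exact absurd rfl hij
        obtain ⟨z, hz, hQz⟩ := exists_perp_of_norm hq3 hQ (![v₀, v] : Fin 2 → ι → F) (by omega) hfam
          hfam' (neg_ne_zero.mpr hc)
        have hz0 : QuadraticMap.polar Q v₀ z = 0 := by simpa using hz 0
        have hz1 : QuadraticMap.polar Q v z = 0 := by simpa using hz 1
        have hQw : Q (v₀ + v + z) = c := by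
          rw [Q_add3 hQ, hv₀, hv, hQz, hab, hz0, hz1]
          ring
        have h1 : QuadraticMap.polar Q v₀ (v₀ + v + z) ≠ 0 := by
          rw [B_add_right hQ, B_add_right hQ, hab, hz0, B_self hQ, hv₀, add_zero, add_zero]
          exact mul_ne_zero h2 hc
        have h3 : QuadraticMap.polar Q (v₀ + v + z) v ≠ 0 := by
          rw [B_add_left hQ, B_add_left hQ, hab, B_comm z v, hz1, B_self hQ, hv, zero_add, add_zero]
          exact mul_ne_zero h2 hc
        exact (hstep v₀ _ hv₀ hQw h1).trans (hstep _ v hQw hv h3)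
      · exact hstep v₀ v hv₀ hv hab
    · intro hd
      rw [isConj_iff] at hd
      obtain ⟨g, rfl⟩ := hd
      have hg : reflSubHom Q c g ∈ isometryGroup F Q := (g : isometryGroup F Q).2
      have hQg : Q (((reflSubHom Q c g : Matrix.GeneralLinearGroup ι F) : Matrix ι ι F) *ᵥ v₀) = c := by
        rw [(mem_isometryGroup_iff _).1 hg]; exact hv₀
      refine ⟨((reflSubHom Q c g : Matrix.GeneralLinearGroup ι F) : Matrix ι ι F) *ᵥ v₀, hQg, ?_⟩
      have := reflGL_conj hQ hg v₀ (hne v₀ hv₀) (hne _ hQg)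
      exact congrArg (fun u : Matrix.GeneralLinearGroup ι F => (u : Matrix ι ι F)) this
  · exact Subgroup.closure_closure_coe_preimage

end Refl3Class

end Cfsg.Agent.Helper94
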