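import Mathlib
import Cfsg.Prelude.Def_LieClassical
import Cfsg.Prelude.Def_ClassicalGeometry
import Cfsg.Prelude.Def_SporadicB
import Cfsg.Agent.Helper45.SUTransv2
import Cfsg.Agent.Helper94.Refl3

set_option autoImplicit false
set_option linter.unusedSimpArgs false
set_option linter.unusedVariables false
set_option linter.unusedSectionVars false
set_option linter.style.haveILetI false
open Matrix

/-!
# Unitary transvections of `SU_n(2)` are 3-transpositions

Over the field with four elements, a rank one element of `SU_n(2)` is `1 + v v^*` with `v`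
isotropic; two such either commute or braid.
-/

namespace Cfsg.Agent.Helper94

open Cfsg.Agent.Helper45.GU

section SqZero
variable {F : Type*} [Field F] {n : ℕ}

/-- a rank one perturbation of the identity of determinant one has square zero -/
theorem sq_zero_of_rank_one_of_det {S : Matrix (Fin n) (Fin n) F} (hr : (S - 1).rank = 1)
    (hd : S.det = 1) : (S - 1) * (S - 1) = 0 := by
  obtain ⟨u, w, hu, hw, hN⟩ := exists_vecMulVec_of_rank_one (S - 1) hr
  have hS : S = 1 + replicateCol Unit u * replicateRow Unit w := by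
    rw [← vecMulVec_eq, ← hN]; abel
  rw [hS, det_one_add_replicateCol_mul_replicateRow] at hd
  have hwu : w ⬝ᵥ u = 0 := by linear_combination hd
  rw [hN, vecMulVec_mul_vecMulVec, hwu, zero_smul]
  ext i j
  simp [vecMulVec_apply]

end SqZero

section F4
variable {F : Type*} [Field F] [Fintype F] {n : ℕ} (bar : F →+* F)

theorem two_eq_zero_of_card_four (hF : Fintype.card F = 4) : (2 : F) = 0 := by
  have h4 : ((4 : ℕ) : F) = 0 := by rw [← hF]; exact Nat.cast_card_eq_zero F
  have h : (2 : F) ^ 2 = 0 := by push_cast at h4; linear_combination h4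
  exact (pow_eq_zero_iff (n := 2) (by norm_num)).1 h

theorem cube_eq_one_of_card_four (hF : Fintype.card F = 4) {a : F} (ha : a ≠ 0) : a ^ 3 = 1 := by
  have := FiniteField.pow_card_sub_one_eq_one a ha
  rwa [hF] at this

theorem pow_four_of_card_four (hF : Fintype.card F = 4) (a : F) : a ^ 4 = a := by
  have := FiniteField.pow_card a
  rwa [hF] at this

theorem tvMat_smul_center (μ : F) (v : Fin n → F) (c : F) :
    tvMat bar (μ • v) c = tvMat bar v (c * μ * bar μ) := by
  rw [ext_iff_mulVec]
  intro x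
  rw [tvMat_mulVec, tvMat_mulVec, herm_smul_right, smul_smul]
  congr 2
  ring

variable (hbar : ∀ x, bar x = x ^ 2) (hF : Fintype.card F = 4)

include hbar hF in
theorem bar_bar_of_card_four (a : F) : bar (bar a) = a := by
  rw [hbar, hbar, ← pow_mul]
  exact pow_four_of_card_four hF a

include hF in
theorem neg_eq_self_of_card_four (a : F) : -a = a := by
  have h2 := two_eq_zero_of_card_four hF
  linear_combination (-a) * h2

include hbar hF in
theorem mul_bar_eq_one {a : F} (ha : a ≠ 0) : a * bar a = 1 := by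
  rw [hbar, ← pow_succ']
  exact cube_eq_one_of_card_four hF ha

include hbar hF in
/-- a rank one element of `SU_n(2)` is `1 + v v^*` -/
theorem tv_one_of_rank_one (S : Cfsg.SU n F 2)
    (hr : (((S : SpecialLinearGroup (Fin n) F) : Matrix (Fin n) (Fin n) F) - 1).rank = 1) :
    ∃ v : Fin n → F, v ≠ 0 ∧ herm bar v v = 0 ∧
      ((S : SpecialLinearGroup (Fin n) F) : Matrix (Fin n) (Fin n) F) = tvMat bar v 1 := by
  have hinv := bar_bar_of_card_four bar hbar hF
  have hsu := (mem_SU_iff n bar hbar S.1).1 S.2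
  have hsq := sq_zero_of_rank_one_of_det hr S.1.2
  obtain ⟨v, c, hv0, hc0, hvv, hbc, hS⟩ := tv_form bar hinv _ hsu hr hsq
  refine ⟨v, hv0, hvv, ?_⟩
  rw [hS]
  congr 1
  rw [hbar, neg_eq_self_of_card_four hF] at hbc
  have : c * c = c * 1 := by rw [mul_one, ← sq, hbc]
  exact mul_left_cancel₀ hc0 this

include hF in
theorem tv_mul_self (v : Fin n → F) (hvv : herm bar v v = 0) :
    tvMat bar v 1 * tvMat bar v 1 = 1 := by
  rw [tvMat_mul bar v 1 1 hvv, one_add_one_eq_two, two_eq_zero_of_card_four hF, tvMat_zero]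

include hbar hF in
theorem tv_comm_of_orth (v w : Fin n → F) (hvw : herm bar w v = 0) :
    tvMat bar v 1 * tvMat bar w 1 = tvMat bar w 1 * tvMat bar v 1 := by
  have hinv := bar_bar_of_card_four bar hbar hF
  have hwv : herm bar v w = 0 := by
    rw [← herm_conj bar hinv w v, hvw, map_zero]
  rw [ext_iff_mulVec]
  intro x
  rw [tvMat_mul_mulVec_of_orth bar v w 1 1 hvw, tvMat_mul_mulVec_of_orth bar w v 1 1 hwv]
  abel

include hbar hF in
/-- conjugating `1 + w w^*` by `1 + v v^*` -/
theorem tv_conj_tv (v w : Fin n → F) (hvv : herm bar v v = 0) :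
    tvMat bar v 1 * tvMat bar w 1 * tvMat bar v 1 = tvMat bar (w + herm bar w v • v) 1 := by
  have hinv := bar_bar_of_card_four bar hbar hF
  have hc : bar (1 : F) = -1 := by rw [map_one, neg_eq_self_of_card_four hF]
  have h := mul_tvMat_comm bar (tvMat bar v 1) (herm_tvMat bar hinv v 1 hvv hc) w
    (w + herm bar w v • v) 1 1 one_ne_zero (by rw [tvMat_mulVec, one_mul, one_smul])
  rw [h, mul_assoc, tv_mul_self bar hF v hvv, mul_one, map_one, mul_one, mul_one]

include hbar hF in
theorem tv_braid (v w : Fin n → F) (hvv : herm bar v v = 0) (hww : herm bar w w = 0)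
    (ha : herm bar w v ≠ 0) :
    tvMat bar v 1 * tvMat bar w 1 * tvMat bar v 1 = tvMat bar w 1 * tvMat bar v 1 * tvMat bar w 1 := by
  have hinv := bar_bar_of_card_four bar hbar hF
  rw [tv_conj_tv bar hbar hF v w hvv, tv_conj_tv bar hbar hF w v hww]
  obtain ⟨a, haa⟩ : ∃ a, a = herm bar w v := ⟨_, rfl⟩
  have hb : herm bar v w = bar a := by rw [haa, herm_conj bar hinv]
  rw [← haa] at ha ⊢
  rw [hb]
  have h1 : a * bar a = 1 := mul_bar_eq_one bar hbar hF ha
  have hv' : v + bar a • w = bar a • (w + a • v) := by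
    rw [smul_add, smul_smul, mul_comm (bar a) a, h1, one_smul, add_comm]
  rw [hv', tvMat_smul_center, hinv, one_mul, mul_comm (bar a) a, h1]

end F4

section Grp
variable {F : Type*} [Field F] [Fintype F] {n : ℕ}

/-- the set of rank one elements of `SU_n(2)` -/
def suTvSet (n : ℕ) (F : Type*) [Field F] : Set (Cfsg.SU n F 2) :=
  {g | (((g : SpecialLinearGroup (Fin n) F) : Matrix (Fin n) (Fin n) F) - 1).rank = 1}

theorem SU_coe_one :
    (((1 : Cfsg.SU n F 2) : SpecialLinearGroup (Fin n) F) : Matrix (Fin n) (Fin n) F) = 1 := rfl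

theorem isThreeTranspositionSet_suTvSet (hF : Fintype.card F = 4) :
    Cfsg.IsThreeTranspositionSet (suTvSet n F) := by
  classical
  obtain ⟨bar, hbar⟩ := exists_bar (F := F) (q := 2) (by rw [hF]; norm_num)
  have hinv := bar_bar_of_card_four bar hbar hF
  have hsq : ∀ d ∈ suTvSet n F, d * d = 1 := by
    intro d hd
    obtain ⟨v, hv0, hvv, hdv⟩ := tv_one_of_rank_one bar hbar hF d hd
    apply SU_ext
    rw [SU_coe_mul, hdv, tv_mul_self bar hF v hvv]
    rfl
  constructor
  · intro d hd
    haveI : Fact (Nat.Prime 2) := ⟨Nat.prime_two⟩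
    apply orderOf_eq_prime
    · rw [sq]; exact hsq d hd
    · rintro rfl
      have h1 : (((1 : Cfsg.SU n F 2) : SpecialLinearGroup (Fin n) F) :
          Matrix (Fin n) (Fin n) F) - 1 = 0 := by rw [SU_coe_one, sub_self]
      have : (0 : Matrix (Fin n) (Fin n) F).rank = 1 := by rw [← h1]; exact hd
      rw [rank_zero] at this
      exact absurd this (by norm_num)
  · intro d hd e he
    obtain ⟨v, hv0, hvv, hdv⟩ := tv_one_of_rank_one bar hbar hF d hd
    obtain ⟨w, hw0, hww, hew⟩ := tv_one_of_rank_one bar hbar hF e he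
    by_cases ha : herm bar w v = 0
    · left
      have hcomm : d * e = e * d := by
        apply SU_ext
        rw [SU_coe_mul, SU_coe_mul, hdv, hew]
        exact tv_comm_of_orth bar hbar hF v w ha
      rw [sq]
      calc d * e * (d * e) = d * e * (e * d) := by rw [hcomm]
        _ = d * (e * e) * d := by simp only [mul_assoc]
        _ = 1 := by rw [hsq e he, mul_one, hsq d hd]
    · right
      apply braid_pow_three (hsq d hd) (hsq e he)
      apply SU_ext
      rw [SU_coe_mul, SU_coe_mul, SU_coe_mul, SU_coe_mul, hdv, hew]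
      exact tv_braid bar hbar hF v w hvv hww ha

theorem conj_mem_suTvSet (g d : Cfsg.SU n F 2) (hd : d ∈ suTvSet n F) :
    g * d * g⁻¹ ∈ suTvSet n F := by
  classical
  show (_ - 1 : Matrix (Fin n) (Fin n) F).rank = 1
  have h1 : (((g * d * g⁻¹ : Cfsg.SU n F 2) : SpecialLinearGroup (Fin n) F) :
      Matrix (Fin n) (Fin n) F) - 1
      = ((g : SpecialLinearGroup (Fin n) F) : Matrix (Fin n) (Fin n) F)
        * (((d : SpecialLinearGroup (Fin n) F) : Matrix (Fin n) (Fin n) F) - 1)
        * ((g⁻¹ : Cfsg.SU n F 2) : SpecialLinearGroup (Fin n) F) := by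
    have hgg : ((g : SpecialLinearGroup (Fin n) F) : Matrix (Fin n) (Fin n) F)
        * (((g⁻¹ : Cfsg.SU n F 2) : SpecialLinearGroup (Fin n) F) : Matrix (Fin n) (Fin n) F)
        = 1 := by
      rw [← SU_coe_mul, mul_inv_cancel]; rfl
    rw [SU_coe_mul, SU_coe_mul, mul_sub, sub_mul, mul_one, hgg]
  rw [h1, rank_mul_eq_left_of_isUnit_det, rank_mul_eq_right_of_isUnit_det]
  · exact hd
  · rw [g.1.2]; exact isUnit_one
  · rw [(g⁻¹ : Cfsg.SU n F 2).1.2]; exact isUnit_one

theorem isTransvection_of_mem_suTvSet (d : Cfsg.SU n F 2) (hd : d ∈ suTvSet n F) :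
    Cfsg.IsTransvection (((d : GL (Fin n) F) : Matrix (Fin n) (Fin n) F)) :=
  ⟨hd, sq_zero_of_rank_one_of_det hd d.1.2⟩

theorem suTvSet_nonempty (hF : Fintype.card F = 4) (hn : 3 ≤ n) : ∃ d, d ∈ suTvSet n F := by
  classical
  obtain ⟨bar, hbar⟩ := exists_bar (F := F) (q := 2) (by rw [hF]; norm_num)
  have hinv := bar_bar_of_card_four bar hbar hF
  have hne := bar_ne_id (q := 2) (by rw [hF]; norm_num) bar hbar
  obtain ⟨v0, k, hv0, hvv, -⟩ := exists_std_isotropic bar hne hinv hn
  have hc : bar (1 : F) = -1 := by rw [map_one, neg_eq_self_of_card_four hF]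
  refine ⟨tvSU bar hbar hinv v0 1 hvv hc, ?_⟩
  show (_ - 1 : Matrix (Fin n) (Fin n) F).rank = 1
  rw [tvSU_coe]
  exact (isTransvection_tvMat bar v0 1 hv0 one_ne_zero hvv).1

/-- the generators of `S0780` are trivial or of rank one -/
theorem gen_mem_suTvSet (hF : Fintype.card F = 4) (A : Cfsg.SU n F 2) (v : Fin n → F) (c : F)
    (hvv : Cfsg.hermForm n F 2 v v = 0)
    (hA : ((A : SpecialLinearGroup (Fin n) F) : Matrix (Fin n) (Fin n) F)
      = Cfsg.unitaryTransvection n 2 v c) : A = 1 ∨ A ∈ suTvSet n F := by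
  classical
  obtain ⟨bar, hbar⟩ := exists_bar (F := F) (q := 2) (by rw [hF]; norm_num)
  have hA' : ((A : SpecialLinearGroup (Fin n) F) : Matrix (Fin n) (Fin n) F) = tvMat bar v c := by
    rw [hA, Cfsg.unitaryTransvection, tvMat]
    congr 3
    funext j
    exact (hbar (v j)).symm
  by_cases hv : v = 0
  · left
    apply SU_ext
    rw [hA', hv, tvMat]
    rw [SU_coe_one]
    have : vecMulVec (0 : Fin n → F) (bar ∘ (0 : Fin n → F)) = 0 := by
      ext i j; simp [vecMulVec_apply]
    rw [this, smul_zero, add_zero]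
  by_cases hc : c = 0
  · left
    apply SU_ext
    rw [hA', hc, tvMat_zero]
    rfl
  right
  show (_ - 1 : Matrix (Fin n) (Fin n) F).rank = 1
  rw [hA']
  rw [hermForm_eq n bar hbar] at hvv
  exact (isTransvection_tvMat bar v c hv hc hvv).1

end Grp

end Cfsg.Agent.Helper94
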