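import Mathlib
import Cfsg.Prelude.Def_RootSubgroups
import Cfsg.Prelude.Def_LieClassical
import Cfsg.Agent.Helper45.SUTransv2
import Cfsg.Agent.Helper94.RootGlue2
import Cfsg.Agent.Helper94.SUTransp

set_option autoImplicit false
set_option linter.unusedSectionVars false
set_option linter.unusedVariables false
set_option linter.unusedSimpArgs false

/-!
# Unitary transvection groups as root subgroups: basic facts
-/

namespace Cfsg.Agent.Helper94.SURoot

open Matrix Cfsg Cfsg.Agent.Helper45.GU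
open scoped commutatorElement

section Basic
variable {F : Type*} [Field F] [Fintype F] {q n : ℕ} (bar : F →+* F)
  (hbar : ∀ x, bar x = x ^ q) (hinv : ∀ a, bar (bar a) = a)

theorem herm_zero_right (x : Fin n → F) : herm bar x 0 = 0 := by
  simp [herm]

theorem herm_sub_left (x x' y : Fin n → F) :
    herm bar (x - x') y = herm bar x y - herm bar x' y := by
  simp only [herm, Pi.sub_apply, sub_mul, Finset.sum_sub_distrib]

/-- the generating set in the statement -/
def GSet (n q : ℕ) (p : Fin n → F) : Set ↥(Cfsg.SU n F q) :=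
  {g | (∀ v : Fin n → F, ∃ c : F,
      ((g : SpecialLinearGroup (Fin n) F) : Matrix (Fin n) (Fin n) F) *ᵥ v = v + c • p) ∧
    ∀ v : Fin n → F, Cfsg.hermForm n F q v p = 0 →
      ((g : SpecialLinearGroup (Fin n) F) : Matrix (Fin n) (Fin n) F) *ᵥ v = v}

/-- the transvection group with centre `p` -/
def T (n q : ℕ) (p : Fin n → F) : Subgroup ↥(Cfsg.SU n F q) := Subgroup.closure (GSet n q p)

include hbar hinv in
theorem mem_GSet_iff {p : Fin n → F} (hp : p ≠ 0) (hpp : herm bar p p = 0)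
    (g : ↥(Cfsg.SU n F q)) :
    g ∈ GSet n q p ↔ ∃ c : F, bar c = -c ∧
      ((g : SpecialLinearGroup (Fin n) F) : Matrix (Fin n) (Fin n) F) = tvMat bar p c := by
  constructor
  · rintro ⟨h1, h2⟩
    obtain ⟨x0, hx0⟩ := exists_herm_ne_zero bar p hp
    obtain ⟨v0, hv0⟩ : ∃ v0 : Fin n → F, v0 = (herm bar x0 p)⁻¹ • x0 := ⟨_, rfl⟩
    have hv0p : herm bar v0 p = 1 := by
      rw [hv0, herm_smul_left, inv_mul_cancel₀ hx0]
    obtain ⟨c, hc⟩ := h1 v0
    have hform : ∀ v : Fin n → F,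
        ((g : SpecialLinearGroup (Fin n) F) : Matrix (Fin n) (Fin n) F) *ᵥ v
          = v + (c * herm bar v p) • p := by
      intro v
      have hperp : Cfsg.hermForm n F q (v - herm bar v p • v0) p = 0 := by
        rw [hermForm_eq n bar hbar, herm_sub_left, herm_smul_left, hv0p, mul_one, sub_self]
      have h3 := h2 _ hperp
      rw [mulVec_sub, mulVec_smul, hc] at h3
      have h4 : ((g : SpecialLinearGroup (Fin n) F) : Matrix (Fin n) (Fin n) F) *ᵥ v
          = v - herm bar v p • v0 + herm bar v p • (v0 + c • p) := by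
        rw [← h3]; abel
      rw [h4]
      module
    have hsu := (mem_SU_iff n bar hbar g.1).1 g.2 v0 v0
    rw [hform v0, hv0p, mul_one] at hsu
    have hpv0 : herm bar p v0 = 1 := by rw [← herm_conj bar hinv v0 p, hv0p, map_one]
    simp only [herm_add_left, herm_add_right, herm_smul_left, herm_smul_right, hpp, hv0p,
      hpv0] at hsu
    refine ⟨c, ?_, ?_⟩
    · linear_combination hsu
    · rw [ext_iff_mulVec]
      intro v
      rw [hform, tvMat_mulVec]
  · rintro ⟨c, hc, hg⟩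
    constructor
    · intro v
      exact ⟨c * herm bar v p, by rw [hg, tvMat_mulVec]⟩
    · intro v hv
      rw [hermForm_eq n bar hbar] at hv
      rw [hg, tvMat_mulVec, hv, mul_zero, zero_smul, add_zero]

include hbar hinv in
theorem mem_T_iff {p : Fin n → F} (hp : p ≠ 0) (hpp : herm bar p p = 0)
    (g : ↥(Cfsg.SU n F q)) :
    g ∈ T n q p ↔ ∃ c : F, bar c = -c ∧
      ((g : SpecialLinearGroup (Fin n) F) : Matrix (Fin n) (Fin n) F) = tvMat bar p c := by
  constructor
  · intro hg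
    induction hg using Subgroup.closure_induction with
    | mem x hx => exact (mem_GSet_iff bar hbar hinv hp hpp x).mp hx
    | one => exact ⟨0, by simp, by rw [tvMat_zero]; rfl⟩
    | mul x y _ _ hx hy =>
      obtain ⟨c, hc, hxc⟩ := hx
      obtain ⟨d, hd, hyd⟩ := hy
      refine ⟨c + d, by rw [map_add, hc, hd]; ring, ?_⟩
      rw [SU_coe_mul, hxc, hyd, tvMat_mul bar p c d hpp]
    | inv x _ hx =>
      obtain ⟨c, hc, hxc⟩ := hx
      have hc' : bar (-c) = -(-c) := by rw [map_neg, hc]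
      refine ⟨-c, hc', ?_⟩
      have : x⁻¹ = tvSU bar hbar hinv p (-c) hpp hc' := by
        apply inv_eq_of_mul_eq_one_right
        apply SU_ext
        rw [SU_coe_mul, hxc, tvSU_coe, tvMat_mul bar p c (-c) hpp, add_neg_cancel, tvMat_zero]
        rfl
      rw [this, tvSU_coe]
  · rintro ⟨c, hc, hg⟩
    exact Subgroup.subset_closure ((mem_GSet_iff bar hbar hinv hp hpp g).mpr ⟨c, hc, hg⟩)

include hbar hinv in
theorem tvSU_mem_T {p : Fin n → F} (hp : p ≠ 0) (hpp : herm bar p p = 0) (c : F)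
    (hc : bar c = -c) : tvSU bar hbar hinv p c hpp hc ∈ T n q p :=
  (mem_T_iff bar hbar hinv hp hpp _).mpr ⟨c, hc, tvSU_coe bar hbar hinv p c hpp hc⟩

include hbar hinv in
theorem T_comm {p : Fin n → F} (hp : p ≠ 0) (hpp : herm bar p p = 0) :
    IsMulCommutative ↥(T n q p) := by
  refine ⟨⟨?_⟩⟩
  rintro ⟨a, ha⟩ ⟨b, hb⟩
  apply Subtype.ext
  obtain ⟨c, hc, hac⟩ := (mem_T_iff bar hbar hinv hp hpp a).mp ha
  obtain ⟨d, hd, hbd⟩ := (mem_T_iff bar hbar hinv hp hpp b).mp hb
  show a * b = b * a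
  apply SU_ext
  rw [SU_coe_mul, SU_coe_mul, hac, hbd, tvMat_mul bar p c d hpp, tvMat_mul bar p d c hpp, add_comm]

theorem tvMat_eq_one_iff {p : Fin n → F} (hp : p ≠ 0) (c : F) : tvMat bar p c = 1 ↔ c = 0 := by
  constructor
  · intro h
    obtain ⟨x, hx⟩ := exists_herm_ne_zero bar p hp
    have h1 := tvMat_mulVec bar p c x
    rw [h, one_mulVec] at h1
    have h2 : (c * herm bar x p) • p = 0 := by
      have := h1.symm
      rwa [add_eq_left] at this
    rcases smul_eq_zero.mp h2 with h3 | h3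
    · rcases mul_eq_zero.mp h3 with h4 | h4
      · exact h4
      · exact absurd h4 hx
    · exact absurd h3 hp
  · rintro rfl
    exact tvMat_zero bar p

/-- a non-zero element of trace zero -/
theorem exists_trace_zero (hne : bar ≠ RingHom.id F) (hinv : ∀ a, bar (bar a) = a) :
    ∃ θ : F, θ ≠ 0 ∧ bar θ = -θ := by
  obtain ⟨t, ht⟩ := Cfsg.Agent.Helper13.exists_not_fixed bar hne
  refine ⟨t - bar t, sub_ne_zero.mpr (Ne.symm ht), ?_⟩
  rw [map_sub, hinv]
  ring

include hbar hinv in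
theorem T_ne_bot (hne : bar ≠ RingHom.id F) {p : Fin n → F} (hp : p ≠ 0)
    (hpp : herm bar p p = 0) : T n q p ≠ ⊥ := by
  obtain ⟨θ, hθ0, hθ⟩ := exists_trace_zero bar hne hinv
  intro h
  have h1 := tvSU_mem_T bar hbar hinv hp hpp θ hθ
  rw [h, Subgroup.mem_bot] at h1
  have h2 := congrArg (fun g : ↥(Cfsg.SU n F q) =>
    ((g : SpecialLinearGroup (Fin n) F) : Matrix (Fin n) (Fin n) F)) h1
  simp only [tvSU_coe] at h2
  exact hθ0 ((tvMat_eq_one_iff bar hp θ).mp h2)

include hbar in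
theorem su_preserves (g : ↥(Cfsg.SU n F q)) (u v : Fin n → F) :
    herm bar (((g : SpecialLinearGroup (Fin n) F) : Matrix (Fin n) (Fin n) F) *ᵥ u)
      (((g : SpecialLinearGroup (Fin n) F) : Matrix (Fin n) (Fin n) F) *ᵥ v) = herm bar u v :=
  (mem_SU_iff n bar hbar g.1).1 g.2 u v

theorem su_mulVec_inv_mulVec (g : ↥(Cfsg.SU n F q)) (v : Fin n → F) :
    ((g : SpecialLinearGroup (Fin n) F) : Matrix (Fin n) (Fin n) F) *ᵥ
      ((((g⁻¹ : ↥(Cfsg.SU n F q)) : SpecialLinearGroup (Fin n) F) :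
        Matrix (Fin n) (Fin n) F) *ᵥ v) = v := by
  rw [mulVec_mulVec, ← SU_coe_mul, mul_inv_cancel]
  show (1 : Matrix (Fin n) (Fin n) F) *ᵥ v = v
  rw [one_mulVec]

theorem su_inv_mulVec_mulVec (g : ↥(Cfsg.SU n F q)) (v : Fin n → F) :
    (((g⁻¹ : ↥(Cfsg.SU n F q)) : SpecialLinearGroup (Fin n) F) : Matrix (Fin n) (Fin n) F) *ᵥ
      (((g : SpecialLinearGroup (Fin n) F) : Matrix (Fin n) (Fin n) F) *ᵥ v) = v := by
  rw [mulVec_mulVec, ← SU_coe_mul, inv_mul_cancel]
  show (1 : Matrix (Fin n) (Fin n) F) *ᵥ v = v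
  rw [one_mulVec]

theorem su_mulVec_ne_zero (g : ↥(Cfsg.SU n F q)) {p : Fin n → F} (hp : p ≠ 0) :
    ((g : SpecialLinearGroup (Fin n) F) : Matrix (Fin n) (Fin n) F) *ᵥ p ≠ 0 := by
  intro h
  have := su_inv_mulVec_mulVec g p
  rw [h, mulVec_zero] at this
  exact hp this.symm

include hbar hinv in
/-- conjugating a transvection group -/
theorem conjBy_T {p : Fin n → F} (hp : p ≠ 0) (hpp : herm bar p p = 0) (g : ↥(Cfsg.SU n F q)) :
    Cfsg.conjBy (T n q p) g
      = T n q (((g : SpecialLinearGroup (Fin n) F) : Matrix (Fin n) (Fin n) F) *ᵥ p) := by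
  have hgp := su_mulVec_ne_zero g hp
  have hgpp : herm bar (((g : SpecialLinearGroup (Fin n) F) : Matrix (Fin n) (Fin n) F) *ᵥ p)
      (((g : SpecialLinearGroup (Fin n) F) : Matrix (Fin n) (Fin n) F) *ᵥ p) = 0 := by
    rw [su_preserves bar hbar, hpp]
  have key : ∀ (c : F) (x : ↥(Cfsg.SU n F q)),
      ((x : SpecialLinearGroup (Fin n) F) : Matrix (Fin n) (Fin n) F) = tvMat bar p c →
      (((g * x * g⁻¹ : ↥(Cfsg.SU n F q)) : SpecialLinearGroup (Fin n) F) :
        Matrix (Fin n) (Fin n) F)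
        = tvMat bar (((g : SpecialLinearGroup (Fin n) F) : Matrix (Fin n) (Fin n) F) *ᵥ p) c := by
    intro c x hx
    have h1 := mul_tvMat_comm bar ((g : SpecialLinearGroup (Fin n) F) : Matrix (Fin n) (Fin n) F)
      (su_preserves bar hbar g) p
      (((g : SpecialLinearGroup (Fin n) F) : Matrix (Fin n) (Fin n) F) *ᵥ p) c 1 one_ne_zero
      (by rw [one_smul])
    rw [map_one, mul_one, mul_one] at h1
    rw [SU_coe_mul, SU_coe_mul, hx, h1, mul_assoc, ← SU_coe_mul, mul_inv_cancel]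
    show _ * (1 : Matrix (Fin n) (Fin n) F) = _
    rw [mul_one]
  ext x
  rw [Cfsg.Agent.Helper83.mem_conjBy, mem_T_iff bar hbar hinv hp hpp,
    mem_T_iff bar hbar hinv hgp hgpp]
  constructor
  · rintro ⟨c, hc, hx⟩
    refine ⟨c, hc, ?_⟩
    have := key c _ hx
    have h5 : g * (g⁻¹ * x * g) * g⁻¹ = x := by group
    rw [h5] at this
    exact this
  · rintro ⟨c, hc, hx⟩
    refine ⟨c, hc, ?_⟩
    have hc' := hc
    have h2 := key c (tvSU bar hbar hinv p c hpp hc) (tvSU_coe bar hbar hinv p c hpp hc)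
    have h3 : x = g * tvSU bar hbar hinv p c hpp hc * g⁻¹ := by
      apply SU_ext
      rw [hx, h2]
    rw [h3]
    have : g⁻¹ * (g * tvSU bar hbar hinv p c hpp hc * g⁻¹) * g = tvSU bar hbar hinv p c hpp hc := by
      group
    rw [this, tvSU_coe]

include hbar hinv in
theorem T_smul {μ : F} (hμ : μ ≠ 0) {p : Fin n → F} (hp : p ≠ 0) (hpp : herm bar p p = 0) :
    T n q (μ • p) = T n q p := by
  have hμp : μ • p ≠ 0 := smul_ne_zero hμ hp
  have hμpp : herm bar (μ • p) (μ • p) = 0 := by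
    rw [herm_smul_left, herm_smul_right, hpp, mul_zero, mul_zero]
  have hbμ : bar μ ≠ 0 := (map_ne_zero bar).mpr hμ
  ext x
  rw [mem_T_iff bar hbar hinv hμp hμpp, mem_T_iff bar hbar hinv hp hpp]
  constructor
  · rintro ⟨c, hc, hx⟩
    refine ⟨c * μ * bar μ, ?_, ?_⟩
    · rw [map_mul, map_mul, hinv, hc]; ring
    · rw [hx, Cfsg.Agent.Helper94.tvMat_smul_center]
  · rintro ⟨c, hc, hx⟩
    refine ⟨c / (μ * bar μ), ?_, ?_⟩
    · rw [map_div₀, map_mul, hinv, hc]
      field_simp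
    · rw [hx, Cfsg.Agent.Helper94.tvMat_smul_center]
      congr 1
      field_simp

include hbar hinv in
theorem T_commute_of_orth {p r : Fin n → F} (hp : p ≠ 0) (hpp : herm bar p p = 0) (hr : r ≠ 0)
    (hrr : herm bar r r = 0) (h : herm bar p r = 0) : ⁅T n q p, T n q r⁆ = ⊥ := by
  have h' : herm bar r p = 0 := by rw [← herm_conj bar hinv p r, h, map_zero]
  rw [Subgroup.commutator_eq_bot_iff_le_centralizer]
  intro a ha
  rw [Subgroup.mem_centralizer_iff]
  intro b hb
  obtain ⟨c, hc, hac⟩ := (mem_T_iff bar hbar hinv hp hpp a).mp ha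
  obtain ⟨d, hd, hbd⟩ := (mem_T_iff bar hbar hinv hr hrr b).mp hb
  apply SU_ext
  rw [SU_coe_mul, SU_coe_mul, hac, hbd, ext_iff_mulVec]
  intro v
  rw [tvMat_mul_mulVec_of_orth bar r p d c h, tvMat_mul_mulVec_of_orth bar p r c d h']
  abel

include hbar hinv in
theorem T_ne_of_form_ne_zero (hne : bar ≠ RingHom.id F) {p r : Fin n → F} (hp : p ≠ 0)
    (hpp : herm bar p p = 0) (hr : r ≠ 0) (hrr : herm bar r r = 0) (h : herm bar p r ≠ 0) :
    T n q p ≠ T n q r := by
  obtain ⟨θ, hθ0, hθ⟩ := exists_trace_zero bar hne hinv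
  intro hT
  have h1 := tvSU_mem_T bar hbar hinv hp hpp θ hθ
  rw [hT, mem_T_iff bar hbar hinv hr hrr] at h1
  obtain ⟨d, hd, hd2⟩ := h1
  rw [tvSU_coe] at hd2
  have h2 := tvMat_mulVec bar p θ p
  rw [hd2, tvMat_mulVec, hpp, mul_zero, zero_smul, add_zero, add_eq_left] at h2
  rcases smul_eq_zero.mp h2 with h3 | h3
  · rcases mul_eq_zero.mp h3 with h4 | h4
    · rw [h4, tvMat_zero] at hd2
      exact hθ0 ((tvMat_eq_one_iff bar hp θ).mp hd2)
    · exact h h4
  · exact hr h3

end Basic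

end Cfsg.Agent.Helper94.SURoot
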