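import Mathlib
import Cfsg.Agent.Helper94.SURootA

set_option autoImplicit false
set_option linter.unusedSectionVars false
set_option linter.unusedVariables false
set_option linter.unusedSimpArgs false

/-!
# The `SL₂(q)` attached to a hyperbolic pair in the unitary group
-/

namespace Cfsg.Agent.Helper94.SURoot

open Matrix Cfsg Cfsg.Agent.Helper45.GU
open scoped commutatorElement

section SL2
variable {F : Type*} [Field F] [Fintype F] {q n : ℕ} (bar : F →+* F)
  {L : Type*} [Field L] (ι : L →+* F)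

/-- coefficient of `p` -/
def cx (η : F) (g : Matrix.SpecialLinearGroup (Fin 2) L) (P R : F) : F :=
  η * (ι (g 0 0) - 1) * R - η * ι (g 0 1) * P

/-- coefficient of `r` -/
def cy (η : F) (g : Matrix.SpecialLinearGroup (Fin 2) L) (P R : F) : F :=
  η * ι (g 1 0) * R - η * (ι (g 1 1) - 1) * P

/-- the matrix of `g ∈ SL₂(L)` acting on the hyperbolic plane `⟨p, r⟩` -/
def sl2Mat (p r : Fin n → F) (η : F) (g : Matrix.SpecialLinearGroup (Fin 2) L) :
    Matrix (Fin n) (Fin n) F :=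
  1 + vecMulVec p ((η * (ι (g 0 0) - 1)) • (bar ∘ r) - (η * ι (g 0 1)) • (bar ∘ p))
    + vecMulVec r ((η * ι (g 1 0)) • (bar ∘ r) - (η * (ι (g 1 1) - 1)) • (bar ∘ p))

theorem sl2Mat_mulVec (p r : Fin n → F) (η : F) (g : Matrix.SpecialLinearGroup (Fin 2) L)
    (v : Fin n → F) :
    sl2Mat bar ι p r η g *ᵥ v
      = v + cx ι η g (herm bar v p) (herm bar v r) • p
        + cy ι η g (herm bar v p) (herm bar v r) • r := by
  rw [sl2Mat, add_mulVec, add_mulVec, one_mulVec, vecMulVec_mulVec, vecMulVec_mulVec,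
    op_smul_eq_smul, op_smul_eq_smul, sub_dotProduct, sub_dotProduct, smul_dotProduct,
    smul_dotProduct, smul_dotProduct, smul_dotProduct,
    dotProduct_comm (bar ∘ r) v, dotProduct_comm (bar ∘ p) v, ← herm_eq, ← herm_eq]
  rfl

theorem sl2_det' (g : Matrix.SpecialLinearGroup (Fin 2) L) :
    ι (g 0 0) * ι (g 1 1) - ι (g 0 1) * ι (g 1 0) = 1 := by
  have := g.det_coe
  rw [Matrix.det_fin_two] at this
  rw [← map_mul, ← map_mul, ← map_sub, this, map_one]

variable (hinv : ∀ a, bar (bar a) = a) (hι : ∀ x, bar (ι x) = ι x)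

include hinv hι in
theorem sl2Mat_herm {p r : Fin n → F} {θ η : F} (hpp : herm bar p p = 0)
    (hrr : herm bar r r = 0) (hpr : herm bar p r = θ) (hθ : bar θ = -θ) (hη : bar η = -η)
    (hηθ : η * θ = 1) (g : Matrix.SpecialLinearGroup (Fin 2) L) (u v : Fin n → F) :
    herm bar (sl2Mat bar ι p r η g *ᵥ u) (sl2Mat bar ι p r η g *ᵥ v) = herm bar u v := by
  have hrp : herm bar r p = -θ := by rw [← herm_conj bar hinv p r, hpr, hθ]
  have e1 : herm bar p v = bar (herm bar v p) := (herm_conj bar hinv v p).symm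
  have e2 : herm bar r v = bar (herm bar v r) := (herm_conj bar hinv v r).symm
  have hdet := sl2_det' ι g
  simp only [sl2Mat_mulVec, cx, cy, herm_add_left, herm_add_right, herm_smul_left,
    herm_smul_right, map_sub, map_mul, map_one, hι, hη, hpp, hrr, hpr, hrp, e1, e2]
  obtain ⟨P, hP⟩ : ∃ P, P = herm bar u p := ⟨_, rfl⟩
  obtain ⟨R, hR⟩ : ∃ R, R = herm bar u r := ⟨_, rfl⟩
  obtain ⟨P', hP'⟩ : ∃ P', P' = bar (herm bar v p) := ⟨_, rfl⟩
  obtain ⟨R', hR'⟩ : ∃ R', R' = bar (herm bar v r) := ⟨_, rfl⟩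
  rw [← hP, ← hR, ← hP', ← hR']
  linear_combination (η * (R * P' - P * R')) * hdet
    + (η * ((ι (g 0 0) - 1) * (ι (g 1 1) - 1) - ι (g 0 1) * ι (g 1 0)) * (R * P' - P * R')) * hηθ

include hinv in
theorem sl2Mat_mul {p r : Fin n → F} {θ η : F} (hpp : herm bar p p = 0)
    (hrr : herm bar r r = 0) (hpr : herm bar p r = θ) (hθ : bar θ = -θ)
    (hηθ : η * θ = 1) (g g' : Matrix.SpecialLinearGroup (Fin 2) L) :
    sl2Mat bar ι p r η (g * g') = sl2Mat bar ι p r η g * sl2Mat bar ι p r η g' := by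
  have hrp : herm bar r p = -θ := by rw [← herm_conj bar hinv p r, hpr, hθ]
  rw [ext_iff_mulVec]
  intro v
  rw [← mulVec_mulVec, sl2Mat_mulVec, sl2Mat_mulVec, sl2Mat_mulVec]
  simp only [herm_add_left, herm_smul_left, hpp, hrr, hpr, hrp, mul_zero, add_zero]
  obtain ⟨P, hP⟩ : ∃ P, P = herm bar v p := ⟨_, rfl⟩
  obtain ⟨R, hR⟩ : ∃ R, R = herm bar v r := ⟨_, rfl⟩
  rw [← hP, ← hR]
  have hX : cx ι η (g * g') P R = cx ι η g' P R
      + cx ι η g (P + cy ι η g' P R * -θ) (R + cx ι η g' P R * θ) := by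
    simp only [cx, cy, Matrix.SpecialLinearGroup.coe_mul, Matrix.mul_apply, Fin.sum_univ_two,
      map_add, map_mul]
    linear_combination (-((ι (g 0 0) - 1) * (η * (ι (g' 0 0) - 1) * R - η * ι (g' 0 1) * P)
      + ι (g 0 1) * (η * ι (g' 1 0) * R - η * (ι (g' 1 1) - 1) * P))) * hηθ
  have hY : cy ι η (g * g') P R = cy ι η g' P R
      + cy ι η g (P + cy ι η g' P R * -θ) (R + cx ι η g' P R * θ) := by
    simp only [cx, cy, Matrix.SpecialLinearGroup.coe_mul, Matrix.mul_apply, Fin.sum_univ_two,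
      map_add, map_mul]
    linear_combination (-(ι (g 1 0) * (η * (ι (g' 0 0) - 1) * R - η * ι (g' 0 1) * P)
      + (ι (g 1 1) - 1) * (η * ι (g' 1 0) * R - η * (ι (g' 1 1) - 1) * P))) * hηθ
  rw [hX, hY]
  module

theorem sl2Mat_U (p r : Fin n → F) (η : F) (b : L) :
    sl2Mat bar ι p r η (Cfsg.Agent.S5016.U b) = tvMat bar p (-(η * ι b)) := by
  rw [ext_iff_mulVec]
  intro v
  rw [sl2Mat_mulVec, tvMat_mulVec, cx, cy, Cfsg.Agent.S5016.U_apply]
  simp

theorem sl2Mat_L (p r : Fin n → F) (η : F) (c : L) :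
    sl2Mat bar ι p r η (Cfsg.Agent.S5016.L c) = tvMat bar r (η * ι c) := by
  rw [ext_iff_mulVec]
  intro v
  rw [sl2Mat_mulVec, tvMat_mulVec, cx, cy, Cfsg.Agent.S5016.L_apply]
  simp

include hinv in
theorem sl2Mat_det {p r : Fin n → F} {θ η : F} (hpp : herm bar p p = 0)
    (hrr : herm bar r r = 0) (hpr : herm bar p r = θ) (hθ : bar θ = -θ)
    (hηθ : η * θ = 1) (g : Matrix.SpecialLinearGroup (Fin 2) L) :
    (sl2Mat bar ι p r η g).det = 1 := by
  refine Matrix.SL2.transvection_induction (fun g => (sl2Mat bar ι p r η g).det = 1) ?_ ?_ g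
  · intro i j hij c
    fin_cases i <;> fin_cases j
    · exact absurd rfl hij
    · show (sl2Mat bar ι p r η (Cfsg.Agent.S5016.U c)).det = 1
      rw [sl2Mat_U, det_tvMat bar p _ hpp]
    · show (sl2Mat bar ι p r η (Cfsg.Agent.S5016.L c)).det = 1
      rw [sl2Mat_L, det_tvMat bar r _ hrr]
    · exact absurd rfl hij
  · intro A B hA hB
    show (sl2Mat bar ι p r η (A * B)).det = 1
    rw [sl2Mat_mul bar ι hinv hpp hrr hpr hθ hηθ, det_mul, hA, hB, mul_one]

end SL2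

section Hom
variable {F : Type*} [Field F] [Fintype F] {q n : ℕ} (bar : F →+* F)
  {L : Type*} [Field L] (ι : L →+* F)
  (hbar : ∀ x, bar x = x ^ q) (hinv : ∀ a, bar (bar a) = a) (hι : ∀ x, bar (ι x) = ι x)

/-- the homomorphism `SL₂(L) → SU_n(q)` attached to a hyperbolic pair -/
def sl2Hom {p r : Fin n → F} {θ η : F} (hpp : herm bar p p = 0)
    (hrr : herm bar r r = 0) (hpr : herm bar p r = θ) (hθ : bar θ = -θ) (hη : bar η = -η)
    (hηθ : η * θ = 1) : Matrix.SpecialLinearGroup (Fin 2) L →* ↥(Cfsg.SU n F q) :=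
  MonoidHom.mk' (fun g => ⟨⟨sl2Mat bar ι p r η g, sl2Mat_det bar ι hinv hpp hrr hpr hθ hηθ g⟩,
      (mem_SU_iff n bar hbar _).2
        (fun u v => sl2Mat_herm bar ι hinv hι hpp hrr hpr hθ hη hηθ g u v)⟩)
    (fun g g' => SU_ext (sl2Mat_mul bar ι hinv hpp hrr hpr hθ hηθ g g'))

theorem sl2Hom_coe {p r : Fin n → F} {θ η : F} (hpp : herm bar p p = 0)
    (hrr : herm bar r r = 0) (hpr : herm bar p r = θ) (hθ : bar θ = -θ) (hη : bar η = -η)
    (hηθ : η * θ = 1) (g : Matrix.SpecialLinearGroup (Fin 2) L) :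
    (((sl2Hom bar ι hbar hinv hι hpp hrr hpr hθ hη hηθ g : ↥(Cfsg.SU n F q)) :
      SpecialLinearGroup (Fin n) F) : Matrix (Fin n) (Fin n) F) = sl2Mat bar ι p r η g := rfl

theorem map_upper (hsurj : ∀ y : F, bar y = y → ∃ x : L, ι x = y)
    {p r : Fin n → F} {θ η : F} (hp : p ≠ 0) (hpp : herm bar p p = 0)
    (hrr : herm bar r r = 0) (hpr : herm bar p r = θ) (hθ : bar θ = -θ) (hη : bar η = -η)
    (hηθ : η * θ = 1) :
    (Cfsg.upperUnipotentSL2 L).map (sl2Hom bar ι hbar hinv hι hpp hrr hpr hθ hη hηθ)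
      = T n q p := by
  ext x
  rw [Subgroup.mem_map, mem_T_iff bar hbar hinv hp hpp]
  constructor
  · rintro ⟨g, hg, rfl⟩
    rw [Cfsg.Agent.S5016.eq_U_of_mem hg]
    refine ⟨-(η * ι (g 0 1)), ?_, ?_⟩
    · rw [map_neg, map_mul, hη, hι]; ring
    · rw [sl2Hom_coe, sl2Mat_U]
  · rintro ⟨c, hc, hx⟩
    obtain ⟨b, hb⟩ := hsurj (-θ * c) (by rw [map_mul, map_neg, hθ, hc]; ring)
    refine ⟨Cfsg.Agent.S5016.U b, Cfsg.Agent.S5016.U_mem b, SU_ext ?_⟩
    rw [sl2Hom_coe, sl2Mat_U, hx, hb]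
    congr 1
    linear_combination c * hηθ

theorem map_lower (hsurj : ∀ y : F, bar y = y → ∃ x : L, ι x = y)
    {p r : Fin n → F} {θ η : F} (hr : r ≠ 0) (hpp : herm bar p p = 0)
    (hrr : herm bar r r = 0) (hpr : herm bar p r = θ) (hθ : bar θ = -θ) (hη : bar η = -η)
    (hηθ : η * θ = 1) :
    (Cfsg.lowerUnipotentSL2 L).map (sl2Hom bar ι hbar hinv hι hpp hrr hpr hθ hη hηθ)
      = T n q r := by
  ext x
  rw [Subgroup.mem_map, mem_T_iff bar hbar hinv hr hrr]
  constructor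
  · rintro ⟨g, hg, rfl⟩
    rw [Cfsg.Agent.S5016.eq_L_of_mem hg]
    refine ⟨η * ι (g 1 0), ?_, ?_⟩
    · rw [map_mul, hη, hι]; ring
    · rw [sl2Hom_coe, sl2Mat_L]
  · rintro ⟨c, hc, hx⟩
    obtain ⟨b, hb⟩ := hsurj (θ * c) (by rw [map_mul, hθ, hc]; ring)
    refine ⟨Cfsg.Agent.S5016.L b, Cfsg.Agent.S5016.L_mem b, SU_ext ?_⟩
    rw [sl2Hom_coe, sl2Mat_L, hx, hb]
    congr 1
    linear_combination c * hηθ

theorem sl2Hom_injective {p r : Fin n → F} {θ η : F} (hpp : herm bar p p = 0)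
    (hrr : herm bar r r = 0) (hpr : herm bar p r = θ) (hθ : bar θ = -θ) (hη : bar η = -η)
    (hηθ : η * θ = 1) :
    Function.Injective (sl2Hom bar ι hbar hinv hι hpp hrr hpr hθ hη hηθ) := by
  rw [injective_iff_map_eq_one]
  intro g hg
  have hrp : herm bar r p = -θ := by rw [← herm_conj bar hinv p r, hpr, hθ]
  have hθ0 : θ ≠ 0 := by
    rintro rfl
    rw [mul_zero] at hηθ
    exact zero_ne_one hηθ
  have hM : sl2Mat bar ι p r η g = 1 := by
    rw [← sl2Hom_coe bar ι hbar hinv hι hpp hrr hpr hθ hη hηθ, hg]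
    rfl
  have key : ∀ v : Fin n → F, cx ι η g (herm bar v p) (herm bar v r) = 0 ∧
      cy ι η g (herm bar v p) (herm bar v r) = 0 := by
    intro v
    have h1 := sl2Mat_mulVec bar ι p r η g v
    rw [hM, one_mulVec] at h1
    obtain ⟨x, hx⟩ : ∃ x, x = cx ι η g (herm bar v p) (herm bar v r) := ⟨_, rfl⟩
    obtain ⟨y, hy⟩ : ∃ y, y = cy ι η g (herm bar v p) (herm bar v r) := ⟨_, rfl⟩
    rw [← hx, ← hy] at h1 ⊢
    have h2 : x • p + y • r = 0 := by
      have h3 : v + (x • p + y • r) = v := by rw [← add_assoc]; exact h1.symm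
      rwa [add_eq_left] at h3
    have h3 := congrArg (fun z => herm bar z r) h2
    have h4 := congrArg (fun z => herm bar z p) h2
    simp only [herm_add_left, herm_smul_left, hpp, hrr, hpr, hrp, herm_zero_left, mul_zero,
      add_zero, zero_add, mul_neg, neg_eq_zero, mul_eq_zero, hθ0, or_false] at h3 h4
    exact ⟨h3, h4⟩
  have kp := key p
  have kr := key r
  simp only [cx, cy, hpp, hrr, hpr, hrp, mul_zero, sub_zero, zero_sub, mul_neg, neg_neg,
    neg_zero] at kp kr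
  have ha : ι (g 0 0) = 1 := by
    have := kp.1
    linear_combination this + (1 - ι (g 0 0)) * hηθ
  have hc : ι (g 1 0) = 0 := by
    have := kp.2
    linear_combination this - ι (g 1 0) * hηθ
  have hb : ι (g 0 1) = 0 := by
    have := kr.1
    linear_combination this - ι (g 0 1) * hηθ
  have hd : ι (g 1 1) = 1 := by
    have := kr.2
    linear_combination this + (1 - ι (g 1 1)) * hηθ
  apply Matrix.SpecialLinearGroup.ext
  intro i j
  fin_cases i <;> fin_cases j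
  · show g 0 0 = 1
    exact (map_eq_one_iff ι ι.injective).mp ha
  · show g 0 1 = 0
    exact (map_eq_zero ι).mp hb
  · show g 1 0 = 0
    exact (map_eq_zero ι).mp hc
  · show g 1 1 = 1
    exact (map_eq_one_iff ι ι.injective).mp hd

include hbar hinv hι in
/-- `(T p, T r)` is an image of the unitriangular pair of `SL₂(L)` when `h(p, r) ≠ 0` -/
theorem isSL2Image_T (hne : bar ≠ RingHom.id F) (hsurj : ∀ y : F, bar y = y → ∃ x : L, ι x = y)
    {p r : Fin n → F} (hp : p ≠ 0) (hpp : herm bar p p = 0) (hr : r ≠ 0)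
    (hrr : herm bar r r = 0) (h : herm bar p r ≠ 0) :
    Cfsg.Agent.Helper94.IsSL2Image L (T n q p) (T n q r) := by
  obtain ⟨θ, hθ0, hθ⟩ := exists_trace_zero bar hne hinv
  obtain ⟨μ, hμ⟩ : ∃ μ, μ = bar (θ / herm bar p r) := ⟨_, rfl⟩
  have hμ0 : μ ≠ 0 := by
    rw [hμ]
    exact (map_ne_zero bar).mpr (div_ne_zero hθ0 h)
  have hr' : μ • r ≠ 0 := smul_ne_zero hμ0 hr
  have hrr' : herm bar (μ • r) (μ • r) = 0 := by
    rw [herm_smul_left, herm_smul_right, hrr, mul_zero, mul_zero]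
  have hpr' : herm bar p (μ • r) = θ := by
    rw [herm_smul_right, hμ, hinv, div_mul_cancel₀ _ h]
  have hη : bar θ⁻¹ = -θ⁻¹ := by rw [map_inv₀, hθ, inv_neg]
  have hηθ : θ⁻¹ * θ = 1 := inv_mul_cancel₀ hθ0
  refine ⟨sl2Hom bar ι hbar hinv hι hpp hrr' hpr' hθ hη hηθ, ?_,
    map_upper bar ι hbar hinv hι hsurj hp hpp hrr' hpr' hθ hη hηθ, ?_⟩
  · rw [(MonoidHom.ker_eq_bot_iff _).mpr
      (sl2Hom_injective bar ι hbar hinv hι hpp hrr' hpr' hθ hη hηθ)]
    exact bot_le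
  · rw [map_lower bar ι hbar hinv hι hsurj hr' hpp hrr' hpr' hθ hη hηθ,
      T_smul bar hbar hinv hμ0 hr hrr]

end Hom

end Cfsg.Agent.Helper94.SURoot
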