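import Mathlib
import Cfsg.Agent.Helper94.SURootB

set_option autoImplicit false
set_option linter.unusedSectionVars false
set_option linter.unusedVariables false
set_option linter.unusedSimpArgs false
set_option linter.style.haveILetI false

/-!
# The unitary transvection groups form a degenerate class of `k`-root subgroups
-/

namespace Cfsg.Agent.Helper94.SURoot

open Matrix Cfsg Cfsg.Agent.Helper45.GU
open scoped commutatorElement

section Field
variable {F : Type*} [Field F] [Fintype F] {q : ℕ} (bar : F →+* F)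

/-- a model in `Type` of the fixed field of `bar` -/
theorem exists_small_field (hF : Fintype.card F = q ^ 2) (hne : bar ≠ RingHom.id F)
    (hinv : ∀ a, bar (bar a) = a) :
    ∃ (L : Type) (_ : Field L) (_ : Fintype L) (ι : L →+* F), Fintype.card L = q ∧
      (∀ x, bar (ι x) = ι x) ∧ (∀ y, bar y = y → ∃ x, ι x = y) := by
  classical
  have hK : Fintype.card (Cfsg.Agent.Helper13.fixedField bar) = q := by
    have h1 := Cfsg.Agent.Helper13.card_eq_card_fixedField_sq bar hne hinv
    rw [hF] at h1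
    exact (Nat.pow_left_injective (n := 2) (by norm_num) h1).symm
  obtain ⟨p, hchar, k, hp, hpk⟩ := FiniteField.card' (Cfsg.Agent.Helper13.fixedField bar)
  haveI : Fact p.Prime := ⟨hp⟩
  letI : Fintype (GaloisField p k) := Fintype.ofFinite _
  have hL : Fintype.card (GaloisField p k) = Fintype.card (Cfsg.Agent.Helper13.fixedField bar) := by
    rw [hpk, ← Nat.card_eq_fintype_card, GaloisField.card p k k.ne_zero]
  let e : GaloisField p k ≃+* Cfsg.Agent.Helper13.fixedField bar :=
    FiniteField.ringEquivOfCardEq hL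
  refine ⟨GaloisField p k, inferInstance, inferInstance,
    (Cfsg.Agent.Helper13.fixedField bar).subtype.comp e.toRingHom, hL.trans hK, ?_, ?_⟩
  · intro x
    exact (e x).2
  · intro y hy
    refine ⟨e.symm ⟨y, hy⟩, ?_⟩
    show ((e (e.symm ⟨y, hy⟩) : Cfsg.Agent.Helper13.fixedField bar) : F) = y
    rw [RingEquiv.apply_symm_apply]

end Field

section Geom
variable {F : Type*} [Field F] [Fintype F] {n : ℕ} (bar : F →+* F)

theorem exists_isotropic (hne : bar ≠ RingHom.id F) (hinv : ∀ a, bar (bar a) = a) (hn : 2 ≤ n) :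
    ∃ v : Fin n → F, v ≠ 0 ∧ herm bar v v = 0 := by
  obtain ⟨θ, hθ⟩ := Cfsg.Agent.Helper13.exists_norm_eq bar hne hinv (a := -1)
    (by rw [map_neg, map_one]) (neg_ne_zero.mpr one_ne_zero)
  let i0 : Fin n := ⟨0, by omega⟩
  let i1 : Fin n := ⟨1, by omega⟩
  have h01 : i0 ≠ i1 := by simp [i0, i1, Fin.ext_iff]
  set v0 : Fin n → F := Pi.single i0 1 + θ • Pi.single i1 1 with hv0def
  have hv0i0 : v0 i0 = 1 := by
    simp [hv0def, h01]
  have hv00 : v0 ≠ 0 := by
    intro h
    rw [h] at hv0i0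
    simp at hv0i0
  have hv0v0 : herm bar v0 v0 = 0 := by
    rw [hv0def, herm_add_left, herm_smul_left, herm_single_left, herm_single_left]
    simp only [Pi.add_apply, Pi.smul_apply, Pi.single_apply, smul_eq_mul, if_true, h01, h01.symm,
      if_false, mul_zero, add_zero, mul_one, zero_add, map_one]
    rw [mul_comm]
    linear_combination hθ
  exact ⟨v0, hv00, hv0v0⟩

theorem exists_herm_ne_zero_both {u w : Fin n → F} (hu : u ≠ 0) (hw : w ≠ 0) :
    ∃ x, herm bar x u ≠ 0 ∧ herm bar x w ≠ 0 := by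
  obtain ⟨x1, h1⟩ := exists_herm_ne_zero bar u hu
  obtain ⟨x2, h2⟩ := exists_herm_ne_zero bar w hw
  by_cases h3 : herm bar x1 w = 0
  · by_cases h4 : herm bar x2 u = 0
    · refine ⟨x1 + x2, ?_, ?_⟩
      · rw [herm_add_left, h4, add_zero]; exact h1
      · rw [herm_add_left, h3, zero_add]; exact h2
    · exact ⟨x2, h4, h2⟩
  · exact ⟨x1, h1, h3⟩

/-- an isotropic vector not perpendicular to two given perpendicular isotropic vectors -/
theorem exists_isotropic_both (hne : bar ≠ RingHom.id F) (hinv : ∀ a, bar (bar a) = a)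
    {p r : Fin n → F} (hp : p ≠ 0) (hpp : herm bar p p = 0) (hr : r ≠ 0)
    (hpr : herm bar p r = 0) :
    ∃ x : Fin n → F, x ≠ 0 ∧ herm bar x x = 0 ∧ herm bar x p ≠ 0 ∧ herm bar x r ≠ 0 := by
  obtain ⟨z, hzp, hzr⟩ := exists_herm_ne_zero_both bar hp hr
  have ha : bar (-(herm bar z z)) = -(herm bar z z) := by
    rw [map_neg, herm_conj bar hinv]
  obtain ⟨c, hc⟩ := Cfsg.Agent.Helper13.exists_trace_eq bar hne hinv ha
  have ht : herm bar p z ≠ 0 := by
    rw [← herm_conj bar hinv z p]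
    exact (map_ne_zero bar).mpr hzp
  have hbt : bar (herm bar p z) = herm bar z p := herm_conj bar hinv p z
  obtain ⟨b, hb⟩ : ∃ b, b = c / herm bar p z := ⟨_, rfl⟩
  have hbt2 : b * herm bar p z = c := by rw [hb, div_mul_cancel₀ _ ht]
  have hxp : herm bar (z + b • p) p = herm bar z p := by
    rw [herm_add_left, herm_smul_left, hpp, mul_zero, add_zero]
  have hxr : herm bar (z + b • p) r = herm bar z r := by
    rw [herm_add_left, herm_smul_left, hpr, mul_zero, add_zero]
  refine ⟨z + b • p, ?_, ?_, by rw [hxp]; exact hzp, by rw [hxr]; exact hzr⟩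
  · intro h0
    rw [h0, herm_zero_left] at hxp
    exact hzp hxp.symm
  · have h5 : bar b * herm bar z p = bar c := by
      rw [← hbt2, map_mul, hbt]
    simp only [herm_add_left, herm_add_right, herm_smul_left, herm_smul_right, hpp, mul_zero,
      add_zero]
    linear_combination hbt2 + h5 + hc

end Geom

section Final
variable (F : Type*) [Field F] [Fintype F] (q n : ℕ)

/-- the set of transvection groups, as in the statement -/
def SFam : Set (Subgroup ↥(Cfsg.SU n F q)) :=
  {A | ∃ p : Fin n → F, p ≠ 0 ∧ Cfsg.hermForm n F q p p = 0 ∧ A = T n q p}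

variable {F q n}

theorem SFam_all (hF : Fintype.card F = q ^ 2) (hn : 2 ≤ n) :
    Cfsg.IsRootSubgroupClass (Cfsg.Agent.Helper94.relFam (SFam F q n)) ∧
    Cfsg.IsDegenerateRootSet (Cfsg.Agent.Helper94.relFam (SFam F q n)) ∧
    (∃ (L : Type) (_ : Field L) (_ : Fintype L), Fintype.card L = q ∧
      Cfsg.IsKRootSubgroupSet L (Cfsg.Agent.Helper94.relFam (SFam F q n))) ∧
    Cfsg.IsConnectedFamily (Cfsg.FAdj (Cfsg.Agent.Helper94.relFam (SFam F q n)))
      (Cfsg.Agent.Helper94.relFam (SFam F q n)) := by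
  classical
  obtain ⟨bar, hbar⟩ := exists_bar hF
  have hne := bar_ne_id hF bar hbar
  have hinv : ∀ a, bar (bar a) = a := by
    intro a
    rw [hbar, hbar, ← pow_mul, ← sq, ← hF, FiniteField.pow_card]
  obtain ⟨L, instL, instFL, ι, hcard, hι, hsurj⟩ := exists_small_field bar hF hne hinv
  have hmem : ∀ A ∈ SFam F q n, ∃ p : Fin n → F, p ≠ 0 ∧ herm bar p p = 0 ∧ A = T n q p := by
    rintro A ⟨p, hp, hpp, rfl⟩
    rw [hermForm_eq n bar hbar] at hpp
    exact ⟨p, hp, hpp, rfl⟩
  have hmk : ∀ p : Fin n → F, p ≠ 0 → herm bar p p = 0 → T n q p ∈ SFam F q n := by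
    intro p hp hpp
    exact ⟨p, hp, by rw [hermForm_eq n bar hbar]; exact hpp, rfl⟩
  have hcomm : ∀ A ∈ SFam F q n, IsMulCommutative A := by
    intro A hA
    obtain ⟨p, hp, hpp, rfl⟩ := hmem A hA
    exact T_comm bar hbar hinv hp hpp
  have hnb : ∀ A ∈ SFam F q n, A ≠ ⊥ := by
    intro A hA
    obtain ⟨p, hp, hpp, rfl⟩ := hmem A hA
    exact T_ne_bot bar hbar hinv hne hp hpp
  have hconj : ∀ A ∈ SFam F q n, ∀ g ∈ ⨆ B ∈ SFam F q n, B, Cfsg.conjBy A g ∈ SFam F q n := by
    intro A hA g _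
    obtain ⟨p, hp, hpp, rfl⟩ := hmem A hA
    rw [conjBy_T bar hbar hinv hp hpp g]
    exact hmk _ (su_mulVec_ne_zero g hp) (by rw [su_preserves bar hbar, hpp])
  have hpair : ∀ A ∈ SFam F q n, ∀ B ∈ SFam F q n,
      ⁅A, B⁆ = ⊥ ∨ (A ≠ B ∧ Cfsg.Agent.Helper94.IsSL2Image L A B) := by
    intro A hA B hB
    obtain ⟨p, hp, hpp, rfl⟩ := hmem A hA
    obtain ⟨r, hr, hrr, rfl⟩ := hmem B hB
    by_cases h : herm bar p r = 0
    · exact Or.inl (T_commute_of_orth bar hbar hinv hp hpp hr hrr h)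
    · exact Or.inr ⟨T_ne_of_form_ne_zero bar hbar hinv hne hp hpp hr hrr h,
        isSL2Image_T bar ι hbar hinv hι hne hsurj hp hpp hr hrr h⟩
  have hstep : ∀ p r : Fin n → F, p ≠ 0 → herm bar p p = 0 → r ≠ 0 → herm bar r r = 0 →
      herm bar p r ≠ 0 →
      (T n q p ∈ SFam F q n ∧ T n q r ∈ SFam F q n ∧ T n q p ≠ T n q r ∧
        Cfsg.Agent.Helper94.IsSL2Image L (T n q p) (T n q r)) := by
    intro p r hp hpp hr hrr h
    exact ⟨hmk p hp hpp, hmk r hr hrr, T_ne_of_form_ne_zero bar hbar hinv hne hp hpp hr hrr h,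
      isSL2Image_T bar ι hbar hinv hι hne hsurj hp hpp hr hrr h⟩
  have hconn : ∀ A ∈ SFam F q n, ∀ B ∈ SFam F q n, Relation.ReflTransGen
      (fun X Y => X ∈ SFam F q n ∧ Y ∈ SFam F q n ∧ X ≠ Y ∧
        Cfsg.Agent.Helper94.IsSL2Image L X Y) A B := by
    intro A hA B hB
    obtain ⟨p, hp, hpp, rfl⟩ := hmem A hA
    obtain ⟨r, hr, hrr, rfl⟩ := hmem B hB
    by_cases h : herm bar p r = 0
    · obtain ⟨x, hx, hxx, hxp, hxr⟩ := exists_isotropic_both bar hne hinv hp hpp hr h
      have hpx : herm bar p x ≠ 0 := by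
        rw [← herm_conj bar hinv x p]
        exact (map_ne_zero bar).mpr hxp
      exact Relation.ReflTransGen.tail
        (Relation.ReflTransGen.single (hstep p x hp hpp hx hxx hpx)) (hstep x r hx hxx hr hrr hxr)
    · exact Relation.ReflTransGen.single (hstep p r hp hpp hr hrr h)
  have hK := Cfsg.Agent.Helper94.relFam_kroot L hcomm hnb hconj
    (fun A hA B hB => (hpair A hA B hB).imp_right Or.inl)
  have hC := Cfsg.Agent.Helper94.relFam_connected L hconn
  obtain ⟨v, hv, hvv⟩ := exists_isotropic (n := n) bar hne hinv hn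
  have hnonempty : (Cfsg.Agent.Helper94.relFam (SFam F q n)).Nonempty :=
    ⟨_, T n q v, hmk v hv hvv, rfl⟩
  exact ⟨⟨hK.1, Cfsg.Agent.Helper94.conjClass_of_connected hnonempty hC⟩,
    Cfsg.Agent.Helper94.relFam_degenerate L hnb hpair,
    ⟨L, instL, instFL, hcard, hK⟩, hC⟩

end Final

end Cfsg.Agent.Helper94.SURoot
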