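import Mathlib
import Cfsg.Prelude.Def_GeometricClasses

set_option autoImplicit false
set_option linter.unusedSectionVars false
set_option linter.style.haveILetI false

namespace Cfsg.Agent.Helper94

open Cfsg Cfsg.Geo

section Decomp

variable {ι : Type} [Fintype ι] [DecidableEq ι] {F : Type*} [Field F]
variable {t : ℕ} {D : Fin t → Submodule F (ι → F)}

/-- An m-decomposition is an internal direct sum. -/
theorem isInternal_of_isMDecomposition {m : ℕ} (h : IsMDecomposition m D) : DirectSum.IsInternal D :=
  DirectSum.isInternal_submodule_of_iSupIndep_of_iSup_eq_top h.indep h.iSup_eq_top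

/-- The `i`-th component of `v` in an internal direct sum. -/
noncomputable def comp (h : DirectSum.IsInternal D) (i : Fin t) (v : ι → F) : ι → F :=
  letI := h.chooseDecomposition
  (DirectSum.decompose D v i : D i)

theorem comp_mem (h : DirectSum.IsInternal D) (i : Fin t) (v : ι → F) : comp h i v ∈ D i := by
  unfold comp
  exact Subtype.property _

theorem sum_comp (h : DirectSum.IsInternal D) (v : ι → F) : ∑ i, comp h i v = v := by
  classical
  letI := h.chooseDecomposition
  unfold comp
  conv_rhs => rw [← DirectSum.sum_support_decompose D v]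
  symm
  apply Finset.sum_subset (Finset.subset_univ _)
  intro i _ hi
  rw [DFinsupp.notMem_support_iff] at hi
  rw [hi]
  rfl

theorem comp_of_mem_same (h : DirectSum.IsInternal D) {i : Fin t} {v : ι → F} (hv : v ∈ D i) :
    comp h i v = v := by
  letI := h.chooseDecomposition
  unfold comp
  exact DirectSum.decompose_of_mem_same D hv

theorem comp_of_mem_ne (h : DirectSum.IsInternal D) {i j : Fin t} {v : ι → F} (hv : v ∈ D i)
    (hij : i ≠ j) : comp h j v = 0 := by
  letI := h.chooseDecomposition
  unfold comp
  exact DirectSum.decompose_of_mem_ne D hv hij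

theorem comp_add (h : DirectSum.IsInternal D) (i : Fin t) (v w : ι → F) :
    comp h i (v + w) = comp h i v + comp h i w := by
  letI := h.chooseDecomposition
  unfold comp
  rw [DirectSum.decompose_add]
  rfl

theorem comp_zero (h : DirectSum.IsInternal D) (i : Fin t) :
    comp h i (0 : ι → F) = 0 := by
  letI := h.chooseDecomposition
  unfold comp
  rw [DirectSum.decompose_zero]
  rfl

theorem comp_sum (h : DirectSum.IsInternal D) (i : Fin t) {κ : Type*} (s : Finset κ)
    (f : κ → (ι → F)) : comp h i (∑ k ∈ s, f k) = ∑ k ∈ s, comp h i (f k) := by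
  classical
  induction s using Finset.induction_on with
  | empty => simp [comp_zero]
  | insert a s ha ih => rw [Finset.sum_insert ha, Finset.sum_insert ha, comp_add, ih]

/-- Uniqueness of the components. -/
theorem comp_eq_of_sum (h : DirectSum.IsInternal D) (c : Fin t → (ι → F)) (hc : ∀ i, c i ∈ D i)
    (i : Fin t) : comp h i (∑ j, c j) = c i := by
  rw [comp_sum]
  rw [Finset.sum_eq_single i]
  · exact comp_of_mem_same h (hc i)
  · intro j _ hji
    exact comp_of_mem_ne h (hc j) hji
  · intro hi
    exact absurd (Finset.mem_univ i) hi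

theorem card_eq_of_isMDecomposition {k : ℕ} (h : IsMDecomposition k D) :
    t * k = Fintype.card ι := by
  have hI := isInternal_of_isMDecomposition h
  have e := LinearEquiv.ofBijective (DirectSum.coeLinearMap D) hI
  have h1 := LinearEquiv.finrank_eq e
  rw [Module.finrank_directSum, Module.finrank_fintype_fun_eq_card] at h1
  rw [← h1]
  simp [h.finrank_eq]

/-- If `g` maps `D i` onto `D (σ i)` for all `i`, then the `σ i`-component of `g v` is `g` applied
to the `i`-component of `v`. -/
theorem comp_mulVec_of_perm (h : DirectSum.IsInternal D) (g : Matrix ι ι F) (σ : Equiv.Perm (Fin t))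
    (hσ : ∀ i, (D i).map (Matrix.toLin' g) = D (σ i)) (i : Fin t) (v : ι → F) :
    comp h (σ i) (g.mulVec v) = g.mulVec (comp h i v) := by
  have hv : g.mulVec v = ∑ j, g.mulVec (comp h (σ.symm j) v) := by
    conv_lhs => rw [← sum_comp h v]
    rw [Matrix.mulVec_sum]
    exact (Equiv.sum_comp σ.symm (fun j => g.mulVec (comp h j v))).symm
  rw [hv, comp_eq_of_sum h (fun j => g.mulVec (comp h (σ.symm j) v))]
  · simp
  · intro j
    have : g.mulVec (comp h (σ.symm j) v) ∈ (D (σ.symm j)).map (Matrix.toLin' g) :=
      ⟨comp h (σ.symm j) v, comp_mem h _ v, by simp [Matrix.toLin'_apply]⟩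
    rw [hσ, Equiv.apply_symm_apply] at this
    exact this

end Decomp

end Cfsg.Agent.Helper94
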