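import Cfsg.Agent.Helper94.QuadGeom
import Cfsg.Agent.Helper94.Decomp

set_option autoImplicit false
set_option linter.unusedSectionVars false

namespace Cfsg.Agent.Helper94

open Cfsg Cfsg.Geo
open scoped Matrix

section Frame

variable {ι : Type} [Fintype ι] [DecidableEq ι] {F : Type*} [Field F]
variable {Q : (ι → F) → F}

/-- If `g` maps a set into itself and so does `g⁻¹`, then `g` stabilises the set. -/
theorem mem_stabilizing_of_maps {S : Set (ι → F)} (g : Matrix.GeneralLinearGroup ι F)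
    (h1 : ∀ v ∈ S, (g : Matrix ι ι F) *ᵥ v ∈ S)
    (h2 : ∀ v ∈ S, ((g⁻¹ : Matrix.GeneralLinearGroup ι F) : Matrix ι ι F) *ᵥ v ∈ S) :
    g ∈ stabilizing (glToMat ι F) S := by
  intro v
  simp only [Units.coeHom_apply]
  refine ⟨h1 v, fun hv => ?_⟩
  have := h2 _ hv
  rwa [Matrix.mulVec_mulVec, ← Units.val_mul, inv_mul_cancel, Units.val_one, Matrix.one_mulVec] at this

variable {t k : ℕ} {D : Fin t → Submodule F (ι → F)}

/-- Elements of the decomposition stabiliser preserving `Q` stabilise the set of vectors of value `ε`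
lying in some member. -/
theorem stab_decomp_le_stab_frame (ε : F) {g : Matrix.GeneralLinearGroup ι F}
    (hg : g ∈ decompositionStabilizer D) (hgQ : g ∈ isometryGroup F Q) :
    g ∈ stabilizing (glToMat ι F) {v | ∃ i, v ∈ D i ∧ Q v = ε} := by
  have key : ∀ g : Matrix.GeneralLinearGroup ι F, g ∈ decompositionStabilizer D →
      g ∈ isometryGroup F Q → ∀ v ∈ {v | ∃ i, v ∈ D i ∧ Q v = ε},
        (g : Matrix ι ι F) *ᵥ v ∈ {v | ∃ i, v ∈ D i ∧ Q v = ε} := by
    rintro g ⟨σ, hσ⟩ hgQ v ⟨i, hvi, hQv⟩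
    refine ⟨σ i, ?_, ?_⟩
    · rw [← hσ i]
      exact ⟨v, hvi, by simp [Matrix.toLin'_apply]⟩
    · rw [(mem_isometryGroup_iff g).mp hgQ, hQv]
  exact mem_stabilizing_of_maps g (key g hg hgQ) (key g⁻¹ (inv_mem hg) (inv_mem hgQ))

/-- Data of a "frame": a value `ε` and one distinguished vector `p i` of value `ε` in each member such
that every vector of value `ε` in `D i` is `± p i` or orthogonal to `p i`. -/
structure IsFrameData (Q : (ι → F) → F) (D : Fin t → Submodule F (ι → F)) (ε : F)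
    (p : Fin t → (ι → F)) : Prop where
  mem : ∀ i, p i ∈ D i
  val : ∀ i, Q (p i) = ε
  dich : ∀ i, ∀ v ∈ D i, Q v = ε → v = p i ∨ v = - p i ∨ QuadraticMap.polar Q v (p i) = 0

theorem refl_diff_maps_frame (hQ : IsNondegenerateQuadraticForm Q) (h2 : (2 : F) ≠ 0)
    (hD : IsNondegenerateMDecomposition (QuadraticMap.polar Q) k D) {ε : F} (hε : ε ≠ 0)
    {p : Fin t → (ι → F)} (hp : IsFrameData Q D ε p) {i j : Fin t} (hij : i ≠ j)
    (ha : Q (p i - p j) ≠ 0) :
    ∀ v ∈ {v | ∃ l, v ∈ D l ∧ Q v = ε},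
      ((reflGL hQ (p i - p j) ha : Matrix.GeneralLinearGroup ι F) : Matrix ι ι F) *ᵥ v
        ∈ {v | ∃ l, v ∈ D l ∧ Q v = ε} := by
  have o := hD.orthogonal
  have hpij : QuadraticMap.polar Q (p i) (p j) = 0 := o i j hij _ (hp.mem i) _ (hp.mem j)
  have hpji : QuadraticMap.polar Q (p j) (p i) = 0 := o j i (Ne.symm hij) _ (hp.mem j) _ (hp.mem i)
  have hQa : Q (p i - p j) = 2 * ε := by
    rw [Q_sub hQ, hp.val, hp.val, hpij]; ring
  have hinv : (Q (p i - p j))⁻¹ * (2 * ε) = 1 := by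
    rw [hQa]; exact inv_mul_cancel₀ (mul_ne_zero h2 hε)
  have hpii : QuadraticMap.polar Q (p i) (p i) = 2 * ε := by rw [B_self hQ, hp.val]
  have hpjj : QuadraticMap.polar Q (p j) (p j) = 2 * ε := by rw [B_self hQ, hp.val]
  rintro v ⟨l, hvl, hQv⟩
  by_cases hli : l = i
  · subst hli
    have hvj : QuadraticMap.polar Q (p j) v = 0 := o j l (Ne.symm hij) _ (hp.mem j) _ hvl
    rcases hp.dich l v hvl hQv with rfl | rfl | hvp
    · rw [refl_apply_eq hQ _ ha _ 1 (by rw [B_sub_left hQ, hpii, hpji, sub_zero, hinv])]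
      refine ⟨j, ?_, ?_⟩
      · have : p l - (1 : F) • (p l - p j) = p j := by module
        rw [this]; exact hp.mem j
      · have : p l - (1 : F) • (p l - p j) = p j := by module
        rw [this]; exact hp.val j
    · rw [refl_apply_eq hQ _ ha _ (-1) (by
        rw [B_sub_left hQ, B_neg_right hQ, B_neg_right hQ, hpii, hpji]
        linear_combination -hinv)]
      have : -p l - (-1 : F) • (p l - p j) = -p j := by module
      rw [this]
      exact ⟨j, (D j).neg_mem (hp.mem j), by rw [Q_neg hQ, hp.val]⟩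
    · rw [refl_apply_eq hQ _ ha _ 0 (by
        rw [B_sub_left hQ, hvj, B_comm (p l) v, hvp]; ring)]
      rw [zero_smul, sub_zero]
      exact ⟨l, hvl, hQv⟩
  · by_cases hlj : l = j
    · subst hlj
      have hvi : QuadraticMap.polar Q (p i) v = 0 := o i l hij _ (hp.mem i) _ hvl
      rcases hp.dich l v hvl hQv with rfl | rfl | hvp
      · rw [refl_apply_eq hQ _ ha _ (-1) (by
          rw [B_sub_left hQ, hpjj, hpij]
          linear_combination -hinv)]
        have : p l - (-1 : F) • (p i - p l) = p i := by module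
        rw [this]
        exact ⟨i, hp.mem i, hp.val i⟩
      · rw [refl_apply_eq hQ _ ha _ 1 (by
          rw [B_sub_left hQ, B_neg_right hQ, B_neg_right hQ, hpjj, hpij]
          linear_combination hinv)]
        have : -p l - (1 : F) • (p i - p l) = -p i := by module
        rw [this]
        exact ⟨i, (D i).neg_mem (hp.mem i), by rw [Q_neg hQ, hp.val]⟩
      · rw [refl_apply_eq hQ _ ha _ 0 (by
          rw [B_sub_left hQ, hvi, B_comm (p l) v, hvp]; ring)]
        rw [zero_smul, sub_zero]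
        exact ⟨l, hvl, hQv⟩
    · have hvi : QuadraticMap.polar Q (p i) v = 0 := o i l (Ne.symm hli) _ (hp.mem i) _ hvl
      have hvj : QuadraticMap.polar Q (p j) v = 0 := o j l (Ne.symm hlj) _ (hp.mem j) _ hvl
      rw [refl_apply_eq hQ _ ha _ 0 (by rw [B_sub_left hQ, hvi, hvj]; ring)]
      rw [zero_smul, sub_zero]
      exact ⟨l, hvl, hQv⟩

/-- General non-maximality theorem from frame data (odd characteristic, at least four members). -/
theorem exists_between_of_frame (hQ : IsNondegenerateQuadraticForm Q) (h2 : (2 : F) ≠ 0)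
    (hD : IsNondegenerateMDecomposition (QuadraticMap.polar Q) k D) (ht : 4 ≤ t)
    {ε : F} (hε : ε ≠ 0) {p : Fin t → (ι → F)} (hp : IsFrameData Q D ε p)
    (hq : ∀ i, ∃ q ∈ D i, q ≠ 0 ∧ QuadraticMap.polar Q q (p i) = 0) :
    ∃ K : Subgroup (Matrix.GeneralLinearGroup ι F),
      decompositionStabilizer D ⊓ omegaGL Q < K ∧ K < omegaGL Q := by
  have hI : DirectSum.IsInternal D := isInternal_of_isMDecomposition hD.decomp
  have o := hD.orthogonal
  let i0 : Fin t := ⟨0, by omega⟩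
  let i1 : Fin t := ⟨1, by omega⟩
  let i2 : Fin t := ⟨2, by omega⟩
  let i3 : Fin t := ⟨3, by omega⟩
  have h01 : i0 ≠ i1 := by simp [i0, i1, Fin.ext_iff]
  have h02 : i0 ≠ i2 := by simp [i0, i2, Fin.ext_iff]
  have h03 : i0 ≠ i3 := by simp [i0, i3, Fin.ext_iff]
  have h12 : i1 ≠ i2 := by simp [i1, i2, Fin.ext_iff]
  have h13 : i1 ≠ i3 := by simp [i1, i3, Fin.ext_iff]
  have h23 : i2 ≠ i3 := by simp [i2, i3, Fin.ext_iff]
  have h4 : (4 : F) ≠ 0 := by
    have : (4 : F) = 2 * 2 := by norm_num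
    rw [this]; exact mul_ne_zero h2 h2
  have hpne : ∀ i, p i ≠ 0 := by
    intro i h
    have := hp.val i
    rw [h, Q_zero hQ] at this
    exact hε this.symm
  -- orthogonality of the distinguished vectors
  have hpp : ∀ i j, i ≠ j → QuadraticMap.polar Q (p i) (p j) = 0 :=
    fun i j hij => o i j hij _ (hp.mem i) _ (hp.mem j)
  have hpself : ∀ i, QuadraticMap.polar Q (p i) (p i) = 2 * ε := by
    intro i; rw [B_self hQ, hp.val]
  have hQdiff : ∀ i j, i ≠ j → Q (p i - p j) = 2 * ε := by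
    intro i j hij
    rw [Q_sub hQ, hp.val, hp.val, hpp i j hij]; ring
  have hQdiff0 : ∀ i j, i ≠ j → Q (p i - p j) ≠ 0 := by
    intro i j hij; rw [hQdiff i j hij]; exact mul_ne_zero h2 hε
  set L : Set (ι → F) := {v | ∃ l, v ∈ D l ∧ Q v = ε} with hL
  have hpL : ∀ i, p i ∈ L := fun i => ⟨i, hp.mem i, hp.val i⟩
  -- reflections in differences stabilise L
  have hrefl : ∀ i j (hij : i ≠ j), reflGL hQ (p i - p j) (hQdiff0 i j hij) ∈
      stabilizing (glToMat ι F) L := by
    intro i j hij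
    apply mem_stabilizing_of_maps
    · exact refl_diff_maps_frame hQ h2 hD hε hp hij _
    · rw [reflGL_inv]
      exact refl_diff_maps_frame hQ h2 hD hε hp hij _
  refine ⟨stabilizing (glToMat ι F) L ⊓ omegaGL Q, ?_, ?_⟩
  · rw [SetLike.lt_iff_le_and_exists]
    set a := p i0 - p i1 with ha
    set b := p i1 - p i2 with hb
    have hQa0 := hQdiff0 i0 i1 h01
    have hQb0 := hQdiff0 i1 i2 h12
    have hinva : (Q a)⁻¹ * (2 * ε) = 1 := by
      rw [hQdiff i0 i1 h01]; exact inv_mul_cancel₀ (mul_ne_zero h2 hε)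
    have hinvb : (Q b)⁻¹ * (2 * ε) = 1 := by
      rw [hQdiff i1 i2 h12]; exact inv_mul_cancel₀ (mul_ne_zero h2 hε)
    set ra := reflGL hQ a hQa0 with hra
    set rb := reflGL hQ b hQb0 with hrb
    obtain ⟨q0, hq0mem, hq0ne, hq0p⟩ := hq i0
    have e1 : (rb : Matrix ι ι F) *ᵥ p i0 = p i0 := by
      rw [refl_apply_eq hQ b hQb0 _ 0 (by
        rw [hb, B_sub_left hQ, hpp i1 i0 (Ne.symm h01), hpp i2 i0 (Ne.symm h02)]; ring)]
      rw [zero_smul, sub_zero]
    have e2 : (ra : Matrix ι ι F) *ᵥ p i0 = p i1 := by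
      rw [refl_apply_eq hQ a hQa0 _ 1 (by
        rw [ha, B_sub_left hQ, hpself, hpp i1 i0 (Ne.symm h01), sub_zero, hinva])]
      rw [ha]; module
    have e3 : (rb : Matrix ι ι F) *ᵥ p i1 = p i2 := by
      rw [refl_apply_eq hQ b hQb0 _ 1 (by
        rw [hb, B_sub_left hQ, hpself, hpp i2 i1 (Ne.symm h12), sub_zero, hinvb])]
      rw [hb]; module
    have e4 : (ra : Matrix ι ι F) *ᵥ p i2 = p i2 := by
      rw [refl_apply_eq hQ a hQa0 _ 0 (by
        rw [ha, B_sub_left hQ, hpp i0 i2 h02, hpp i1 i2 h12]; ring)]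
      rw [zero_smul, sub_zero]
    have hq0a : (ra : Matrix ι ι F) *ᵥ q0 = q0 := by
      rw [refl_apply_eq hQ a hQa0 _ 0 (by
        rw [ha, B_sub_left hQ, B_comm (p i0) q0, hq0p, o i1 i0 (Ne.symm h01) _ (hp.mem i1) _ hq0mem]
        ring)]
      rw [zero_smul, sub_zero]
    have hq0b : (rb : Matrix ι ι F) *ᵥ q0 = q0 := by
      rw [refl_apply_eq hQ b hQb0 _ 0 (by
        rw [hb, B_sub_left hQ, o i1 i0 (Ne.symm h01) _ (hp.mem i1) _ hq0mem,
          o i2 i0 (Ne.symm h02) _ (hp.mem i2) _ hq0mem]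
        ring)]
      rw [zero_smul, sub_zero]
    refine ⟨?_, ra * rb * ra * rb, ⟨?_, reflComm_mem_omegaGL hQ a b hQa0 hQb0⟩, ?_⟩
    · intro g hg
      exact ⟨stab_decomp_le_stab_frame ε hg.1 (omegaGL_le_isometryGroup hg.2), hg.2⟩
    · exact mul_mem (mul_mem (mul_mem (hrefl i0 i1 h01) (hrefl i1 i2 h12)) (hrefl i0 i1 h01))
        (hrefl i1 i2 h12)
    · rintro ⟨⟨σ, hσ⟩, -⟩
      have himg : ∀ x ∈ D i0, ((ra * rb * ra * rb : Matrix.GeneralLinearGroup ι F) :
          Matrix ι ι F) *ᵥ x ∈ D (σ i0) := by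
        intro x hx
        rw [← hσ i0]
        exact ⟨x, hx, by rw [Matrix.toLin'_apply]⟩
      have hp2 := himg _ (hp.mem i0)
      rw [reflComm_mulVec, e1, e2, e3, e4] at hp2
      have hq0' := himg _ hq0mem
      rw [reflComm_mulVec, hq0b, hq0a, hq0b, hq0a] at hq0'
      have hs2 : σ i0 = i2 := by
        by_contra hcon
        apply hpne i2
        rw [← comp_of_mem_same hI (hp.mem i2), comp_of_mem_ne hI hp2 hcon]
      have hs0 : σ i0 = i0 := by
        by_contra hcon
        apply hq0ne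
        rw [← comp_of_mem_same hI hq0mem, comp_of_mem_ne hI hq0' hcon]
      exact h02 (hs0.symm.trans hs2)
  · rw [SetLike.lt_iff_le_and_exists]
    set c := p i0 + p i1 + p i2 + p i3 with hc
    have hcp0 : QuadraticMap.polar Q c (p i0) = 2 * ε := by
      rw [hc, B_add_left hQ, B_add_left hQ, B_add_left hQ, hpself, hpp i1 i0 (Ne.symm h01),
        hpp i2 i0 (Ne.symm h02), hpp i3 i0 (Ne.symm h03)]
      ring
    have hp0c : QuadraticMap.polar Q (p i0) c = 2 * ε := by rw [B_comm, hcp0]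
    have hQc : Q c = 4 * ε := by
      rw [hc, Q_add (Q := Q), Q_add (Q := Q), Q_add (Q := Q), hp.val, hp.val, hp.val, hp.val,
        B_add_left hQ, B_add_left hQ, B_add_left hQ, hpp i0 i1 h01, hpp i0 i2 h02, hpp i1 i2 h12,
        hpp i0 i3 h03, hpp i1 i3 h13, hpp i2 i3 h23]
      ring
    have hQc0 : Q c ≠ 0 := by rw [hQc]; exact mul_ne_zero h4 hε
    have hcc : QuadraticMap.polar Q c c = 8 * ε := by rw [B_self hQ, hQc]; ring
    have hQp0 : Q (p i0) ≠ 0 := by rw [hp.val]; exact hε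
    have hinvc : (Q c)⁻¹ * (4 * ε) = 1 := by rw [hQc]; exact inv_mul_cancel₀ (mul_ne_zero h4 hε)
    have hinvp : (Q (p i0))⁻¹ * ε = 1 := by rw [hp.val]; exact inv_mul_cancel₀ hε
    have hhalf : (2 : F)⁻¹ * 2 = 1 := inv_mul_cancel₀ h2
    set rc := reflGL hQ c hQc0 with hrc
    set rp := reflGL hQ (p i0) hQp0 with hrp
    have e1 : (rp : Matrix ι ι F) *ᵥ p i0 = - p i0 := by
      rw [refl_apply_eq hQ _ hQp0 _ 2 (by rw [hpself, hp.val]; field_simp)]
      module
    have e2 : (rc : Matrix ι ι F) *ᵥ (- p i0) = - p i0 + (2 : F)⁻¹ • c := by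
      rw [refl_apply_eq hQ _ hQc0 _ (-(2 : F)⁻¹) (by
        rw [B_neg_right hQ, hcp0, hQc]; field_simp; ring)]
      module
    have e3 : (rp : Matrix ι ι F) *ᵥ (- p i0 + (2 : F)⁻¹ • c) = (2 : F)⁻¹ • c := by
      rw [refl_apply_eq hQ _ hQp0 _ (-1) (by
        rw [B_add_right hQ, B_neg_right hQ, B_smul_right hQ, hpself, hp0c, hp.val]; field_simp; ring)]
      module
    have e4 : (rc : Matrix ι ι F) *ᵥ ((2 : F)⁻¹ • c) = - (2 : F)⁻¹ • c := by
      rw [refl_apply_eq hQ _ hQc0 _ 1 (by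
        rw [B_smul_right hQ, hcc, hQc]; field_simp; ring)]
      have : (2 : F)⁻¹ • c - (1 : F) • c = - (2 : F)⁻¹ • c := by
        have h : (2 : F)⁻¹ - 1 = - (2 : F)⁻¹ := by
          field_simp; ring
        rw [← sub_smul, h]
      exact this
    refine ⟨inf_le_right, rc * rp * rc * rp, reflComm_mem_omegaGL hQ c (p i0) hQc0 hQp0, ?_⟩
    rintro ⟨hstab, -⟩
    have := (hstab (p i0)).mp (hpL i0)
    simp only [Units.coeHom_apply] at this
    rw [reflComm_mulVec, e1, e2, e3, e4] at this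
    obtain ⟨l, hl, -⟩ := this
    have hhalf0 : (-(2 : F)⁻¹) ≠ 0 := neg_ne_zero.mpr (inv_ne_zero h2)
    have hc1 : comp hI i1 (-(2 : F)⁻¹ • c) = -(2 : F)⁻¹ • p i1 := by
      rw [hc, smul_add, smul_add, smul_add, comp_add, comp_add, comp_add,
        comp_of_mem_ne hI ((D i0).smul_mem _ (hp.mem i0)) h01,
        comp_of_mem_same hI ((D i1).smul_mem _ (hp.mem i1)),
        comp_of_mem_ne hI ((D i2).smul_mem _ (hp.mem i2)) (Ne.symm h12),
        comp_of_mem_ne hI ((D i3).smul_mem _ (hp.mem i3)) (Ne.symm h13)]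
      simp
    have hc2 : comp hI i2 (-(2 : F)⁻¹ • c) = -(2 : F)⁻¹ • p i2 := by
      rw [hc, smul_add, smul_add, smul_add, comp_add, comp_add, comp_add,
        comp_of_mem_ne hI ((D i0).smul_mem _ (hp.mem i0)) h02,
        comp_of_mem_ne hI ((D i1).smul_mem _ (hp.mem i1)) h12,
        comp_of_mem_same hI ((D i2).smul_mem _ (hp.mem i2)),
        comp_of_mem_ne hI ((D i3).smul_mem _ (hp.mem i3)) (Ne.symm h23)]
      simp
    have hl1 : l = i1 := by
      by_contra hcon
      have := comp_of_mem_ne hI hl hcon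
      rw [hc1] at this
      rcases smul_eq_zero.mp this with h | h
      · exact hhalf0 h
      · exact hpne i1 h
    have hl2 : l = i2 := by
      by_contra hcon
      have := comp_of_mem_ne hI hl hcon
      rw [hc2] at this
      rcases smul_eq_zero.mp this with h | h
      · exact hhalf0 h
      · exact hpne i2 h
    exact h12 (hl1.symm.trans hl2)

end Frame

end Cfsg.Agent.Helper94
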