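import Cfsg.Agent.Helper94.Frame3

set_option autoImplicit false
set_option linter.unusedSectionVars false

namespace Cfsg.Agent.Helper94

open Cfsg Cfsg.Geo
open scoped Matrix

section Frame2

variable {ι : Type} [Fintype ι] [DecidableEq ι] {F : Type*} [Field F] [Fintype F]
variable {Q : (ι → F) → F}

/-- Existence of an orthogonal basis for a two-dimensional subspace on which the polar form is
nondegenerate (characteristic not two). -/
theorem exists_orthogonal_pair (h2 : (2 : F) ≠ 0) (hQ : IsNondegenerateQuadraticForm Q)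
    {W : Submodule F (ι → F)} (hdim : Module.finrank F W = 2)
    (hW : IsNondegenerateOn (QuadraticMap.polar Q) W) :
    ∃ x y : ι → F, x ∈ W ∧ y ∈ W ∧ Q x ≠ 0 ∧ Q y ≠ 0 ∧ QuadraticMap.polar Q x y = 0 ∧
      ∀ v ∈ W, ∃ a b : F, v = a • x + b • y := by
  classical
  haveI : Invertible (2 : F) := invertibleOfNonzero h2
  let Bw : LinearMap.BilinForm F W := LinearMap.mk₂ F
    (fun u v : W => QuadraticMap.polar Q (u : ι → F) (v : ι → F))
    (fun u u' v => by simp [B_add_left hQ])
    (fun c u v => by simp [B_smul_left hQ])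
    (fun u v v' => by simp [B_add_right hQ])
    (fun c u v => by simp [B_smul_right hQ])
  have hBw : ∀ u v : W, Bw u v = QuadraticMap.polar Q (u : ι → F) (v : ι → F) := fun u v => rfl
  have hsymm : LinearMap.IsSymm Bw := LinearMap.isSymm_def.mpr (fun u v => by
    simp only [RingHom.id_apply]
    rw [hBw, hBw, B_comm])
  obtain ⟨b, hb⟩ := LinearMap.BilinForm.exists_orthogonal_basis hsymm
  have hsep : Bw.SeparatingLeft := by
    intro u hu
    by_contra hu0
    have hu0' : (u : ι → F) ≠ 0 := fun h => hu0 (Subtype.ext h)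
    obtain ⟨-, ⟨y, hyW, hy⟩⟩ := hW u u.2 hu0'
    exact hy (hu ⟨y, hyW⟩)
  have hself : ∀ i, Bw (b i) (b i) ≠ 0 :=
    fun i => LinearMap.IsOrthoᵢ.not_isOrtho_basis_self_of_separatingLeft hb hsep i
  have hQne : ∀ i, Q ((b i : W) : ι → F) ≠ 0 := by
    intro i h
    apply hself i
    rw [hBw, B_self hQ, h, mul_zero]
  have horth : ∀ i j, i ≠ j → QuadraticMap.polar Q ((b i : W) : ι → F) ((b j : W) : ι → F) = 0 := by
    intro i j hij
    have : Bw (b i) (b j) = 0 := hb hij
    rw [hBw] at this
    exact this
  let e : Fin 2 ≃ Fin (Module.finrank F W) := finCongr hdim.symm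
  refine ⟨b (e 0), b (e 1), (b (e 0)).2, (b (e 1)).2, hQne _, hQne _,
    horth _ _ (by simp [e, Fin.ext_iff]), ?_⟩
  intro v hv
  have hrepr := b.sum_repr ⟨v, hv⟩
  set c := b.repr ⟨v, hv⟩ with hc
  refine ⟨c (e 0), c (e 1), ?_⟩
  have h' := congrArg (fun u : W => (u : ι → F)) hrepr
  simp only at h'
  refine h'.symm.trans ?_
  rw [← Equiv.sum_comp e, Fin.sum_univ_two]
  simp

/-- Over the field with three elements, the stabiliser in `Ω` of an orthogonal decomposition into
isometric two-dimensional members is not maximal. -/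
theorem exists_between_of_orth2 (hq3 : Fintype.card F = 3) (hQ : IsNondegenerateQuadraticForm Q)
    {t : ℕ} {D : Fin t → Submodule F (ι → F)} (hD : IsOrthogonalMDecomposition Q 2 D) (ht : 4 ≤ t) :
    ∃ K : Subgroup (Matrix.GeneralLinearGroup ι F),
      decompositionStabilizer D ⊓ omegaGL Q < K ∧ K < omegaGL Q := by
  classical
  have h2 : (2 : F) ≠ 0 := two_ne_zero_of_card_three hq3
  let i0 : Fin t := ⟨0, by omega⟩
  obtain ⟨x, y, hx, hy, hQx, hQy, hxy, hspan⟩ := exists_orthogonal_pair h2 hQ
    (hD.decomp.decomp.finrank_eq i0) (hD.decomp.nondegenerate i0)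
  choose φ hφ using fun i => hD.isometric i0 i
  let X : D i0 := ⟨x, hx⟩
  let Y : D i0 := ⟨y, hy⟩
  have hp : IsFrameData Q D (Q x) (fun i => ((φ i X : D i) : ι → F)) := by
    refine ⟨fun i => (φ i X).2, fun i => by rw [hφ i X], ?_⟩
    intro i v hv hQv
    set v' : D i0 := (φ i).symm ⟨v, hv⟩ with hv'
    have hvv' : ((φ i v' : D i) : ι → F) = v := by
      rw [hv', LinearEquiv.apply_symm_apply]
    have hQv' : Q (v' : ι → F) = Q x := by rw [← hφ i v', hvv', hQv]
    have hpol : ∀ u : D i0, QuadraticMap.polar Q v ((φ i u : D i) : ι → F)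
        = QuadraticMap.polar Q (v' : ι → F) (u : ι → F) := by
      intro u
      rw [← hvv']
      exact polar_isometry (φ i) (hφ i) v' u
    obtain ⟨a, b, hab⟩ := hspan _ v'.2
    have hval : Q (a • x + b • y) = a ^ 2 * Q x + b ^ 2 * Q y := by
      rw [Q_add (Q := Q), Q_smul hQ, Q_smul hQ, B_smul_left hQ, B_smul_right hQ, hxy]; ring
    rw [hab, hval] at hQv'
    have h3 := F3_three hq3
    rcases F3_cases hq3 a with rfl | rfl | rfl
    · -- a = 0: orthogonal
      right; right
      rw [hpol X, hab]
      show QuadraticMap.polar Q ((0 : F) • x + b • y) x = 0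
      rw [B_add_left hQ, B_smul_left hQ, B_smul_left hQ, B_comm y x, hxy]; ring
    · rcases F3_cases hq3 b with rfl | rfl | rfl
      · left
        rw [← hvv']
        congr 2
        apply Subtype.ext
        rw [hab]; simp [X]
      · exfalso; apply hQy; linear_combination hQv'
      · exfalso; apply hQy; linear_combination hQv'
    · rcases F3_cases hq3 b with rfl | rfl | rfl
      · right; left
        rw [← hvv']
        have : v' = -X := by
          apply Subtype.ext
          rw [hab]; simp [X]
        rw [this, map_neg]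
        rfl
      · exfalso; apply hQy; linear_combination hQv'
      · exfalso; apply hQy; linear_combination hQv'
  refine exists_between_of_frame hQ h2 hD.decomp ht hQx hp ?_
  intro i
  refine ⟨((φ i Y : D i) : ι → F), (φ i Y).2, ?_, ?_⟩
  · intro h0
    have := hφ i Y
    rw [h0, Q_zero hQ] at this
    exact hQy this.symm
  · rw [polar_isometry (φ i) (hφ i) Y X]
    show QuadraticMap.polar Q y x = 0
    rw [B_comm, hxy]

end Frame2

end Cfsg.Agent.Helper94
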