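import Cfsg.Agent.Helper94.Quad

set_option autoImplicit false
set_option linter.unusedSectionVars false

namespace Cfsg.Agent.Helper94

open Cfsg Cfsg.Geo
open scoped Matrix

section QuadOdd

variable {F : Type*} [Field F] {m : ℕ}

theorem polar_quadFormOdd (u v : Unit ⊕ (Fin m ⊕ Fin m) → F) :
    QuadraticMap.polar (quadFormOdd m F) u v =
      2 * u (.inl ()) * v (.inl ()) +
        ∑ i : Fin m, (u (.inr (.inl i)) * v (.inr (.inr i)) + u (.inr (.inr i)) * v (.inr (.inl i))) := by
  simp only [QuadraticMap.polar, quadFormOdd, Pi.add_apply]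
  rw [Finset.sum_add_distrib]
  have : ∑ i : Fin m, (u (.inr (.inl i)) + v (.inr (.inl i))) * (u (.inr (.inr i)) + v (.inr (.inr i)))
      = ∑ i : Fin m, u (.inr (.inl i)) * u (.inr (.inr i)) + ∑ i : Fin m, v (.inr (.inl i)) * v (.inr (.inr i))
        + (∑ i : Fin m, u (.inr (.inl i)) * v (.inr (.inr i)) + ∑ i : Fin m, u (.inr (.inr i)) * v (.inr (.inl i))) := by
    rw [← Finset.sum_add_distrib, ← Finset.sum_add_distrib, ← Finset.sum_add_distrib]
    apply Finset.sum_congr rfl
    intro i _
    ring
  rw [this]
  ring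

theorem quadFormOdd_isNondegenerate (h2 : (2 : F) ≠ 0) :
    IsNondegenerateQuadraticForm (quadFormOdd m F) := by
  refine ⟨?_, ⟨?_, ?_, ?_, ?_⟩, ?_⟩
  · intro c v
    simp only [quadFormOdd, Pi.smul_apply, smul_eq_mul, Finset.mul_sum]
    rw [mul_add, Finset.mul_sum]
    congr 1
    · ring
    · apply Finset.sum_congr rfl
      intro i _
      ring
  · intro x y v
    simp only [polar_quadFormOdd, Pi.add_apply]
    have : ∀ a b c d : F, a + b + (c + d) = (a + c) + (b + d) := by intros; ring
    rw [this, ← Finset.sum_add_distrib]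
    congr 1
    · ring
    · apply Finset.sum_congr rfl
      intro i _
      ring
  · intro c x v
    simp only [polar_quadFormOdd, Pi.smul_apply, smul_eq_mul]
    rw [mul_add, Finset.mul_sum]
    congr 1
    · ring
    · apply Finset.sum_congr rfl
      intro i _
      ring
  · intro v x y
    simp only [polar_quadFormOdd, Pi.add_apply]
    have : ∀ a b c d : F, a + b + (c + d) = (a + c) + (b + d) := by intros; ring
    rw [this, ← Finset.sum_add_distrib]
    congr 1
    · ring
    · apply Finset.sum_congr rfl
      intro i _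
      ring
  · intro c v x
    simp only [polar_quadFormOdd, Pi.smul_apply, smul_eq_mul]
    rw [mul_add, Finset.mul_sum]
    congr 1
    · ring
    · apply Finset.sum_congr rfl
      intro i _
      ring
  · -- nondegenerate
    have key : ∀ v : Unit ⊕ (Fin m ⊕ Fin m) → F, v ≠ 0 →
        ∃ x, QuadraticMap.polar (quadFormOdd m F) x v ≠ 0 := by
      intro v hv
      have : ∃ j, v j ≠ 0 := by
        by_contra hcon
        push Not at hcon
        exact hv (funext hcon)
      obtain ⟨j, hj⟩ := this
      rcases j with ⟨⟩ | (i | i)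
      · refine ⟨Pi.single (.inl ()) 1, ?_⟩
        rw [polar_quadFormOdd]
        simp [Pi.single_apply, h2, hj]
      · refine ⟨Pi.single (.inr (.inr i)) 1, ?_⟩
        rw [polar_quadFormOdd]
        simp [Pi.single_apply, hj]
      · refine ⟨Pi.single (.inr (.inl i)) 1, ?_⟩
        rw [polar_quadFormOdd]
        simp [Pi.single_apply, hj]
    intro v hv
    obtain ⟨x, hx⟩ := key v hv
    exact ⟨⟨x, hx⟩, ⟨x, by rwa [QuadraticMap.polar_comm]⟩⟩

theorem two_ne_zero_of_card_three [Fintype F] (hq : Fintype.card F = 3) : (2 : F) ≠ 0 := by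
  intro h2
  have h3 : (3 : F) = 0 := by
    have := card_nsmul_eq_zero (G := F) (x := (1 : F))
    rw [hq] at this
    simpa using this
  have : (1 : F) = 0 := by linear_combination h3 - h2
  exact one_ne_zero this

end QuadOdd

end Cfsg.Agent.Helper94
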