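import Cfsg.Agent.Helper94.Frame
import Cfsg.Agent.Helper94.QuadOdd

set_option autoImplicit false
set_option linter.unusedSectionVars false

namespace Cfsg.Agent.Helper94

open Cfsg Cfsg.Geo
open scoped Matrix

section Frame3

variable {ι : Type} [Fintype ι] [DecidableEq ι] {F : Type*} [Field F] [Fintype F]
variable {Q : (ι → F) → F}

theorem F3_three (hq3 : Fintype.card F = 3) : (3 : F) = 0 := by
  have := card_nsmul_eq_zero (G := F) (x := (1 : F))
  rw [hq3] at this
  simpa using this

theorem F3_cases (hq3 : Fintype.card F = 3) (x : F) : x = 0 ∨ x = 1 ∨ x = -1 := by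
  by_cases hx : x = 0
  · exact Or.inl hx
  · right
    have h := sq_eq_one_of_card_le_three (by omega) hx
    have : (x - 1) * (x + 1) = 0 := by linear_combination h
    rcases mul_eq_zero.mp this with h1 | h1
    · left; linear_combination h1
    · right; linear_combination h1

/-- Sign adjustment: from an orthogonal triple with values `(d, d, -d)` to one with values all `-d`. -/
theorem frame_fix (hq3 : Fintype.card F = 3) (hQ : IsNondegenerateQuadraticForm Q)
    {x y z : ι → F} (hxy : QuadraticMap.polar Q x y = 0) (hxz : QuadraticMap.polar Q x z = 0)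
    (hyz : QuadraticMap.polar Q y z = 0) (hQxy : Q x = Q y) (hQz : Q z = - Q x) :
    QuadraticMap.polar Q (x + y) (x - y) = 0 ∧ QuadraticMap.polar Q (x + y) z = 0 ∧
      QuadraticMap.polar Q (x - y) z = 0 ∧ Q (x + y) = Q z ∧ Q (x - y) = Q z := by
  have h3 := F3_three hq3
  refine ⟨?_, ?_, ?_, ?_, ?_⟩
  · rw [B_add_left hQ, B_sub_right hQ, B_sub_right hQ, B_self hQ, B_self hQ, hxy, B_comm y x, hxy,
      hQxy]
    ring
  · rw [B_add_left hQ, hxz, hyz]; ring
  · rw [B_sub_left hQ, hxz, hyz]; ring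
  · rw [Q_add (Q := Q), hxy, hQz, ← hQxy]
    linear_combination Q x * h3
  · rw [Q_sub hQ, hxy, hQz, ← hQxy]
    linear_combination Q x * h3

/-- An orthogonal frame of a three-dimensional subspace: three pairwise orthogonal spanning vectors with
the same nonzero value `ε`. -/
structure IsFrame3 (Q : (ι → F) → F) (W : Submodule F (ι → F)) (ε : F) (w0 w1 w2 : ι → F) : Prop where
  ne : ε ≠ 0
  mem0 : w0 ∈ W
  mem1 : w1 ∈ W
  mem2 : w2 ∈ W
  val0 : Q w0 = ε
  val1 : Q w1 = ε
  val2 : Q w2 = ε
  o01 : QuadraticMap.polar Q w0 w1 = 0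
  o02 : QuadraticMap.polar Q w0 w2 = 0
  o12 : QuadraticMap.polar Q w1 w2 = 0
  span : ∀ v ∈ W, ∃ a b c : F, v = a • w0 + b • w1 + c • w2

theorem IsFrame3.value (hQ : IsNondegenerateQuadraticForm Q) {W : Submodule F (ι → F)} {ε : F}
    {w0 w1 w2 : ι → F} (h : IsFrame3 Q W ε w0 w1 w2) (a b c : F) :
    Q (a • w0 + b • w1 + c • w2) = ε * (a ^ 2 + b ^ 2 + c ^ 2) := by
  rw [Q_add3 hQ, Q_smul hQ, Q_smul hQ, Q_smul hQ, h.val0, h.val1, h.val2]
  simp only [B_smul_left hQ, B_smul_right hQ, h.o01, h.o02, h.o12]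
  ring

/-- In a frame over the field with three elements, the vectors of value `ε` are the `± wⱼ`. -/
theorem IsFrame3.unique (hq3 : Fintype.card F = 3) (hQ : IsNondegenerateQuadraticForm Q)
    {W : Submodule F (ι → F)} {ε : F} {w0 w1 w2 : ι → F} (h : IsFrame3 Q W ε w0 w1 w2)
    {v : ι → F} (hv : v ∈ W) (hQv : Q v = ε) :
    (v = w0 ∨ v = -w0) ∨ (v = w1 ∨ v = -w1) ∨ (v = w2 ∨ v = -w2) := by
  have h3 := F3_three hq3
  obtain ⟨a, b, c, rfl⟩ := h.span v hv
  rw [h.value hQ] at hQv
  have hsum : a ^ 2 + b ^ 2 + c ^ 2 = 1 := by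
    have : ε * (a ^ 2 + b ^ 2 + c ^ 2) = ε * 1 := by rw [hQv, mul_one]
    exact mul_left_cancel₀ h.ne this
  have h10 : (1 : F) ≠ 0 := one_ne_zero
  rcases F3_cases hq3 a with rfl | rfl | rfl <;> rcases F3_cases hq3 b with rfl | rfl | rfl <;>
    rcases F3_cases hq3 c with rfl | rfl | rfl
  all_goals first
    | (exfalso; apply h10; linear_combination hsum)
    | (exfalso; apply h10; linear_combination -hsum)
    | (exfalso; apply h10; linear_combination hsum - h3)
    | (exfalso; apply h10; linear_combination h3 - hsum)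
    | (exfalso; apply h10; linear_combination -hsum + h3)
    | (left; left; module)
    | (left; right; module)
    | (right; left; left; module)
    | (right; left; right; module)
    | (right; right; left; module)
    | (right; right; right; module)

/-- Existence of an orthogonal basis (Mathlib's diagonalisation) for a subspace on which the polar
form is nondegenerate, in the three-dimensional case. -/
theorem exists_orthogonal_triple (h2 : (2 : F) ≠ 0) (hQ : IsNondegenerateQuadraticForm Q)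
    {W : Submodule F (ι → F)} (hdim : Module.finrank F W = 3)
    (hW : IsNondegenerateOn (QuadraticMap.polar Q) W) :
    ∃ x y z : ι → F, x ∈ W ∧ y ∈ W ∧ z ∈ W ∧ Q x ≠ 0 ∧ Q y ≠ 0 ∧ Q z ≠ 0 ∧
      QuadraticMap.polar Q x y = 0 ∧ QuadraticMap.polar Q x z = 0 ∧ QuadraticMap.polar Q y z = 0 ∧
      ∀ v ∈ W, ∃ a b c : F, v = a • x + b • y + c • z := by
  classical
  haveI : Invertible (2 : F) := invertibleOfNonzero h2
  let Bw : LinearMap.BilinForm F W := LinearMap.mk₂ F
    (fun u v : W => QuadraticMap.polar Q (u : ι → F) (v : ι → F))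
    (fun u u' v => by simp [B_add_left hQ])
    (fun c u v => by simp [B_smul_left hQ])
    (fun u v v' => by simp [B_add_right hQ])
    (fun c u v => by simp [B_smul_right hQ])
  have hBw : ∀ u v : W, Bw u v = QuadraticMap.polar Q (u : ι → F) (v : ι → F) := fun u v => rfl
  have hsymm : LinearMap.IsSymm Bw := LinearMap.isSymm_def.mpr (fun u v => by
    simp only [RingHom.id_apply]
    rw [hBw, hBw, B_comm])
  obtain ⟨b, hb⟩ := LinearMap.BilinForm.exists_orthogonal_basis hsymm
  have hsep : Bw.SeparatingLeft := by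
    intro u hu
    by_contra hu0
    have hu0' : (u : ι → F) ≠ 0 := fun h => hu0 (Subtype.ext h)
    obtain ⟨-, ⟨y, hyW, hy⟩⟩ := hW u u.2 hu0'
    exact hy (hu ⟨y, hyW⟩)
  have hself : ∀ i, Bw (b i) (b i) ≠ 0 :=
    fun i => LinearMap.IsOrthoᵢ.not_isOrtho_basis_self_of_separatingLeft hb hsep i
  have hQne : ∀ i, Q ((b i : W) : ι → F) ≠ 0 := by
    intro i h
    apply hself i
    rw [hBw, B_self hQ, h, mul_zero]
  have horth : ∀ i j, i ≠ j → QuadraticMap.polar Q ((b i : W) : ι → F) ((b j : W) : ι → F) = 0 := by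
    intro i j hij
    have : Bw (b i) (b j) = 0 := hb hij
    rw [hBw] at this
    exact this
  let e : Fin 3 ≃ Fin (Module.finrank F W) := finCongr hdim.symm
  refine ⟨b (e 0), b (e 1), b (e 2), (b (e 0)).2, (b (e 1)).2, (b (e 2)).2, hQne _, hQne _, hQne _,
    horth _ _ (by simp [e, Fin.ext_iff]), horth _ _ (by simp [e, Fin.ext_iff]),
    horth _ _ (by simp [e, Fin.ext_iff]), ?_⟩
  intro v hv
  have hrepr := b.sum_repr ⟨v, hv⟩
  set c := b.repr ⟨v, hv⟩ with hc
  refine ⟨c (e 0), c (e 1), c (e 2), ?_⟩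
  have h' := congrArg (fun u : W => (u : ι → F)) hrepr
  simp only at h'
  refine h'.symm.trans ?_
  rw [← Equiv.sum_comp e, Fin.sum_univ_three]
  simp

/-- Sign adjustment as a frame statement. -/
theorem frame3_of_fix (hq3 : Fintype.card F = 3) (hQ : IsNondegenerateQuadraticForm Q)
    {W : Submodule F (ι → F)} {x y z : ι → F} (hx : x ∈ W) (hy : y ∈ W) (hz : z ∈ W)
    (hxy : QuadraticMap.polar Q x y = 0) (hxz : QuadraticMap.polar Q x z = 0)
    (hyz : QuadraticMap.polar Q y z = 0) (hQx0 : Q x ≠ 0) (hQxy : Q x = Q y) (hQz : Q z = - Q x)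
    (hspan : ∀ v ∈ W, ∃ a b c : F, v = a • x + b • y + c • z) :
    IsFrame3 Q W (Q z) (x + y) (x - y) z := by
  obtain ⟨h1, h2, h3, h4, h5⟩ := frame_fix hq3 hQ hxy hxz hyz hQxy hQz
  have h3' := F3_three hq3
  refine ⟨by rw [hQz]; exact neg_ne_zero.mpr hQx0, W.add_mem hx hy, W.sub_mem hx hy, hz, h4, h5, rfl,
    h1, h2, h3, ?_⟩
  intro v hv
  obtain ⟨a, b, c, rfl⟩ := hspan v hv
  refine ⟨-(a + b), -(a - b), c, ?_⟩
  have e1 : a • x = (-(2 : F) * a) • x := by
    have : -(2 : F) * a = a - 3 * a := by ring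
    rw [this, h3']; simp
  have e2 : b • y = (-(2 : F) * b) • y := by
    have : -(2 : F) * b = b - 3 * b := by ring
    rw [this, h3']; simp
  rw [e1, e2]
  module

/-- A three-dimensional subspace on which the polar form is nondegenerate, over the field with three
elements, has an orthogonal frame. -/
theorem exists_frame3 (hq3 : Fintype.card F = 3) (hQ : IsNondegenerateQuadraticForm Q)
    {W : Submodule F (ι → F)} (hdim : Module.finrank F W = 3)
    (hW : IsNondegenerateOn (QuadraticMap.polar Q) W) :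
    ∃ (ε : F) (w0 w1 w2 : ι → F), IsFrame3 Q W ε w0 w1 w2 := by
  have h2 : (2 : F) ≠ 0 := two_ne_zero_of_card_three hq3
  obtain ⟨x, y, z, hx, hy, hz, hQx, hQy, hQz, hxy, hxz, hyz, hspan⟩ :=
    exists_orthogonal_triple h2 hQ hdim hW
  have hyx : QuadraticMap.polar Q y x = 0 := by rw [B_comm, hxy]
  have hzx : QuadraticMap.polar Q z x = 0 := by rw [B_comm, hxz]
  have hzy : QuadraticMap.polar Q z y = 0 := by rw [B_comm, hyz]
  -- values are ±1
  have hval : ∀ {u : ι → F}, Q u ≠ 0 → Q u = 1 ∨ Q u = -1 := by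
    intro u hu
    rcases F3_cases hq3 (Q u) with h | h | h
    · exact absurd h hu
    · exact Or.inl h
    · exact Or.inr h
  have hneg : ∀ {a b : F}, (a = 1 ∨ a = -1) → (b = 1 ∨ b = -1) → a ≠ b → b = -a := by
    rintro a b (rfl | rfl) (rfl | rfl) hab
    · exact absurd rfl hab
    · rfl
    · simp
    · exact absurd rfl hab
  by_cases h1 : Q x = Q y
  · by_cases h2' : Q z = Q x
    · -- all equal
      refine ⟨Q x, x, y, z, ⟨hQx, hx, hy, hz, rfl, h1.symm, h2', hxy, hxz, hyz, hspan⟩⟩
    · have hz' : Q z = - Q x := hneg (hval hQx) (hval hQz) (Ne.symm h2')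
      exact ⟨Q z, x + y, x - y, z, frame3_of_fix hq3 hQ hx hy hz hxy hxz hyz hQx h1 hz' hspan⟩
  · have hy' : Q y = - Q x := hneg (hval hQx) (hval hQy) h1
    by_cases h2' : Q z = Q x
    · -- x, z equal, y differs
      have hspan' : ∀ v ∈ W, ∃ a b c : F, v = a • x + b • z + c • y := by
        intro v hv
        obtain ⟨a, b, c, rfl⟩ := hspan v hv
        exact ⟨a, c, b, by module⟩
      exact ⟨Q y, x + z, x - z, y,
        frame3_of_fix hq3 hQ hx hz hy hxz hxy hzy hQx h2'.symm hy' hspan'⟩
    · -- y, z equal, x differs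
      have hz' : Q z = - Q x := hneg (hval hQx) (hval hQz) (Ne.symm h2')
      have hyz' : Q y = Q z := by rw [hy', hz']
      have hx' : Q x = - Q y := by rw [hy']; ring
      have hspan' : ∀ v ∈ W, ∃ a b c : F, v = a • y + b • z + c • x := by
        intro v hv
        obtain ⟨a, b, c, rfl⟩ := hspan v hv
        exact ⟨b, c, a, by module⟩
      exact ⟨Q x, y + z, y - z, x,
        frame3_of_fix hq3 hQ hy hz hx hyz hyx hzx hQy hyz' hx' hspan'⟩

/-- A linear isometry between subspaces preserves the polar form. -/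
theorem polar_isometry {W W' : Submodule F (ι → F)} (e : W ≃ₗ[F] W')
    (he : ∀ w : W, Q ((e w : W') : ι → F) = Q (w : ι → F)) (u v : W) :
    QuadraticMap.polar Q ((e u : W') : ι → F) ((e v : W') : ι → F)
      = QuadraticMap.polar Q (u : ι → F) (v : ι → F) := by
  unfold QuadraticMap.polar
  rw [he u, he v]
  have : ((e u : W') : ι → F) + ((e v : W') : ι → F) = ((e (u + v) : W') : ι → F) := by
    rw [map_add]; rfl
  rw [this, he (u + v)]
  rfl

/-- Over the field with three elements, the stabiliser in `Ω` of an orthogonal decomposition into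
isometric three-dimensional members is not maximal. -/
theorem exists_between_of_orth3 (hq3 : Fintype.card F = 3) (hQ : IsNondegenerateQuadraticForm Q)
    {t : ℕ} {D : Fin t → Submodule F (ι → F)} (hD : IsOrthogonalMDecomposition Q 3 D) (ht : 4 ≤ t) :
    ∃ K : Subgroup (Matrix.GeneralLinearGroup ι F),
      decompositionStabilizer D ⊓ omegaGL Q < K ∧ K < omegaGL Q := by
  classical
  have h2 : (2 : F) ≠ 0 := two_ne_zero_of_card_three hq3
  let i0 : Fin t := ⟨0, by omega⟩
  obtain ⟨ε, w0, w1, w2, hfr⟩ := exists_frame3 hq3 hQ (hD.decomp.decomp.finrank_eq i0)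
    (hD.decomp.nondegenerate i0)
  choose φ hφ using fun i => hD.isometric i0 i
  let W0 : D i0 := ⟨w0, hfr.mem0⟩
  let W1 : D i0 := ⟨w1, hfr.mem1⟩
  have hp : IsFrameData Q D ε (fun i => ((φ i W0 : D i) : ι → F)) := by
    refine ⟨fun i => (φ i W0).2, fun i => by rw [hφ i W0]; exact hfr.val0, ?_⟩
    intro i v hv hQv
    set v' : D i0 := (φ i).symm ⟨v, hv⟩ with hv'
    have hvv' : ((φ i v' : D i) : ι → F) = v := by
      rw [hv', LinearEquiv.apply_symm_apply]
    have hQv' : Q (v' : ι → F) = ε := by rw [← hφ i v', hvv', hQv]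
    have hpol : ∀ u : D i0, QuadraticMap.polar Q v ((φ i u : D i) : ι → F)
        = QuadraticMap.polar Q (v' : ι → F) (u : ι → F) := by
      intro u
      rw [← hvv']
      exact polar_isometry (φ i) (hφ i) v' u
    rcases hfr.unique hq3 hQ v'.2 hQv' with (h | h) | (h | h) | (h | h)
    · left
      rw [← hvv']
      congr 2
      exact Subtype.ext h
    · right; left
      rw [← hvv']
      have : v' = -W0 := Subtype.ext h
      rw [this, map_neg]
      rfl
    · right; right
      rw [hpol W0, h, B_comm w1 w0, hfr.o01]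
    · right; right
      rw [hpol W0, h, B_neg_left hQ, B_comm w1 w0, hfr.o01, neg_zero]
    · right; right
      rw [hpol W0, h, B_comm w2 w0, hfr.o02]
    · right; right
      rw [hpol W0, h, B_neg_left hQ, B_comm w2 w0, hfr.o02, neg_zero]
  refine exists_between_of_frame hQ h2 hD.decomp ht hfr.ne hp ?_
  intro i
  refine ⟨((φ i W1 : D i) : ι → F), (φ i W1).2, ?_, ?_⟩
  · intro h0
    have := hφ i W1
    rw [h0, Q_zero hQ] at this
    exact hfr.ne (by rw [← hfr.val1]; exact this.symm)
  · rw [polar_isometry (φ i) (hφ i) W1 W0]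
    show QuadraticMap.polar Q w1 w0 = 0
    rw [B_comm, hfr.o01]

end Frame3

end Cfsg.Agent.Helper94
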