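import Mathlib
import Cfsg.Prelude.Def_GeometricClasses

set_option autoImplicit false
set_option linter.unusedSectionVars false

namespace Cfsg.Agent.Helper94

open Cfsg Cfsg.Geo
open scoped Matrix

section F4

variable {F : Type*} [Field F] [Fintype F]

theorem F4_two_eq_zero (hF : Fintype.card F = 4) : (2 : F) = 0 := by
  have h4 : (4 : F) = 0 := by
    have := card_nsmul_eq_zero (G := F) (x := (1 : F))
    rw [hF] at this
    simpa using this
  have h22 : (2 : F) * 2 = 0 := by
    rw [← h4]; norm_num
  exact mul_self_eq_zero.mp h22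

theorem F4_charP (hF : Fintype.card F = 4) : CharP F 2 :=
  CharTwo.of_one_ne_zero_of_two_eq_zero one_ne_zero (F4_two_eq_zero hF)

theorem F4_add_self (hF : Fintype.card F = 4) (x : F) : x + x = 0 := by
  have := F4_charP hF
  exact CharTwo.add_self_eq_zero x

theorem F4_pow_four (hF : Fintype.card F = 4) (x : F) : x ^ 4 = x := by
  have := FiniteField.pow_card x
  rwa [hF] at this

theorem F4_pow_three (hF : Fintype.card F = 4) {x : F} (hx : x ≠ 0) : x ^ 3 = 1 := by
  have h := F4_pow_four hF x
  have : x * x ^ 3 = x * 1 := by rw [mul_one, ← pow_succ']; exact h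
  exact mul_left_cancel₀ hx this

theorem F4_add_sq (hF : Fintype.card F = 4) (x y : F) : (x + y) ^ 2 = x ^ 2 + y ^ 2 := by
  have h2 := F4_two_eq_zero hF
  rw [add_sq, h2]; ring

theorem F4_sum_sq (hF : Fintype.card F = 4) {κ : Type*} (s : Finset κ) (f : κ → F) :
    (∑ k ∈ s, f k) ^ 2 = ∑ k ∈ s, f k ^ 2 := by
  classical
  induction s using Finset.induction_on with
  | empty => simp
  | insert a s ha ih => rw [Finset.sum_insert ha, Finset.sum_insert ha, F4_add_sq hF, ih]

theorem F4_exists_ne (hF : Fintype.card F = 4) (c : F) : ∃ l : F, l ≠ 0 ∧ l ≠ c := by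
  classical
  by_contra hcon
  push Not at hcon
  have hsub : (Finset.univ : Finset F) ⊆ {0, c} := by
    intro x _
    by_cases hx : x = 0
    · simp [hx]
    · simp [hcon x hx]
  have := Finset.card_le_card hsub
  rw [Finset.card_univ, hF] at this
  have h2 : ({0, c} : Finset F).card ≤ 2 := Finset.card_le_two
  omega

variable {n : ℕ}

theorem F4_vec_add_self (hF : Fintype.card F = 4) (v : Fin n → F) : v + v = 0 := by
  ext j
  exact F4_add_self hF (v j)

theorem herm2_add_left (x y v : Fin n → F) :
    hermForm n F 2 (x + y) v = hermForm n F 2 x v + hermForm n F 2 y v := by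
  simp [hermForm, add_mul, Finset.sum_add_distrib]

theorem herm2_smul_left (c : F) (x v : Fin n → F) :
    hermForm n F 2 (c • x) v = c * hermForm n F 2 x v := by
  simp [hermForm, Finset.mul_sum, mul_assoc]

theorem herm2_zero_left (v : Fin n → F) : hermForm n F 2 0 v = 0 := by
  simp [hermForm]

theorem herm2_zero_right (v : Fin n → F) : hermForm n F 2 v 0 = 0 := by
  simp [hermForm]

theorem herm2_add_right (hF : Fintype.card F = 4) (v x y : Fin n → F) :
    hermForm n F 2 v (x + y) = hermForm n F 2 v x + hermForm n F 2 v y := by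
  simp [hermForm, F4_add_sq hF, mul_add, Finset.sum_add_distrib]

theorem herm2_smul_right (c : F) (v x : Fin n → F) :
    hermForm n F 2 v (c • x) = c ^ 2 * hermForm n F 2 v x := by
  simp only [hermForm, Pi.smul_apply, smul_eq_mul, Finset.mul_sum]
  apply Finset.sum_congr rfl
  intro i _
  ring

/-- Hermitian symmetry. -/
theorem herm2_swap (hF : Fintype.card F = 4) (u v : Fin n → F) :
    hermForm n F 2 v u = hermForm n F 2 u v ^ 2 := by
  simp only [hermForm]
  rw [F4_sum_sq hF]
  apply Finset.sum_congr rfl
  intro i _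
  rw [mul_pow, ← pow_mul, F4_pow_four hF]
  ring

theorem herm2_swap_eq_zero (hF : Fintype.card F = 4) {u v : Fin n → F}
    (h : hermForm n F 2 u v = 0) : hermForm n F 2 v u = 0 := by
  rw [herm2_swap hF, h]; simp

/-- The norm `h(x,x)` is `0` or `1`. -/
theorem herm2_self_cases (hF : Fintype.card F = 4) (x : Fin n → F) :
    hermForm n F 2 x x = 0 ∨ hermForm n F 2 x x = 1 := by
  have h := herm2_swap hF x x
  have : hermForm n F 2 x x * (hermForm n F 2 x x - 1) = 0 := by
    rw [mul_sub, mul_one, ← sq, ← h, sub_self]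
  rcases mul_eq_zero.mp this with h0 | h1
  · exact Or.inl h0
  · exact Or.inr (sub_eq_zero.mp h1)

theorem herm2_self_of_ne (hF : Fintype.card F = 4) {x : Fin n → F}
    (h : hermForm n F 2 x x ≠ 0) : hermForm n F 2 x x = 1 := by
  rcases herm2_self_cases hF x with h0 | h1
  · exact absurd h0 h
  · exact h1

theorem herm2_sum_left {κ : Type*} (s : Finset κ) (c : κ → (Fin n → F)) (v : Fin n → F) :
    hermForm n F 2 (∑ k ∈ s, c k) v = ∑ k ∈ s, hermForm n F 2 (c k) v := by
  classical
  induction s using Finset.induction_on with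
  | empty => simp [herm2_zero_left]
  | insert a s ha ih => rw [Finset.sum_insert ha, Finset.sum_insert ha, herm2_add_left, ih]

/-- Action of the unitary transvection matrix. -/
theorem unitaryTransvection_mulVec (q : ℕ) (v : Fin n → F) (c : F) (x : Fin n → F) :
    unitaryTransvection n q v c *ᵥ x = x + (c * hermForm n F q x v) • v := by
  unfold unitaryTransvection
  rw [Matrix.add_mulVec, Matrix.one_mulVec, Matrix.smul_mulVec]
  congr 1
  ext j
  simp only [Matrix.mulVec, Matrix.vecMulVec_apply, dotProduct, Pi.smul_apply, smul_eq_mul, hermForm]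
  rw [Finset.mul_sum, Finset.mul_sum, Finset.sum_mul]
  apply Finset.sum_congr rfl
  intro k _
  ring

theorem unitaryTransvection_det (q : ℕ) (v : Fin n → F) (c : F) :
    (unitaryTransvection n q v c).det = 1 + c * hermForm n F q v v := by
  unfold unitaryTransvection
  rw [← Matrix.vecMulVec_smul, Matrix.vecMulVec_eq Unit, Matrix.det_one_add_replicateCol_mul_replicateRow]
  congr 1
  simp only [dotProduct, hermForm, Pi.smul_apply, smul_eq_mul, Finset.mul_sum]
  apply Finset.sum_congr rfl
  intro k _
  ring

theorem utv_mul_self (hF : Fintype.card F = 4) {v : Fin n → F} (hv : hermForm n F 2 v v = 0) :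
    unitaryTransvection n 2 v 1 * unitaryTransvection n 2 v 1 = 1 := by
  apply Matrix.mulVec_injective
  funext x
  rw [← Matrix.mulVec_mulVec, unitaryTransvection_mulVec, unitaryTransvection_mulVec, Matrix.one_mulVec,
    herm2_add_left, herm2_smul_left, hv]
  rw [mul_zero, add_zero, add_assoc, ← add_smul, one_mul, F4_add_self hF, zero_smul, add_zero]

/-- The unitary transvection `x ↦ x + h(x,v) v` (for isotropic `v`) as an element of `GL`. -/
noncomputable def utv (hF : Fintype.card F = 4) (v : Fin n → F) (hv : hermForm n F 2 v v = 0) :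
    Matrix.GeneralLinearGroup (Fin n) F :=
  ⟨unitaryTransvection n 2 v 1, unitaryTransvection n 2 v 1, utv_mul_self hF hv, utv_mul_self hF hv⟩

theorem utv_mulVec (hF : Fintype.card F = 4) (v : Fin n → F) (hv : hermForm n F 2 v v = 0)
    (x : Fin n → F) :
    ((utv hF v hv : Matrix.GeneralLinearGroup (Fin n) F) : Matrix (Fin n) (Fin n) F) *ᵥ x
      = x + hermForm n F 2 x v • v := by
  show unitaryTransvection n 2 v 1 *ᵥ x = _
  rw [unitaryTransvection_mulVec, one_mul]

theorem utv_mul_utv (hF : Fintype.card F = 4) (v : Fin n → F) (hv : hermForm n F 2 v v = 0) :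
    utv hF v hv * utv hF v hv = 1 := by
  apply Units.ext
  exact utv_mul_self hF hv

theorem utv_mem_GU (hF : Fintype.card F = 4) (v : Fin n → F) (hv : hermForm n F 2 v v = 0) :
    utv hF v hv ∈ GU n F 2 := by
  intro x y
  show hermForm n F 2 (((utv hF v hv : Matrix.GeneralLinearGroup (Fin n) F) : Matrix (Fin n) (Fin n) F) *ᵥ x)
    (((utv hF v hv : Matrix.GeneralLinearGroup (Fin n) F) : Matrix (Fin n) (Fin n) F) *ᵥ y)
      = hermForm n F 2 x y
  rw [utv_mulVec, utv_mulVec]
  simp only [herm2_add_left, herm2_add_right hF, herm2_smul_left, herm2_smul_right, hv]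
  rw [herm2_swap hF y v]
  have := F4_add_self hF (hermForm n F 2 x v * hermForm n F 2 y v ^ 2)
  linear_combination this

theorem utv_mem_specialLinear (hF : Fintype.card F = 4) (v : Fin n → F)
    (hv : hermForm n F 2 v v = 0) : utv hF v hv ∈ specialLinear (Fin n) F := by
  unfold specialLinear
  rw [MonoidHom.mem_ker]
  apply Units.ext
  show (unitaryTransvection n 2 v 1).det = 1
  rw [unitaryTransvection_det, hv]
  simp

end F4

end Cfsg.Agent.Helper94
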