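import Mathlib
import Cfsg.Agent.Helper99.O9.Defs
import Cfsg.Agent.Helper99.O9.C7Defs
import Cfsg.Agent.Helper44.Spinor
import Cfsg.Agent.Helper44.PlusRot
import Cfsg.Agent.Helper44.StdNondeg
import Cfsg.Agent.Helper44.OrthRealizeC
import Cfsg.Agent.Helper38.Singer

set_option autoImplicit false
set_option linter.unusedSectionVars false
set_option linter.unusedVariables false

/-!
# S2517 (C7), piece (SGP): a Singer cycle of `GL_k(q)` inside `O^+_{2k}(q)` (helper94 for helper99)

`singer_plus`: order `q ^ k - 1`, determinant `1`, not in `Ω` (`q` odd): `diag(A, A⁻ᵀ)` with `A` a Singer cycle of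
`GL_k(q)` (helper38's `exists_singer`); `det A` generates `Fˣ`, hence is a non-square, and helper44's
`plusEmbed_mem_Omega_iff` applies.
-/

namespace Cfsg.Agent.Helper94.O9

open Matrix Polynomial QuadraticMap Cfsg.Agent.Helper44 Cfsg.Agent.Helper44.QType Cfsg.Agent.Helper99.O9

universe u

variable {F : Type u} [Field F] [Fintype F]

/-- the determinant of a Singer cycle is not a square (`q` odd) -/
theorem SGP_det_not_isSquare (hF : Odd (Fintype.card F)) (k : ℕ) (hk : 1 ≤ k)
    (A : Matrix (Fin k) (Fin k) F) (hA : orderOf A = Fintype.card F ^ k - 1)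
    (hdet : A ^ ((Fintype.card F ^ k - 1) / (Fintype.card F - 1)) = A.det • (1 : Matrix (Fin k) (Fin k) F)) :
    ¬ IsSquare A.det := by
  classical
  rintro ⟨s, hs⟩
  set q := Fintype.card F with hq
  have hq2 : 2 ≤ q := Fintype.one_lt_card
  have hq3 : 3 ≤ q := by
    rcases hF with ⟨m, hm⟩
    omega
  have hdvd : q - 1 ∣ q ^ k - 1 := by
    simpa using Nat.sub_dvd_pow_sub_pow q 1 k
  set N := (q ^ k - 1) / (q - 1) with hN
  have hNq : N * (q - 1) = q ^ k - 1 := Nat.div_mul_cancel hdvd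
  have hqk : 2 ≤ q ^ k := hq2.trans (Nat.le_self_pow (by omega) _)
  have hNpos : 0 < N := by
    rcases Nat.eq_zero_or_pos N with h | h
    · rw [h, zero_mul] at hNq; omega
    · exact h
  -- `det A ^ ((q-1)/2) = s ^ (q-1) = 1`
  have hs0 : s ≠ 0 := by
    rintro rfl
    have h0 : A.det = 0 := by rw [hs, mul_zero]
    have hApow : A ^ (q ^ k - 1) = 1 := by rw [← hA]; exact pow_orderOf_eq_one A
    have h1 : (A ^ (q ^ k - 1)).det = 1 := by rw [hApow, Matrix.det_one]
    rw [Matrix.det_pow, h0, zero_pow (by omega)] at h1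
    exact zero_ne_one h1
  have hs1 : s ^ (q - 1) = 1 := FiniteField.pow_card_sub_one_eq_one s hs0
  obtain ⟨m, hm⟩ := hF
  have hm1 : 1 ≤ m := by omega
  have hdm : A.det ^ m = 1 := by
    rw [hs, ← pow_two, ← pow_mul]
    have : 2 * m = q - 1 := by omega
    rw [this, hs1]
  -- hence `A ^ (N * m) = 1`
  have hAm : A ^ (N * m) = 1 := by
    rw [pow_mul, hdet, _root_.smul_pow, hdm, one_pow, one_smul]
  have h1 := orderOf_dvd_of_pow_eq_one hAm
  rw [hA, ← hNq] at h1
  have h2 : q - 1 ∣ m := (Nat.mul_dvd_mul_iff_left hNpos).mp h1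
  have h3 := Nat.le_of_dvd (by omega) h2
  omega

/-- (SGP) a Singer cycle of `GL_k(q)` in `O^+_{2k}(q)`: order `q^k - 1`, determinant `1`, not in `Ω` -/
theorem singer_plus (hF : Odd (Fintype.card F)) (k : ℕ) (hk : 1 ≤ k) :
    ∃ P : OPair F, P.ND ∧ P.Typ k 1 ∧ P.ord = Fintype.card F ^ k - 1 ∧ P.M.det = 1 ∧ ¬ P.InOm := by
  classical
  obtain ⟨A, hA, hdet, -⟩ := Cfsg.Agent.Helper38.exists_singer (F := F) k hk
  have hq : 2 ≤ Fintype.card F := Fintype.one_lt_card
  have hqk : 2 ≤ Fintype.card F ^ k := hq.trans (Nat.le_self_pow (by omega) _)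
  have hN : 0 < Fintype.card F ^ k - 1 := by omega
  have hApow : A ^ (Fintype.card F ^ k - 1) = 1 := by rw [← hA]; exact pow_orderOf_eq_one A
  have hunit : IsUnit A := by
    refine ⟨⟨A, A ^ (Fintype.card F ^ k - 1 - 1), ?_, ?_⟩, rfl⟩
    · rw [← pow_succ', Nat.sub_add_cancel hN, hApow]
    · rw [← pow_succ, Nat.sub_add_cancel hN, hApow]
  set u : GL (Fin k) F := hunit.unit with hu
  have huA : (u : Matrix (Fin k) (Fin k) F) = A := hunit.unit_spec
  have hou : orderOf u = Fintype.card F ^ k - 1 := by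
    rw [← hA, ← huA, orderOf_units]
  have hnsq : ¬ IsSquare (u : Matrix (Fin k) (Fin k) F).det := by
    rw [huA]
    exact SGP_det_not_isSquare hF k hk A hA hdet
  have hq3 : Fintype.card F ≠ 2 := by
    rcases hF with ⟨m, hm⟩
    omega
  let P : OPair F :=
    { ι := Fin k ⊕ Fin k
      Q := plusForm k F
      g := (plusEmbed u : ↥(Cfsg.isometryGroup F (Cfsg.quadFormPlus k F))) }
  refine ⟨P, ?_, ?_, ?_, ?_, ?_⟩
  · rw [OPair.nd_def]
    exact (nondeg_iff _).mp (nondegenerate_plusForm k)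
  · rw [OPair.typ_def]
    refine ⟨?_, ?_⟩
    · rw [OPair.dim_def]
      show Fintype.card (Fin k ⊕ Fin k) = 2 * k
      simp; ring
    · show HasType (⇑(plusForm k F)) k 1
      rw [plusForm_coe]
      exact hasType_plus k
  · rw [OPair.ord_def]
    show orderOf (plusEmbed u) = _
    rw [← hou]
    apply orderOf_injective
    intro a b hab
    have h1 := congrArg (fun x : ↥(Cfsg.isometryGroup F (Cfsg.quadFormPlus k F)) =>
      ((x : GL (Fin k ⊕ Fin k) F) : Matrix (Fin k ⊕ Fin k) (Fin k ⊕ Fin k) F)) hab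
    simp only [plusEmbed_coe'] at h1
    rw [Matrix.fromBlocks_inj] at h1
    exact Units.ext h1.1
  · rw [OPair.M_def]
    show (((plusEmbed u : ↥(Cfsg.isometryGroup F (Cfsg.quadFormPlus k F))) : GL (Fin k ⊕ Fin k) F) :
      Matrix (Fin k ⊕ Fin k) (Fin k ⊕ Fin k) F).det = 1
    rw [plusEmbed_coe', Matrix.det_fromBlocks_zero₂₁, Matrix.det_transpose, Matrix.det_nonsing_inv]
    have hd : (u : Matrix (Fin k) (Fin k) F).det ≠ 0 := by
      have := (Matrix.GeneralLinearGroup.det u).ne_zero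
      exact this
    rw [Ring.inverse_eq_inv', mul_inv_cancel₀ hd]
  · rw [OPair.inOm_def]
    show ¬ (plusEmbed u ∈ Cfsg.Omega F (Cfsg.quadFormPlus k F))
    rw [plusEmbed_mem_Omega_iff hk (Or.inl hq3) u]
    exact hnsq

end Cfsg.Agent.Helper94.O9
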