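import Cfsg.Agent.Helper45.OrthInSp2
import Cfsg.Agent.Helper45.OmegaInvol

set_option autoImplicit false
set_option linter.unusedSectionVars false

/-!
# Defect vectors of symplectic transformations relative to a quadratic form (characteristic two)

For `g` in `Sp(f)`, `f` the polar form of `Q`, there is a unique `a` with `Q(g v) = Q(v) + f(v,a)²`.
The defect is a crossed homomorphism, `Q(a) ∈ {s² + s}`, and every fixed vector `a` of an isometry `x` with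
`Q(a) = s² + s` is the defect of a transvection commuting with `x`.
-/

namespace Cfsg.Agent.Helper94.OrC

open Matrix QuadraticMap Cfsg.Agent.Helper13 Cfsg.Agent.Helper45.OmegaParity

variable {F : Type*} [Field F] {m : ℕ}
variable (Q : QuadraticForm F (Fin m ⊕ Fin m → F))

/-- `a` is the defect vector of `g` -/
def IsDefect (g : GL (Fin m ⊕ Fin m) F) (a : Fin m ⊕ Fin m → F) : Prop :=
  ∀ v, Q ((g : Matrix (Fin m ⊕ Fin m) (Fin m ⊕ Fin m) F) *ᵥ v) = Q v + (polar ⇑Q v a) ^ 2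

theorem isDefect_one : IsDefect Q 1 0 := by
  intro v
  rw [Units.val_one, Matrix.one_mulVec, QuadraticMap.polar_zero_right]
  ring

theorem isDefect_zero_iff (g : GL (Fin m ⊕ Fin m) F) :
    IsDefect Q g 0 ↔ ∀ v, Q ((g : Matrix (Fin m ⊕ Fin m) (Fin m ⊕ Fin m) F) *ᵥ v) = Q v := by
  constructor
  · intro h v
    rw [h v, QuadraticMap.polar_zero_right]
    ring
  · intro h v
    rw [h v, QuadraticMap.polar_zero_right]
    ring

theorem eq_of_sq_eq_sq' [CharP F 2] {a b : F} (h : a ^ 2 = b ^ 2) : a = b := by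
  have h1 : (a + b) ^ 2 = 0 := by
    rw [CharTwo.add_sq, h, CharTwo.add_self_eq_zero]
  have h2 : a + b = 0 := pow_eq_zero_iff (two_ne_zero) |>.mp h1
  calc a = a + b + b := by rw [add_assoc, CharTwo.add_self_eq_zero, add_zero]
    _ = b := by rw [h2, zero_add]

section main

variable [CharP F 2]
variable (hpol : ∀ u v, polar ⇑Q u v = Cfsg.sympForm m F u v)
include hpol

theorem polar_spGL {g : GL (Fin m ⊕ Fin m) F} (hg : g ∈ Cfsg.spGL m F) (u v : Fin m ⊕ Fin m → F) :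
    polar ⇑Q ((g : Matrix (Fin m ⊕ Fin m) (Fin m ⊕ Fin m) F) *ᵥ u)
      ((g : Matrix (Fin m ⊕ Fin m) (Fin m ⊕ Fin m) F) *ᵥ v) = polar ⇑Q u v := by
  rw [hpol, hpol]
  exact (mem_spGL_iff g).mp hg u v

theorem polar_spGL_left {g : GL (Fin m ⊕ Fin m) F} (hg : g ∈ Cfsg.spGL m F) (u a : Fin m ⊕ Fin m → F) :
    polar ⇑Q ((g : Matrix (Fin m ⊕ Fin m) (Fin m ⊕ Fin m) F) *ᵥ u) a =
      polar ⇑Q u (((g⁻¹ : GL (Fin m ⊕ Fin m) F) : Matrix (Fin m ⊕ Fin m) (Fin m ⊕ Fin m) F) *ᵥ a) := by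
  conv_lhs => rw [← glAct_act_inv g a]
  exact polar_spGL Q hpol hg _ _

theorem isometry_mem_spGL {x : GL (Fin m ⊕ Fin m) F}
    (hx : ∀ v, Q ((x : Matrix (Fin m ⊕ Fin m) (Fin m ⊕ Fin m) F) *ᵥ v) = Q v) : x ∈ Cfsg.spGL m F := by
  rw [mem_spGL_iff]
  intro u v
  rw [← hpol, ← hpol]
  exact polar_of_isometry Q x hx u v

theorem isDefect_unique (hQ : (polarBilin Q).Nondegenerate) {g : GL (Fin m ⊕ Fin m) F}
    {a a' : Fin m ⊕ Fin m → F} (h : IsDefect Q g a) (h' : IsDefect Q g a') : a = a' := by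
  have h1 : ∀ v, polar ⇑Q v a = polar ⇑Q v a' := by
    intro v
    apply eq_of_sq_eq_sq'
    have := (h v).symm.trans (h' v)
    exact add_left_cancel this
  have h2 : a - a' = 0 := by
    apply hQ.1
    intro v
    rw [QuadraticMap.polarBilin_apply_apply, QuadraticMap.polar_comm, QuadraticMap.polar_sub_right, h1,
      sub_self]
  exact sub_eq_zero.mp h2

theorem isDefect_mul {g h : GL (Fin m ⊕ Fin m) F} {a b : Fin m ⊕ Fin m → F} (hg : IsDefect Q g a)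
    (hh : IsDefect Q h b) (hhsp : h ∈ Cfsg.spGL m F) :
    IsDefect Q (g * h)
      (b + ((h⁻¹ : GL (Fin m ⊕ Fin m) F) : Matrix (Fin m ⊕ Fin m) (Fin m ⊕ Fin m) F) *ᵥ a) := by
  intro v
  rw [glAct_mul, hg, hh, polar_spGL_left Q hpol hhsp, QuadraticMap.polar_add_right, CharTwo.add_sq]
  ring

end main

section fin

variable [Fintype F] [CharP F 2]
variable (hQ : (polarBilin Q).Nondegenerate) (hpol : ∀ u v, polar ⇑Q u v = Cfsg.sympForm m F u v)
include hQ hpol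

theorem exists_isDefect {g : GL (Fin m ⊕ Fin m) F} (hg : g ∈ Cfsg.spGL m F) : ∃ a, IsDefect Q g a :=
  exists_defect Q hQ g (polar_spGL Q hpol hg)

theorem isDefect_inv {g : GL (Fin m ⊕ Fin m) F} (hg : g ∈ Cfsg.spGL m F) {a : Fin m ⊕ Fin m → F}
    (ha : IsDefect Q g a) :
    IsDefect Q g⁻¹ ((g : Matrix (Fin m ⊕ Fin m) (Fin m ⊕ Fin m) F) *ᵥ a) := by
  have hginv : g⁻¹ ∈ Cfsg.spGL m F := (Cfsg.spGL m F).inv_mem hg
  obtain ⟨b, hb⟩ := exists_isDefect Q hQ hpol hginv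
  have h1 := isDefect_mul Q hpol ha hb hginv
  rw [mul_inv_cancel, inv_inv] at h1
  have h2 := isDefect_unique Q hpol hQ h1 (isDefect_one Q)
  have h3 : b = (g : Matrix (Fin m ⊕ Fin m) (Fin m ⊕ Fin m) F) *ᵥ a := by
    funext i
    have := congrFun h2 i
    simp only [Pi.add_apply, Pi.zero_apply] at this
    calc b i = b i + ((g : Matrix (Fin m ⊕ Fin m) (Fin m ⊕ Fin m) F) *ᵥ a) i
          + ((g : Matrix (Fin m ⊕ Fin m) (Fin m ⊕ Fin m) F) *ᵥ a) i := by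
            rw [add_assoc, CharTwo.add_self_eq_zero, add_zero]
      _ = ((g : Matrix (Fin m ⊕ Fin m) (Fin m ⊕ Fin m) F) *ᵥ a) i := by rw [this, zero_add]
  rw [← h3]
  exact hb


/-- the defect of a symplectic transvection -/
theorem isDefect_tvGL (v : Fin m ⊕ Fin m → F) (c σ : F) (hσ : σ ^ 2 = c ^ 2 * Q v + c) :
    IsDefect Q (tvGL v c) (σ • v) := by
  intro x
  rw [tvGL_coe, sympTransvection_mulVec, ← hpol, QuadraticMap.map_add ⇑Q,
    QuadraticMap.map_smul, QuadraticMap.polar_smul_right, QuadraticMap.polar_smul_right, smul_eq_mul,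
    smul_eq_mul, smul_eq_mul, mul_pow σ, hσ]
  ring

theorem polar_self_eq_zero (a : Fin m ⊕ Fin m → F) : polar ⇑Q a a = 0 := by
  rw [hpol]
  exact sympForm_self a

/-- the subgroup of symplectic maps whose defect has `Q`-value of the form `s² + s` -/
def arfSubgroup : Subgroup (GL (Fin m ⊕ Fin m) F) where
  carrier := {g | g ∈ Cfsg.spGL m F ∧ ∃ a s, IsDefect Q g a ∧ Q a = s ^ 2 + s}
  one_mem' := ⟨(Cfsg.spGL m F).one_mem, 0, 0, isDefect_one Q, by rw [map_zero]; ring⟩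
  mul_mem' := by
    rintro g h ⟨hg, a, s, ha, has⟩ ⟨hh, b, t, hb, hbt⟩
    refine ⟨(Cfsg.spGL m F).mul_mem hg hh, _, s + t + polar ⇑Q a
      ((h : Matrix (Fin m ⊕ Fin m) (Fin m ⊕ Fin m) F) *ᵥ b), isDefect_mul Q hpol ha hb hh, ?_⟩
    have h1 : Q (((h⁻¹ : GL (Fin m ⊕ Fin m) F) : Matrix (Fin m ⊕ Fin m) (Fin m ⊕ Fin m) F) *ᵥ a)
        = Q a + (polar ⇑Q a ((h : Matrix (Fin m ⊕ Fin m) (Fin m ⊕ Fin m) F) *ᵥ b)) ^ 2 :=
      isDefect_inv Q hQ hpol hh hb a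
    have h2 : polar ⇑Q b
        (((h⁻¹ : GL (Fin m ⊕ Fin m) F) : Matrix (Fin m ⊕ Fin m) (Fin m ⊕ Fin m) F) *ᵥ a)
        = polar ⇑Q a ((h : Matrix (Fin m ⊕ Fin m) (Fin m ⊕ Fin m) F) *ᵥ b) := by
      rw [← polar_spGL_left Q hpol hh, QuadraticMap.polar_comm]
    have h3 : Q (b + ((h⁻¹ : GL (Fin m ⊕ Fin m) F) : Matrix (Fin m ⊕ Fin m) (Fin m ⊕ Fin m) F) *ᵥ a)
        = Q b + Q (((h⁻¹ : GL (Fin m ⊕ Fin m) F) : Matrix (Fin m ⊕ Fin m) (Fin m ⊕ Fin m) F) *ᵥ a)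
          + polar ⇑Q b
            (((h⁻¹ : GL (Fin m ⊕ Fin m) F) : Matrix (Fin m ⊕ Fin m) (Fin m ⊕ Fin m) F) *ᵥ a) := by
      unfold QuadraticMap.polar
      ring
    rw [h3, h1, h2, has, hbt, CharTwo.add_sq, CharTwo.add_sq]
    ring
  inv_mem' := by
    rintro g ⟨hg, a, s, ha, has⟩
    refine ⟨(Cfsg.spGL m F).inv_mem hg, _, s, isDefect_inv Q hQ hpol hg ha, ?_⟩
    rw [ha a, polar_self_eq_zero Q hQ hpol, has]
    ring

theorem spGL_le_arfSubgroup : Cfsg.spGL m F ≤ arfSubgroup Q hQ hpol := by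
  apply spGL_le_of_tv
  intro v c
  obtain ⟨σ, hσ⟩ := FiniteField.isSquare_of_char_two (F := F)
    (CharP.ringChar_of_prime_eq_zero Nat.prime_two (CharP.cast_eq_zero F 2)) (c ^ 2 * Q v + c)
  refine ⟨tvGL_mem_spGL v c, σ • v, c * Q v, isDefect_tvGL Q hQ hpol v c σ (by rw [hσ]; ring), ?_⟩
  rw [QuadraticMap.map_smul, smul_eq_mul, ← hσ]
  ring

/-- the `Q`-value of a defect vector is of the form `s² + s` -/
theorem exists_arf {g : GL (Fin m ⊕ Fin m) F} (hg : g ∈ Cfsg.spGL m F) {a : Fin m ⊕ Fin m → F}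
    (ha : IsDefect Q g a) : ∃ s : F, Q a = s ^ 2 + s := by
  obtain ⟨-, a', s, ha', has⟩ := spGL_le_arfSubgroup Q hQ hpol hg
  rw [isDefect_unique Q hpol hQ ha ha']
  exact ⟨s, has⟩

/-- the defect of a symplectic map commuting with an isometry `x` is fixed by `x` -/
theorem defect_fixed {g x : GL (Fin m ⊕ Fin m) F} (hg : g ∈ Cfsg.spGL m F)
    (hx : ∀ v, Q ((x : Matrix (Fin m ⊕ Fin m) (Fin m ⊕ Fin m) F) *ᵥ v) = Q v)
    (hcomm : g * x = x * g) {a : Fin m ⊕ Fin m → F} (ha : IsDefect Q g a) :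
    (x : Matrix (Fin m ⊕ Fin m) (Fin m ⊕ Fin m) F) *ᵥ a = a := by
  have hx0 : IsDefect Q x 0 := (isDefect_zero_iff Q x).mpr hx
  have hxsp : x ∈ Cfsg.spGL m F := isometry_mem_spGL Q hpol hx
  have h1 := isDefect_mul Q hpol ha hx0 hxsp
  have h2 := isDefect_mul Q hpol hx0 ha hg
  rw [hcomm] at h1
  have h3 := isDefect_unique Q hpol hQ h1 h2
  rw [Matrix.mulVec_zero, zero_add, add_zero] at h3
  rw [← h3, glAct_act_inv, h3]

/-- a fixed vector `a` of an isometry `x` with `Q a = s² + s` is the defect of a transvection commuting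
with `x` -/
theorem exists_tv_defect {x : GL (Fin m ⊕ Fin m) F}
    (hx : ∀ v, Q ((x : Matrix (Fin m ⊕ Fin m) (Fin m ⊕ Fin m) F) *ᵥ v) = Q v)
    {a : Fin m ⊕ Fin m → F} (hxa : (x : Matrix (Fin m ⊕ Fin m) (Fin m ⊕ Fin m) F) *ᵥ a = a) {s : F}
    (has : Q a = s ^ 2 + s) :
    ∃ g ∈ Cfsg.spGL m F, g * x = x * g ∧ IsDefect Q g a := by
  have hxsp : x ∈ Cfsg.spGL m F := isometry_mem_spGL Q hpol hx
  have hcomm : ∀ c, tvGL a c * x = x * tvGL a c := by
    intro c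
    have := conj_tvGL hxsp a c
    rw [hxa] at this
    calc tvGL a c * x = x * tvGL a c * x⁻¹ * x := by rw [this]
      _ = x * tvGL a c := by group
  by_cases h0 : Q a = 0
  · refine ⟨tvGL a 1, tvGL_mem_spGL a 1, hcomm 1, ?_⟩
    have := isDefect_tvGL Q hQ hpol a 1 1 (by rw [h0]; ring)
    rwa [one_smul] at this
  · refine ⟨tvGL a (s / Q a), tvGL_mem_spGL a _, hcomm _, ?_⟩
    have := isDefect_tvGL Q hQ hpol a (s / Q a) 1 (by
      field_simp
      rw [has]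
      ring)
    rwa [one_smul] at this

end fin

end Cfsg.Agent.Helper94.OrC
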