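import Cfsg.Agent.Helper94.OrC9

set_option autoImplicit false
set_option linter.unusedSectionVars false

/-!
# Ω-centraliser of the normal form of type `a`
-/

namespace Cfsg.Agent.Helper94.OrC

open Matrix QuadraticMap Module Cfsg.Agent.Helper13 Cfsg.Agent.Helper45.OmegaParity
open Cfsg.Agent.Helper44 Cfsg.Agent.Helper43.SpInv Cfsg.Agent.Helper43.OrthInv Cfsg.Agent.Helper94.SpC

variable {F : Type*} [Field F] [Fintype F] [CharP F 2] {m : ℕ}

theorem x0_iso (k : ℕ) (v : Fin m ⊕ Fin m → F) :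
    plusForm m F ((((x0 F m k : ↥(Cfsg.isometryGroup F (Cfsg.quadFormPlus m F))) :
      GL (Fin m ⊕ Fin m) F) : Matrix (Fin m ⊕ Fin m) (Fin m ⊕ Fin m) F) *ᵥ v) = plusForm m F v :=
  T0_isometry k v

/-- `n ≥ 1` -/
theorem card_omega_centralizer_x0_pos (h : Fintype.card F ≠ 2 ∨ m ≠ 2) {k : ℕ} (hk : 2 * k < m)
    (hxsp : ((x0 F m k : ↥(Cfsg.isometryGroup F (Cfsg.quadFormPlus m F))) :
      GL (Fin m ⊕ Fin m) F) ∈ Cfsg.spGL m F) :
    Nat.card ↥(Subgroup.centralizer
        ({toSp ((x0 F m k : ↥(Cfsg.isometryGroup F (Cfsg.quadFormPlus m F))) :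
          GL (Fin m ⊕ Fin m) F) hxsp} : Set ↥(Matrix.symplecticGroup (Fin m) F)))
      = Nat.card (FixArf (plusForm m F)
          ((x0 F m k : ↥(Cfsg.isometryGroup F (Cfsg.quadFormPlus m F))) : GL (Fin m ⊕ Fin m) F))
        * (2 * Nat.card {g : ↥(Cfsg.Omega F (Cfsg.quadFormPlus m F)) //
          (g : ↥(Cfsg.isometryGroup F (Cfsg.quadFormPlus m F))) * x0 F m k
            = x0 F m k * (g : ↥(Cfsg.isometryGroup F (Cfsg.quadFormPlus m F)))}) := by
  have hQ := nondegenerate_plusForm (F := F) m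
  have hpol : ∀ u v, polar ⇑(plusForm m F) u v = Cfsg.sympForm m F u v := polar_plusForm
  have h1 := card_CSp (plusForm m F) hQ hpol
    ((x0 F m k : ↥(Cfsg.isometryGroup F (Cfsg.quadFormPlus m F))) : GL (Fin m ⊕ Fin m) F) (x0_iso k)
  obtain ⟨w, hw0, hwfix⟩ := exists_nonsing_fixed_x0 (F := F) hk
  have h4 : Nat.card {o : ↥(Cfsg.isometryGroup F (Cfsg.quadFormPlus m F)) // o * x0 F m k = x0 F m k * o}
      = 2 * Nat.card {g : ↥(Cfsg.Omega F (Cfsg.quadFormPlus m F)) //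
          (g : ↥(Cfsg.isometryGroup F (Cfsg.quadFormPlus m F))) * x0 F m k
            = x0 F m k * (g : ↥(Cfsg.isometryGroup F (Cfsg.quadFormPlus m F)))} :=
    card_comm_index_two (parityHom (plusForm m F) hQ (card_ne_four h))
      (Cfsg.Omega F (Cfsg.quadFormPlus m F))
      (fun g => mem_Omega_iff_parityHom (plusForm m F) hQ (card_ne_four h) g) (x0 F m k)
      (reflT (plusForm m F) w) (reflT_comm_of_fixed (plusForm m F) (x0 F m k) w hw0 hwfix) (by
        rw [parityHom_reflT (plusForm m F) hQ (card_ne_four h) w hw0]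
        decide)
  rw [Nat.card_congr (centralizerEquiv _ hxsp), h1, ← Nat.card_congr (coEquiv (x0 F m k)), h4]

/-- `n = 0` -/
theorem card_omega_centralizer_x0_zero (h : Fintype.card F ≠ 2 ∨ m ≠ 2) {k : ℕ} (hk : m = 2 * k)
    (hxsp : ((x0 F m k : ↥(Cfsg.isometryGroup F (Cfsg.quadFormPlus m F))) :
      GL (Fin m ⊕ Fin m) F) ∈ Cfsg.spGL m F) :
    Nat.card ↥(Subgroup.centralizer
        ({toSp ((x0 F m k : ↥(Cfsg.isometryGroup F (Cfsg.quadFormPlus m F))) :
          GL (Fin m ⊕ Fin m) F) hxsp} : Set ↥(Matrix.symplecticGroup (Fin m) F)))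
      = Nat.card (FixArf (plusForm m F)
          ((x0 F m k : ↥(Cfsg.isometryGroup F (Cfsg.quadFormPlus m F))) : GL (Fin m ⊕ Fin m) F))
        * Nat.card {g : ↥(Cfsg.Omega F (Cfsg.quadFormPlus m F)) //
          (g : ↥(Cfsg.isometryGroup F (Cfsg.quadFormPlus m F))) * x0 F m k
            = x0 F m k * (g : ↥(Cfsg.isometryGroup F (Cfsg.quadFormPlus m F)))} := by
  have hQ := nondegenerate_plusForm (F := F) m
  have hpol : ∀ u v, polar ⇑(plusForm m F) u v = Cfsg.sympForm m F u v := polar_plusForm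
  have h1 := card_CSp (plusForm m F) hQ hpol
    ((x0 F m k : ↥(Cfsg.isometryGroup F (Cfsg.quadFormPlus m F))) : GL (Fin m ⊕ Fin m) F) (x0_iso k)
  have e : {o : ↥(Cfsg.isometryGroup F (Cfsg.quadFormPlus m F)) // o * x0 F m k = x0 F m k * o} ≃
      {g : ↥(Cfsg.Omega F (Cfsg.quadFormPlus m F)) //
          (g : ↥(Cfsg.isometryGroup F (Cfsg.quadFormPlus m F))) * x0 F m k
            = x0 F m k * (g : ↥(Cfsg.isometryGroup F (Cfsg.quadFormPlus m F)))} :=
    { toFun := fun o => ⟨⟨o.1, mem_Omega_of_comm_x0 h hk o.1 o.2⟩, o.2⟩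
      invFun := fun g => ⟨g.1.1, g.2⟩
      left_inv := fun o => rfl
      right_inv := fun g => rfl }
  rw [Nat.card_congr (centralizerEquiv _ hxsp), h1, ← Nat.card_congr (coEquiv (x0 F m k)),
    Nat.card_congr e]

theorem card_fixArf_zero :
    Nat.card (FixArf (plusForm 0 F) (1 : GL (Fin 0 ⊕ Fin 0) F)) = 1 := by
  rw [Nat.card_eq_one_iff_unique]
  constructor
  · constructor
    intro a b
    apply Subtype.ext
    funext i
    rcases i with i | i <;> exact i.elim0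
  · exact ⟨⟨0, by rw [Matrix.mulVec_zero], 0, by rw [map_zero]; ring⟩⟩

end Cfsg.Agent.Helper94.OrC
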