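import Cfsg.Agent.Helper94.OrC1
import Cfsg.Agent.Helper13.LineCount

set_option autoImplicit false
set_option linter.unusedSectionVars false

/-!
# Counting symplectic maps commuting with an isometry via their defect vectors
-/

namespace Cfsg.Agent.Helper94.OrC

open Matrix QuadraticMap Cfsg.Agent.Helper13 Cfsg.Agent.Helper45.OmegaParity

variable {F : Type*} [Field F] {m : ℕ}
variable (Q : QuadraticForm F (Fin m ⊕ Fin m → F))

/-- symplectic maps commuting with `x` -/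
def CSp (m : ℕ) (F : Type*) [Field F] (x : GL (Fin m ⊕ Fin m) F) : Type _ :=
  {g : GL (Fin m ⊕ Fin m) F // g ∈ Cfsg.spGL m F ∧ g * x = x * g}

/-- isometries commuting with `x` -/
def CO (x : GL (Fin m ⊕ Fin m) F) : Type _ :=
  {g : GL (Fin m ⊕ Fin m) F //
    (∀ v, Q ((g : Matrix (Fin m ⊕ Fin m) (Fin m ⊕ Fin m) F) *ᵥ v) = Q v) ∧ g * x = x * g}

/-- fixed vectors of `x` whose `Q`-value has the form `s² + s` -/
def FixArf (x : GL (Fin m ⊕ Fin m) F) : Type _ :=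
  {a : Fin m ⊕ Fin m → F //
    (x : Matrix (Fin m ⊕ Fin m) (Fin m ⊕ Fin m) F) *ᵥ a = a ∧ ∃ s : F, Q a = s ^ 2 + s}

section fin

variable [Fintype F] [CharP F 2]

instance (x : GL (Fin m ⊕ Fin m) F) : Finite (CSp m F x) := by
  unfold CSp; infer_instance

instance (x : GL (Fin m ⊕ Fin m) F) : Finite (CO Q x) := by
  unfold CO; infer_instance

instance (x : GL (Fin m ⊕ Fin m) F) : Finite (FixArf Q x) := by
  unfold FixArf; infer_instance

variable (hQ : (polarBilin Q).Nondegenerate) (hpol : ∀ u v, polar ⇑Q u v = Cfsg.sympForm m F u v)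
include hQ hpol

/-- the defect vector -/
noncomputable def defect {g : GL (Fin m ⊕ Fin m) F} (hg : g ∈ Cfsg.spGL m F) : Fin m ⊕ Fin m → F :=
  Classical.choose (exists_isDefect Q hQ hpol hg)

theorem defect_spec {g : GL (Fin m ⊕ Fin m) F} (hg : g ∈ Cfsg.spGL m F) :
    IsDefect Q g (defect Q hQ hpol hg) :=
  Classical.choose_spec (exists_isDefect Q hQ hpol hg)

theorem defect_eq {g : GL (Fin m ⊕ Fin m) F} (hg : g ∈ Cfsg.spGL m F) {a : Fin m ⊕ Fin m → F}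
    (ha : IsDefect Q g a) : defect Q hQ hpol hg = a :=
  isDefect_unique Q hpol hQ (defect_spec Q hQ hpol hg) ha

/-- the defect map on the centraliser -/
noncomputable def defectMap (x : GL (Fin m ⊕ Fin m) F)
    (hx : ∀ v, Q ((x : Matrix (Fin m ⊕ Fin m) (Fin m ⊕ Fin m) F) *ᵥ v) = Q v) :
    CSp m F x → FixArf Q x := fun g =>
  ⟨defect Q hQ hpol g.2.1, defect_fixed Q hQ hpol g.2.1 hx g.2.2 (defect_spec Q hQ hpol g.2.1),
    exists_arf Q hQ hpol g.2.1 (defect_spec Q hQ hpol g.2.1)⟩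

theorem add_self_vec (a : Fin m ⊕ Fin m → F) : a + a = 0 := by
  funext i
  exact CharTwo.add_self_eq_zero _

theorem card_fiber (x : GL (Fin m ⊕ Fin m) F)
    (hx : ∀ v, Q ((x : Matrix (Fin m ⊕ Fin m) (Fin m ⊕ Fin m) F) *ᵥ v) = Q v) (a : FixArf Q x) :
    Nat.card {g : CSp m F x // defectMap Q hQ hpol x hx g = a} = Nat.card (CO Q x) := by
  obtain ⟨s, has⟩ := a.2.2
  obtain ⟨g₀, hg₀, hg₀x, hg₀a⟩ := exists_tv_defect Q hQ hpol hx a.2.1 has
  have hg₀inv : g₀⁻¹ ∈ Cfsg.spGL m F := (Cfsg.spGL m F).inv_mem hg₀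
  have hg₀inva := isDefect_inv Q hQ hpol hg₀ hg₀a
  have hinvx : g₀⁻¹ * x = x * g₀⁻¹ := by
    calc g₀⁻¹ * x = g₀⁻¹ * (x * g₀) * g₀⁻¹ := by group
      _ = g₀⁻¹ * (g₀ * x) * g₀⁻¹ := by rw [hg₀x]
      _ = x * g₀⁻¹ := by group
  have hmem : ∀ o : CO Q x, o.1 * g₀ ∈ Cfsg.spGL m F := fun o =>
    (Cfsg.spGL m F).mul_mem (isometry_mem_spGL Q hpol o.2.1) hg₀
  apply Nat.card_congr
  refine
    { toFun := fun g => ⟨g.1.1 * g₀⁻¹, ?_, ?_⟩
      invFun := fun o => ⟨⟨o.1 * g₀, hmem o, ?_⟩, ?_⟩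
      left_inv := ?_
      right_inv := ?_ }
  · -- isometry
    have h1 : defect Q hQ hpol g.1.2.1 = a.1 := congrArg Subtype.val g.2
    have h2 := isDefect_mul Q hpol (defect_spec Q hQ hpol g.1.2.1) hg₀inva hg₀inv
    rw [h1, inv_inv, add_self_vec Q hQ hpol] at h2
    exact (isDefect_zero_iff Q _).mp h2
  · calc g.1.1 * g₀⁻¹ * x = g.1.1 * (g₀⁻¹ * x) := by group
      _ = g.1.1 * (x * g₀⁻¹) := by rw [hinvx]
      _ = (g.1.1 * x) * g₀⁻¹ := by group
      _ = (x * g.1.1) * g₀⁻¹ := by rw [g.1.2.2]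
      _ = x * (g.1.1 * g₀⁻¹) := by group
  · calc o.1 * g₀ * x = o.1 * (g₀ * x) := by group
      _ = o.1 * (x * g₀) := by rw [hg₀x]
      _ = (o.1 * x) * g₀ := by group
      _ = (x * o.1) * g₀ := by rw [o.2.2]
      _ = x * (o.1 * g₀) := by group
  · apply Subtype.ext
    show defect Q hQ hpol (hmem o) = a.1
    apply defect_eq
    have h0 : IsDefect Q o.1 0 := (isDefect_zero_iff Q _).mpr o.2.1
    have := isDefect_mul Q hpol h0 hg₀a hg₀
    rwa [Matrix.mulVec_zero, add_zero] at this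
  · intro g
    apply Subtype.ext
    apply Subtype.ext
    show g.1.1 * g₀⁻¹ * g₀ = g.1.1
    group
  · intro o
    apply Subtype.ext
    show o.1 * g₀ * g₀⁻¹ = o.1
    group

/-- `|C_Sp(x)| = |{fixed a with Q a ∈ ℘}| · |C_O(x)|` -/
theorem card_CSp (x : GL (Fin m ⊕ Fin m) F)
    (hx : ∀ v, Q ((x : Matrix (Fin m ⊕ Fin m) (Fin m ⊕ Fin m) F) *ᵥ v) = Q v) :
    Nat.card (CSp m F x) = Nat.card (FixArf Q x) * Nat.card (CO Q x) :=
  card_eq_mul_of_fibers (defectMap Q hQ hpol x hx) _ (card_fiber Q hQ hpol x hx)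

end fin

end Cfsg.Agent.Helper94.OrC
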