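import Cfsg.Agent.Helper94.OrC2

set_option autoImplicit false
set_option linter.unusedSectionVars false

/-!
# Index two lemmas: the Artin–Schreier subgroup and centralisers
-/

namespace Cfsg.Agent.Helper94.OrC

open Matrix QuadraticMap Cfsg.Agent.Helper13 Cfsg.Agent.Helper45.OmegaParity

section AS

variable {F : Type*} [Field F] [CharP F 2]

/-- the Artin–Schreier map `z ↦ z² + z` -/
def asHom (F : Type*) [Field F] [CharP F 2] : F →+ F where
  toFun z := z ^ 2 + z
  map_zero' := by ring
  map_add' a b := by rw [CharTwo.add_sq]; ring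

theorem asHom_apply (z : F) : asHom F z = z ^ 2 + z := rfl

theorem mem_asRange_iff (u : F) : u ∈ (asHom F).range ↔ ∃ s : F, u = s ^ 2 + s := by
  constructor
  · rintro ⟨s, rfl⟩
    exact ⟨s, rfl⟩
  · rintro ⟨s, rfl⟩
    exact ⟨s, rfl⟩

theorem asHom_ker_card : Nat.card ↥(asHom F).ker = 2 := by
  rw [Nat.card_eq_two_iff]
  refine ⟨⟨0, by rw [AddMonoidHom.mem_ker, map_zero]⟩,
    ⟨1, by rw [AddMonoidHom.mem_ker, asHom_apply, one_pow]; exact CharTwo.add_self_eq_zero _⟩, ?_, ?_⟩
  · intro h
    exact zero_ne_one (congrArg Subtype.val h)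
  · ext ⟨z, hz⟩
    simp only [Set.mem_insert_iff, Set.mem_singleton_iff, Set.mem_univ, iff_true]
    rw [AddMonoidHom.mem_ker, asHom_apply] at hz
    have h1 : z * (z + 1) = 0 := by rw [← hz]; ring
    rcases mul_eq_zero.mp h1 with h | h
    · left
      exact Subtype.ext h
    · right
      apply Subtype.ext
      show z = 1
      calc z = z + 1 + 1 := by rw [add_assoc, CharTwo.add_self_eq_zero, add_zero]
        _ = 1 := by rw [h, zero_add]

theorem asRange_index [Finite F] : (asHom F).range.index = 2 := by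
  rw [AddSubgroup.index_range, asHom_ker_card]

/-- sums of two non-Artin–Schreier elements are Artin–Schreier -/
theorem as_add_iff [Finite F] {u w : F} (hw : ¬ ∃ s : F, w = s ^ 2 + s) :
    (∃ s : F, u + w = s ^ 2 + s) ↔ ¬ ∃ s : F, u = s ^ 2 + s := by
  rw [← mem_asRange_iff, ← mem_asRange_iff, AddSubgroup.add_mem_iff_of_index_two asRange_index]
  rw [← mem_asRange_iff] at hw
  constructor
  · intro h hu
    exact hw (h.mp hu)
  · intro h
    exact ⟨fun hu => absurd hu h, fun hw' => absurd hw' hw⟩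

theorem exists_not_as [Finite F] : ∃ u : F, ¬ ∃ s : F, u = s ^ 2 + s := by
  by_contra hcon
  push Not at hcon
  have h1 : (asHom F).range = ⊤ := by
    rw [eq_top_iff]
    intro u _
    rw [mem_asRange_iff]
    exact hcon u
  have h2 := asRange_index (F := F)
  rw [h1, AddSubgroup.index_top] at h2
  omega

end AS

section idx

/-- centraliser of `x` meets a subgroup of index two in a subgroup of index two, if some element outside
commutes with `x` -/
theorem card_comm_index_two {G : Type*} [Group G] [Finite G] (φ : G →* Multiplicative (ZMod 2))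
    (K : Subgroup G) (hK : ∀ g, g ∈ K ↔ φ g = 1) (x r : G) (hr : r * x = x * r) (hφr : φ r ≠ 1) :
    Nat.card {g : G // g * x = x * g} = 2 * Nat.card {g : K // (g : G) * x = x * g} := by
  have h2 : Nat.card (Multiplicative (ZMod 2)) = 2 := by
    rw [Nat.card_eq_fintype_card]; rfl
  rw [← h2]
  apply card_eq_mul_of_fibers (fun g : {g : G // g * x = x * g} => φ g.1)
  intro b
  have hb : ∃ rb : G, rb * x = x * rb ∧ φ rb = b := by
    by_cases hb1 : b = 1
    · exact ⟨1, by group, by rw [map_one, hb1]⟩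
    · refine ⟨r, hr, ?_⟩
      have key : ∀ a b : Multiplicative (ZMod 2), a ≠ 1 → b ≠ 1 → a = b := by decide
      exact key _ _ hφr hb1
  obtain ⟨rb, hrb, hφrb⟩ := hb
  have hrbinv : rb⁻¹ * x = x * rb⁻¹ := by
    calc rb⁻¹ * x = rb⁻¹ * (x * rb) * rb⁻¹ := by group
      _ = rb⁻¹ * (rb * x) * rb⁻¹ := by rw [hrb]
      _ = x * rb⁻¹ := by group
  apply Nat.card_congr
  refine
    { toFun := fun g => ⟨⟨rb⁻¹ * g.1.1, ?_⟩, ?_⟩
      invFun := fun k => ⟨⟨rb * k.1.1, ?_⟩, ?_⟩
      left_inv := ?_
      right_inv := ?_ }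
  · rw [hK, map_mul, map_inv, hφrb]
    have : φ g.1.1 = b := g.2
    rw [this]
    group
  · show rb⁻¹ * g.1.1 * x = x * (rb⁻¹ * g.1.1)
    calc rb⁻¹ * g.1.1 * x = rb⁻¹ * (g.1.1 * x) := by group
      _ = rb⁻¹ * (x * g.1.1) := by rw [g.1.2]
      _ = (rb⁻¹ * x) * g.1.1 := by group
      _ = (x * rb⁻¹) * g.1.1 := by rw [hrbinv]
      _ = x * (rb⁻¹ * g.1.1) := by group
  · calc rb * k.1.1 * x = rb * (k.1.1 * x) := by group
      _ = rb * (x * k.1.1) := by rw [k.2]
      _ = (rb * x) * k.1.1 := by group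
      _ = (x * rb) * k.1.1 := by rw [hrb]
      _ = x * (rb * k.1.1) := by group
  · show φ (rb * k.1.1) = b
    rw [map_mul, hφrb, (hK _).mp k.1.2, mul_one]
  · intro g
    apply Subtype.ext
    apply Subtype.ext
    show rb * (rb⁻¹ * g.1.1) = g.1.1
    group
  · intro k
    apply Subtype.ext
    apply Subtype.ext
    show rb⁻¹ * (rb * k.1.1) = k.1.1
    group

end idx

end Cfsg.Agent.Helper94.OrC
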