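import Cfsg.Agent.Helper94.OrC3
import Cfsg.Agent.S2166

set_option autoImplicit false
set_option linter.unusedSectionVars false

/-!
# Counting the fixed vectors with Artin–Schreier `Q`-value: the non-alternating case
-/

namespace Cfsg.Agent.Helper94.OrC

open Matrix QuadraticMap Module Cfsg.Agent.Helper13 Cfsg.Agent.Helper45.OmegaParity

variable {F : Type*} [Field F] {m : ℕ}
variable (Q : QuadraticForm F (Fin m ⊕ Fin m → F))

section fin

variable [Fintype F] [CharP F 2]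

/-- number of fixed vectors -/
theorem card_fixed (A : Matrix (Fin m ⊕ Fin m) (Fin m ⊕ Fin m) F) :
    Nat.card {a : Fin m ⊕ Fin m → F // A *ᵥ a = a} * Fintype.card F ^ (A - 1).rank
      = Fintype.card F ^ (2 * m) := by
  have e : {a : Fin m ⊕ Fin m → F // A *ᵥ a = a} ≃ ↥(LinearMap.ker (A - 1).mulVecLin) :=
    Equiv.subtypeEquivRight (fun a => by
      rw [LinearMap.mem_ker, Matrix.mulVecLin_apply, Matrix.sub_mulVec, Matrix.one_mulVec, sub_eq_zero])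
  rw [Nat.card_congr e, natCard_submodule, ← pow_add]
  congr 1
  have h1 := LinearMap.finrank_range_add_finrank_ker (A - 1).mulVecLin
  rw [Module.finrank_fintype_fun_eq_card, Fintype.card_sum, Fintype.card_fin] at h1
  unfold Matrix.rank
  omega

variable (x : GL (Fin m ⊕ Fin m) F)
  (hx : ∀ v, Q ((x : Matrix (Fin m ⊕ Fin m) (Fin m ⊕ Fin m) F) *ᵥ v) = Q v)
  (hx2 : (x : Matrix (Fin m ⊕ Fin m) (Fin m ⊕ Fin m) F) * (x : Matrix (Fin m ⊕ Fin m) (Fin m ⊕ Fin m) F) = 1)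
include hx hx2

theorem fixed_sub_one (v : Fin m ⊕ Fin m → F) :
    (x : Matrix (Fin m ⊕ Fin m) (Fin m ⊕ Fin m) F) *ᵥ
      (((x : Matrix (Fin m ⊕ Fin m) (Fin m ⊕ Fin m) F) - 1) *ᵥ v)
      = ((x : Matrix (Fin m ⊕ Fin m) (Fin m ⊕ Fin m) F) - 1) *ᵥ v := by
  have h := Cfsg.Agent.S2166.sub_one_sq _ hx2
  have h2 : ((x : Matrix (Fin m ⊕ Fin m) (Fin m ⊕ Fin m) F) - 1) *ᵥ
      (((x : Matrix (Fin m ⊕ Fin m) (Fin m ⊕ Fin m) F) - 1) *ᵥ v) = 0 := by
    rw [Matrix.mulVec_mulVec, h, Matrix.zero_mulVec]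
  rw [Matrix.sub_mulVec _ _ (((x : Matrix (Fin m ⊕ Fin m) (Fin m ⊕ Fin m) F) - 1) *ᵥ v),
    Matrix.one_mulVec, sub_eq_zero] at h2
  exact h2

theorem polar_fixed_sub_one {a : Fin m ⊕ Fin m → F}
    (ha : (x : Matrix (Fin m ⊕ Fin m) (Fin m ⊕ Fin m) F) *ᵥ a = a) (v : Fin m ⊕ Fin m → F) :
    polar ⇑Q a (((x : Matrix (Fin m ⊕ Fin m) (Fin m ⊕ Fin m) F) - 1) *ᵥ v) = 0 := by
  rw [Matrix.sub_mulVec, Matrix.one_mulVec, QuadraticMap.polar_sub_right]
  conv_lhs => rw [← ha]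
  rw [polar_of_isometry Q x hx, ha, sub_self]

/-- in the non-alternating case exactly half of the fixed vectors have Artin–Schreier value -/
theorem card_fixArf_nonalt
    (hna : ∃ v, Q (((x : Matrix (Fin m ⊕ Fin m) (Fin m ⊕ Fin m) F) - 1) *ᵥ v) ≠ 0) :
    2 * Nat.card (FixArf Q x)
      = Nat.card {a : Fin m ⊕ Fin m → F // (x : Matrix (Fin m ⊕ Fin m) (Fin m ⊕ Fin m) F) *ᵥ a = a} := by
  classical
  obtain ⟨v₁, hv₁⟩ := hna
  obtain ⟨u, hu⟩ := exists_not_as (F := F)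
  obtain ⟨c, hc⟩ := FiniteField.isSquare_of_char_two (F := F)
    (CharP.ringChar_of_prime_eq_zero Nat.prime_two (CharP.cast_eq_zero F 2))
    (u / Q (((x : Matrix (Fin m ⊕ Fin m) (Fin m ⊕ Fin m) F) - 1) *ᵥ v₁))
  obtain ⟨w, hw⟩ : ∃ w, w = ((x : Matrix (Fin m ⊕ Fin m) (Fin m ⊕ Fin m) F) - 1) *ᵥ (c • v₁) :=
    ⟨_, rfl⟩
  have hQw : Q w = u := by
    rw [hw, Matrix.mulVec_smul, QuadraticMap.map_smul, smul_eq_mul, ← hc]
    field_simp
  have hxw : (x : Matrix (Fin m ⊕ Fin m) (Fin m ⊕ Fin m) F) *ᵥ w = w := by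
    rw [hw]; exact fixed_sub_one Q x hx hx2 _
  have hpw : ∀ a, (x : Matrix (Fin m ⊕ Fin m) (Fin m ⊕ Fin m) F) *ᵥ a = a → polar ⇑Q a w = 0 := by
    intro a ha
    rw [hw]; exact polar_fixed_sub_one Q x hx hx2 ha _
  have hQadd : ∀ a, (x : Matrix (Fin m ⊕ Fin m) (Fin m ⊕ Fin m) F) *ᵥ a = a → Q (a + w) = Q a + u := by
    intro a ha
    have := hpw a ha
    unfold QuadraticMap.polar at this
    rw [hQw] at this
    linear_combination this
  have hww : w + w = 0 := by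
    funext i
    exact CharTwo.add_self_eq_zero _
  -- the complementary subtype
  have e : FixArf Q x ≃ {a : Fin m ⊕ Fin m → F //
      (x : Matrix (Fin m ⊕ Fin m) (Fin m ⊕ Fin m) F) *ᵥ a = a ∧ ¬ ∃ s : F, Q a = s ^ 2 + s} :=
    { toFun := fun a => ⟨a.1 + w, by rw [Matrix.mulVec_add, a.2.1, hxw], by
        rw [hQadd a.1 a.2.1, as_add_iff hu]
        exact not_not.mpr a.2.2⟩
      invFun := fun a => ⟨a.1 + w, by rw [Matrix.mulVec_add, a.2.1, hxw], by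
        rw [hQadd a.1 a.2.1, as_add_iff hu]
        exact a.2.2⟩
      left_inv := fun a => by
        apply Subtype.ext
        show a.1 + w + w = a.1
        rw [add_assoc, hww, add_zero]
      right_inv := fun a => by
        apply Subtype.ext
        show a.1 + w + w = a.1
        rw [add_assoc, hww, add_zero] }
  have e2 := (Equiv.sumCompl (fun a : {a : Fin m ⊕ Fin m → F //
      (x : Matrix (Fin m ⊕ Fin m) (Fin m ⊕ Fin m) F) *ᵥ a = a} => ∃ s : F, Q a.1 = s ^ 2 + s)).symm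
  have e3 : {a : {a : Fin m ⊕ Fin m → F //
      (x : Matrix (Fin m ⊕ Fin m) (Fin m ⊕ Fin m) F) *ᵥ a = a} // ∃ s : F, Q a.1 = s ^ 2 + s}
      ≃ FixArf Q x :=
    Equiv.subtypeSubtypeEquivSubtypeInter
      (fun a : Fin m ⊕ Fin m → F => (x : Matrix (Fin m ⊕ Fin m) (Fin m ⊕ Fin m) F) *ᵥ a = a)
      (fun a => ∃ s : F, Q a = s ^ 2 + s)
  have e4 : {a : {a : Fin m ⊕ Fin m → F //
      (x : Matrix (Fin m ⊕ Fin m) (Fin m ⊕ Fin m) F) *ᵥ a = a} // ¬ ∃ s : F, Q a.1 = s ^ 2 + s}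
      ≃ {a : Fin m ⊕ Fin m → F //
      (x : Matrix (Fin m ⊕ Fin m) (Fin m ⊕ Fin m) F) *ᵥ a = a ∧ ¬ ∃ s : F, Q a = s ^ 2 + s} :=
    Equiv.subtypeSubtypeEquivSubtypeInter
      (fun a : Fin m ⊕ Fin m → F => (x : Matrix (Fin m ⊕ Fin m) (Fin m ⊕ Fin m) F) *ᵥ a = a)
      (fun a => ¬ ∃ s : F, Q a = s ^ 2 + s)
  rw [Nat.card_congr e2, Nat.card_sum, Nat.card_congr e3, Nat.card_congr e4, ← Nat.card_congr e]
  ring

end fin

end Cfsg.Agent.Helper94.OrC
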