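import Cfsg.Agent.Helper94.OrC4
import Cfsg.Agent.Helper44.StdNondeg
import Cfsg.Agent.Helper13.SpDec4

set_option autoImplicit false
set_option linter.unusedSectionVars false

/-!
# Ω-centralisers of involutions of `O⁺_2m(q)`, `q` even, from symplectic centralisers
-/

namespace Cfsg.Agent.Helper94.OrC

open Matrix QuadraticMap Module Cfsg.Agent.Helper13 Cfsg.Agent.Helper45.OmegaParity
open Cfsg.Agent.Helper44

variable {F : Type*} [Field F] {m : ℕ}

/-- the polar form of the hyperbolic quadratic form is the symplectic form in characteristic two -/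
theorem polar_plusForm [CharP F 2] (u v : Fin m ⊕ Fin m → F) :
    polar ⇑(plusForm m F) u v = Cfsg.sympForm m F u v := by
  rw [plusForm_coe, polar_quadFormPlus, sympForm_eq_sum]
  refine Finset.sum_congr rfl fun i _ => ?_
  rw [CharTwo.sub_eq_add]
  ring

/-- a member of `spGL` as an element of Mathlib's symplectic group -/
def toSp (g : GL (Fin m ⊕ Fin m) F) (hg : g ∈ Cfsg.spGL m F) : Matrix.symplecticGroup (Fin m) F :=
  ⟨(g : Matrix (Fin m ⊕ Fin m) (Fin m ⊕ Fin m) F),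
    (mem_symplecticGroup_iff_preserves _).mpr ((mem_spGL_iff g).mp hg)⟩

theorem toSp_coe (g : GL (Fin m ⊕ Fin m) F) (hg : g ∈ Cfsg.spGL m F) :
    ((toSp g hg : Matrix.symplecticGroup (Fin m) F) : Matrix (Fin m ⊕ Fin m) (Fin m ⊕ Fin m) F)
      = (g : Matrix (Fin m ⊕ Fin m) (Fin m ⊕ Fin m) F) := rfl

theorem spToGL_toSp (g : GL (Fin m ⊕ Fin m) F) (hg : g ∈ Cfsg.spGL m F) :
    spToGL m F (toSp g hg) = g := Units.ext rfl

theorem toSp_spToGL (A : Matrix.symplecticGroup (Fin m) F) :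
    toSp (spToGL m F A) (spToGL_mem_spGL A) = A := Subtype.ext rfl

theorem spToGL_injective : Function.Injective (spToGL m F) := by
  intro A B hAB
  apply Subtype.ext
  have := congrArg (fun g : GL (Fin m ⊕ Fin m) F => (g : Matrix (Fin m ⊕ Fin m) (Fin m ⊕ Fin m) F)) hAB
  exact this

/-- the centraliser in `Sp` as a subtype of `GL` -/
def centralizerEquiv (x : GL (Fin m ⊕ Fin m) F) (hx : x ∈ Cfsg.spGL m F) :
    ↥(Subgroup.centralizer ({toSp x hx} : Set ↥(Matrix.symplecticGroup (Fin m) F))) ≃ CSp m F x where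
  toFun A := ⟨spToGL m F A.1, spToGL_mem_spGL A.1, by
    have h := Subgroup.mem_centralizer_iff.mp A.2 (toSp x hx) rfl
    have h2 := congrArg (spToGL m F) h
    rw [map_mul, map_mul, spToGL_toSp] at h2
    exact h2.symm⟩
  invFun g := ⟨toSp g.1 g.2.1, by
    rw [Subgroup.mem_centralizer_iff]
    intro t ht
    rw [Set.mem_singleton_iff] at ht
    subst ht
    apply spToGL_injective
    rw [map_mul, map_mul, spToGL_toSp, spToGL_toSp]
    exact g.2.2.symm⟩
  left_inv A := by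
    apply Subtype.ext
    exact toSp_spToGL A.1
  right_inv g := by
    apply Subtype.ext
    exact spToGL_toSp g.1 g.2.1

section fin

variable [Fintype F] [CharP F 2]

/-- isometries commuting with `x`, inside the isometry group -/
def coEquiv (x : ↥(Cfsg.isometryGroup F (Cfsg.quadFormPlus m F))) :
    {o : ↥(Cfsg.isometryGroup F (Cfsg.quadFormPlus m F)) // o * x = x * o} ≃
      CO (plusForm m F) x.1 where
  toFun o := ⟨o.1.1, (Helper13.mem_isometryGroup_iff _ _).mp o.1.2, by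
    have := congrArg Subtype.val o.2
    exact this⟩
  invFun g := ⟨⟨g.1, (Helper13.mem_isometryGroup_iff _ _).mpr g.2.1⟩, Subtype.ext g.2.2⟩
  left_inv o := rfl
  right_inv g := rfl

theorem card_ne_four (h : Fintype.card F ≠ 2 ∨ m ≠ 2) :
    Fintype.card F ≠ 2 ∨ Fintype.card (Fin m ⊕ Fin m) ≠ 4 := by
  rcases h with h | h
  · exact Or.inl h
  · right
    rw [Fintype.card_sum, Fintype.card_fin]
    omega

/-- **Non-alternating involutions**: `|C_Sp(x)| · q^s = q^(2m) · |C_Ω(x)|`. -/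
theorem card_omega_centralizer_nonalt (h : Fintype.card F ≠ 2 ∨ m ≠ 2)
    (x : ↥(Cfsg.isometryGroup F (Cfsg.quadFormPlus m F))) (hx : x ^ 2 = 1)
    (hna : ∃ v : Fin m ⊕ Fin m → F, Cfsg.quadFormPlus m F
      ((((x : GL (Fin m ⊕ Fin m) F) : Matrix (Fin m ⊕ Fin m) (Fin m ⊕ Fin m) F) - 1) *ᵥ v) ≠ 0)
    (hxsp : (x : GL (Fin m ⊕ Fin m) F) ∈ Cfsg.spGL m F) :
    Nat.card ↥(Subgroup.centralizer
        ({toSp (x : GL (Fin m ⊕ Fin m) F) hxsp} : Set ↥(Matrix.symplecticGroup (Fin m) F)))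
      * Fintype.card F ^
        (((x : GL (Fin m ⊕ Fin m) F) : Matrix (Fin m ⊕ Fin m) (Fin m ⊕ Fin m) F) - 1).rank
      = Fintype.card F ^ (2 * m) *
        Nat.card {g : ↥(Cfsg.Omega F (Cfsg.quadFormPlus m F)) //
          (g : ↥(Cfsg.isometryGroup F (Cfsg.quadFormPlus m F))) * x
            = x * (g : ↥(Cfsg.isometryGroup F (Cfsg.quadFormPlus m F)))} := by
  have hQ := nondegenerate_plusForm (F := F) m
  have hpol : ∀ u v, polar ⇑(plusForm m F) u v = Cfsg.sympForm m F u v := polar_plusForm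
  have hxiso : ∀ v, plusForm m F
      (((x : GL (Fin m ⊕ Fin m) F) : Matrix (Fin m ⊕ Fin m) (Fin m ⊕ Fin m) F) *ᵥ v)
      = plusForm m F v := (Helper13.mem_isometryGroup_iff _ _).mp x.2
  have hx2 : ((x : GL (Fin m ⊕ Fin m) F) : Matrix (Fin m ⊕ Fin m) (Fin m ⊕ Fin m) F)
      * ((x : GL (Fin m ⊕ Fin m) F) : Matrix (Fin m ⊕ Fin m) (Fin m ⊕ Fin m) F) = 1 := by
    have h1 : x * x = 1 := by rw [← pow_two]; exact hx
    have h2 := congrArg (fun z : ↥(Cfsg.isometryGroup F (Cfsg.quadFormPlus m F)) =>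
      ((z : GL (Fin m ⊕ Fin m) F) : Matrix (Fin m ⊕ Fin m) (Fin m ⊕ Fin m) F)) h1
    exact h2
  have hna' : ∃ v, plusForm m F
      ((((x : GL (Fin m ⊕ Fin m) F) : Matrix (Fin m ⊕ Fin m) (Fin m ⊕ Fin m) F) - 1) *ᵥ v) ≠ 0 := hna
  -- step 1
  have h1 := card_CSp (plusForm m F) hQ hpol (x : GL (Fin m ⊕ Fin m) F) hxiso
  have h2 := card_fixArf_nonalt (plusForm m F) (x : GL (Fin m ⊕ Fin m) F) hxiso hx2 hna'
  have h3 := card_fixed (F := F) (m := m)
    ((x : GL (Fin m ⊕ Fin m) F) : Matrix (Fin m ⊕ Fin m) (Fin m ⊕ Fin m) F)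
  -- the odd element
  obtain ⟨v₁, hv₁⟩ := hna'
  obtain ⟨w, hw⟩ : ∃ w, w =
      (((x : GL (Fin m ⊕ Fin m) F) : Matrix (Fin m ⊕ Fin m) (Fin m ⊕ Fin m) F) - 1) *ᵥ v₁ := ⟨_, rfl⟩
  rw [← hw] at hv₁
  have hxw : ((x : GL (Fin m ⊕ Fin m) F) : Matrix (Fin m ⊕ Fin m) (Fin m ⊕ Fin m) F) *ᵥ w = w := by
    rw [hw]
    exact fixed_sub_one (plusForm m F) (x : GL (Fin m ⊕ Fin m) F) hxiso hx2 v₁
  have h4 : Nat.card {o : ↥(Cfsg.isometryGroup F (Cfsg.quadFormPlus m F)) // o * x = x * o}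
      = 2 * Nat.card {g : ↥(Cfsg.Omega F (Cfsg.quadFormPlus m F)) //
          (g : ↥(Cfsg.isometryGroup F (Cfsg.quadFormPlus m F))) * x
            = x * (g : ↥(Cfsg.isometryGroup F (Cfsg.quadFormPlus m F)))} :=
    card_comm_index_two (parityHom (plusForm m F) hQ (card_ne_four h))
    (Cfsg.Omega F (Cfsg.quadFormPlus m F))
    (fun g => mem_Omega_iff_parityHom (plusForm m F) hQ (card_ne_four h) g) x
    (reflT (plusForm m F) w) (reflT_comm_of_fixed (plusForm m F) x w hv₁ hxw) (by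
      rw [parityHom_reflT (plusForm m F) hQ (card_ne_four h) w hv₁]
      decide)
  rw [Nat.card_congr (centralizerEquiv _ hxsp), h1, ← Nat.card_congr (coEquiv x), h4, ← h3, ← h2]
  ring

end fin

end Cfsg.Agent.Helper94.OrC
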