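import Cfsg.Agent.Helper94.OrC5
import Cfsg.Agent.Helper43.OrthInvB

set_option autoImplicit false
set_option linter.unusedSectionVars false

/-!
# Translating the hypotheses on orthogonal involutions to symplectic ones
-/

namespace Cfsg.Agent.Helper94.OrC

open Matrix QuadraticMap Module Cfsg.Agent.Helper13 Cfsg.Agent.Helper45.OmegaParity
open Cfsg.Agent.Helper44

variable {F : Type*} [Field F] {m : ℕ} [CharP F 2]

theorem sub_one_mulVec_eq_add (A : Matrix (Fin m ⊕ Fin m) (Fin m ⊕ Fin m) F) (v : Fin m ⊕ Fin m → F) :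
    (A - 1) *ᵥ v = v + A *ᵥ v := by
  rw [Matrix.sub_mulVec, Matrix.one_mulVec]
  funext i
  simp only [Pi.sub_apply, Pi.add_apply]
  rw [CharTwo.sub_eq_add, add_comm]

/-- `Q((x-1)v) = f(v, x v)` for an isometry `x` in characteristic two -/
theorem quadFormPlus_sub_one (x : ↥(Cfsg.isometryGroup F (Cfsg.quadFormPlus m F)))
    (v : Fin m ⊕ Fin m → F) :
    Cfsg.quadFormPlus m F
      ((((x : GL (Fin m ⊕ Fin m) F) : Matrix (Fin m ⊕ Fin m) (Fin m ⊕ Fin m) F) - 1) *ᵥ v)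
      = Cfsg.sympForm m F v
        (((x : GL (Fin m ⊕ Fin m) F) : Matrix (Fin m ⊕ Fin m) (Fin m ⊕ Fin m) F) *ᵥ v) := by
  have hxiso : ∀ v, Cfsg.quadFormPlus m F
      (((x : GL (Fin m ⊕ Fin m) F) : Matrix (Fin m ⊕ Fin m) (Fin m ⊕ Fin m) F) *ᵥ v)
      = Cfsg.quadFormPlus m F v := (Helper13.mem_isometryGroup_iff _ _).mp x.2
  rw [← polar_plusForm, plusForm_coe, sub_one_mulVec_eq_add]
  unfold QuadraticMap.polar
  rw [hxiso, sub_sub, CharTwo.add_self_eq_zero, sub_zero]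

theorem isometry_plus_mem_spGL (x : ↥(Cfsg.isometryGroup F (Cfsg.quadFormPlus m F))) :
    (x : GL (Fin m ⊕ Fin m) F) ∈ Cfsg.spGL m F :=
  isometry_mem_spGL (plusForm m F) polar_plusForm ((Helper13.mem_isometryGroup_iff _ _).mp x.2)

/-- an isometry with `x - 1` of odd rank is not of alternating type -/
theorem exists_ne_zero_of_odd_rank (x : ↥(Cfsg.isometryGroup F (Cfsg.quadFormPlus m F)))
    (hodd : Odd (((x : GL (Fin m ⊕ Fin m) F) : Matrix (Fin m ⊕ Fin m) (Fin m ⊕ Fin m) F) - 1).rank) :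
    ∃ v : Fin m ⊕ Fin m → F, Cfsg.quadFormPlus m F
      ((((x : GL (Fin m ⊕ Fin m) F) : Matrix (Fin m ⊕ Fin m) (Fin m ⊕ Fin m) F) - 1) *ᵥ v) ≠ 0 := by
  by_contra hcon
  push Not at hcon
  have hxiso : ∀ v, plusForm m F
      (((x : GL (Fin m ⊕ Fin m) F) : Matrix (Fin m ⊕ Fin m) (Fin m ⊕ Fin m) F) *ᵥ v)
      = plusForm m F v := (Helper13.mem_isometryGroup_iff _ _).mp x.2
  have hev := Cfsg.Agent.Helper43.OrthInv.even_rank_of_tauQ (plusForm m F) (gramPlus m F)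
    (polarBilin_plusForm m) (by
      rw [det_gramPlus]
      exact (isUnit_neg_one (α := F)).pow m)
    ((x : GL (Fin m ⊕ Fin m) F) : Matrix (Fin m ⊕ Fin m) (Fin m ⊕ Fin m) F) hxiso (by
      intro v
      rw [← sub_one_mulVec_eq_add]
      exact hcon v)
  exact (Nat.not_even_iff_odd.mpr hodd) hev

theorem toSp_pow_two (x : ↥(Cfsg.isometryGroup F (Cfsg.quadFormPlus m F))) (hx : x ^ 2 = 1)
    (hxsp : (x : GL (Fin m ⊕ Fin m) F) ∈ Cfsg.spGL m F) :
    toSp (x : GL (Fin m ⊕ Fin m) F) hxsp ^ 2 = 1 := by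
  apply Subtype.ext
  rw [pow_two]
  show ((x : GL (Fin m ⊕ Fin m) F) : Matrix (Fin m ⊕ Fin m) (Fin m ⊕ Fin m) F)
      * ((x : GL (Fin m ⊕ Fin m) F) : Matrix (Fin m ⊕ Fin m) (Fin m ⊕ Fin m) F) = 1
  have h1 : x * x = 1 := by rw [← pow_two]; exact hx
  have h2 := congrArg (fun z : ↥(Cfsg.isometryGroup F (Cfsg.quadFormPlus m F)) =>
    ((z : GL (Fin m ⊕ Fin m) F) : Matrix (Fin m ⊕ Fin m) (Fin m ⊕ Fin m) F)) h1
  exact h2

end Cfsg.Agent.Helper94.OrC
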