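import Cfsg.Agent.Helper94.OrC7
import Cfsg.Agent.S0287
import Cfsg.Agent.Helper5.SpCard

set_option autoImplicit false
set_option linter.unusedSectionVars false

/-!
# Counting the fixed vectors of the normal form of type `a` with Artin–Schreier `Q`-value
-/

namespace Cfsg.Agent.Helper94.OrC

open Matrix QuadraticMap Module Cfsg.Agent.Helper13 Cfsg.Agent.Helper45.OmegaParity
open Cfsg.Agent.Helper44 Cfsg.Agent.Helper43.SpInv Cfsg.Agent.Helper43.OrthInv Cfsg.Agent.Helper94.SpC

variable {F : Type*} [Field F]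

/-- the tail part of a vector -/
def tailVec (k n : ℕ) (a : Fin (2 * k + n) ⊕ Fin (2 * k + n) → F) : Fin n ⊕ Fin n → F :=
  Sum.elim (fun i => a (Sum.inl (Fin.natAdd (2 * k) i))) (fun i => a (Sum.inr (Fin.natAdd (2 * k) i)))

/-- assembling a vector from head coordinates and a tail -/
def glueVec (k n : ℕ) (c : Fin (2 * k) → F) (u : Fin n ⊕ Fin n → F) :
    Fin (2 * k + n) ⊕ Fin (2 * k + n) → F :=
  Sum.elim (Fin.addCases (motive := fun _ => F) c (fun i => u (Sum.inl i))) (Fin.addCases (motive := fun _ => F) (fun _ => 0) (fun i => u (Sum.inr i)))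

theorem quadFormPlus_tail (k n : ℕ) (a : Fin (2 * k + n) ⊕ Fin (2 * k + n) → F)
    (ha : ∀ j : Fin (2 * k + n), j.val < 2 * k → a (Sum.inr j) = 0) :
    Cfsg.quadFormPlus (2 * k + n) F a = Cfsg.quadFormPlus n F (tailVec k n a) := by
  unfold Cfsg.quadFormPlus
  rw [Fin.sum_univ_add]
  have h1 : ∑ i : Fin (2 * k), a (Sum.inl (Fin.castAdd n i)) * a (Sum.inr (Fin.castAdd n i)) = 0 := by
    apply Finset.sum_eq_zero
    intro i _
    rw [ha (Fin.castAdd n i) (by rw [Fin.val_castAdd]; exact i.2), mul_zero]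
  rw [h1, zero_add]
  rfl

theorem tailVec_glueVec (k n : ℕ) (c : Fin (2 * k) → F) (u : Fin n ⊕ Fin n → F) :
    tailVec k n (glueVec k n c u) = u := by
  funext i
  rcases i with i | i
  · show Fin.addCases (motive := fun _ => F) c (fun i => u (Sum.inl i)) (Fin.natAdd (2 * k) i) = _
    rw [Fin.addCases_right]
  · show Fin.addCases (motive := fun _ => F) (fun _ => (0 : F)) (fun i => u (Sum.inr i)) (Fin.natAdd (2 * k) i) = _
    rw [Fin.addCases_right]

theorem glueVec_inr_lt (k n : ℕ) (c : Fin (2 * k) → F) (u : Fin n ⊕ Fin n → F)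
    (j : Fin (2 * k + n)) (hj : j.val < 2 * k) : glueVec k n c u (Sum.inr j) = 0 := by
  show Fin.addCases (motive := fun _ => F) (fun _ => (0 : F)) (fun i => u (Sum.inr i)) j = 0
  have : j = Fin.castAdd n ⟨j.val, hj⟩ := Fin.ext rfl
  rw [this, Fin.addCases_left]

theorem glueVec_head_tail (k n : ℕ) (a : Fin (2 * k + n) ⊕ Fin (2 * k + n) → F)
    (ha : ∀ j : Fin (2 * k + n), j.val < 2 * k → a (Sum.inr j) = 0) :
    glueVec k n (fun j => a (Sum.inl (Fin.castAdd n j))) (tailVec k n a) = a := by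
  funext i
  rcases i with i | i
  · show Fin.addCases (motive := fun _ => F) (fun j => a (Sum.inl (Fin.castAdd n j)))
      (fun i => tailVec k n a (Sum.inl i)) i = _
    refine Fin.addCases (fun j => ?_) (fun j => ?_) i
    · rw [Fin.addCases_left]
    · rw [Fin.addCases_right]
      rfl
  · show Fin.addCases (motive := fun _ => F) (fun _ => (0 : F)) (fun i => tailVec k n a (Sum.inr i)) i = _
    refine Fin.addCases (fun j => ?_) (fun j => ?_) i
    · rw [Fin.addCases_left, ha _ (by rw [Fin.val_castAdd]; exact j.2)]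
    · rw [Fin.addCases_right]
      rfl

section fin

variable [Fintype F] [CharP F 2]

/-- the fixed vectors with Artin–Schreier value of the normal form: head coordinates times the tail -/
def fixArfEquiv (k n : ℕ) :
    FixArf (plusForm (2 * k + n) F)
        ((x0 F (2 * k + n) k : ↥(Cfsg.isometryGroup F (Cfsg.quadFormPlus (2 * k + n) F))) :
          GL (Fin (2 * k + n) ⊕ Fin (2 * k + n)) F)
      ≃ (Fin (2 * k) → F) × FixArf (plusForm n F) (1 : GL (Fin n ⊕ Fin n) F) where
  toFun a := ⟨fun j => a.1 (Sum.inl (Fin.castAdd n j)), ⟨tailVec k n a.1, by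
    rw [Units.val_one, Matrix.one_mulVec], by
    obtain ⟨s, hs⟩ := a.2.2
    refine ⟨s, ?_⟩
    have hs' : Cfsg.quadFormPlus (2 * k + n) F a.1 = s ^ 2 + s := hs
    exact (quadFormPlus_tail k n a.1 ((T0_fixed_iff (by omega) a.1).mp a.2.1)).symm.trans hs'⟩⟩
  invFun p := ⟨glueVec k n p.1 p.2.1, by
    show T0 F (2 * k + n) k *ᵥ _ = _
    rw [T0_fixed_iff (by omega)]
    exact glueVec_inr_lt k n p.1 p.2.1, by
    obtain ⟨s, hs⟩ := p.2.2.2
    refine ⟨s, ?_⟩
    have hs' : Cfsg.quadFormPlus n F p.2.1 = s ^ 2 + s := hs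
    show Cfsg.quadFormPlus (2 * k + n) F (glueVec k n p.1 p.2.1) = s ^ 2 + s
    rw [quadFormPlus_tail k n _ (glueVec_inr_lt k n p.1 p.2.1), tailVec_glueVec]
    exact hs'⟩
  left_inv a := by
    apply Subtype.ext
    exact glueVec_head_tail k n a.1 ((T0_fixed_iff (by omega) a.1).mp a.2.1)
  right_inv p := by
    apply Prod.ext
    · funext j
      show Fin.addCases (motive := fun _ => F) p.1 (fun i => p.2.1 (Sum.inl i)) (Fin.castAdd n j) = _
      rw [Fin.addCases_left]
    · apply Subtype.ext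
      exact tailVec_glueVec k n p.1 p.2.1

theorem card_fixArf_x0 (k n : ℕ) :
    Nat.card (FixArf (plusForm (2 * k + n) F)
        ((x0 F (2 * k + n) k : ↥(Cfsg.isometryGroup F (Cfsg.quadFormPlus (2 * k + n) F))) :
          GL (Fin (2 * k + n) ⊕ Fin (2 * k + n)) F))
      = Fintype.card F ^ (2 * k) * Nat.card (FixArf (plusForm n F) (1 : GL (Fin n ⊕ Fin n) F)) := by
  rw [Nat.card_congr (fixArfEquiv k n), Nat.card_prod, Nat.card_eq_fintype_card, Fintype.card_fun,
    Fintype.card_fin]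

/-- `|Sp_2n(q)| = #{u : Q u ∈ ℘} · |O⁺_2n(q)|` -/
theorem card_sp_eq_arf_mul_orth (n : ℕ) :
    Nat.card ↥(Matrix.symplecticGroup (Fin n) F)
      = Nat.card (FixArf (plusForm n F) (1 : GL (Fin n ⊕ Fin n) F))
        * Nat.card ↥(Cfsg.isometryGroup F (Cfsg.quadFormPlus n F)) := by
  have hQ := nondegenerate_plusForm (F := F) n
  have hpol : ∀ u v, polar ⇑(plusForm n F) u v = Cfsg.sympForm n F u v := polar_plusForm
  have h1 := card_CSp (plusForm n F) hQ hpol (1 : GL (Fin n ⊕ Fin n) F) (fun v => by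
    rw [Units.val_one, Matrix.one_mulVec])
  have e1 : ↥(Matrix.symplecticGroup (Fin n) F) ≃ CSp n F (1 : GL (Fin n ⊕ Fin n) F) :=
    { toFun := fun A => ⟨spToGL n F A, spToGL_mem_spGL A, by rw [mul_one, one_mul]⟩
      invFun := fun g => toSp g.1 g.2.1
      left_inv := fun A => toSp_spToGL A
      right_inv := fun g => Subtype.ext (spToGL_toSp g.1 g.2.1) }
  have e2 : ↥(Cfsg.isometryGroup F (Cfsg.quadFormPlus n F)) ≃
      CO (plusForm n F) (1 : GL (Fin n ⊕ Fin n) F) :=
    { toFun := fun o => ⟨o.1, (Helper13.mem_isometryGroup_iff _ _).mp o.2, by rw [mul_one, one_mul]⟩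
      invFun := fun g => ⟨g.1, (Helper13.mem_isometryGroup_iff _ _).mpr g.2.1⟩
      left_inv := fun o => rfl
      right_inv := fun g => rfl }
  rw [Nat.card_congr e1, h1, Nat.card_congr e2]

end fin

end Cfsg.Agent.Helper94.OrC
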