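import Cfsg.Agent.Helper94.OrC8
import Cfsg.Agent.Helper43.OrthInvE

set_option autoImplicit false
set_option linter.unusedSectionVars false

/-!
# The centraliser of the normal form of type `a`: odd elements, and the case `s = m`
-/

namespace Cfsg.Agent.Helper94.OrC

open Matrix QuadraticMap Module Cfsg.Agent.Helper13 Cfsg.Agent.Helper45.OmegaParity
open Cfsg.Agent.Helper44 Cfsg.Agent.Helper43.SpInv Cfsg.Agent.Helper43.OrthInv Cfsg.Agent.Helper94.SpC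

variable {F : Type*} [Field F] {m : ℕ}

theorem quadFormPlus_eq_dot (v : Fin m ⊕ Fin m → F) :
    Cfsg.quadFormPlus m F v = (v ∘ Sum.inl) ⬝ᵥ (v ∘ Sum.inr) := rfl

theorem mat_sub_comm_char_two [CharP F 2] {n : Type*} (X Y : Matrix n n F) : X - Y = Y - X := by
  ext i j
  simp only [Matrix.sub_apply]
  rw [CharTwo.sub_eq_add, CharTwo.sub_eq_add, add_comm]

section fin

variable [Fintype F] [CharP F 2]

/-- a non-singular fixed vector of the normal form when `2k < m` -/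
theorem exists_nonsing_fixed_x0 {k : ℕ} (hk : 2 * k < m) :
    ∃ w : Fin m ⊕ Fin m → F, Cfsg.quadFormPlus m F w ≠ 0 ∧ T0 F m k *ᵥ w = w := by
  classical
  refine ⟨Pi.single (Sum.inl ⟨2 * k, hk⟩) 1 + Pi.single (Sum.inr ⟨2 * k, hk⟩) 1, ?_, ?_⟩
  · have : Cfsg.quadFormPlus m F
        (Pi.single (Sum.inl ⟨2 * k, hk⟩) 1 + Pi.single (Sum.inr ⟨2 * k, hk⟩) 1) = 1 := by
      unfold Cfsg.quadFormPlus
      rw [Finset.sum_eq_single ⟨2 * k, hk⟩]
      · simp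
      · intro j _ hj
        have : (Sum.inl j : Fin m ⊕ Fin m) ≠ Sum.inl ⟨2 * k, hk⟩ := fun h => hj (Sum.inl.inj h)
        simp [this]
      · intro h
        exact absurd (Finset.mem_univ _) h
    rw [this]
    exact one_ne_zero
  · rw [T0_fixed_iff (le_of_lt hk)]
    intro j hj
    have : (Sum.inr j : Fin m ⊕ Fin m) ≠ Sum.inr ⟨2 * k, hk⟩ := by
      intro h
      have := congrArg Fin.val (Sum.inr.inj h)
      simp at this
      omega
    simp [this]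

/-- when `m = 2k`, everything commuting with the normal form lies in `Ω` -/
theorem mem_Omega_of_comm_x0 (h : Fintype.card F ≠ 2 ∨ m ≠ 2) {k : ℕ} (hm : m = 2 * k)
    (g : ↥(Cfsg.isometryGroup F (Cfsg.quadFormPlus m F))) (hg : g * x0 F m k = x0 F m k * g) :
    g ∈ Cfsg.Omega F (Cfsg.quadFormPlus m F) := by
  subst hm
  have hQ := nondegenerate_plusForm (F := F) (2 * k)
  have h4 := card_ne_four h
  -- the matrix of `g` and its blocks
  obtain ⟨G, hG⟩ : ∃ G : Matrix (Fin (2 * k) ⊕ Fin (2 * k)) (Fin (2 * k) ⊕ Fin (2 * k)) F,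
      G = ((g : GL (Fin (2 * k) ⊕ Fin (2 * k)) F) :
        Matrix (Fin (2 * k) ⊕ Fin (2 * k)) (Fin (2 * k) ⊕ Fin (2 * k)) F) := ⟨_, rfl⟩
  have hGT : G * T0 F (2 * k) k = T0 F (2 * k) k * G := by
    have h1 := congrArg (fun z : ↥(Cfsg.isometryGroup F (Cfsg.quadFormPlus (2 * k) F)) =>
      ((z : GL (Fin (2 * k) ⊕ Fin (2 * k)) F) :
        Matrix (Fin (2 * k) ⊕ Fin (2 * k)) (Fin (2 * k) ⊕ Fin (2 * k)) F)) hg
    rw [hG]
    exact h1
  obtain ⟨A, B, C, D, hblocks⟩ : ∃ A B C D : Matrix (Fin (2 * k)) (Fin (2 * k)) F,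
      G = fromBlocks A B C D := ⟨_, _, _, _, (fromBlocks_toBlocks G).symm⟩
  -- `C = 0`
  have hC : C = 0 := by
    unfold T0 tS at hGT
    rw [hblocks, fromBlocks_multiply, fromBlocks_multiply, fromBlocks_inj] at hGT
    have h11 := hGT.1
    simp only [mul_one, mul_zero, add_zero, one_mul] at h11
    have h5 : Hn F (2 * k) k 0 0 * C = 0 := by
      have := h11.symm
      rwa [add_eq_left] at this
    ext i j
    have h6 : Hn F (2 * k) k 0 0 *ᵥ (fun l => C l j) = 0 := by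
      funext i'
      have := congrFun (congrFun h5 i') j
      exact this
    have := congrFun (Hn_inj_a h6) i
    exact this
  subst hC
  -- `Aᵀ D = 1`
  have hGsp : G ∈ Matrix.symplecticGroup (Fin (2 * k)) F := by
    rw [hG]
    exact (mem_symplecticGroup_iff_preserves _).mpr ((mem_spGL_iff _).mp (isometry_plus_mem_spGL g))
  rw [hblocks, SymplecticGroup.fromBlocks_mem_iff] at hGsp
  have hAD : Aᵀ * D = 1 := by
    have := hGsp.2.2
    rwa [Matrix.transpose_zero, Matrix.zero_mul, sub_zero] at this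
  have hDA : D * Aᵀ = 1 := mul_eq_one_comm.mp hAD
  have hDtA : Dᵀ * A = 1 := by
    have := congrArg Matrix.transpose hAD
    rwa [Matrix.transpose_mul, Matrix.transpose_transpose, Matrix.transpose_one] at this
  have hADt : A * Dᵀ = 1 := mul_eq_one_comm.mp hDtA
  -- the diagonal part
  have hd1 : fromBlocks A 0 0 D * fromBlocks Dᵀ 0 0 Aᵀ
      = (1 : Matrix (Fin (2 * k) ⊕ Fin (2 * k)) (Fin (2 * k) ⊕ Fin (2 * k)) F) := by
    rw [fromBlocks_multiply, hADt, hDA]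
    simp [fromBlocks_one]
  have hd2 : fromBlocks Dᵀ 0 0 Aᵀ * fromBlocks A 0 0 D
      = (1 : Matrix (Fin (2 * k) ⊕ Fin (2 * k)) (Fin (2 * k) ⊕ Fin (2 * k)) F) := by
    rw [fromBlocks_multiply, hDtA, hAD]
    simp [fromBlocks_one]
  have hdiso : ∀ v : Fin (2 * k) ⊕ Fin (2 * k) → F,
      Cfsg.quadFormPlus (2 * k) F (fromBlocks A 0 0 D *ᵥ v) = Cfsg.quadFormPlus (2 * k) F v := by
    intro v
    rw [quadFormPlus_eq_dot, quadFormPlus_eq_dot, fromBlocks_mulVec]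
    have e1 : (Sum.elim (A *ᵥ (v ∘ Sum.inl) + (0 : Matrix (Fin (2 * k)) (Fin (2 * k)) F) *ᵥ (v ∘ Sum.inr))
        ((0 : Matrix (Fin (2 * k)) (Fin (2 * k)) F) *ᵥ (v ∘ Sum.inl) + D *ᵥ (v ∘ Sum.inr))) ∘ Sum.inl
        = A *ᵥ (v ∘ Sum.inl) := by
      funext i
      simp
    have e2 : (Sum.elim (A *ᵥ (v ∘ Sum.inl) + (0 : Matrix (Fin (2 * k)) (Fin (2 * k)) F) *ᵥ (v ∘ Sum.inr))
        ((0 : Matrix (Fin (2 * k)) (Fin (2 * k)) F) *ᵥ (v ∘ Sum.inl) + D *ᵥ (v ∘ Sum.inr))) ∘ Sum.inr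
        = D *ᵥ (v ∘ Sum.inr) := by
      funext i
      simp
    rw [e1, e2, ← Matrix.vecMul_transpose, ← Matrix.dotProduct_mulVec, Matrix.mulVec_mulVec, hAD,
      Matrix.one_mulVec]
  let dGL : GL (Fin (2 * k) ⊕ Fin (2 * k)) F := ⟨fromBlocks A 0 0 D, fromBlocks Dᵀ 0 0 Aᵀ, hd1, hd2⟩
  let d : ↥(Cfsg.isometryGroup F (Cfsg.quadFormPlus (2 * k) F)) :=
    ⟨dGL, (Helper13.mem_isometryGroup_iff _ _).mpr hdiso⟩
  have hdcoe : ((d : GL (Fin (2 * k) ⊕ Fin (2 * k)) F) :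
      Matrix (Fin (2 * k) ⊕ Fin (2 * k)) (Fin (2 * k) ⊕ Fin (2 * k)) F) = fromBlocks A 0 0 D := rfl
  have hdinvcoe : (((d⁻¹ : ↥(Cfsg.isometryGroup F (Cfsg.quadFormPlus (2 * k) F))) :
      GL (Fin (2 * k) ⊕ Fin (2 * k)) F) :
      Matrix (Fin (2 * k) ⊕ Fin (2 * k)) (Fin (2 * k) ⊕ Fin (2 * k)) F) = fromBlocks Dᵀ 0 0 Aᵀ := rfl
  -- `d ∈ Ω`
  have hdΩ : d ∈ Cfsg.Omega F (Cfsg.quadFormPlus (2 * k) F) := by
    apply (mem_Omega_iff_even_rank (plusForm (2 * k) F) hQ h4 d).mpr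
    show Even (((d : GL (Fin (2 * k) ⊕ Fin (2 * k)) F) :
      Matrix (Fin (2 * k) ⊕ Fin (2 * k)) (Fin (2 * k) ⊕ Fin (2 * k)) F) - 1).rank
    rw [hdcoe]
    have e1 : fromBlocks A 0 0 D - (1 : Matrix (Fin (2 * k) ⊕ Fin (2 * k)) (Fin (2 * k) ⊕ Fin (2 * k)) F)
        = fromBlocks (A - 1) 0 0 (D - 1) := by
      rw [← fromBlocks_one, sub_eq_add_neg, fromBlocks_neg, fromBlocks_add]
      simp [sub_eq_add_neg]
    rw [e1, rank_fromBlocks_diag]
    have e2 : D - 1 = D * (A - 1)ᵀ := by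
      rw [Matrix.transpose_sub, Matrix.transpose_one, Matrix.mul_sub, hDA, Matrix.mul_one]
      exact mat_sub_comm_char_two _ _
    have hDdet : IsUnit D.det := by
      have := congrArg Matrix.det hDA
      rw [Matrix.det_mul, Matrix.det_one] at this
      exact IsUnit.of_mul_eq_one _ this
    rw [e2, Matrix.rank_mul_eq_right_of_isUnit_det _ _ hDdet, Matrix.rank_transpose]
    exact ⟨_, rfl⟩
  -- the unipotent part
  have huΩ : d⁻¹ * g ∈ Cfsg.Omega F (Cfsg.quadFormPlus (2 * k) F) := by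
    apply (mem_Omega_iff_even_rank (plusForm (2 * k) F) hQ h4 (d⁻¹ * g)).mpr
    have hcoe : (((d⁻¹ * g : ↥(Cfsg.isometryGroup F (Cfsg.quadFormPlus (2 * k) F))) :
        GL (Fin (2 * k) ⊕ Fin (2 * k)) F) :
        Matrix (Fin (2 * k) ⊕ Fin (2 * k)) (Fin (2 * k) ⊕ Fin (2 * k)) F) = tS (Dᵀ * B) := by
      show (((d⁻¹ : ↥(Cfsg.isometryGroup F (Cfsg.quadFormPlus (2 * k) F))) :
        GL (Fin (2 * k) ⊕ Fin (2 * k)) F) :
        Matrix (Fin (2 * k) ⊕ Fin (2 * k)) (Fin (2 * k) ⊕ Fin (2 * k)) F) *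
        ((g : GL (Fin (2 * k) ⊕ Fin (2 * k)) F) :
        Matrix (Fin (2 * k) ⊕ Fin (2 * k)) (Fin (2 * k) ⊕ Fin (2 * k)) F) = _
      rw [hdinvcoe, ← hG, hblocks, fromBlocks_multiply, hDtA, hAD]
      unfold tS
      simp
    show Even ((((d⁻¹ * g : ↥(Cfsg.isometryGroup F (Cfsg.quadFormPlus (2 * k) F))) :
        GL (Fin (2 * k) ⊕ Fin (2 * k)) F) :
        Matrix (Fin (2 * k) ⊕ Fin (2 * k)) (Fin (2 * k) ⊕ Fin (2 * k)) F) - 1).rank
    have hiso : ∀ v, plusForm (2 * k) F ((((d⁻¹ * g : ↥(Cfsg.isometryGroup F (Cfsg.quadFormPlus (2 * k) F))) :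
        GL (Fin (2 * k) ⊕ Fin (2 * k)) F) :
        Matrix (Fin (2 * k) ⊕ Fin (2 * k)) (Fin (2 * k) ⊕ Fin (2 * k)) F) *ᵥ v) = plusForm (2 * k) F v :=
      (Helper13.mem_isometryGroup_iff _ _).mp (d⁻¹ * g).2
    rw [hcoe] at hiso ⊢
    exact even_rank_of_tauQ (plusForm (2 * k) F) (gramPlus (2 * k) F) (polarBilin_plusForm (2 * k)) (by
        rw [det_gramPlus]
        exact (isUnit_neg_one (α := F)).pow _) _ hiso (tauQ_tS _)
  have : g = d * (d⁻¹ * g) := by group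
  rw [this]
  exact (Cfsg.Omega F (Cfsg.quadFormPlus (2 * k) F)).mul_mem hdΩ huΩ

end fin

end Cfsg.Agent.Helper94.OrC
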