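import Cfsg.Agent.Helper94.OrC10
import Cfsg.Agent.Helper45.TsMax2

set_option autoImplicit false
set_option linter.unusedSectionVars false

/-!
# Elements of prime order of `Ω⁺_2d(q)`, `q` even, and nonsingular 1-spaces: involutions
-/

namespace Cfsg.Agent.Helper94.OrD

open Matrix QuadraticMap Module Cfsg.Agent.Helper13 Cfsg.Agent.Helper45.OmegaParity
open Cfsg.Agent.Helper44 Cfsg.Agent.Helper43.SpInv Cfsg.Agent.Helper43.OrthInv Cfsg.Agent.Helper94.SpC
open Cfsg.Agent.Helper94.OrC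

variable {F : Type*} [Field F] {d : ℕ}

/-- an invariant line spanned by a nonsingular vector gives an eigenvector -/
theorem exists_eigen_of_invariant_line (X : Matrix (Fin d ⊕ Fin d) (Fin d ⊕ Fin d) F)
    (W : Submodule F (Fin d ⊕ Fin d → F)) (hW : finrank F ↥W = 1) {v : Fin d ⊕ Fin d → F} (hv : v ∈ W)
    (hv0 : v ≠ 0) (hinv : W.map (Matrix.toLin' X) ≤ W) : ∃ c : F, X *ᵥ v = c • v := by
  have h1 : X *ᵥ v ∈ W := by
    apply hinv
    exact ⟨v, hv, Matrix.toLin'_apply X v⟩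
  obtain ⟨c, hc⟩ := (finrank_eq_one_iff_of_nonzero' ⟨v, hv⟩ (fun h => hv0 (congrArg Subtype.val h))).mp hW
    ⟨X *ᵥ v, h1⟩
  exact ⟨c, (congrArg Subtype.val hc).symm⟩

theorem exists_quadFormPlus_ne_zero (hd : 1 ≤ d) : ∃ v : Fin d ⊕ Fin d → F, Cfsg.quadFormPlus d F v ≠ 0 := by
  classical
  refine ⟨Pi.single (Sum.inl ⟨0, hd⟩) 1 + Pi.single (Sum.inr ⟨0, hd⟩) 1, ?_⟩
  have : Cfsg.quadFormPlus d F
      (Pi.single (Sum.inl ⟨0, hd⟩) 1 + Pi.single (Sum.inr ⟨0, hd⟩) 1) = 1 := by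
    unfold Cfsg.quadFormPlus
    rw [Finset.sum_eq_single ⟨0, hd⟩]
    · simp
    · intro j _ hj
      have : (Sum.inl j : Fin d ⊕ Fin d) ≠ Sum.inl ⟨0, hd⟩ := fun h => hj (Sum.inl.inj h)
      simp [this]
    · intro h
      exact absurd (Finset.mem_univ _) h
  rw [this]
  exact one_ne_zero

theorem quadFormPlus_smul (c : F) (v : Fin d ⊕ Fin d → F) :
    Cfsg.quadFormPlus d F (c • v) = c ^ 2 * Cfsg.quadFormPlus d F v := by
  unfold Cfsg.quadFormPlus
  rw [Finset.mul_sum]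
  refine Finset.sum_congr rfl fun i _ => ?_
  simp only [Pi.smul_apply, smul_eq_mul]
  ring

section fin

variable [Fintype F] [CharP F 2]

theorem sq_eq_one_char_two {c : F} (h : c ^ 2 = 1) : c = 1 := by
  have h1 : (c + 1) ^ 2 = 0 := by
    rw [CharTwo.add_sq, h, one_pow, CharTwo.add_self_eq_zero]
  have h2 : c + 1 = 0 := pow_eq_zero_iff two_ne_zero |>.mp h1
  calc c = c + 1 + 1 := by rw [add_assoc, CharTwo.add_self_eq_zero, add_zero]
    _ = 1 := by rw [h2, zero_add]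

/-- an isometry with an invariant nonsingular line fixes a nonsingular vector -/
theorem fixed_of_invariant_line (g : ↥(Cfsg.isometryGroup F (Cfsg.quadFormPlus d F)))
    (W : Submodule F (Fin d ⊕ Fin d → F)) (hW : finrank F ↥W = 1) {v : Fin d ⊕ Fin d → F} (hv : v ∈ W)
    (hQv : Cfsg.quadFormPlus d F v ≠ 0)
    (hinv : W.map (Matrix.toLin' ((g : GL (Fin d ⊕ Fin d) F) :
      Matrix (Fin d ⊕ Fin d) (Fin d ⊕ Fin d) F)) ≤ W) :
    ((g : GL (Fin d ⊕ Fin d) F) : Matrix (Fin d ⊕ Fin d) (Fin d ⊕ Fin d) F) *ᵥ v = v := by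
  have hv0 : v ≠ 0 := by
    rintro rfl
    apply hQv
    unfold Cfsg.quadFormPlus
    simp
  obtain ⟨c, hc⟩ := exists_eigen_of_invariant_line _ W hW hv hv0 hinv
  have h1 := isometryGroup_apply g v
  rw [hc, quadFormPlus_smul] at h1
  have h2 : c ^ 2 = 1 := by
    have : (c ^ 2 - 1) * Cfsg.quadFormPlus d F v = 0 := by linear_combination h1
    exact sub_eq_zero.mp ((mul_eq_zero.mp this).resolve_right hQv)
  rw [hc, sq_eq_one_char_two h2, one_smul]

/-- **(⇐)**: for `d` odd every involution of `Ω` fixes a nonsingular vector -/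
theorem exists_fixed_nonsingular_of_odd (h : Fintype.card F ≠ 2 ∨ d ≠ 2) (hodd : Odd d)
    (g : ↥(Cfsg.isometryGroup F (Cfsg.quadFormPlus d F))) (hgΩ : g ∈ Cfsg.Omega F (Cfsg.quadFormPlus d F))
    (hg2 : g * g = 1) :
    ∃ u : Fin d ⊕ Fin d → F, Cfsg.quadFormPlus d F u ≠ 0 ∧
      ((g : GL (Fin d ⊕ Fin d) F) : Matrix (Fin d ⊕ Fin d) (Fin d ⊕ Fin d) F) *ᵥ u = u := by
  have hQ := nondegenerate_plusForm (F := F) d
  have hev := (mem_Omega_iff_even_rank (plusForm d F) hQ (card_ne_four h) g).mp hgΩ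
  have hfix := rank_sub_one_add_fixD (plusForm d F) g
  rw [Fintype.card_sum, Fintype.card_fin] at hfix
  have hle : 2 * (((g : GL (Fin d ⊕ Fin d) F) : Matrix (Fin d ⊕ Fin d) (Fin d ⊕ Fin d) F) - 1).rank
      ≤ d + d := by
    have h0 := Cfsg.Agent.S2166.sub_one_sq _ (coe_mul_self g hg2)
    have := Matrix.rank_add_rank_le_card_of_mul_eq_zero h0
    rw [Fintype.card_sum, Fintype.card_fin] at this
    omega
  have hlt : d < fixD (plusForm d F) g := by
    obtain ⟨a, ha⟩ := hev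
    obtain ⟨b, hb⟩ := hodd
    omega
  by_contra hcon
  push Not at hcon
  have hts : ∀ w ∈ Helper14.fixSpace (lin (plusForm d F) g), plusForm d F w = 0 := by
    intro w hw
    by_contra hw0
    exact hcon w hw0 ((Helper14.mem_fixSpace _ _).mp hw)
  have := ts_two_mul_finrank_le (Q := plusForm d F) hQ _ hts
  rw [Fintype.card_sum, Fintype.card_fin] at this
  unfold fixD at hlt
  omega

/-- the normal form `a_d` (`d = 2k`) fixes no nonsingular vector -/
theorem x0_fixed_singular {k : ℕ} (hd : d = 2 * k) (v : Fin d ⊕ Fin d → F)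
    (hv : T0 F d k *ᵥ v = v) : Cfsg.quadFormPlus d F v = 0 := by
  rw [T0_fixed_iff (by omega)] at hv
  unfold Cfsg.quadFormPlus
  apply Finset.sum_eq_zero
  intro i _
  rw [hv i (by have := i.2; omega), mul_zero]

theorem x0_mem_Omega (h : Fintype.card F ≠ 2 ∨ d ≠ 2) {k : ℕ} (hd : 2 * k ≤ d) :
    x0 F d k ∈ Cfsg.Omega F (Cfsg.quadFormPlus d F) := by
  have hQ := nondegenerate_plusForm (F := F) d
  apply (mem_Omega_iff_even_rank (plusForm d F) hQ (card_ne_four h) (x0 F d k)).mpr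
  show Even (T0 F d k - 1).rank
  rw [rank_T0_sub_one hd]
  exact ⟨k, by ring⟩

theorem T0_not_scalar {k : ℕ} (hk : 1 ≤ k) (hd : 2 * k ≤ d) (z : F) :
    T0 F d k ≠ z • (1 : Matrix (Fin d ⊕ Fin d) (Fin d ⊕ Fin d) F) := by
  classical
  intro hz
  have h1 : T0 F d k *ᵥ (Pi.single (Sum.inl ⟨0, by omega⟩) 1) = Pi.single (Sum.inl ⟨0, by omega⟩) 1 := by
    rw [T0_fixed_iff hd]
    intro j _
    simp
  rw [hz, Matrix.smul_mulVec, Matrix.one_mulVec] at h1
  have h2 := congrFun h1 (Sum.inl ⟨0, by omega⟩)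
  simp only [Pi.smul_apply, Pi.single_eq_same, smul_eq_mul, mul_one] at h2
  rw [h2, one_smul] at hz
  have h3 := rank_T0_sub_one (F := F) hd
  rw [hz, sub_self, Matrix.rank_zero] at h3
  omega

end fin

end Cfsg.Agent.Helper94.OrD
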