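import Cfsg.Agent.Helper94.OrD1
import Cfsg.Agent.Helper5.Count

set_option autoImplicit false
set_option linter.unusedSectionVars false

/-!
# The number of nonsingular 1-spaces of the hyperbolic quadratic form in characteristic two
-/

namespace Cfsg.Agent.Helper94.OrD

open Matrix QuadraticMap Module Cfsg.Agent.Helper13 Cfsg.Agent.Helper94.OrC

variable {F : Type*} [Field F] {d : ℕ}

section fin

variable [Fintype F] [CharP F 2]

/-- nonsingular lines correspond to vectors with `Q v = 1` -/
theorem card_nonsingular_lines :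
    Nat.card {W : Submodule F (Fin d ⊕ Fin d → F) //
        finrank F ↥W = 1 ∧ ∃ v ∈ W, Cfsg.quadFormPlus d F v ≠ 0}
      = (Fintype.card F ^ d - 1) * Fintype.card F ^ (d - 1) := by
  rw [← Cfsg.Agent.Helper5.card_quadFormPlus_ne_zero d (1 : F) one_ne_zero]
  symm
  have hne : ∀ v : Fin d ⊕ Fin d → F, Cfsg.quadFormPlus d F v = 1 → v ≠ 0 := by
    rintro v hv rfl
    have : Cfsg.quadFormPlus d F (0 : Fin d ⊕ Fin d → F) = 0 := by
      unfold Cfsg.quadFormPlus
      simp
    rw [this] at hv
    exact zero_ne_one hv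
  let f : {v : Fin d ⊕ Fin d → F // Cfsg.quadFormPlus d F v = 1} →
      {W : Submodule F (Fin d ⊕ Fin d → F) //
        finrank F ↥W = 1 ∧ ∃ v ∈ W, Cfsg.quadFormPlus d F v ≠ 0} := fun v =>
    ⟨Submodule.span F {v.1}, finrank_span_singleton (hne v.1 v.2),
      v.1, Submodule.mem_span_singleton_self _, by rw [v.2]; exact one_ne_zero⟩
  apply Nat.card_congr (Equiv.ofBijective f ⟨?_, ?_⟩)
  · intro v v' hvv'
    have h1 : Submodule.span F {v.1} = Submodule.span F {v'.1} := congrArg Subtype.val hvv'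
    have h2 : v'.1 ∈ Submodule.span F {v.1} := by
      rw [h1]; exact Submodule.mem_span_singleton_self _
    obtain ⟨c, hc⟩ := Submodule.mem_span_singleton.mp h2
    have h3 := v'.2
    rw [← hc, quadFormPlus_smul, v.2, mul_one] at h3
    have h4 := sq_eq_one_char_two h3
    rw [h4, one_smul] at hc
    exact Subtype.ext hc
  · rintro ⟨W, hW, w, hwW, hw⟩
    obtain ⟨c, hc⟩ := FiniteField.isSquare_of_char_two (F := F)
      (CharP.ringChar_of_prime_eq_zero Nat.prime_two (CharP.cast_eq_zero F 2))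
      (Cfsg.quadFormPlus d F w)⁻¹
    have hv1 : Cfsg.quadFormPlus d F (c • w) = 1 := by
      rw [quadFormPlus_smul, pow_two, ← hc, inv_mul_cancel₀ hw]
    refine ⟨⟨c • w, hv1⟩, ?_⟩
    apply Subtype.ext
    show Submodule.span F {c • w} = W
    have hle : Submodule.span F {c • w} ≤ W := by
      rw [Submodule.span_singleton_le_iff_mem]
      exact W.smul_mem c hwW
    apply Submodule.eq_of_le_of_finrank_eq hle
    rw [finrank_span_singleton (hne _ hv1), hW]

/-- an odd prime dividing the number of nonsingular lines divides `q^d - 1` -/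
theorem dvd_pow_sub_one_of_dvd_card {r : ℕ} (hr : r.Prime) (hr2 : r ≠ 2)
    (h : r ∣ Nat.card {W : Submodule F (Fin d ⊕ Fin d → F) //
        finrank F ↥W = 1 ∧ ∃ v ∈ W, Cfsg.quadFormPlus d F v ≠ 0}) :
    r ∣ Fintype.card F ^ d - 1 := by
  rw [card_nonsingular_lines] at h
  rcases (Nat.Prime.dvd_mul hr).mp h with h1 | h1
  · exact h1
  · exfalso
    have h2 := hr.dvd_of_dvd_pow h1
    obtain ⟨n, hn⟩ := FiniteField.card F 2
    rw [hn.2] at h2
    have h3 := hr.dvd_of_dvd_pow h2
    have := (Nat.prime_dvd_prime_iff_eq hr Nat.prime_two).mp h3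
    exact hr2 this

end fin

end Cfsg.Agent.Helper94.OrD
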