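import Cfsg.Agent.Helper94.OrD2

set_option autoImplicit false
set_option linter.unusedSectionVars false

/-!
# A matrix of odd prime order `r ∣ q^d - 1` whose eigenvectors are controlled
-/

namespace Cfsg.Agent.Helper94.OrD

open Matrix Module

variable {F : Type*} [Field F] [Fintype F] [CharP F 2]

/-- a matrix of order `r` coming from multiplication by an element of order `r` of the field with
`q^d` elements -/
theorem exists_matrix_order (d : ℕ) (hd : 0 < d) (r : ℕ) (hr : r.Prime)
    (hdvd : r ∣ Fintype.card F ^ d - 1) :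
    ∃ B B' : Matrix (Fin d) (Fin d) F, B * B' = 1 ∧ B' * B = 1 ∧ B ^ r = 1 ∧ B ≠ 1 ∧
      ∀ (c : F) (u w : Fin d → F), B *ᵥ u = c • u → B'ᵀ *ᵥ w = c • w → u = 0 ∨ w = 0 := by
  classical
  have : Fact (Nat.Prime 2) := ⟨Nat.prime_two⟩
  have : NeZero d := ⟨hd.ne'⟩
  let K := FiniteField.Extension F 2 d
  have : Fintype K := Fintype.ofFinite K
  have hcardK : Nat.card K = Fintype.card F ^ d := by
    rw [FiniteField.natCard_extension, Nat.card_eq_fintype_card]
  have hfr : finrank F K = d := FiniteField.finrank_extension F 2 d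
  let b : Basis (Fin d) F K := (Module.finBasis F K).reindex (finCongr hfr)
  have hcardU : Fintype.card Kˣ = Fintype.card F ^ d - 1 := by
    rw [← Nat.card_eq_fintype_card, Nat.card_units, hcardK]
  have : Fact r.Prime := ⟨hr⟩
  obtain ⟨ζ, hζ⟩ := exists_prime_orderOf_dvd_card (G := Kˣ) r (by rw [hcardU]; exact hdvd)
  let ψ : K →ₐ[F] Matrix (Fin d) (Fin d) F := Algebra.leftMulMatrix b
  have hψinj : Function.Injective ψ := Algebra.leftMulMatrix_injective b
  have hscal : ∀ μ : F, ψ (algebraMap F K μ) = μ • (1 : Matrix (Fin d) (Fin d) F) := by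
    intro μ
    rw [AlgHom.commutes, Algebra.algebraMap_eq_smul_one]
  have hζ1 : (ζ : K) ≠ 1 := by
    intro h1
    have : ζ = 1 := Units.ext h1
    rw [this, orderOf_one] at hζ
    exact hr.one_lt.ne hζ
  refine ⟨ψ (ζ : K), ψ ((ζ⁻¹ : Kˣ) : K), ?_, ?_, ?_, ?_, ?_⟩
  · rw [← map_mul, ← Units.val_mul, mul_inv_cancel, Units.val_one, map_one]
  · rw [← map_mul, ← Units.val_mul, inv_mul_cancel, Units.val_one, map_one]
  · rw [← map_pow, ← Units.val_pow_eq_pow_val, ← hζ, pow_orderOf_eq_one, Units.val_one, map_one]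
  · intro h1
    rw [← map_one ψ] at h1
    exact hζ1 (hψinj h1)
  · intro c u w hu hw
    by_cases hc : (ζ : K) = algebraMap F K c
    · right
      have hc0 : c ≠ 0 := by
        rintro rfl
        rw [map_zero] at hc
        exact Units.ne_zero ζ hc
      have hinv : ((ζ⁻¹ : Kˣ) : K) = algebraMap F K c⁻¹ := by
        rw [Units.val_inv_eq_inv_val, hc, map_inv₀]
      rw [hinv, hscal, Matrix.transpose_smul, Matrix.transpose_one, Matrix.smul_mulVec,
        Matrix.one_mulVec] at hw
      have hne : c⁻¹ - c ≠ 0 := by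
        intro h0
        have h2 : c ^ 2 = 1 := by
          have : c⁻¹ = c := sub_eq_zero.mp h0
          field_simp at this
          exact this.symm
        have h3 := sq_eq_one_char_two h2
        rw [h3, map_one] at hc
        exact hζ1 hc
      have h4 : (c⁻¹ - c) • w = 0 := by rw [sub_smul, hw, sub_self]
      exact (smul_eq_zero.mp h4).resolve_left hne
    · left
      have hne : (ζ : K) - algebraMap F K c ≠ 0 := sub_ne_zero.mpr hc
      have h1 : ψ ((ζ : K) - algebraMap F K c) *ᵥ u = 0 := by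
        rw [map_sub, hscal, Matrix.sub_mulVec, hu, Matrix.smul_mulVec, Matrix.one_mulVec, sub_self]
      have h2 : ψ ((ζ : K) - algebraMap F K c)⁻¹ * ψ ((ζ : K) - algebraMap F K c) = 1 := by
        rw [← map_mul, inv_mul_cancel₀ hne, map_one]
      calc u = (1 : Matrix (Fin d) (Fin d) F) *ᵥ u := (Matrix.one_mulVec u).symm
        _ = ψ ((ζ : K) - algebraMap F K c)⁻¹ *ᵥ (ψ ((ζ : K) - algebraMap F K c) *ᵥ u) := by
            rw [Matrix.mulVec_mulVec, h2]
        _ = 0 := by rw [h1, Matrix.mulVec_zero]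

end Cfsg.Agent.Helper94.OrD
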