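import Cfsg.Agent.Helper94.OrD4
import Cfsg.Agent.Helper44.QTypeCount

set_option autoImplicit false
set_option linter.unusedSectionVars false

/-!
# Nonsingular lines of a quadratic form in characteristic two: general index type
-/

namespace Cfsg.Agent.Helper94.OrE

open Matrix QuadraticMap Module Cfsg.Agent.Helper13 Cfsg.Agent.Helper44 Cfsg.Agent.Helper44.QType
open Cfsg.Agent.Helper94.OrD

variable {F : Type*} [Field F] {ι : Type} [Fintype ι] [DecidableEq ι]

theorem exists_eigen_of_invariant_line (X : Matrix ι ι F)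
    (W : Submodule F (ι → F)) (hW : finrank F ↥W = 1) {v : ι → F} (hv : v ∈ W)
    (hv0 : v ≠ 0) (hinv : W.map (Matrix.toLin' X) ≤ W) : ∃ c : F, X *ᵥ v = c • v := by
  have h1 : X *ᵥ v ∈ W := by
    apply hinv
    exact ⟨v, hv, Matrix.toLin'_apply X v⟩
  obtain ⟨c, hc⟩ := (finrank_eq_one_iff_of_nonzero' ⟨v, hv⟩ (fun h => hv0 (congrArg Subtype.val h))).mp hW
    ⟨X *ᵥ v, h1⟩
  exact ⟨c, (congrArg Subtype.val hc).symm⟩

variable (Q : QuadraticForm F (ι → F))

theorem Q_smul_sq (c : F) (v : ι → F) : Q (c • v) = c ^ 2 * Q v := by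
  rw [QuadraticMap.map_smul, smul_eq_mul, pow_two]

section fin

variable [Fintype F] [CharP F 2]

/-- an isometry with an invariant nonsingular line fixes a nonsingular vector -/
theorem fixed_of_invariant_line (g : ↥(Cfsg.isometryGroup F ⇑Q))
    (W : Submodule F (ι → F)) (hW : finrank F ↥W = 1) {v : ι → F} (hv : v ∈ W)
    (hQv : Q v ≠ 0)
    (hinv : W.map (Matrix.toLin' ((g : GL ι F) : Matrix ι ι F)) ≤ W) :
    ((g : GL ι F) : Matrix ι ι F) *ᵥ v = v := by
  have hv0 : v ≠ 0 := by
    rintro rfl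
    exact hQv (map_zero Q)
  obtain ⟨c, hc⟩ := exists_eigen_of_invariant_line _ W hW hv hv0 hinv
  have h1 := isometryGroup_apply g v
  rw [hc, Q_smul_sq] at h1
  have h2 : c ^ 2 = 1 := by
    have : (c ^ 2 - 1) * Q v = 0 := by linear_combination h1
    exact sub_eq_zero.mp ((mul_eq_zero.mp this).resolve_right hQv)
  rw [hc, sq_eq_one_char_two h2, one_smul]

/-- nonsingular lines correspond to vectors with `Q v = 1` -/
theorem card_nonsingular_lines :
    Nat.card {W : Submodule F (ι → F) // finrank F ↥W = 1 ∧ ∃ v ∈ W, Q v ≠ 0} = fc (⇑Q) 1 := by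
  unfold fc
  symm
  have hne : ∀ v : ι → F, Q v = 1 → v ≠ 0 := by
    rintro v hv rfl
    rw [map_zero] at hv
    exact zero_ne_one hv
  let f : {v : ι → F // Q v = 1} →
      {W : Submodule F (ι → F) // finrank F ↥W = 1 ∧ ∃ v ∈ W, Q v ≠ 0} := fun v =>
    ⟨Submodule.span F {v.1}, finrank_span_singleton (hne v.1 v.2),
      v.1, Submodule.mem_span_singleton_self _, by rw [v.2]; exact one_ne_zero⟩
  apply Nat.card_congr (Equiv.ofBijective f ⟨?_, ?_⟩)
  · intro v v' hvv'
    have h1 : Submodule.span F {v.1} = Submodule.span F {v'.1} := congrArg Subtype.val hvv'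
    have h2 : v'.1 ∈ Submodule.span F {v.1} := by
      rw [h1]; exact Submodule.mem_span_singleton_self _
    obtain ⟨c, hc⟩ := Submodule.mem_span_singleton.mp h2
    have h3 := v'.2
    rw [← hc, Q_smul_sq, v.2, mul_one] at h3
    have h4 := sq_eq_one_char_two h3
    rw [h4, one_smul] at hc
    exact Subtype.ext hc
  · rintro ⟨W, hW, w, hwW, hw⟩
    obtain ⟨c, hc⟩ := FiniteField.isSquare_of_char_two (F := F)
      (CharP.ringChar_of_prime_eq_zero Nat.prime_two (CharP.cast_eq_zero F 2)) (Q w)⁻¹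
    have hv1 : Q (c • w) = 1 := by
      rw [Q_smul_sq, pow_two, ← hc, inv_mul_cancel₀ hw]
    refine ⟨⟨c • w, hv1⟩, ?_⟩
    apply Subtype.ext
    show Submodule.span F {c • w} = W
    have hle : Submodule.span F {c • w} ≤ W := by
      rw [Submodule.span_singleton_le_iff_mem]
      exact W.smul_mem c hwW
    apply Submodule.eq_of_le_of_finrank_eq hle
    rw [finrank_span_singleton (hne _ hv1), hW]

/-- all non-zero values are taken equally often -/
theorem fc_eq_fc_one {c : F} (hc : c ≠ 0) : fc (⇑Q) c = fc (⇑Q) 1 := by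
  obtain ⟨s, hs⟩ := FiniteField.isSquare_of_char_two (F := F)
    (CharP.ringChar_of_prime_eq_zero Nat.prime_two (CharP.cast_eq_zero F 2)) c
  have hs0 : s ≠ 0 := by
    rintro rfl
    rw [mul_zero] at hs
    exact hc hs
  unfold fc
  apply Nat.card_congr
  refine
    { toFun := fun v => ⟨s⁻¹ • v.1, by
        rw [Q_smul_sq, v.2, hs]
        field_simp⟩
      invFun := fun v => ⟨s • v.1, by
        rw [Q_smul_sq, v.2, hs]
        ring⟩
      left_inv := fun v => by
        apply Subtype.ext
        show s • s⁻¹ • v.1 = v.1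
        rw [smul_smul, mul_inv_cancel₀ hs0, one_smul]
      right_inv := fun v => by
        apply Subtype.ext
        show s⁻¹ • s • v.1 = v.1
        rw [smul_smul, inv_mul_cancel₀ hs0, one_smul] }

/-- counting all vectors by value -/
theorem card_by_value :
    (Fintype.card F - 1) * fc (⇑Q) 1 + fc (⇑Q) 0 = Fintype.card F ^ Fintype.card ι := by
  classical
  have h1 : Fintype.card (ι → F) = ∑ c : F, fc (⇑Q) c := by
    unfold fc
    simp only [Nat.card_eq_fintype_card]
    rw [← Fintype.card_sigma]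
    exact Fintype.card_congr (Equiv.sigmaFiberEquiv (fun v : ι → F => Q v)).symm
  rw [Fintype.card_fun] at h1
  rw [h1, ← Finset.add_sum_erase Finset.univ _ (Finset.mem_univ (0 : F)), add_comm]
  congr 1
  rw [Finset.sum_congr rfl (fun c hc => fc_eq_fc_one Q (Finset.ne_of_mem_erase hc)),
    Finset.sum_const, Finset.card_erase_of_mem (Finset.mem_univ _), Finset.card_univ, smul_eq_mul]

end fin

end Cfsg.Agent.Helper94.OrE
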