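import Mathlib
import Cfsg.Agent.Helper43.SpPrimeA

set_option autoImplicit false

/-!
# A self-reciprocal polynomial of degree `2d` whose roots are primitive `r`-th roots of unity (`r ∣ q^d + 1`)
-/

namespace Cfsg.Agent.Helper94.OrE

open Matrix Module Polynomial

variable {F : Type*} [Field F] [Fintype F]

/-- multiplication by `z ^ q` has the same characteristic polynomial as multiplication by `z` -/
theorem charpoly_leftMul_frob {K : Type*} [Field K] [Algebra F K] [Finite K] {n : ℕ}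
    (b : Basis (Fin n) F K) (z : K) :
    (Algebra.leftMulMatrix b (z ^ Fintype.card F)).charpoly = (Algebra.leftMulMatrix b z).charpoly := by
  classical
  have : Algebra.IsAlgebraic F K := Algebra.IsAlgebraic.of_finite F K
  let φ := FiniteField.frobeniusAlgEquivOfAlgebraic F K
  have hφ : ∀ x : K, φ x = x ^ Fintype.card F := fun x => rfl
  rw [Algebra.leftMulMatrix_apply, Algebra.leftMulMatrix_apply, LinearMap.charpoly_toMatrix,
    LinearMap.charpoly_toMatrix]
  have hconj : Algebra.lmul F K (z ^ Fintype.card F) = φ.toLinearEquiv.conj (Algebra.lmul F K z) := by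
    apply LinearMap.ext
    intro x
    rw [LinearEquiv.conj_apply_apply]
    show z ^ Fintype.card F * x = φ (z * φ.symm x)
    rw [map_mul, AlgEquiv.apply_symm_apply, hφ]
  rw [hconj, LinearEquiv.charpoly_conj]

theorem charpoly_leftMul_frob_pow {K : Type*} [Field K] [Algebra F K] [Finite K] {n : ℕ}
    (b : Basis (Fin n) F K) (z : K) (k : ℕ) :
    (Algebra.leftMulMatrix b (z ^ (Fintype.card F ^ k))).charpoly
      = (Algebra.leftMulMatrix b z).charpoly := by
  induction k with
  | zero => rw [pow_zero, pow_one]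
  | succ k ih =>
    rw [pow_succ, pow_mul, charpoly_leftMul_frob, ih]

/-- the polynomial -/
theorem exists_good_poly [CharP F 2] (d : ℕ) (hd : 0 < d) (r : ℕ) (hr : r.Prime) (hr2 : r ≠ 2)
    (hdvd : r ∣ Fintype.card F ^ d + 1) :
    ∃ g : F[X], g.Monic ∧ g.natDegree = 2 * d ∧ g.reverse = g ∧
      (∀ P : F[X], P.Monic → Irreducible P → P ∣ g → P ∣ (X ^ r - 1 : F[X])) ∧
      ¬ (X - 1 : F[X]) ∣ g := by
  classical
  have : Fact (Nat.Prime 2) := ⟨Nat.prime_two⟩
  have : NeZero (2 * d) := ⟨by omega⟩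
  let K := FiniteField.Extension F 2 (2 * d)
  have : Fintype K := Fintype.ofFinite K
  have hq1 : 1 ≤ Fintype.card F ^ d := Nat.one_le_pow _ _ Fintype.card_pos
  have hcardK : Nat.card K = Fintype.card F ^ (2 * d) := by
    rw [FiniteField.natCard_extension, Nat.card_eq_fintype_card]
  have hfr : finrank F K = 2 * d := FiniteField.finrank_extension F 2 (2 * d)
  let b : Basis (Fin (2 * d)) F K := (Module.finBasis F K).reindex (finCongr hfr)
  have hcardU : Fintype.card Kˣ = Fintype.card F ^ (2 * d) - 1 := by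
    rw [← Nat.card_eq_fintype_card, Nat.card_units, hcardK]
  have hdvd2 : r ∣ Fintype.card F ^ (2 * d) - 1 := by
    have : Fintype.card F ^ (2 * d) - 1 = (Fintype.card F ^ d - 1) * (Fintype.card F ^ d + 1) := by
      rw [mul_comm 2 d, pow_mul]
      zify [hq1, Nat.one_le_pow 2 _ hq1]
      ring
    rw [this]
    exact Dvd.dvd.mul_left hdvd _
  have : Fact r.Prime := ⟨hr⟩
  obtain ⟨ζ, hζ⟩ := exists_prime_orderOf_dvd_card (G := Kˣ) r (by rw [hcardU]; exact hdvd2)
  let ψ : K →ₐ[F] Matrix (Fin (2 * d)) (Fin (2 * d)) F := Algebra.leftMulMatrix b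
  have hψinj : Function.Injective ψ := Algebra.leftMulMatrix_injective b
  have hζ1 : (ζ : K) ≠ 1 := by
    intro h1
    have : ζ = 1 := Units.ext h1
    rw [this, orderOf_one] at hζ
    exact hr.one_lt.ne hζ
  have hBr : ψ (ζ : K) ^ r = 1 := by
    rw [← map_pow, ← Units.val_pow_eq_pow_val, ← hζ, pow_orderOf_eq_one, Units.val_one, map_one]
  have hBinv : ψ (ζ : K) * ψ ((ζ⁻¹ : Kˣ) : K) = 1 := by
    rw [← map_mul, ← Units.val_mul, mul_inv_cancel, Units.val_one, map_one]
  -- inverse is a Frobenius conjugate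
  have hζinv : ((ζ⁻¹ : Kˣ) : K) = (ζ : K) ^ (Fintype.card F ^ d) := by
    have h1 : ζ ^ (Fintype.card F ^ d + 1) = 1 := by
      apply orderOf_dvd_iff_pow_eq_one.mp
      rw [hζ]; exact hdvd
    have h2 : ζ⁻¹ = ζ ^ (Fintype.card F ^ d) := by
      rw [inv_eq_iff_eq_inv, eq_inv_iff_mul_eq_one, ← pow_succ']
      exact h1
    rw [h2, Units.val_pow_eq_pow_val]
  -- determinant one
  have hrF : (r : F) ≠ 0 := by
    intro h0
    rw [CharP.cast_eq_zero_iff F 2 r] at h0
    exact hr2 ((Nat.prime_dvd_prime_iff_eq Nat.prime_two hr).mp h0).symm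
  have hcop : Nat.Coprime r (Fintype.card F - 1) := by
    rw [Nat.Prime.coprime_iff_not_dvd hr]
    intro h1
    have hF1 : 1 ≤ Fintype.card F := Fintype.card_pos
    have h2 : (Fintype.card F : ZMod r) = 1 := by
      have : ((Fintype.card F - 1 : ℕ) : ZMod r) = 0 := (ZMod.natCast_eq_zero_iff _ _).mpr h1
      rw [Nat.cast_sub hF1, Nat.cast_one, sub_eq_zero] at this
      exact this
    have h3 : ((Fintype.card F ^ d + 1 : ℕ) : ZMod r) = 0 := (ZMod.natCast_eq_zero_iff _ _).mpr hdvd
    rw [Nat.cast_add, Nat.cast_pow, h2, one_pow, Nat.cast_one] at h3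
    have h4 : ((2 : ℕ) : ZMod r) = 0 := by
      rw [← h3]; norm_num
    rw [ZMod.natCast_eq_zero_iff] at h4
    exact hr2 ((Nat.prime_dvd_prime_iff_eq hr Nat.prime_two).mp h4)
  have hdet : (ψ (ζ : K)).det = 1 := by
    have h1 : (ψ (ζ : K)).det ^ r = 1 := by rw [← Matrix.det_pow, hBr, Matrix.det_one]
    have h0 : (ψ (ζ : K)).det ≠ 0 := by
      intro h0
      rw [h0, zero_pow hr.ne_zero] at h1
      exact zero_ne_one h1
    have h2 : (ψ (ζ : K)).det ^ (Fintype.card F - 1) = 1 := FiniteField.pow_card_sub_one_eq_one _ h0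
    have h3 := pow_gcd_eq_one.mpr ⟨h1, h2⟩
    rw [hcop.gcd_eq_one, pow_one] at h3
    exact h3
  have hunit : IsUnit (ψ (ζ : K)) := by
    rw [Matrix.isUnit_iff_isUnit_det, hdet]
    exact isUnit_one
  refine ⟨(ψ (ζ : K)).charpoly, Matrix.charpoly_monic _, ?_, ?_, ?_, ?_⟩
  · rw [Matrix.charpoly_natDegree_eq_dim, Fintype.card_fin]
  · have h1 := Matrix.charpoly_inv (ψ (ζ : K)) hunit
    rw [hdet, Ring.inverse_one, map_one, mul_one, Fintype.card_fin, pow_mul, neg_one_sq, one_pow,
      one_mul, ← Matrix.reverse_charpoly] at h1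
    rw [← h1, Matrix.inv_eq_right_inv hBinv, hζinv]
    exact charpoly_leftMul_frob_pow b (ζ : K) d
  · intro P hPm hPi hP
    have hsep : (X ^ r - 1 : F[X]).Separable := by
      have := Polynomial.separable_X_pow_sub_C (1 : F) hrF one_ne_zero
      simpa using this
    apply Cfsg.Agent.Helper43.SpPrime.dvd_of_dvd_charpoly_gen (ψ (ζ : K)) _ hsep.squarefree ?_ P hPm hPi hP
    rw [map_sub, map_pow, aeval_X, map_one, hBr, sub_self]
  · intro hdiv
    have hroot : (ψ (ζ : K)).charpoly.IsRoot 1 := by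
      obtain ⟨c, hc⟩ := hdiv
      rw [Polynomial.IsRoot, hc, eval_mul, eval_sub, eval_X, eval_one, sub_self, zero_mul]
    rw [Polynomial.IsRoot, Matrix.eval_charpoly] at hroot
    have h1 : Matrix.scalar (Fin (2 * d)) (1 : F) - ψ (ζ : K) = ψ (1 - (ζ : K)) := by
      rw [map_sub, map_one]
      simp
    rw [h1] at hroot
    have hne : (1 : K) - (ζ : K) ≠ 0 := sub_ne_zero.mpr (Ne.symm hζ1)
    have h2 : ψ (1 - (ζ : K)) * ψ (1 - (ζ : K))⁻¹ = 1 := by
      rw [← map_mul, mul_inv_cancel₀ hne, map_one]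
    have h3 := congrArg Matrix.det h2
    rw [Matrix.det_mul, hroot, zero_mul, Matrix.det_one] at h3
    exact zero_ne_one h3

end Cfsg.Agent.Helper94.OrE
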