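import Cfsg.Agent.Helper94.OrE1
import Cfsg.Agent.Helper94.OrE2
import Cfsg.Agent.Helper44.OrthRealizeE
import Cfsg.Agent.Helper44.StdNondeg

set_option autoImplicit false
set_option linter.unusedSectionVars false

/-!
# `Ω⁻_2d(q)`, `q` even: elements of odd prime order without fixed vectors, and line counts
-/

namespace Cfsg.Agent.Helper94.OrE

open Matrix QuadraticMap Module Polynomial Cfsg.Agent.Helper13 Cfsg.Agent.Helper44
open Cfsg.Agent.Helper44.QType Cfsg.Agent.Helper45.OmegaParity Cfsg.Agent.Helper94.OrD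

variable {F : Type*} [Field F] [Fintype F] [CharP F 2]

theorem quadFormMinus_single (k : ℕ) (a b : F) :
    Cfsg.quadFormMinus k F a b (Pi.single (Sum.inr 0) 1) = 1 := by
  unfold Cfsg.quadFormMinus
  simp

/-- an odd prime dividing the number of nonsingular lines of a form of minus type divides `q^d + 1` -/
theorem dvd_of_dvd_card_lines {ι : Type} [Fintype ι] [DecidableEq ι] (Q : QuadraticForm F (ι → F))
    {d : ℕ} (hd : 1 ≤ d) (hι : Fintype.card ι = 2 * d) (hT : HasType (⇑Q) d (-1)) {r : ℕ}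
    (hr : r.Prime) (hr2 : r ≠ 2)
    (h : r ∣ Nat.card {W : Submodule F (ι → F) // finrank F ↥W = 1 ∧ ∃ v ∈ W, Q v ≠ 0}) :
    r ∣ Fintype.card F ^ d + 1 := by
  rw [card_nonsingular_lines] at h
  have h1 := card_by_value Q
  rw [hι] at h1
  unfold HasType at hT
  rw [Nat.card_eq_fintype_card] at hT
  have hq1 : 1 ≤ Fintype.card F := Fintype.card_pos
  have hq2 : 2 ≤ Fintype.card F := Fintype.one_lt_card
  -- `N * q = q^d * (q^d + 1)`
  have key : fc (⇑Q) 1 * Fintype.card F = Fintype.card F ^ d * (Fintype.card F ^ d + 1) := by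
    have hne : ((Fintype.card F : ℤ) - 1) ≠ 0 := by
      have : (2 : ℤ) ≤ (Fintype.card F : ℤ) := by exact_mod_cast hq2
      omega
    have h1' : ((Fintype.card F : ℤ) - 1) * (fc (⇑Q) 1 : ℤ) + (fc (⇑Q) 0 : ℤ)
        = (Fintype.card F : ℤ) ^ (2 * d) := by
      have := congrArg (fun n : ℕ => (n : ℤ)) h1
      simp only [Nat.cast_add, Nat.cast_mul, Nat.cast_pow] at this
      rw [Nat.cast_sub hq1, Nat.cast_one] at this
      exact this
    have h2 : ((Fintype.card F : ℤ) - 1) * ((fc (⇑Q) 1 : ℤ) * (Fintype.card F : ℤ))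
        = ((Fintype.card F : ℤ) - 1) *
          ((Fintype.card F : ℤ) ^ d * ((Fintype.card F : ℤ) ^ d + 1)) := by
      have e1 : (Fintype.card F : ℤ) ^ (2 * d) = ((Fintype.card F : ℤ) ^ d) ^ 2 := by
        rw [← pow_mul, mul_comm]
      have e2 : (Fintype.card F : ℤ) ^ (d + 1) = (Fintype.card F : ℤ) ^ d * (Fintype.card F : ℤ) :=
        pow_succ _ _
      rw [e1, e2] at hT
      rw [e1] at h1'
      linear_combination (Fintype.card F : ℤ) * h1' - hT
    have h3 := mul_left_cancel₀ hne h2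
    exact_mod_cast h3
  have h4 : r ∣ Fintype.card F ^ d * (Fintype.card F ^ d + 1) := by
    rw [← key]
    exact Dvd.dvd.mul_right h _
  rcases (Nat.Prime.dvd_mul hr).mp h4 with h5 | h5
  · exfalso
    have h6 := hr.dvd_of_dvd_pow h5
    obtain ⟨n, hn⟩ := FiniteField.card F 2
    rw [hn.2] at h6
    have h7 := hr.dvd_of_dvd_pow h6
    exact hr2 ((Nat.prime_dvd_prime_iff_eq hr Nat.prime_two).mp h7)
  · exact h5

/-- an isometry of odd prime order `r ∣ q^d + 1` without fixed vectors, for a form of minus type -/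
theorem exists_fpf_isometry {ι : Type} [Fintype ι] [DecidableEq ι] (Q : QuadraticForm F (ι → F))
    (hQ : (polarBilin Q).Nondegenerate) {d : ℕ} (hd : 1 ≤ d) (hι : Fintype.card ι = 2 * d)
    (hT : HasType (⇑Q) d (-1)) {r : ℕ} (hr : r.Prime) (hr2 : r ≠ 2)
    (hdvd : r ∣ Fintype.card F ^ d + 1) :
    ∃ y : ↥(Cfsg.isometryGroup F ⇑Q), orderOf y = r ∧
      ∀ v : ι → F, ((y : GL ι F) : Matrix ι ι F) *ᵥ v = v → v = 0 := by
  have : Fact (Nat.Prime 2) := ⟨Nat.prime_two⟩
  obtain ⟨g, hgm, hgd, hgr, hfac, hgn⟩ := exists_good_poly (F := F) d (by omega) r hr hr2 hdvd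
  have hne : g ≠ (X - 1) ^ (2 * d) := by
    intro h
    apply hgn
    rw [h]
    exact dvd_pow_self _ (by omega)
  have hgood : ((Nat.card F : ℕ) : ZMod r) ^ d = (((-1 : ℤ)) : ZMod r) := by
    have h3 : ((Fintype.card F ^ d + 1 : ℕ) : ZMod r) = 0 := (ZMod.natCast_eq_zero_iff _ _).mpr hdvd
    rw [Nat.cast_add, Nat.cast_pow, Nat.cast_one] at h3
    rw [Nat.card_eq_fintype_card, Int.cast_neg, Int.cast_one]
    exact eq_neg_of_add_eq_zero_left h3
  obtain ⟨y, hy, hyc⟩ := exists_isometry_of_poly_zero 2 Q hι ((nondeg_iff Q).mp hQ) (Or.inr rfl) hT r hr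
    hr2 hr2 hne hgm hgd hgr hfac hgn hgood
  refine ⟨y, hy, ?_⟩
  intro v hv
  exact eq_zero_of_mulVec_eq _ (by rw [hyc]; exact hgn) v hv

end Cfsg.Agent.Helper94.OrE
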