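import Cfsg.Agent.Helper94.Frame
import Cfsg.Agent.Helper94.TensorOrth2

set_option autoImplicit false
set_option linter.unusedSectionVars false

namespace Cfsg.Agent.Helper94

open Cfsg Cfsg.Geo
open scoped Matrix

section OrthPlusA

variable {ι : Type} [Fintype ι] [DecidableEq ι] {F : Type*} [Field F] [Fintype F]
variable {Q : (ι → F) → F} {t : ℕ} {D : Fin t → Submodule F (ι → F)}

theorem two_ne_zero_of_card_five (hq : Fintype.card F = 5) : (2 : F) ≠ 0 := by
  intro h2
  have h5 : (5 : F) = 0 := by
    have := card_nsmul_eq_zero (G := F) (x := (1 : F))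
    rw [hq] at this
    simpa using this
  have : (1 : F) = 0 := by linear_combination h5 - 2 * h2
  exact one_ne_zero this

/-- In the field with five elements, `a * b = 1` forces `a = b = 1`, `a = b = -1` or `a + b = 0`. -/
theorem F5_dich (hq : Fintype.card F = 5) {a b : F} (hab : a * b = 1) :
    (a = 1 ∧ b = 1) ∨ (a = -1 ∧ b = -1) ∨ a + b = 0 := by
  have ha0 : a ≠ 0 := left_ne_zero_of_mul_eq_one hab
  have h4 : a ^ 4 = 1 := by
    have := FiniteField.pow_card_sub_one_eq_one a ha0
    rwa [hq] at this
  have hfac : (a ^ 2 - 1) * (a ^ 2 + 1) = 0 := by linear_combination h4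
  rcases mul_eq_zero.mp hfac with h | h
  · have hfac2 : (a - 1) * (a + 1) = 0 := by linear_combination h
    rcases mul_eq_zero.mp hfac2 with h1 | h1
    · have ha : a = 1 := by linear_combination h1
      left
      refine ⟨ha, ?_⟩
      rw [ha, one_mul] at hab
      exact hab
    · have ha : a = -1 := by linear_combination h1
      right; left
      refine ⟨ha, ?_⟩
      rw [ha] at hab
      linear_combination -hab
  · right; right
    -- b = -a
    have hb : b = -a := by
      have : b = b * (a * (-a)) := by
        have : a * (-a) = 1 := by linear_combination -h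
        rw [this, mul_one]
      rw [this]
      linear_combination (-a) * hab
    rw [hb]; ring

/-- Case `k = 2`, plus type, `q = 5`: the members have orthonormal frames. -/
theorem exists_between_of_plus2_five (hq : Fintype.card F = 5) (hQ : IsNondegenerateQuadraticForm Q)
    (hD : IsOrthogonalMDecomposition Q 2 D) (hplus : ∀ i, IsPlusTypeOn Q (D i)) (ht : 4 ≤ t) :
    ∃ K : Subgroup (Matrix.GeneralLinearGroup ι F),
      decompositionStabilizer D ⊓ omegaGL Q < K ∧ K < omegaGL Q := by
  have h2 : (2 : F) ≠ 0 := two_ne_zero_of_card_five hq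
  choose e f he hf hQe hQf hef hspan using fun i =>
    exists_hyperbolic_pair hQ (hD.decomp.decomp.finrank_eq i) (hD.decomp.nondegenerate i) (hplus i)
  have hfe : ∀ i, QuadraticMap.polar Q (f i) (e i) = 1 := fun i => by rw [B_comm, hef]
  have hee : ∀ i, QuadraticMap.polar Q (e i) (e i) = 0 := fun i => by rw [B_self hQ, hQe, mul_zero]
  have hff : ∀ i, QuadraticMap.polar Q (f i) (f i) = 0 := fun i => by rw [B_self hQ, hQf, mul_zero]
  have hp : IsFrameData Q D 1 (fun i => e i + f i) := by
    refine ⟨fun i => (D i).add_mem (he i) (hf i), fun i => ?_, fun i v hv hQv => ?_⟩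
    · show Q (e i + f i) = 1
      rw [Q_add (Q := Q), hQe, hQf, hef]; ring
    · obtain ⟨α, β, rfl⟩ := hspan i v hv
      have hαβ : α * β = 1 := by
        rw [Q_add (Q := Q), Q_smul hQ, Q_smul hQ, hQe, hQf, B_smul_left hQ, B_smul_right hQ, hef] at hQv
        linear_combination hQv
      rcases F5_dich hq hαβ with ⟨rfl, rfl⟩ | ⟨rfl, rfl⟩ | h
      · left; simp
      · right; left
        show _ = -(e i + f i)
        module
      · right; right
        show QuadraticMap.polar Q (α • e i + β • f i) (e i + f i) = 0
        simp only [B_add_left hQ, B_add_right hQ, B_smul_left hQ, hee, hff, hef, hfe]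
        linear_combination h
  refine exists_between_of_frame hQ h2 hD.decomp ht one_ne_zero hp (fun i => ?_)
  refine ⟨e i - f i, (D i).sub_mem (he i) (hf i), ?_, ?_⟩
  · intro h0
    have : QuadraticMap.polar Q (e i - f i) (f i) = 1 := by
      rw [B_sub_left hQ, hef, hff, sub_zero]
    rw [h0, B_zero_left hQ] at this
    exact zero_ne_one this
  · show QuadraticMap.polar Q (e i - f i) (e i + f i) = 0
    simp only [B_sub_left hQ, B_add_right hQ, hee, hff, hef, hfe]
    ring

end OrthPlusA

end Cfsg.Agent.Helper94
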