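import Cfsg.Agent.Helper94.OrthPlusA

set_option autoImplicit false
set_option linter.unusedSectionVars false

namespace Cfsg.Agent.Helper94

open Cfsg Cfsg.Geo
open scoped Matrix

section OrthPlusB

variable {ι : Type} [Fintype ι] [DecidableEq ι] {F : Type*} [Field F] [Fintype F]
variable {Q : (ι → F) → F} {t : ℕ} {D : Fin t → Submodule F (ι → F)}

/-- A vector with non-zero pairings against vectors of two different members lies in no member. -/
theorem not_mem_of_two_pairings (hD : IsNondegenerateMDecomposition (QuadraticMap.polar Q) 2 D)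
    {w : ι → F} {i i' : Fin t} (hii' : i ≠ i') {x x' : ι → F} (hx : x ∈ D i) (hx' : x' ∈ D i')
    (h : QuadraticMap.polar Q w x ≠ 0) (h' : QuadraticMap.polar Q w x' ≠ 0) (j : Fin t) : w ∉ D j := by
  intro hw
  by_cases hj : j = i
  · subst hj
    exact h' (hD.orthogonal j i' hii' w hw x' hx')
  · exact h (hD.orthogonal j i hj w hw x hx)

/-- Case `k = 2`, plus type, `q = 2`: the stabiliser fixes the sum of the non-singular vectors of the
members. -/
theorem exists_between_of_plus2_two (hq : Fintype.card F = 2) (hQ : IsNondegenerateQuadraticForm Q)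
    (hD : IsOrthogonalMDecomposition Q 2 D) (hplus : ∀ i, IsPlusTypeOn Q (D i)) (ht : 3 ≤ t) :
    ∃ K : Subgroup (Matrix.GeneralLinearGroup ι F),
      decompositionStabilizer D ⊓ omegaGL Q < K ∧ K < omegaGL Q := by
  have h2 : (2 : F) = 0 := F2_two hq
  have o := hD.decomp.orthogonal
  choose e f he hf hQe hQf hef hspan using fun i =>
    exists_hyperbolic_pair hQ (hD.decomp.decomp.finrank_eq i) (hD.decomp.nondegenerate i) (hplus i)
  have hfe : ∀ i, QuadraticMap.polar Q (f i) (e i) = 1 := fun i => by rw [B_comm, hef]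
  have hee : ∀ i, QuadraticMap.polar Q (e i) (e i) = 0 := fun i => by rw [B_self hQ, hQe, mul_zero]
  have hff : ∀ i, QuadraticMap.polar Q (f i) (f i) = 0 := fun i => by rw [B_self hQ, hQf, mul_zero]
  have hBee : ∀ i j, i ≠ j → QuadraticMap.polar Q (e i) (e j) = 0 :=
    fun i j hij => o i j hij _ (he i) _ (he j)
  have hBef : ∀ i j, i ≠ j → QuadraticMap.polar Q (e i) (f j) = 0 :=
    fun i j hij => o i j hij _ (he i) _ (hf j)
  have hBfe : ∀ i j, i ≠ j → QuadraticMap.polar Q (f i) (e j) = 0 :=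
    fun i j hij => o i j hij _ (hf i) _ (he j)
  have hBff : ∀ i j, i ≠ j → QuadraticMap.polar Q (f i) (f j) = 0 :=
    fun i j hij => o i j hij _ (hf i) _ (hf j)
  obtain ⟨nv, hnv⟩ : ∃ nv : Fin t → ι → F, nv = fun i => e i + f i := ⟨_, rfl⟩
  have hnmem : ∀ i, nv i ∈ D i := fun i => by rw [hnv]; exact (D i).add_mem (he i) (hf i)
  have hQn : ∀ i, Q (nv i) = 1 := by
    intro i
    rw [hnv]
    show Q (e i + f i) = 1
    rw [Q_add (Q := Q), hQe, hQf, hef]; ring
  have huniq : ∀ i, ∀ v ∈ D i, Q v = 1 → v = nv i := by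
    intro i v hv hQv
    obtain ⟨α, β, rfl⟩ := hspan i v hv
    have hαβ : α * β = 1 := by
      rw [Q_add (Q := Q), Q_smul hQ, Q_smul hQ, hQe, hQf, B_smul_left hQ, B_smul_right hQ, hef] at hQv
      linear_combination hQv
    rcases F2_cases hq α with hα | hα
    · rw [hα, zero_mul] at hαβ
      exact absurd hαβ zero_ne_one
    · rw [hα, one_mul] at hαβ
      rw [hα, hαβ, hnv]
      simp
  obtain ⟨s, hs⟩ : ∃ s : ι → F, s = ∑ i, nv i := ⟨_, rfl⟩
  -- pairing with s
  have hBs : ∀ j, ∀ v ∈ D j, QuadraticMap.polar Q v s = QuadraticMap.polar Q v (nv j) := by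
    intro j v hv
    rw [hs, B_sum_right hQ, Finset.sum_eq_single j]
    · intro i _ hij
      exact o j i (Ne.symm hij) v hv _ (hnmem i)
    · intro h; exact absurd (Finset.mem_univ j) h
  have hBes : ∀ j, QuadraticMap.polar Q (e j) s = 1 := by
    intro j
    rw [hBs j _ (he j), hnv]
    show QuadraticMap.polar Q (e j) (e j + f j) = 1
    rw [B_add_right hQ, hee, hef, zero_add]
  have hBns : ∀ j, QuadraticMap.polar Q (nv j) s = 0 := by
    intro j
    rw [hBs j _ (hnmem j)]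
    exact B_self_of_two hQ h2 _
  -- the stabiliser fixes s
  have hfix : ∀ g : Matrix.GeneralLinearGroup ι F, g ∈ decompositionStabilizer D ⊓ omegaGL Q →
      (g : Matrix ι ι F) *ᵥ s = s := by
    rintro g ⟨⟨σ, hσ⟩, hgΩ⟩
    have hiso := (mem_isometryGroup_iff g).1 (omegaGL_le_isometryGroup hgΩ)
    have hgn : ∀ i, (g : Matrix ι ι F) *ᵥ nv i = nv (σ i) := by
      intro i
      apply huniq (σ i)
      · rw [← hσ i]
        exact ⟨nv i, hnmem i, Matrix.toLin'_apply _ _⟩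
      · rw [hiso, hQn]
    rw [hs, Matrix.mulVec_sum]
    simp only [hgn]
    exact Equiv.sum_comp σ nv
  let i0 : Fin t := ⟨0, by omega⟩
  let i1 : Fin t := ⟨1, by omega⟩
  let i2 : Fin t := ⟨2, by omega⟩
  have h01 : i0 ≠ i1 := by simp [i0, i1, Fin.ext_iff]
  have h02 : i0 ≠ i2 := by simp [i0, i2, Fin.ext_iff]
  have h12 : i1 ≠ i2 := by simp [i1, i2, Fin.ext_iff]
  have h10 := h01.symm
  have h20 := h02.symm
  have h21 := h12.symm
  -- the vectors a, a₁, a₂
  have hQa : Q (nv i0) = 1 := hQn i0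
  have hQa₁ : Q (e i0 + e i1 + nv i2) = 1 := by
    rw [Q_add3 hQ, hQe, hQe, hQn, hBee i0 i1 h01, hnv]
    show 0 + 0 + 1 + 0 + QuadraticMap.polar Q (e i0) (e i2 + f i2)
      + QuadraticMap.polar Q (e i1) (e i2 + f i2) = 1
    rw [B_add_right hQ, B_add_right hQ, hBee i0 i2 h02, hBef i0 i2 h02, hBee i1 i2 h12,
      hBef i1 i2 h12]
    ring
  have hQa₂ : Q (e i0 + nv i1) = 1 := by
    rw [Q_add (Q := Q), hQe, hQn, hnv]
    show 0 + 1 + QuadraticMap.polar Q (e i0) (e i1 + f i1) = 1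
    rw [B_add_right hQ, hBee i0 i1 h01, hBef i0 i1 h01]
    ring
  have hBaa₁ : QuadraticMap.polar Q (nv i0) (e i0 + e i1 + nv i2) = 1 := by
    rw [hnv]
    show QuadraticMap.polar Q (e i0 + f i0) (e i0 + e i1 + (e i2 + f i2)) = 1
    simp only [B_add_left hQ, B_add_right hQ, hee, hfe, hBee i0 i1 h01, hBfe i0 i1 h01,
      hBee i0 i2 h02, hBef i0 i2 h02, hBfe i0 i2 h02, hBff i0 i2 h02]
    ring
  have hBaa₂ : QuadraticMap.polar Q (nv i0) (e i0 + nv i1) = 1 := by
    rw [hnv]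
    show QuadraticMap.polar Q (e i0 + f i0) (e i0 + (e i1 + f i1)) = 1
    simp only [B_add_left hQ, B_add_right hQ, hee, hfe, hBee i0 i1 h01, hBfe i0 i1 h01,
      hBef i0 i1 h01, hBff i0 i1 h01]
    ring
  have hQa0 : Q (nv i0) ≠ 0 := by rw [hQa]; exact one_ne_zero
  have hQa₁0 : Q (e i0 + e i1 + nv i2) ≠ 0 := by rw [hQa₁]; exact one_ne_zero
  have hQa₂0 : Q (e i0 + nv i1) ≠ 0 := by rw [hQa₂]; exact one_ne_zero
  have hBa₁s : QuadraticMap.polar Q (e i0 + e i1 + nv i2) s = 0 := by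
    rw [B_add_left hQ, B_add_left hQ, hBes, hBes, hBns]
    linear_combination h2
  have hBa₂s : QuadraticMap.polar Q (e i0 + nv i1) s = 1 := by
    rw [B_add_left hQ, hBes, hBns, add_zero]
  refine ⟨stabilizing (glToMat ι F) {s} ⊓ omegaGL Q, ?_, ?_⟩
  · rw [SetLike.lt_iff_le_and_exists]
    refine ⟨?_, reflGL hQ (nv i0) hQa0 * reflGL hQ (e i0 + e i1 + nv i2) hQa₁0
      * reflGL hQ (nv i0) hQa0 * reflGL hQ (e i0 + e i1 + nv i2) hQa₁0,
      ⟨?_, reflComm_mem_omegaGL hQ _ _ hQa0 hQa₁0⟩, ?_⟩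
    · intro g hg
      refine ⟨?_, hg.2⟩
      apply mem_stabilizing_of_maps
      · intro v hv
        rw [Set.mem_singleton_iff] at hv ⊢
        rw [hv]; exact hfix g hg
      · intro v hv
        rw [Set.mem_singleton_iff] at hv ⊢
        rw [hv]; exact hfix g⁻¹ (inv_mem hg)
    · have hfix₁ : ∀ v ∈ ({s} : Set (ι → F)),
          ((reflGL hQ (nv i0) hQa0 * reflGL hQ (e i0 + e i1 + nv i2) hQa₁0
            * reflGL hQ (nv i0) hQa0 * reflGL hQ (e i0 + e i1 + nv i2) hQa₁0 :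
              Matrix.GeneralLinearGroup ι F) : Matrix ι ι F) *ᵥ v ∈ ({s} : Set (ι → F)) := by
        intro v hv
        rw [Set.mem_singleton_iff] at hv ⊢
        rw [hv, reflComm_char2 hQ h2 hQa hQa₁ hBaa₁, hBns, hBa₁s]
        simp
      have hfix₁' : ∀ v ∈ ({s} : Set (ι → F)),
          ((reflGL hQ (e i0 + e i1 + nv i2) hQa₁0 * reflGL hQ (nv i0) hQa0
            * reflGL hQ (e i0 + e i1 + nv i2) hQa₁0 * reflGL hQ (nv i0) hQa0 :
              Matrix.GeneralLinearGroup ι F) : Matrix ι ι F) *ᵥ v ∈ ({s} : Set (ι → F)) := by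
        intro v hv
        rw [Set.mem_singleton_iff] at hv ⊢
        rw [hv, reflComm_char2 hQ h2 hQa₁ hQa (by rw [B_comm]; exact hBaa₁), hBns, hBa₁s]
        simp
      apply mem_stabilizing_of_maps _ hfix₁
      have hinv : (reflGL hQ (nv i0) hQa0 * reflGL hQ (e i0 + e i1 + nv i2) hQa₁0
            * reflGL hQ (nv i0) hQa0 * reflGL hQ (e i0 + e i1 + nv i2) hQa₁0)⁻¹
          = reflGL hQ (e i0 + e i1 + nv i2) hQa₁0 * reflGL hQ (nv i0) hQa0
            * reflGL hQ (e i0 + e i1 + nv i2) hQa₁0 * reflGL hQ (nv i0) hQa0 := by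
        simp only [mul_inv_rev, reflGL_inv, mul_assoc]
      rw [hinv]
      exact hfix₁'
    · rintro ⟨⟨σ, hσ⟩, -⟩
      have himg : ((reflGL hQ (nv i0) hQa0 * reflGL hQ (e i0 + e i1 + nv i2) hQa₁0
            * reflGL hQ (nv i0) hQa0 * reflGL hQ (e i0 + e i1 + nv i2) hQa₁0 :
              Matrix.GeneralLinearGroup ι F) : Matrix ι ι F) *ᵥ nv i0 ∈ D (σ i0) := by
        rw [← hσ i0]
        exact ⟨nv i0, hnmem i0, Matrix.toLin'_apply _ _⟩
      rw [reflComm_char2 hQ h2 hQa hQa₁ hBaa₁, B_self_of_two hQ h2, B_comm, hBaa₁] at himg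
      revert himg
      apply not_mem_of_two_pairings hD.decomp h01 (he i0) (hf i1)
      · rw [hnv]
        show QuadraticMap.polar Q (e i0 + f i0 + (0 : F) • (e i0 + f i0)
          + ((0 : F) + 1) • (e i0 + e i1 + (e i2 + f i2))) (e i0) ≠ 0
        simp only [B_add_left hQ, B_smul_left hQ, hee, hfe, hBee i1 i0 h10, hBee i2 i0 h20,
          hBfe i2 i0 h20]
        norm_num
      · rw [hnv]
        show QuadraticMap.polar Q (e i0 + f i0 + (0 : F) • (e i0 + f i0)
          + ((0 : F) + 1) • (e i0 + e i1 + (e i2 + f i2))) (f i1) ≠ 0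
        simp only [B_add_left hQ, B_smul_left hQ, hef, hBef i0 i1 h01, hBff i0 i1 h01,
          hBef i2 i1 h21, hBff i2 i1 h21]
        norm_num
  · rw [SetLike.lt_iff_le_and_exists]
    refine ⟨inf_le_right, reflGL hQ (nv i0) hQa0 * reflGL hQ (e i0 + nv i1) hQa₂0
      * reflGL hQ (nv i0) hQa0 * reflGL hQ (e i0 + nv i1) hQa₂0,
      reflComm_mem_omegaGL hQ _ _ hQa0 hQa₂0, ?_⟩
    rintro ⟨hmem, -⟩
    have : ((reflGL hQ (nv i0) hQa0 * reflGL hQ (e i0 + nv i1) hQa₂0
      * reflGL hQ (nv i0) hQa0 * reflGL hQ (e i0 + nv i1) hQa₂0 : Matrix.GeneralLinearGroup ι F) :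
        Matrix ι ι F) *ᵥ s = s := (hmem s).1 rfl
    rw [reflComm_char2 hQ h2 hQa hQa₂ hBaa₂, hBns, hBa₂s] at this
    have h0 : e i0 + nv i1 = 0 := by
      have h3 : s + (0 : F) • nv i0 + ((0 : F) + 1) • (e i0 + nv i1) = s + (e i0 + nv i1) := by
        simp
      rw [h3] at this
      exact add_eq_left.mp this
    rw [h0, Q_zero hQ] at hQa₂
    exact zero_ne_one hQa₂

end OrthPlusB

end Cfsg.Agent.Helper94
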