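import Cfsg.Agent.Helper94.OrthPlusB
import Cfsg.Agent.Helper94.Herm

set_option autoImplicit false
set_option linter.unusedSectionVars false

namespace Cfsg.Agent.Helper94

open Cfsg Cfsg.Geo
open scoped Matrix

section OrthPlusC

variable {ι : Type} [Fintype ι] [DecidableEq ι] {F : Type*} [Field F] [Fintype F]
variable {Q : (ι → F) → F} {t k : ℕ} {D : Fin t → Submodule F (ι → F)}

/-- The polar form is the sum of its restrictions to the members of an orthogonal decomposition. -/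
theorem polar_eq_sum_comp (hQ : IsNondegenerateQuadraticForm Q)
    (hD : IsNondegenerateMDecomposition (QuadraticMap.polar Q) k D) (hI : DirectSum.IsInternal D)
    (x y : ι → F) :
    QuadraticMap.polar Q x y = ∑ i, QuadraticMap.polar Q (comp hI i x) (comp hI i y) := by
  conv_lhs => rw [← sum_comp hI y]
  rw [B_sum_right hQ]
  apply Finset.sum_congr rfl
  intro i _
  conv_lhs => rw [← sum_comp hI x]
  rw [B_comm, B_sum_right hQ, Finset.sum_eq_single i]
  · rw [B_comm]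
  · intro j _ hji
    exact hD.orthogonal i j (Ne.symm hji) _ (comp_mem hI i y) _ (comp_mem hI j x)
  · intro h; exact absurd (Finset.mem_univ i) h

theorem F4_idem_cases (_hq : Fintype.card F = 4) {x : F} (hx : x ^ 2 = x) : x = 0 ∨ x = 1 := by
  have : x * (x - 1) = 0 := by linear_combination hx
  rcases mul_eq_zero.mp this with h | h
  · exact Or.inl h
  · right; linear_combination h

/-- Case `k = 2`, plus type, `q = 4`: the stabiliser preserves a form of the space over the prime field. -/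
theorem exists_between_of_plus2_four (hq : Fintype.card F = 4) (hQ : IsNondegenerateQuadraticForm Q)
    (hD : IsOrthogonalMDecomposition Q 2 D) (hplus : ∀ i, IsPlusTypeOn Q (D i)) (ht : 3 ≤ t) :
    ∃ K : Subgroup (Matrix.GeneralLinearGroup ι F),
      decompositionStabilizer D ⊓ omegaGL Q < K ∧ K < omegaGL Q := by
  have h2 : (2 : F) = 0 := F4_two_eq_zero hq
  have o := hD.decomp.orthogonal
  have hI : DirectSum.IsInternal D := isInternal_of_isMDecomposition hD.decomp.decomp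
  choose e f he hf hQe hQf hef hspan using fun i =>
    exists_hyperbolic_pair hQ (hD.decomp.decomp.finrank_eq i) (hD.decomp.nondegenerate i) (hplus i)
  have hfe : ∀ i, QuadraticMap.polar Q (f i) (e i) = 1 := fun i => by rw [B_comm, hef]
  have hee : ∀ i, QuadraticMap.polar Q (e i) (e i) = 0 := fun i => by rw [B_self hQ, hQe, mul_zero]
  have hff : ∀ i, QuadraticMap.polar Q (f i) (f i) = 0 := fun i => by rw [B_self hQ, hQf, mul_zero]
  have hBee : ∀ i j, i ≠ j → QuadraticMap.polar Q (e i) (e j) = 0 :=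
    fun i j hij => o i j hij _ (he i) _ (he j)
  have hBef : ∀ i j, i ≠ j → QuadraticMap.polar Q (e i) (f j) = 0 :=
    fun i j hij => o i j hij _ (he i) _ (hf j)
  have hBfe : ∀ i j, i ≠ j → QuadraticMap.polar Q (f i) (e j) = 0 :=
    fun i j hij => o i j hij _ (hf i) _ (he j)
  have hBff : ∀ i j, i ≠ j → QuadraticMap.polar Q (f i) (f j) = 0 :=
    fun i j hij => o i j hij _ (hf i) _ (hf j)
  -- the points of the prime-field form
  obtain ⟨pt, hpt⟩ : ∃ pt : Fin t → F → ι → F, pt = fun i l => l • e i + l ^ 2 • f i := ⟨_, rfl⟩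
  have hptmem : ∀ i l, pt i l ∈ D i := fun i l => by
    rw [hpt]; exact (D i).add_mem ((D i).smul_mem _ (he i)) ((D i).smul_mem _ (hf i))
  have hpt0 : ∀ i, pt i 0 = 0 := fun i => by rw [hpt]; simp
  have hQpt : ∀ i l, Q (pt i l) = l ^ 3 := by
    intro i l
    rw [hpt]
    show Q (l • e i + l ^ 2 • f i) = l ^ 3
    rw [Q_add (Q := Q), Q_smul hQ, Q_smul hQ, hQe, hQf, B_smul_left hQ, B_smul_right hQ, hef]
    ring
  have hBpt : ∀ i l m, QuadraticMap.polar Q (pt i l) (pt i m) = l * m ^ 2 + l ^ 2 * m := by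
    intro i l m
    rw [hpt]
    show QuadraticMap.polar Q (l • e i + l ^ 2 • f i) (m • e i + m ^ 2 • f i) = _
    simp only [B_add_left hQ, B_add_right hQ, B_smul_left hQ, B_smul_right hQ, hee, hff, hef, hfe]
    ring
  have hptadd : ∀ i l m, pt i l + pt i m = pt i (l + m) := by
    intro i l m
    rw [hpt]
    show l • e i + l ^ 2 • f i + (m • e i + m ^ 2 • f i) = (l + m) • e i + (l + m) ^ 2 • f i
    rw [F4_add_sq hq]
    module
  have hC1 : ∀ i, ∀ w ∈ D i, (w = 0 ∨ Q w = 1) → ∃ l, w = pt i l := by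
    intro i w hw h
    rcases h with h | h
    · exact ⟨0, by rw [hpt0, h]⟩
    · obtain ⟨α, β, rfl⟩ := hspan i w hw
      have hαβ : α * β = 1 := by
        rw [Q_add (Q := Q), Q_smul hQ, Q_smul hQ, hQe, hQf, B_smul_left hQ, B_smul_right hQ, hef] at h
        linear_combination h
      have hα0 : α ≠ 0 := left_ne_zero_of_mul_eq_one hαβ
      have hα3 := F4_pow_three hq hα0
      have hβ : β = α ^ 2 := by
        linear_combination (β) * (-hα3) + (α ^ 2) * hαβ
      refine ⟨α, ?_⟩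
      rw [hpt, hβ]
  obtain ⟨L, hL⟩ : ∃ L : Set (ι → F), L = {v | ∀ i, ∃ l, comp hI i v = pt i l} := ⟨_, rfl⟩
  have hLmem : ∀ j l, pt j l ∈ L := by
    intro j l
    rw [hL]
    intro i
    by_cases hij : i = j
    · subst hij
      exact ⟨l, comp_of_mem_same hI (hptmem i l)⟩
    · exact ⟨0, by rw [hpt0, comp_of_mem_ne hI (hptmem j l) (Ne.symm hij)]⟩
  have hL1 : ∀ x ∈ L, ∀ y ∈ L, x + y ∈ L := by
    intro x hx y hy
    rw [hL] at hx hy ⊢
    intro i
    obtain ⟨l, hl⟩ := hx i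
    obtain ⟨m, hm⟩ := hy i
    exact ⟨l + m, by rw [comp_add, hl, hm, hptadd]⟩
  have hL2 : ∀ x ∈ L, ∀ y ∈ L, QuadraticMap.polar Q x y = 0 ∨ QuadraticMap.polar Q x y = 1 := by
    intro x hx y hy
    apply F4_idem_cases hq
    rw [polar_eq_sum_comp hQ hD.decomp hI, F4_sum_sq hq]
    apply Finset.sum_congr rfl
    intro i _
    rw [hL] at hx hy
    obtain ⟨l, hl⟩ := hx i
    obtain ⟨m, hm⟩ := hy i
    rw [hl, hm, hBpt]
    have hl4 := F4_pow_four hq l
    have hm4 := F4_pow_four hq m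
    have : (l * m ^ 2 + l ^ 2 * m) ^ 2 = l ^ 2 * m ^ 4 + l ^ 4 * m ^ 2
        + 2 * (l ^ 3 * m ^ 3) := by ring
    rw [this, h2, hl4, hm4]
    ring
  have hrefl : ∀ a ∈ L, ∀ (ha : Q a = 1) (ha0 : Q a ≠ 0),
      reflGL hQ a ha0 ∈ stabilizing (glToMat ι F) L := by
    intro a haL ha ha0
    have key : ∀ v ∈ L, ((reflGL hQ a ha0 : Matrix.GeneralLinearGroup ι F) : Matrix ι ι F) *ᵥ v ∈ L := by
      intro v hv
      rw [refl_char2 hQ h2 a ha]
      rcases hL2 a haL v hv with h | h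
      · rw [h, zero_smul, add_zero]; exact hv
      · rw [h, one_smul]; exact hL1 v hv a haL
    apply mem_stabilizing_of_maps _ key
    rw [reflGL_inv]
    exact key
  -- the stabiliser preserves L
  have hT : ∀ g : Matrix.GeneralLinearGroup ι F, g ∈ decompositionStabilizer D ⊓ omegaGL Q →
      ∀ v ∈ L, (g : Matrix ι ι F) *ᵥ v ∈ L := by
    rintro g ⟨⟨σ, hσ⟩, hgΩ⟩ v hv
    have hiso := (mem_isometryGroup_iff g).1 (omegaGL_le_isometryGroup hgΩ)
    rw [hL] at hv ⊢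
    intro j
    obtain ⟨i, rfl⟩ := σ.surjective j
    obtain ⟨l, hl⟩ := hv i
    rw [comp_mulVec_of_perm hI _ σ hσ, hl]
    apply hC1 (σ i)
    · rw [← hσ i]
      exact ⟨pt i l, hptmem i l, Matrix.toLin'_apply _ _⟩
    · by_cases hl0 : l = 0
      · left
        rw [hl0, hpt0, Matrix.mulVec_zero]
      · right
        rw [hiso, hQpt, F4_pow_three hq hl0]
  let i0 : Fin t := ⟨0, by omega⟩
  let i1 : Fin t := ⟨1, by omega⟩
  let i2 : Fin t := ⟨2, by omega⟩
  have h01 : i0 ≠ i1 := by simp [i0, i1, Fin.ext_iff]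
  have h02 : i0 ≠ i2 := by simp [i0, i2, Fin.ext_iff]
  have h12 : i1 ≠ i2 := by simp [i1, i2, Fin.ext_iff]
  have h10 := h01.symm
  have h20 := h02.symm
  have h21 := h12.symm
  -- the scalar ω
  obtain ⟨ω, hω0, hω1⟩ := F4_exists_ne hq (1 : F)
  have hω3 := F4_pow_three hq hω0
  have hω : ω ^ 2 + ω + 1 = 0 := by
    have : (ω - 1) * (ω ^ 2 + ω + 1) = 0 := by linear_combination hω3
    rcases mul_eq_zero.mp this with h | h
    · exact absurd (by linear_combination h) hω1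
    · exact h
  have hBptpt : ∀ i j l m, i ≠ j → QuadraticMap.polar Q (pt i l) (pt j m) = 0 :=
    fun i j l m hij => o i j hij _ (hptmem i l) _ (hptmem j m)
  -- a = pt i0 ω, a₁ = pt i0 1 + pt i1 1 + pt i2 1, a₂ = pt i0 1 + e i1
  have hQa : Q (pt i0 ω) = 1 := by rw [hQpt, hω3]
  have hQa₁ : Q (pt i0 1 + pt i1 1 + pt i2 1) = 1 := by
    rw [Q_add3 hQ, hQpt, hQpt, hQpt, hBptpt i0 i1 _ _ h01, hBptpt i0 i2 _ _ h02,
      hBptpt i1 i2 _ _ h12]
    linear_combination h2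
  have hpte : ∀ i j l, i ≠ j → QuadraticMap.polar Q (pt i l) (e j) = 0 :=
    fun i j l hij => o i j hij _ (hptmem i l) _ (he j)
  have hptee : ∀ i l, QuadraticMap.polar Q (pt i l) (e i) = l ^ 2 := by
    intro i l
    rw [hpt]
    show QuadraticMap.polar Q (l • e i + l ^ 2 • f i) (e i) = l ^ 2
    rw [B_add_left hQ, B_smul_left hQ, B_smul_left hQ, hee, hfe]
    ring
  have hQa₂ : Q (pt i0 1 + e i1) = 1 := by
    rw [Q_add (Q := Q), hQpt, hQe, hpte i0 i1 _ h01]
    ring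
  have hBaa₁ : QuadraticMap.polar Q (pt i0 ω) (pt i0 1 + pt i1 1 + pt i2 1) = 1 := by
    rw [B_add_right hQ, B_add_right hQ, hBpt, hBptpt i0 i1 _ _ h01, hBptpt i0 i2 _ _ h02]
    linear_combination hω - h2
  have hBaa₂ : QuadraticMap.polar Q (pt i0 ω) (pt i0 1 + e i1) = 1 := by
    rw [B_add_right hQ, hBpt, hpte i0 i1 _ h01]
    linear_combination hω - h2
  have hQa0 : Q (pt i0 ω) ≠ 0 := by rw [hQa]; exact one_ne_zero
  have hQa₁0 : Q (pt i0 1 + pt i1 1 + pt i2 1) ≠ 0 := by rw [hQa₁]; exact one_ne_zero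
  have hQa₂0 : Q (pt i0 1 + e i1) ≠ 0 := by rw [hQa₂]; exact one_ne_zero
  have haL : pt i0 ω ∈ L := hLmem i0 ω
  have ha₁L : pt i0 1 + pt i1 1 + pt i2 1 ∈ L :=
    hL1 _ (hL1 _ (hLmem i0 1) _ (hLmem i1 1)) _ (hLmem i2 1)
  refine ⟨stabilizing (glToMat ι F) L ⊓ omegaGL Q, ?_, ?_⟩
  · rw [SetLike.lt_iff_le_and_exists]
    refine ⟨?_, reflGL hQ (pt i0 ω) hQa0 * reflGL hQ (pt i0 1 + pt i1 1 + pt i2 1) hQa₁0
      * reflGL hQ (pt i0 ω) hQa0 * reflGL hQ (pt i0 1 + pt i1 1 + pt i2 1) hQa₁0,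
      ⟨?_, reflComm_mem_omegaGL hQ _ _ hQa0 hQa₁0⟩, ?_⟩
    · intro g hg
      exact ⟨mem_stabilizing_of_maps g (hT g hg) (hT g⁻¹ (inv_mem hg)), hg.2⟩
    · exact mul_mem (mul_mem (mul_mem (hrefl _ haL hQa hQa0) (hrefl _ ha₁L hQa₁ hQa₁0))
        (hrefl _ haL hQa hQa0)) (hrefl _ ha₁L hQa₁ hQa₁0)
    · rintro ⟨⟨σ, hσ⟩, -⟩
      have himg : ((reflGL hQ (pt i0 ω) hQa0 * reflGL hQ (pt i0 1 + pt i1 1 + pt i2 1) hQa₁0
            * reflGL hQ (pt i0 ω) hQa0 * reflGL hQ (pt i0 1 + pt i1 1 + pt i2 1) hQa₁0 :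
              Matrix.GeneralLinearGroup ι F) : Matrix ι ι F) *ᵥ pt i0 1 ∈ D (σ i0) := by
        rw [← hσ i0]
        exact ⟨pt i0 1, hptmem i0 1, Matrix.toLin'_apply _ _⟩
      have hα : QuadraticMap.polar Q (pt i0 ω) (pt i0 1) = 1 := by
        rw [hBpt]; linear_combination hω - h2
      have hβ : QuadraticMap.polar Q (pt i0 1 + pt i1 1 + pt i2 1) (pt i0 1) = 0 := by
        rw [B_add_left hQ, B_add_left hQ, hBpt, hBptpt i1 i0 _ _ h10, hBptpt i2 i0 _ _ h20]
        linear_combination h2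
      rw [reflComm_char2 hQ h2 hQa hQa₁ hBaa₁, hα, hβ] at himg
      revert himg
      apply not_mem_of_two_pairings hD.decomp h12 (he i1) (he i2)
      · simp only [B_add_left hQ, B_smul_left hQ, hpte i0 i1 _ h01, hpte i2 i1 _ h21, hptee]
        norm_num
      · simp only [B_add_left hQ, B_smul_left hQ, hpte i0 i2 _ h02, hpte i1 i2 _ h12, hptee]
        norm_num
  · rw [SetLike.lt_iff_le_and_exists]
    refine ⟨inf_le_right, reflGL hQ (pt i0 ω) hQa0 * reflGL hQ (pt i0 1 + e i1) hQa₂0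
      * reflGL hQ (pt i0 ω) hQa0 * reflGL hQ (pt i0 1 + e i1) hQa₂0,
      reflComm_mem_omegaGL hQ _ _ hQa0 hQa₂0, ?_⟩
    rintro ⟨hmem, -⟩
    have hin : ((reflGL hQ (pt i0 ω) hQa0 * reflGL hQ (pt i0 1 + e i1) hQa₂0
      * reflGL hQ (pt i0 ω) hQa0 * reflGL hQ (pt i0 1 + e i1) hQa₂0 : Matrix.GeneralLinearGroup ι F) :
        Matrix ι ι F) *ᵥ pt i0 1 ∈ L := (hmem (pt i0 1)).1 (hLmem i0 1)
    have hα : QuadraticMap.polar Q (pt i0 ω) (pt i0 1) = 1 := by
      rw [hBpt]; linear_combination hω - h2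
    have hβ : QuadraticMap.polar Q (pt i0 1 + e i1) (pt i0 1) = 0 := by
      rw [B_add_left hQ, hBpt, B_comm, hpte i0 i1 _ h01]
      linear_combination h2
    rw [reflComm_char2 hQ h2 hQa hQa₂ hBaa₂, hα, hβ] at hin
    have hvec : pt i0 1 + (1 : F) • pt i0 ω + ((1 : F) + 0) • (pt i0 1 + e i1)
        = (pt i0 1 + pt i0 ω + pt i0 1) + e i1 := by module
    rw [hvec, hL] at hin
    obtain ⟨l, hl⟩ := hin i1
    have hX : pt i0 1 + pt i0 ω + pt i0 1 ∈ D i0 :=
      (D i0).add_mem ((D i0).add_mem (hptmem i0 1) (hptmem i0 ω)) (hptmem i0 1)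
    rw [comp_add, comp_of_mem_ne hI hX h01, comp_of_mem_same hI (he i1), zero_add] at hl
    have hQl : l ^ 3 = 0 := by rw [← hQpt i1 l, ← hl, hQe]
    have hl0 : l = 0 := by
      by_contra hne
      rw [F4_pow_three hq hne] at hQl
      exact one_ne_zero hQl
    rw [hl0, hpt0] at hl
    have := hef i1
    rw [hl, B_zero_left hQ] at this
    exact zero_ne_one this

end OrthPlusC

end Cfsg.Agent.Helper94
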