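import Cfsg.Agent.Helper94.OrthPlusC
import Cfsg.Agent.Helper94.Refl3

set_option autoImplicit false
set_option linter.unusedSectionVars false

namespace Cfsg.Agent.Helper94

open Cfsg Cfsg.Geo
open scoped Matrix

section OrthPlusD

variable {ι : Type} [Fintype ι] [DecidableEq ι] {F : Type*} [Field F] [Fintype F]
variable {Q : (ι → F) → F}

theorem F2_ne_zero_iff (hq : Fintype.card F = 2) {x : F} : x ≠ 0 ↔ x = 1 := by
  constructor
  · intro h
    rcases F2_cases hq x with h0 | h1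
    · exact absurd h0 h
    · exact h1
  · intro h
    rw [h]; exact one_ne_zero

/-- Over the field with two elements: a vector dual to `u₁` and orthogonal to `u₂`. -/
theorem exists_dual_F2 (hq : Fintype.card F = 2) (hQ : IsNondegenerateQuadraticForm Q)
    {W : Submodule F (ι → F)} (hW : IsNondegenerateOn (QuadraticMap.polar Q) W) {u₁ u₂ : ι → F}
    (hu₁W : u₁ ∈ W) (hu₂W : u₂ ∈ W) (hu₁ : u₁ ≠ 0) (hu₁₂ : u₁ + u₂ ≠ 0) :
    ∃ y ∈ W, QuadraticMap.polar Q u₁ y = 1 ∧ QuadraticMap.polar Q u₂ y = 0 := by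
  have h2 : (2 : F) = 0 := F2_two hq
  obtain ⟨-, ⟨y₁, hy₁W, hy₁⟩⟩ := hW u₁ hu₁W hu₁
  rw [F2_ne_zero_iff hq] at hy₁
  rcases F2_cases hq (QuadraticMap.polar Q u₂ y₁) with h0 | h1
  · exact ⟨y₁, hy₁W, hy₁, h0⟩
  obtain ⟨-, ⟨y₂, hy₂W, hy₂⟩⟩ := hW (u₁ + u₂) (W.add_mem hu₁W hu₂W) hu₁₂
  rw [F2_ne_zero_iff hq, B_add_left hQ] at hy₂
  rcases F2_cases hq (QuadraticMap.polar Q u₂ y₂) with h0' | h1'
  · refine ⟨y₂, hy₂W, ?_, h0'⟩
    rw [h0', add_zero] at hy₂
    exact hy₂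
  · refine ⟨y₁ + y₂, W.add_mem hy₁W hy₂W, ?_, ?_⟩
    · rw [B_add_right hQ, hy₁]
      have : QuadraticMap.polar Q u₁ y₂ = 0 := by
        rw [h1'] at hy₂
        linear_combination hy₂
      rw [this, add_zero]
    · rw [B_add_right hQ, h1, h1']
      linear_combination h2

/-- Witt decomposition of a four-dimensional plus-type space over the field with two elements. -/
theorem exists_witt4_F2 (hq : Fintype.card F = 2) (hQ : IsNondegenerateQuadraticForm Q)
    {W : Submodule F (ι → F)} (hdim : Module.finrank F W = 4)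
    (hW : IsNondegenerateOn (QuadraticMap.polar Q) W) (hp : IsPlusTypeOn Q W) :
    ∃ e₁ f₁ e₂ f₂ : ι → F, e₁ ∈ W ∧ f₁ ∈ W ∧ e₂ ∈ W ∧ f₂ ∈ W ∧
      Q e₁ = 0 ∧ Q f₁ = 0 ∧ Q e₂ = 0 ∧ Q f₂ = 0 ∧
      QuadraticMap.polar Q e₁ f₁ = 1 ∧ QuadraticMap.polar Q e₂ f₂ = 1 ∧
      QuadraticMap.polar Q e₁ e₂ = 0 ∧ QuadraticMap.polar Q e₁ f₂ = 0 ∧
      QuadraticMap.polar Q f₁ e₂ = 0 ∧ QuadraticMap.polar Q f₁ f₂ = 0 := by
  have h2 : (2 : F) = 0 := F2_two hq
  obtain ⟨U, hUW, hUts, hUdim⟩ := hp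
  have hU2 : Module.finrank F U = 2 := by omega
  have hUne : U ≠ ⊥ := by
    intro h
    rw [h, finrank_bot] at hU2
    omega
  obtain ⟨u₁, hu₁U, hu₁0⟩ := Submodule.exists_mem_ne_zero_of_ne_bot hUne
  -- a second vector outside the span of the first
  have hlt : Submodule.span F {u₁} < U := by
    apply lt_of_le_of_ne
    · rw [Submodule.span_le]
      intro x hx
      rw [Set.mem_singleton_iff] at hx
      rw [hx]; exact hu₁U
    · intro h
      have := finrank_span_singleton (K := F) hu₁0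
      rw [h, hU2] at this
      omega
  obtain ⟨u₂, hu₂U, hu₂n⟩ := SetLike.exists_of_lt hlt
  have hu₂0 : u₂ ≠ 0 := by
    intro h; apply hu₂n; rw [h]; exact Submodule.zero_mem _
  have hu₁₂ : u₁ + u₂ ≠ 0 := by
    intro h
    apply hu₂n
    have : u₂ = u₁ := by
      have h' : u₂ = -u₁ := by
        rw [eq_neg_iff_add_eq_zero, add_comm]; exact h
      rw [h']
      ext j
      simp only [Pi.neg_apply]
      exact neg_eq_self_of_two h2 _
    rw [this]
    exact Submodule.mem_span_singleton_self u₁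
  have hu₂₁ : u₂ + u₁ ≠ 0 := by rw [add_comm]; exact hu₁₂
  have hQu₁ : Q u₁ = 0 := hUts u₁ hu₁U
  have hQu₂ : Q u₂ = 0 := hUts u₂ hu₂U
  have hu₁u₂ : QuadraticMap.polar Q u₁ u₂ = 0 := by
    have := hUts (u₁ + u₂) (U.add_mem hu₁U hu₂U)
    rw [Q_add (Q := Q), hQu₁, hQu₂] at this
    simpa using this
  have hu₂u₁ : QuadraticMap.polar Q u₂ u₁ = 0 := by rw [B_comm, hu₁u₂]
  have hu₁u₁ : QuadraticMap.polar Q u₁ u₁ = 0 := B_self_of_two hQ h2 u₁
  have hu₂u₂ : QuadraticMap.polar Q u₂ u₂ = 0 := B_self_of_two hQ h2 u₂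
  obtain ⟨v₁, hv₁W, hv₁1, hv₁2⟩ := exists_dual_F2 hq hQ hW (hUW hu₁U) (hUW hu₂U) hu₁0 hu₁₂
  obtain ⟨v₂, hv₂W, hv₂2, hv₂1⟩ := exists_dual_F2 hq hQ hW (hUW hu₂U) (hUW hu₁U) hu₂0 hu₂₁
  -- f₁ singular
  obtain ⟨f₁, hf₁⟩ : ∃ f₁, f₁ = v₁ + Q v₁ • u₁ := ⟨_, rfl⟩
  have hf₁W : f₁ ∈ W := by rw [hf₁]; exact W.add_mem hv₁W (W.smul_mem _ (hUW hu₁U))
  have hQf₁ : Q f₁ = 0 := by
    rw [hf₁, Q_add (Q := Q), Q_smul hQ, hQu₁, B_smul_right hQ, B_comm v₁ u₁, hv₁1]
    linear_combination (Q v₁) * h2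
  have hu₁f₁ : QuadraticMap.polar Q u₁ f₁ = 1 := by
    rw [hf₁, B_add_right hQ, B_smul_right hQ, hv₁1, hu₁u₁]; ring
  have hu₂f₁ : QuadraticMap.polar Q u₂ f₁ = 0 := by
    rw [hf₁, B_add_right hQ, B_smul_right hQ, hv₁2, hu₂u₁]; ring
  -- f₂ orthogonal to f₁ and singular
  obtain ⟨w₂, hw₂⟩ : ∃ w₂, w₂ = v₂ + QuadraticMap.polar Q f₁ v₂ • u₁ := ⟨_, rfl⟩
  have hw₂W : w₂ ∈ W := by rw [hw₂]; exact W.add_mem hv₂W (W.smul_mem _ (hUW hu₁U))
  have hf₁w₂ : QuadraticMap.polar Q f₁ w₂ = 0 := by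
    rw [hw₂, B_add_right hQ, B_smul_right hQ, B_comm f₁ u₁, hu₁f₁]
    linear_combination (QuadraticMap.polar Q f₁ v₂) * h2
  have hu₁w₂ : QuadraticMap.polar Q u₁ w₂ = 0 := by
    rw [hw₂, B_add_right hQ, B_smul_right hQ, hv₂1, hu₁u₁]; ring
  have hu₂w₂ : QuadraticMap.polar Q u₂ w₂ = 1 := by
    rw [hw₂, B_add_right hQ, B_smul_right hQ, hv₂2, hu₂u₁]; ring
  obtain ⟨f₂, hf₂⟩ : ∃ f₂, f₂ = w₂ + Q w₂ • u₂ := ⟨_, rfl⟩
  have hf₂W : f₂ ∈ W := by rw [hf₂]; exact W.add_mem hw₂W (W.smul_mem _ (hUW hu₂U))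
  have hQf₂ : Q f₂ = 0 := by
    rw [hf₂, Q_add (Q := Q), Q_smul hQ, hQu₂, B_smul_right hQ, B_comm w₂ u₂, hu₂w₂]
    linear_combination (Q w₂) * h2
  have hu₁f₂ : QuadraticMap.polar Q u₁ f₂ = 0 := by
    rw [hf₂, B_add_right hQ, B_smul_right hQ, hu₁w₂, hu₁u₂]; ring
  have hu₂f₂ : QuadraticMap.polar Q u₂ f₂ = 1 := by
    rw [hf₂, B_add_right hQ, B_smul_right hQ, hu₂w₂, hu₂u₂]; ring
  have hf₁f₂ : QuadraticMap.polar Q f₁ f₂ = 0 := by
    rw [hf₂, B_add_right hQ, B_smul_right hQ, hf₁w₂, B_comm f₁ u₂, hu₂f₁]; ring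
  exact ⟨u₁, f₁, u₂, f₂, hUW hu₁U, hf₁W, hUW hu₂U, hf₂W, hQu₁, hQf₁, hQu₂, hQf₂, hu₁f₁, hu₂f₂,
    hu₁u₂, hu₁f₂, by rw [B_comm, hu₂f₁], hf₁f₂⟩

theorem F2_quad4 (hq : Fintype.card F = 2) (x₁ y₁ x₂ y₂ : F) (h : x₁ * y₁ + x₂ * y₂ = 1) :
    (x₁ + y₁ = 0 ∧ y₁ + y₂ + x₂ = 0) ∨
      (x₁ = (y₁ + y₂ + x₂) + (x₁ + y₁) ∧ y₁ = y₁ + y₂ + x₂ ∧ x₂ = x₁ + y₁ ∧ y₂ = x₁ + y₁) := by
  have h2 : (2 : F) = 0 := F2_two hq
  have h11 : (1 : F) + 1 = 0 := by rw [one_add_one_eq_two]; exact h2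
  rcases F2_cases hq x₁ with rfl | rfl <;> rcases F2_cases hq y₁ with rfl | rfl <;>
    rcases F2_cases hq x₂ with rfl | rfl <;> rcases F2_cases hq y₂ with rfl | rfl <;>
    simp [h11] at h ⊢

/-- Structure of a four-dimensional plus-type space over the field with two elements: it contains an
anisotropic plane `⟨a, b⟩` and a non-singular `c` orthogonal to it, and every non-singular vector lies
in the plane or is orthogonal to it. -/
theorem exists_quad4 (hq : Fintype.card F = 2) (hQ : IsNondegenerateQuadraticForm Q)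
    {W : Submodule F (ι → F)} (hdim : Module.finrank F W = 4)
    (hW : IsNondegenerateOn (QuadraticMap.polar Q) W) (hp : IsPlusTypeOn Q W) :
    ∃ a b c : ι → F, a ∈ W ∧ b ∈ W ∧ c ∈ W ∧ Q a = 1 ∧ Q b = 1 ∧ Q c = 1 ∧
      QuadraticMap.polar Q a b = 1 ∧ QuadraticMap.polar Q a c = 0 ∧ QuadraticMap.polar Q b c = 0 ∧
      ∀ x ∈ W, Q x = 1 → (QuadraticMap.polar Q a x = 0 ∧ QuadraticMap.polar Q b x = 0) ∨
        x = QuadraticMap.polar Q b x • a + QuadraticMap.polar Q a x • b := by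
  have h2 : (2 : F) = 0 := F2_two hq
  obtain ⟨e₁, f₁, e₂, f₂, he₁, hf₁, he₂, hf₂, hQe₁, hQf₁, hQe₂, hQf₂, h11, h22, hee, hef, hfe, hff⟩ :=
    exists_witt4_F2 hq hQ hdim hW hp
  have g11 : QuadraticMap.polar Q f₁ e₁ = 1 := by rw [B_comm, h11]
  have g22 : QuadraticMap.polar Q f₂ e₂ = 1 := by rw [B_comm, h22]
  have gee : QuadraticMap.polar Q e₂ e₁ = 0 := by rw [B_comm, hee]
  have gef : QuadraticMap.polar Q f₂ e₁ = 0 := by rw [B_comm, hef]
  have gfe : QuadraticMap.polar Q e₂ f₁ = 0 := by rw [B_comm, hfe]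
  have gff : QuadraticMap.polar Q f₂ f₁ = 0 := by rw [B_comm, hff]
  have s1 : QuadraticMap.polar Q e₁ e₁ = 0 := B_self_of_two hQ h2 _
  have s2 : QuadraticMap.polar Q f₁ f₁ = 0 := B_self_of_two hQ h2 _
  have s3 : QuadraticMap.polar Q e₂ e₂ = 0 := B_self_of_two hQ h2 _
  have s4 : QuadraticMap.polar Q f₂ f₂ = 0 := B_self_of_two hQ h2 _
  -- spanning
  have hli : LinearIndependent F ![e₁, f₁, e₂, f₂] := by
    rw [Fintype.linearIndependent_iff]
    intro g hg
    rw [Fin.sum_univ_four] at hg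
    simp only [Matrix.cons_val_zero, Matrix.cons_val_one, Matrix.cons_val_two, Matrix.cons_val_three,
      Matrix.head_cons, Matrix.tail_cons] at hg
    have k0 := congrArg (fun z => QuadraticMap.polar Q z f₁) hg
    have k1 := congrArg (fun z => QuadraticMap.polar Q z e₁) hg
    have k2 := congrArg (fun z => QuadraticMap.polar Q z f₂) hg
    have k3 := congrArg (fun z => QuadraticMap.polar Q z e₂) hg
    simp only [B_add_left hQ, B_smul_left hQ, B_zero_left hQ, h11, h22, hee, hef, hfe, hff, g11, g22,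
      gee, gef, gfe, gff, s1, s2, s3, s4, mul_one, mul_zero, add_zero, zero_add] at k0 k1 k2 k3
    intro i
    fin_cases i
    · exact k0
    · exact k1
    · exact k2
    · exact k3
  have hspanW : Submodule.span F (Set.range ![e₁, f₁, e₂, f₂]) = W := by
    apply Submodule.eq_of_le_of_finrank_eq
    · rw [Submodule.span_le]
      rintro x ⟨i, rfl⟩
      fin_cases i
      · exact he₁
      · exact hf₁
      · exact he₂
      · exact hf₂
    · rw [finrank_span_eq_card hli, Fintype.card_fin, hdim]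
  have hrepr : ∀ x ∈ W, ∃ x₁ y₁ x₂ y₂ : F, x = x₁ • e₁ + y₁ • f₁ + x₂ • e₂ + y₂ • f₂ := by
    intro x hx
    rw [← hspanW, Submodule.mem_span_range_iff_exists_fun] at hx
    obtain ⟨g, hg⟩ := hx
    rw [Fin.sum_univ_four] at hg
    exact ⟨g 0, g 1, g 2, g 3, hg.symm⟩
  refine ⟨e₁ + f₁, e₁ + e₂ + f₂, e₂ + f₂, W.add_mem he₁ hf₁, W.add_mem (W.add_mem he₁ he₂) hf₂,
    W.add_mem he₂ hf₂, ?_, ?_, ?_, ?_, ?_, ?_, ?_⟩
  · rw [Q_add (Q := Q), hQe₁, hQf₁, h11]; ring
  · rw [Q_add3 hQ, hQe₁, hQe₂, hQf₂, hee, hef, h22]; ring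
  · rw [Q_add (Q := Q), hQe₂, hQf₂, h22]; ring
  · simp only [B_add_left hQ, B_add_right hQ, h11, h22, hee, hef, hfe, hff, g11, g22, gee, gef, gfe,
      gff, s1, s2, s3, s4]
    ring
  · simp only [B_add_left hQ, B_add_right hQ, h11, h22, hee, hef, hfe, hff, g11, g22, gee, gef, gfe,
      gff, s1, s2, s3, s4]
    ring
  · simp only [B_add_left hQ, B_add_right hQ, h11, h22, hee, hef, hfe, hff, g11, g22, gee, gef, gfe,
      gff, s1, s2, s3, s4]
    linear_combination h2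
  · intro x hx hQx
    obtain ⟨x₁, y₁, x₂, y₂, rfl⟩ := hrepr x hx
    have hQ' : x₁ * y₁ + x₂ * y₂ = 1 := by
      rw [← hQx]
      simp only [Q_add (Q := Q), Q_smul hQ, B_add_left hQ, B_smul_left hQ, B_smul_right hQ, hQe₁,
        hQf₁, hQe₂, hQf₂, h11, h22, hee, hef, hfe, hff]
      ring
    have hBa : QuadraticMap.polar Q (e₁ + f₁) (x₁ • e₁ + y₁ • f₁ + x₂ • e₂ + y₂ • f₂) = x₁ + y₁ := by
      simp only [B_add_left hQ, B_add_right hQ, B_smul_right hQ, h11, h22, hee, hef, hfe, hff, g11,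
        g22, gee, gef, gfe, gff, s1, s2, s3, s4]
      ring
    have hBb : QuadraticMap.polar Q (e₁ + e₂ + f₂) (x₁ • e₁ + y₁ • f₁ + x₂ • e₂ + y₂ • f₂)
        = y₁ + y₂ + x₂ := by
      simp only [B_add_left hQ, B_add_right hQ, B_smul_right hQ, h11, h22, hee, hef, hfe, hff, g11,
        g22, gee, gef, gfe, gff, s1, s2, s3, s4]
      ring
    rw [hBa, hBb]
    obtain ⟨α, hα⟩ : ∃ α, α = y₁ + y₂ + x₂ := ⟨_, rfl⟩
    obtain ⟨β, hβ⟩ : ∃ β, β = x₁ + y₁ := ⟨_, rfl⟩
    rcases F2_quad4 hq x₁ y₁ x₂ y₂ hQ' with ⟨k1, k2⟩ | ⟨k1, k2, k3, k4⟩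
    · left; exact ⟨k1, k2⟩
    · right
      rw [← hα, ← hβ] at k1
      rw [← hα] at k2
      rw [← hβ] at k3 k4
      rw [← hα, ← hβ, k1, k2, k3, k4]
      module


/-- The Siegel involution `x ↦ x + B(u,x) v + B(v,x) u` in characteristic two. -/
noncomputable def siegLin (hQ : IsNondegenerateQuadraticForm Q) (u v : ι → F) :
    (ι → F) →ₗ[F] (ι → F) :=
  LinearMap.id + (polarLin hQ u).smulRight v + (polarLin hQ v).smulRight u

theorem siegLin_apply (hQ : IsNondegenerateQuadraticForm Q) (u v x : ι → F) :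
    siegLin hQ u v x = x + QuadraticMap.polar Q u x • v + QuadraticMap.polar Q v x • u := rfl

theorem siegLin_invol (hQ : IsNondegenerateQuadraticForm Q) (h2 : (2 : F) = 0) {u v : ι → F}
    (huv : QuadraticMap.polar Q u v = 0) (x : ι → F) :
    siegLin hQ u v (siegLin hQ u v x) = x := by
  have huu := B_self_of_two hQ h2 u
  have hvv := B_self_of_two hQ h2 v
  have hvu : QuadraticMap.polar Q v u = 0 := by rw [B_comm, huv]
  rw [siegLin_apply, siegLin_apply]
  simp only [B_add_right hQ, B_smul_right hQ, huu, hvv, huv, hvu, mul_zero, add_zero]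
  have e1 : ∀ w : ι → F, w + w = 0 := add_self_vec_of_two h2
  have : x + QuadraticMap.polar Q u x • v + QuadraticMap.polar Q v x • u + QuadraticMap.polar Q u x • v
      + QuadraticMap.polar Q v x • u
      = x + (QuadraticMap.polar Q u x • v + QuadraticMap.polar Q u x • v)
        + (QuadraticMap.polar Q v x • u + QuadraticMap.polar Q v x • u) := by abel
  rw [this, e1, e1, add_zero, add_zero]

/-- The Siegel involution as an element of `GL`. -/
noncomputable def siegGL (hQ : IsNondegenerateQuadraticForm Q) (h2 : (2 : F) = 0) (u v : ι → F)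
    (huv : QuadraticMap.polar Q u v = 0) : Matrix.GeneralLinearGroup ι F :=
  ⟨LinearMap.toMatrix' (siegLin hQ u v), LinearMap.toMatrix' (siegLin hQ u v),
    by
      rw [← LinearMap.toMatrix'_comp]
      have : siegLin hQ u v ∘ₗ siegLin hQ u v = LinearMap.id :=
        LinearMap.ext (fun x => siegLin_invol hQ h2 huv x)
      rw [this, LinearMap.toMatrix'_id],
    by
      rw [← LinearMap.toMatrix'_comp]
      have : siegLin hQ u v ∘ₗ siegLin hQ u v = LinearMap.id :=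
        LinearMap.ext (fun x => siegLin_invol hQ h2 huv x)
      rw [this, LinearMap.toMatrix'_id]⟩

theorem siegGL_mulVec (hQ : IsNondegenerateQuadraticForm Q) (h2 : (2 : F) = 0) (u v : ι → F)
    (huv : QuadraticMap.polar Q u v = 0) (x : ι → F) :
    ((siegGL hQ h2 u v huv : Matrix.GeneralLinearGroup ι F) : Matrix ι ι F) *ᵥ x
      = x + QuadraticMap.polar Q u x • v + QuadraticMap.polar Q v x • u := by
  show LinearMap.toMatrix' (siegLin hQ u v) *ᵥ x = _
  rw [LinearMap.toMatrix'_mulVec, siegLin_apply]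

theorem siegGL_inv (hQ : IsNondegenerateQuadraticForm Q) (h2 : (2 : F) = 0) (u v : ι → F)
    (huv : QuadraticMap.polar Q u v = 0) : (siegGL hQ h2 u v huv)⁻¹ = siegGL hQ h2 u v huv := rfl

theorem siegGL_mem_isometryGroup (hQ : IsNondegenerateQuadraticForm Q) (h2 : (2 : F) = 0)
    (u v : ι → F) (hu : Q u = 0) (hv : Q v = 0) (huv : QuadraticMap.polar Q u v = 0) :
    siegGL hQ h2 u v huv ∈ isometryGroup F Q := by
  rw [mem_isometryGroup_iff]
  intro x
  have hvu : QuadraticMap.polar Q v u = 0 := by rw [B_comm, huv]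
  rw [siegGL_mulVec, Q_add3 hQ, Q_smul hQ, Q_smul hQ, hu, hv]
  simp only [B_smul_left hQ, B_smul_right hQ, hvu, B_comm x u, B_comm x v]
  linear_combination (QuadraticMap.polar Q u x * QuadraticMap.polar Q v x) * h2


variable {t k : ℕ} {D : Fin t → Submodule F (ι → F)}

/-- A non-zero vector lies in at most one member of an orthogonal decomposition. -/
theorem mem_unique_of_ne_zero (hD : IsNondegenerateMDecomposition (QuadraticMap.polar Q) k D)
    {w : ι → F} (hw0 : w ≠ 0) {i j : Fin t} (hi : w ∈ D i) (hj : w ∈ D j) : i = j := by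
  by_contra hij
  obtain ⟨-, ⟨x, hx, hxw⟩⟩ := hD.nondegenerate i w hi hw0
  exact hxw (hD.orthogonal j i (Ne.symm hij) w hj x hx)

theorem not_mem_of_pairings (hD : IsNondegenerateMDecomposition (QuadraticMap.polar Q) k D)
    {w : ι → F} {i i' : Fin t} (hii' : i ≠ i') {x x' : ι → F} (hx : x ∈ D i) (hx' : x' ∈ D i')
    (h : QuadraticMap.polar Q w x ≠ 0) (h' : QuadraticMap.polar Q w x' ≠ 0) (j : Fin t) : w ∉ D j := by
  intro hw
  by_cases hj : j = i
  · subst hj
    exact h' (hD.orthogonal j i' hii' w hw x' hx')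
  · exact h (hD.orthogonal j i hj w hw x hx)

/-- Case `k = 4`, plus type, `q = 2`: the stabiliser preserves the set of non-singular vectors of the
members, i.e. the finer decomposition into anisotropic planes. -/
theorem exists_between_of_plus4_two (hq : Fintype.card F = 2) (hQ : IsNondegenerateQuadraticForm Q)
    (hD : IsOrthogonalMDecomposition Q 4 D) (hplus : ∀ i, IsPlusTypeOn Q (D i)) (ht : 3 ≤ t) :
    ∃ K : Subgroup (Matrix.GeneralLinearGroup ι F),
      decompositionStabilizer D ⊓ omegaGL Q < K ∧ K < omegaGL Q := by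
  have h2 : (2 : F) = 0 := F2_two hq
  have o := hD.decomp.orthogonal
  choose a b c ha hb hc hQa hQb hQc hab hac hbc hS using fun i =>
    exists_quad4 hq hQ (hD.decomp.decomp.finrank_eq i) (hD.decomp.nondegenerate i) (hplus i)
  have hba : ∀ i, QuadraticMap.polar Q (b i) (a i) = 1 := fun i => by rw [B_comm, hab]
  have hca : ∀ i, QuadraticMap.polar Q (c i) (a i) = 0 := fun i => by rw [B_comm, hac]
  have hcb : ∀ i, QuadraticMap.polar Q (c i) (b i) = 0 := fun i => by rw [B_comm, hbc]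
  have haa : ∀ i, QuadraticMap.polar Q (a i) (a i) = 0 := fun i => B_self_of_two hQ h2 _
  have hbb : ∀ i, QuadraticMap.polar Q (b i) (b i) = 0 := fun i => B_self_of_two hQ h2 _
  have oaa : ∀ i j, i ≠ j → QuadraticMap.polar Q (a i) (a j) = 0 :=
    fun i j hij => o i j hij _ (ha i) _ (ha j)
  have oab : ∀ i j, i ≠ j → QuadraticMap.polar Q (a i) (b j) = 0 :=
    fun i j hij => o i j hij _ (ha i) _ (hb j)
  have oba : ∀ i j, i ≠ j → QuadraticMap.polar Q (b i) (a j) = 0 :=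
    fun i j hij => o i j hij _ (hb i) _ (ha j)
  have obb : ∀ i j, i ≠ j → QuadraticMap.polar Q (b i) (b j) = 0 :=
    fun i j hij => o i j hij _ (hb i) _ (hb j)
  have oac : ∀ i j, i ≠ j → QuadraticMap.polar Q (a i) (c j) = 0 :=
    fun i j hij => o i j hij _ (ha i) _ (hc j)
  have obc : ∀ i j, i ≠ j → QuadraticMap.polar Q (b i) (c j) = 0 :=
    fun i j hij => o i j hij _ (hb i) _ (hc j)
  have oca : ∀ i j, i ≠ j → QuadraticMap.polar Q (c i) (a j) = 0 :=
    fun i j hij => o i j hij _ (hc i) _ (ha j)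
  have ocb : ∀ i j, i ≠ j → QuadraticMap.polar Q (c i) (b j) = 0 :=
    fun i j hij => o i j hij _ (hc i) _ (hb j)
  -- Siegel involutions swapping the planes ⟨a i, b i⟩ and ⟨a j, b j⟩
  have huv : ∀ i j, i ≠ j → QuadraticMap.polar Q (a i + a j) (b i + b j) = 0 := by
    intro i j hij
    simp only [B_add_left hQ, B_add_right hQ, hab, oab i j hij, oab j i (Ne.symm hij)]
    linear_combination h2
  have hQu : ∀ i j, i ≠ j → Q (a i + a j) = 0 := by
    intro i j hij
    rw [Q_add (Q := Q), hQa, hQa, oaa i j hij]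
    linear_combination h2
  have hQv : ∀ i j, i ≠ j → Q (b i + b j) = 0 := by
    intro i j hij
    rw [Q_add (Q := Q), hQb, hQb, obb i j hij]
    linear_combination h2
  obtain ⟨L, hL⟩ : ∃ L : Set (ι → F), L = {v | ∃ l, v ∈ D l ∧ Q v = 1} := ⟨_, rfl⟩
  -- action on a non-singular vector of D i
  have keyi : ∀ i j, i ≠ j → ∀ x ∈ D i, Q x = 1 →
      (x + QuadraticMap.polar Q (a i + a j) x • (b i + b j)
        + QuadraticMap.polar Q (b i + b j) x • (a i + a j) ∈ D i) ∨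
      (x + QuadraticMap.polar Q (a i + a j) x • (b i + b j)
        + QuadraticMap.polar Q (b i + b j) x • (a i + a j) ∈ D j) := by
    intro i j hij x hx hQx
    have h1 : QuadraticMap.polar Q (a j) x = 0 := o j i (Ne.symm hij) _ (ha j) _ hx
    have h1' : QuadraticMap.polar Q (b j) x = 0 := o j i (Ne.symm hij) _ (hb j) _ hx
    rw [B_add_left hQ, B_add_left hQ, h1, h1', add_zero, add_zero]
    rcases hS i x hx hQx with ⟨k1, k2⟩ | k3
    · left
      rw [k1, k2, zero_smul, zero_smul, add_zero, add_zero]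
      exact hx
    · right
      obtain ⟨α, hα⟩ : ∃ α, α = QuadraticMap.polar Q (b i) x := ⟨_, rfl⟩
      obtain ⟨β, hβ⟩ : ∃ β, β = QuadraticMap.polar Q (a i) x := ⟨_, rfl⟩
      rw [← hα, ← hβ] at k3 ⊢
      have : x + β • (b i + b j) + α • (a i + a j) = α • a j + β • b j := by
        rw [k3]
        have e1 : ∀ w : ι → F, w + w = 0 := add_self_vec_of_two h2
        have : α • a i + β • b i + β • (b i + b j) + α • (a i + a j)
            = (α • a i + α • a i) + (β • b i + β • b i) + (α • a j + β • b j) := by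
          rw [smul_add, smul_add]; abel
        rw [this, e1, e1, zero_add, zero_add]
      rw [this]
      exact (D j).add_mem ((D j).smul_mem _ (ha j)) ((D j).smul_mem _ (hb j))
  have key : ∀ i j (hij : i ≠ j), ∀ x ∈ L,
      ((siegGL hQ h2 (a i + a j) (b i + b j) (huv i j hij) : Matrix.GeneralLinearGroup ι F) :
        Matrix ι ι F) *ᵥ x ∈ L := by
    intro i j hij x hx
    rw [hL] at hx ⊢
    obtain ⟨l, hxl, hQx⟩ := hx
    have hQ' : Q (((siegGL hQ h2 (a i + a j) (b i + b j) (huv i j hij) :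
        Matrix.GeneralLinearGroup ι F) : Matrix ι ι F) *ᵥ x) = 1 := by
      rw [(mem_isometryGroup_iff _).1 (siegGL_mem_isometryGroup hQ h2 _ _ (hQu i j hij) (hQv i j hij)
        (huv i j hij)), hQx]
    rw [siegGL_mulVec] at hQ' ⊢
    by_cases hli : l = i
    · subst hli
      rcases keyi l j hij x hxl hQx with h | h
      · exact ⟨l, h, hQ'⟩
      · exact ⟨j, h, hQ'⟩
    · by_cases hlj : l = j
      · subst hlj
        have := keyi l i (Ne.symm hij) x hxl hQx
        rw [add_comm (a l) (a i), add_comm (b l) (b i)] at this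
        rcases this with h | h
        · exact ⟨l, h, hQ'⟩
        · exact ⟨i, h, hQ'⟩
      · have h1 : QuadraticMap.polar Q (a i + a j) x = 0 := by
          rw [B_add_left hQ, o i l (Ne.symm hli) _ (ha i) _ hxl, o j l (Ne.symm hlj) _ (ha j) _ hxl,
            add_zero]
        have h1' : QuadraticMap.polar Q (b i + b j) x = 0 := by
          rw [B_add_left hQ, o i l (Ne.symm hli) _ (hb i) _ hxl, o j l (Ne.symm hlj) _ (hb j) _ hxl,
            add_zero]
        rw [h1, h1', zero_smul, zero_smul, add_zero, add_zero] at hQ' ⊢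
        exact ⟨l, hxl, hQx⟩
  have hsieg : ∀ i j (hij : i ≠ j),
      siegGL hQ h2 (a i + a j) (b i + b j) (huv i j hij) ∈ stabilizing (glToMat ι F) L := by
    intro i j hij
    apply mem_stabilizing_of_maps _ (key i j hij)
    rw [siegGL_inv]
    exact key i j hij
  have hsiegI : ∀ i j (hij : i ≠ j),
      siegGL hQ h2 (a i + a j) (b i + b j) (huv i j hij) ∈ isometryGroup F Q :=
    fun i j hij => siegGL_mem_isometryGroup hQ h2 _ _ (hQu i j hij) (hQv i j hij) (huv i j hij)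
  let i0 : Fin t := ⟨0, by omega⟩
  let i1 : Fin t := ⟨1, by omega⟩
  let i2 : Fin t := ⟨2, by omega⟩
  have h01 : i0 ≠ i1 := by simp [i0, i1, Fin.ext_iff]
  have h02 : i0 ≠ i2 := by simp [i0, i2, Fin.ext_iff]
  have h12 : i1 ≠ i2 := by simp [i1, i2, Fin.ext_iff]
  have h10 := h01.symm
  have h20 := h02.symm
  have h21 := h12.symm
  have hane : ∀ i, a i ≠ 0 := by
    intro i h
    have := hQa i
    rw [h, Q_zero hQ] at this
    exact zero_ne_one this
  have hcne : ∀ i, c i ≠ 0 := by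
    intro i h
    have := hQc i
    rw [h, Q_zero hQ] at this
    exact zero_ne_one this
  have e1 : ∀ w : ι → F, w + w = 0 := add_self_vec_of_two h2
  refine ⟨stabilizing (glToMat ι F) L ⊓ omegaGL Q, ?_, ?_⟩
  · rw [SetLike.lt_iff_le_and_exists]
    refine ⟨?_, siegGL hQ h2 _ _ (huv i0 i1 h01) * siegGL hQ h2 _ _ (huv i1 i2 h12)
      * (siegGL hQ h2 _ _ (huv i0 i1 h01))⁻¹ * (siegGL hQ h2 _ _ (huv i1 i2 h12))⁻¹,
      ⟨?_, commutator_mem_omegaGL (hsiegI i0 i1 h01) (hsiegI i1 i2 h12)⟩, ?_⟩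
    · intro g hg
      rw [hL]
      exact ⟨stab_decomp_le_stab_frame 1 hg.1 (omegaGL_le_isometryGroup hg.2), hg.2⟩
    · have s01 := hsieg i0 i1 h01
      have s12 := hsieg i1 i2 h12
      exact Subgroup.mul_mem _ (Subgroup.mul_mem _ (Subgroup.mul_mem _ s01 s12)
        (Subgroup.inv_mem _ s01)) (Subgroup.inv_mem _ s12)
    · rintro ⟨⟨σ, hσ⟩, -⟩
      rw [siegGL_inv, siegGL_inv] at hσ
      have himg : ∀ x ∈ D i0, ((siegGL hQ h2 _ _ (huv i0 i1 h01) * siegGL hQ h2 _ _ (huv i1 i2 h12)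
          * siegGL hQ h2 _ _ (huv i0 i1 h01) * siegGL hQ h2 _ _ (huv i1 i2 h12) :
            Matrix.GeneralLinearGroup ι F) : Matrix ι ι F) *ᵥ x ∈ D (σ i0) := by
        intro x hx
        rw [← hσ i0]
        exact ⟨x, hx, Matrix.toLin'_apply _ _⟩
      have hstep : ∀ x : ι → F, ((siegGL hQ h2 _ _ (huv i0 i1 h01) * siegGL hQ h2 _ _ (huv i1 i2 h12)
          * siegGL hQ h2 _ _ (huv i0 i1 h01) * siegGL hQ h2 _ _ (huv i1 i2 h12) :
            Matrix.GeneralLinearGroup ι F) : Matrix ι ι F) *ᵥ x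
          = ((siegGL hQ h2 _ _ (huv i0 i1 h01) : Matrix.GeneralLinearGroup ι F) : Matrix ι ι F) *ᵥ
            (((siegGL hQ h2 _ _ (huv i1 i2 h12) : Matrix.GeneralLinearGroup ι F) : Matrix ι ι F) *ᵥ
              (((siegGL hQ h2 _ _ (huv i0 i1 h01) : Matrix.GeneralLinearGroup ι F) : Matrix ι ι F) *ᵥ
                (((siegGL hQ h2 _ _ (huv i1 i2 h12) : Matrix.GeneralLinearGroup ι F) :
                  Matrix ι ι F) *ᵥ x))) := by
        intro x
        simp only [Units.val_mul, Matrix.mulVec_mulVec, mul_assoc]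
      -- the images of a i0 and c i0
      have t1 : ((siegGL hQ h2 _ _ (huv i1 i2 h12) : Matrix.GeneralLinearGroup ι F) : Matrix ι ι F)
          *ᵥ a i0 = a i0 := by
        rw [siegGL_mulVec]
        simp only [B_add_left hQ, oaa i1 i0 h10, oaa i2 i0 h20, oba i1 i0 h10, oba i2 i0 h20]
        simp
      have t2 : ((siegGL hQ h2 _ _ (huv i0 i1 h01) : Matrix.GeneralLinearGroup ι F) : Matrix ι ι F)
          *ᵥ a i0 = a i1 := by
        rw [siegGL_mulVec]
        simp only [B_add_left hQ, haa, hba, oaa i1 i0 h10, oba i1 i0 h10]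
        simp only [add_zero, zero_smul, one_smul]
        rw [← add_assoc, e1, zero_add]
      have t3 : ((siegGL hQ h2 _ _ (huv i1 i2 h12) : Matrix.GeneralLinearGroup ι F) : Matrix ι ι F)
          *ᵥ a i1 = a i2 := by
        rw [siegGL_mulVec]
        simp only [B_add_left hQ, haa, hba, oaa i2 i1 h21, oba i2 i1 h21]
        simp only [add_zero, zero_smul, one_smul]
        rw [← add_assoc, e1, zero_add]
      have t4 : ((siegGL hQ h2 _ _ (huv i0 i1 h01) : Matrix.GeneralLinearGroup ι F) : Matrix ι ι F)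
          *ᵥ a i2 = a i2 := by
        rw [siegGL_mulVec]
        simp only [B_add_left hQ, oaa i0 i2 h02, oaa i1 i2 h12, oba i0 i2 h02, oba i1 i2 h12]
        simp
      have c1 : ((siegGL hQ h2 _ _ (huv i1 i2 h12) : Matrix.GeneralLinearGroup ι F) : Matrix ι ι F)
          *ᵥ c i0 = c i0 := by
        rw [siegGL_mulVec]
        simp only [B_add_left hQ, oac i1 i0 h10, oac i2 i0 h20, obc i1 i0 h10, obc i2 i0 h20]
        simp
      have c2 : ((siegGL hQ h2 _ _ (huv i0 i1 h01) : Matrix.GeneralLinearGroup ι F) : Matrix ι ι F)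
          *ᵥ c i0 = c i0 := by
        rw [siegGL_mulVec]
        simp only [B_add_left hQ, hac, hbc, oac i1 i0 h10, obc i1 i0 h10]
        simp
      have ha2 := himg (a i0) (ha i0)
      rw [hstep, t1, t2, t3, t4] at ha2
      have hc0 := himg (c i0) (hc i0)
      rw [hstep, c1, c2, c1, c2] at hc0
      have e2 := mem_unique_of_ne_zero hD.decomp (hane i2) (ha i2) ha2
      have e0 := mem_unique_of_ne_zero hD.decomp (hcne i0) (hc i0) hc0
      exact h02 (e0.trans e2.symm)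
  · rw [SetLike.lt_iff_le_and_exists]
    have hQa' : Q (b i0 + a i1 + c i1) = 1 := by
      rw [Q_add3 hQ, hQb, hQa, hQc, oba i0 i1 h01, obc i0 i1 h01, hac]
      linear_combination h2
    have hBaa' : QuadraticMap.polar Q (a i0) (b i0 + a i1 + c i1) = 1 := by
      rw [B_add_right hQ, B_add_right hQ, hab, oaa i0 i1 h01, oac i0 i1 h01]
      ring
    have hQa0 : Q (a i0) ≠ 0 := by rw [hQa]; exact one_ne_zero
    have hQa'0 : Q (b i0 + a i1 + c i1) ≠ 0 := by rw [hQa']; exact one_ne_zero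
    refine ⟨inf_le_right, reflGL hQ (a i0) hQa0 * reflGL hQ (b i0 + a i1 + c i1) hQa'0
      * reflGL hQ (a i0) hQa0 * reflGL hQ (b i0 + a i1 + c i1) hQa'0,
      reflComm_mem_omegaGL hQ _ _ hQa0 hQa'0, ?_⟩
    rintro ⟨hmem, -⟩
    have hin : ((reflGL hQ (a i0) hQa0 * reflGL hQ (b i0 + a i1 + c i1) hQa'0
      * reflGL hQ (a i0) hQa0 * reflGL hQ (b i0 + a i1 + c i1) hQa'0 : Matrix.GeneralLinearGroup ι F) :
        Matrix ι ι F) *ᵥ a i0 ∈ L := (hmem (a i0)).1 (by rw [hL]; exact ⟨i0, ha i0, hQa i0⟩)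
    rw [hL] at hin
    obtain ⟨l, hl, -⟩ := hin
    rw [reflComm_char2 hQ h2 (hQa i0) hQa' hBaa', haa, B_comm, hBaa'] at hl
    revert hl
    apply not_mem_of_pairings hD.decomp h01 (ha i0) (hb i1)
    · simp only [B_add_left hQ, B_smul_left hQ, haa, hba, oaa i1 i0 h10, oca i1 i0 h10]
      norm_num
    · simp only [B_add_left hQ, B_smul_left hQ, oab i0 i1 h01, obb i0 i1 h01, hab, hcb]
      norm_num


end OrthPlusD

end Cfsg.Agent.Helper94
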