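import Cfsg.Agent.Helper94.QuadGeom

set_option autoImplicit false
set_option linter.unusedSectionVars false

namespace Cfsg.Agent.Helper94

open Cfsg Cfsg.Geo
open scoped Matrix

section PlusPlane

variable {ι : Type} [Fintype ι] [DecidableEq ι] {F : Type*} [Field F] [Fintype F]
variable {Q : (ι → F) → F}

/-- Over a field with at most three elements, the stabiliser in `Ω` of a plus-type nondegenerate plane
is not maximal: it lies strictly inside the stabiliser of the set of vectors `v` of the plane with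
`Q v = 1`. -/
theorem exists_between_of_plus_plane (hQ : IsNondegenerateQuadraticForm Q)
    (hq : Fintype.card F ≤ 3) (hn : 5 ≤ Fintype.card ι) (W : Submodule F (ι → F))
    (hdim : Module.finrank F W = 2) (hW : IsNondegenerateOn (QuadraticMap.polar Q) W)
    (hWp : IsPlusTypeOn Q W) :
    ∃ K : Subgroup (Matrix.GeneralLinearGroup ι F),
      subspaceStabilizer W ⊓ omegaGL Q < K ∧ K < omegaGL Q := by
  obtain ⟨e, f, heW, hfW, hQe, hQf, hef, hspan⟩ := exists_hyperbolic_pair hQ hdim hW hWp
  obtain ⟨z₁, z₂, hez₁, hfz₁, hez₂, hfz₂, hQz₁, hz₁z₂⟩ :=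
    exists_singular_pair_perp hQ hn hQe hQf hef
  -- basic values
  have hfe : QuadraticMap.polar Q f e = 1 := by rw [B_comm, hef]
  have hee : QuadraticMap.polar Q e e = 0 := by rw [B_self hQ, hQe, mul_zero]
  have hff : QuadraticMap.polar Q f f = 0 := by rw [B_self hQ, hQf, mul_zero]
  have hz₁z₁ : QuadraticMap.polar Q z₁ z₁ = 0 := by rw [B_self hQ, hQz₁, mul_zero]
  have hz₁e : QuadraticMap.polar Q z₁ e = 0 := by rw [B_comm, hez₁]
  have hz₁f : QuadraticMap.polar Q z₁ f = 0 := by rw [B_comm, hfz₁]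
  have hz₂e : QuadraticMap.polar Q z₂ e = 0 := by rw [B_comm, hez₂]
  have hz₂f : QuadraticMap.polar Q z₂ f = 0 := by rw [B_comm, hfz₂]
  have hz₂z₁ : QuadraticMap.polar Q z₂ z₁ = 1 := by rw [B_comm, hz₁z₂]
  -- the vector z with Q z = 1 in the complement
  obtain ⟨z, hQz, hez, hfz, hz₁z⟩ : ∃ z : ι → F, Q z = 1 ∧ QuadraticMap.polar Q e z = 0 ∧
      QuadraticMap.polar Q f z = 0 ∧ QuadraticMap.polar Q z₁ z = 1 := by
    refine ⟨z₂ + (1 - Q z₂) • z₁, ?_, ?_, ?_, ?_⟩
    · rw [Q_add (Q := Q), Q_smul hQ, hQz₁, B_smul_right hQ, hz₂z₁]; ring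
    · rw [B_add_right hQ, B_smul_right hQ, hez₂, hez₁]; ring
    · rw [B_add_right hQ, B_smul_right hQ, hfz₂, hfz₁]; ring
    · rw [B_add_right hQ, B_smul_right hQ, hz₁z₂, hz₁z₁]; ring
  have hze : QuadraticMap.polar Q z e = 0 := by rw [B_comm, hez]
  have hzf : QuadraticMap.polar Q z f = 0 := by rw [B_comm, hfz]
  have hzz₁ : QuadraticMap.polar Q z z₁ = 1 := by rw [B_comm, hz₁z]
  have hzz : QuadraticMap.polar Q z z = 2 := by rw [B_self hQ, hQz, mul_one]
  -- elements of W orthogonal to e and f vanish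
  have hW0 : ∀ w ∈ W, QuadraticMap.polar Q w e = 0 → QuadraticMap.polar Q w f = 0 → w = 0 := by
    intro w hw h1 h2
    obtain ⟨α, β, rfl⟩ := hspan w hw
    rw [B_add_left hQ, B_smul_left hQ, B_smul_left hQ, hee, hfe] at h1
    rw [B_add_left hQ, B_smul_left hQ, B_smul_left hQ, hef, hff] at h2
    have hα : α = 0 := by linear_combination h2
    have hβ : β = 0 := by linear_combination h1
    rw [hα, hβ]; simp
  -- the vector u
  set u : ι → F := e + f with hu
  have huW : u ∈ W := W.add_mem heW hfW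
  have hQu : Q u = 1 := by rw [hu, Q_add (Q := Q), hQe, hQf, hef]; ring
  have hQu0 : Q u ≠ 0 := by rw [hQu]; exact one_ne_zero
  let S : Set (ι → F) := {v | v ∈ W ∧ Q v = 1}
  have huS : u ∈ S := ⟨huW, hQu⟩
  have hnuS : -u ∈ S := ⟨W.neg_mem huW, by rw [Q_neg hQ, hQu]⟩
  have hS : ∀ v ∈ S, v = u ∨ v = -u := by
    rintro v ⟨hvW, hQv⟩
    obtain ⟨α, β, rfl⟩ := hspan v hvW
    have hαβ : α * β = 1 := by
      rw [Q_add (Q := Q), Q_smul hQ, Q_smul hQ, hQe, hQf, B_smul_left hQ, B_smul_right hQ, hef] at hQv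
      linear_combination hQv
    have hα0 : α ≠ 0 := by
      intro h; rw [h, zero_mul] at hαβ; exact zero_ne_one hαβ
    have hαα := sq_eq_one_of_card_le_three hq hα0
    have hβα : β = α := by
      have : α * β = α * α := by rw [hαβ, hαα]
      exact mul_left_cancel₀ hα0 this
    subst hβα
    have : (β - 1) * (β + 1) = 0 := by linear_combination hαα
    rcases mul_eq_zero.mp this with h | h
    · left
      have : β = 1 := by linear_combination h
      rw [this, hu]; simp
    · right
      have : β = -1 := by linear_combination h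
      rw [this, hu]; module
  -- an isometry fixing u stabilizes S
  have hstabS : ∀ g : Matrix.GeneralLinearGroup ι F, (g : Matrix ι ι F) *ᵥ u = u →
      g ∈ stabilizing (glToMat ι F) S := by
    intro g hgu v
    simp only [Units.coeHom_apply]
    have hgnu : (g : Matrix ι ι F) *ᵥ (-u) = -u := by rw [Matrix.mulVec_neg, hgu]
    constructor
    · intro hv
      rcases hS v hv with rfl | rfl
      · rw [hgu]; exact huS
      · rw [hgnu]; exact hnuS
    · intro hv
      rcases hS _ hv with h | h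
      · rw [← hgu] at h
        rw [gl_mulVec_injective g h]; exact huS
      · rw [← hgnu] at h
        rw [gl_mulVec_injective g h]; exact hnuS
  refine ⟨stabilizing (glToMat ι F) S ⊓ omegaGL Q, ?_, ?_⟩
  · rw [SetLike.lt_iff_le_and_exists]
    -- the first witness: commutator of reflections in a = e - f + z₁ and b = z
    set a : ι → F := e - f + z₁ with ha
    have hQa : Q a = -1 := by
      rw [ha, Q_add (Q := Q), Q_sub hQ, hQe, hQf, hef, hQz₁, B_sub_left hQ, hez₁, hfz₁]; ring
    have hQa0 : Q a ≠ 0 := by rw [hQa]; exact neg_ne_zero.mpr one_ne_zero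
    have hQz0 : Q z ≠ 0 := by rw [hQz]; exact one_ne_zero
    have hae : QuadraticMap.polar Q a e = -1 := by
      rw [ha, B_add_left hQ, B_sub_left hQ, hee, hfe, hz₁e]; ring
    have haf : QuadraticMap.polar Q a f = 1 := by
      rw [ha, B_add_left hQ, B_sub_left hQ, hef, hff, hz₁f]; ring
    have haz : QuadraticMap.polar Q a z = 1 := by
      rw [ha, B_add_left hQ, B_sub_left hQ, hez, hfz, hz₁z]; ring
    have hza : QuadraticMap.polar Q z a = 1 := by rw [B_comm, haz]
    have haa : QuadraticMap.polar Q a a = -2 := by rw [B_self hQ, hQa]; ring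
    have hau : QuadraticMap.polar Q a u = 0 := by rw [hu, B_add_right hQ, hae, haf]; ring
    have hzu : QuadraticMap.polar Q z u = 0 := by rw [hu, B_add_right hQ, hze, hzf]; ring
    have hinv : (Q a)⁻¹ = -1 := by rw [hQa]; norm_num
    have hinvz : (Q z)⁻¹ = 1 := by rw [hQz]; norm_num
    set ra := reflGL hQ a hQa0 with hra
    set rz := reflGL hQ z hQz0 with hrz
    have hrau : (ra : Matrix ι ι F) *ᵥ u = u := by
      rw [refl_apply_eq hQ a hQa0 u 0 (by rw [hau, mul_zero])]; simp
    have hrzu : (rz : Matrix ι ι F) *ᵥ u = u := by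
      rw [refl_apply_eq hQ z hQz0 u 0 (by rw [hzu, mul_zero])]; simp
    have h1 : (rz : Matrix ι ι F) *ᵥ e = e := by
      rw [refl_apply_eq hQ z hQz0 e 0 (by rw [hze, mul_zero])]; simp
    have h2 : (ra : Matrix ι ι F) *ᵥ e = e - a := by
      rw [refl_apply_eq hQ a hQa0 e 1 (by rw [hae, hinv]; ring)]; simp
    have h3 : (rz : Matrix ι ι F) *ᵥ (e - a) = e - a + z := by
      rw [refl_apply_eq hQ z hQz0 (e - a) (-1) (by rw [B_sub_right hQ, hze, hza, hinvz]; ring)]
      simp [sub_eq_add_neg]
    have h4 : (ra : Matrix ι ι F) *ᵥ (e - a + z) = e + a + z := by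
      rw [refl_apply_eq hQ a hQa0 (e - a + z) (-2) (by
        rw [B_add_right hQ, B_sub_right hQ, hae, haa, haz, hinv]; ring)]
      module
    refine ⟨?_, ra * rz * ra * rz, ⟨?_, reflComm_mem_omegaGL hQ a z hQa0 hQz0⟩, ?_⟩
    · intro g hg
      refine ⟨?_, hg.2⟩
      have hgW := hg.1
      have hgQ := (mem_isometryGroup_iff g).mp (omegaGL_le_isometryGroup hg.2)
      intro v
      simp only [Units.coeHom_apply]
      have := hgW v
      simp only [Units.coeHom_apply] at this
      constructor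
      · rintro ⟨hvW, hQv⟩
        exact ⟨this.mp hvW, by rw [hgQ, hQv]⟩
      · rintro ⟨hvW, hQv⟩
        exact ⟨this.mpr hvW, by rw [← hgQ, hQv]⟩
    · apply hstabS
      rw [reflComm_mulVec, hrzu, hrau, hrzu, hrau]
    · rintro ⟨hstab, -⟩
      have := (hstab e).mp heW
      simp only [Units.coeHom_apply] at this
      rw [reflComm_mulVec, h1, h2, h3, h4] at this
      -- e + a + z ∈ W forces z₁ + z ∈ W
      have hmem : z₁ + z ∈ W := by
        have h5 : z₁ + z = (e + a + z) - e - e + f := by rw [ha]; module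
        rw [h5]
        exact W.add_mem (W.sub_mem (W.sub_mem this heW) heW) hfW
      have h0 := hW0 _ hmem (by rw [B_add_left hQ, hz₁e, hze]; ring)
        (by rw [B_add_left hQ, hz₁f, hzf]; ring)
      have : QuadraticMap.polar Q z₁ (z₁ + z) = 1 := by
        rw [B_add_right hQ, hz₁z₁, hz₁z]; ring
      rw [h0, B_zero_right hQ] at this
      exact zero_ne_one this
  · rw [SetLike.lt_iff_le_and_exists]
    -- the second witness: commutator of reflections in u and b = e + z
    set b : ι → F := e + z with hb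
    have hQb : Q b = 1 := by rw [hb, Q_add (Q := Q), hQe, hQz, hez]; ring
    have hQb0 : Q b ≠ 0 := by rw [hQb]; exact one_ne_zero
    have hbu : QuadraticMap.polar Q b u = 1 := by
      rw [hb, hu, B_add_left hQ, B_add_right hQ, B_add_right hQ, hee, hef, hze, hzf]; ring
    have hub : QuadraticMap.polar Q u b = 1 := by rw [B_comm, hbu]
    have huu : QuadraticMap.polar Q u u = 2 := by rw [B_self hQ, hQu]; ring
    have hbb : QuadraticMap.polar Q b b = 2 := by rw [B_self hQ, hQb]; ring
    have hinvu : (Q u)⁻¹ = 1 := by rw [hQu]; norm_num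
    have hinvb : (Q b)⁻¹ = 1 := by rw [hQb]; norm_num
    set ru := reflGL hQ u hQu0 with hru
    set rb := reflGL hQ b hQb0 with hrb
    have h1 : (rb : Matrix ι ι F) *ᵥ u = u - b := by
      rw [refl_apply_eq hQ b hQb0 u 1 (by rw [hbu, hinvb]; ring)]; simp
    have h2 : (ru : Matrix ι ι F) *ᵥ (u - b) = -b := by
      rw [refl_apply_eq hQ u hQu0 (u - b) 1 (by rw [B_sub_right hQ, huu, hub, hinvu]; ring)]
      module
    have h3 : (rb : Matrix ι ι F) *ᵥ (-b) = b := by
      rw [refl_apply_eq hQ b hQb0 (-b) (-2) (by rw [B_neg_right hQ, hbb, hinvb]; ring)]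
      module
    have h4 : (ru : Matrix ι ι F) *ᵥ b = b - u := by
      rw [refl_apply_eq hQ u hQu0 b 1 (by rw [hub, hinvu]; ring)]; simp
    refine ⟨inf_le_right, ru * rb * ru * rb, reflComm_mem_omegaGL hQ u b hQu0 hQb0, ?_⟩
    rintro ⟨hstab, -⟩
    have := (hstab u).mp huS
    simp only [Units.coeHom_apply] at this
    rw [reflComm_mulVec, h1, h2, h3, h4] at this
    obtain ⟨hmemW, -⟩ := this
    have hzW : z ∈ W := by
      have h5 : z = (b - u) + f := by rw [hb, hu]; module
      rw [h5]
      exact W.add_mem hmemW hfW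
    have h0 := hW0 z hzW hze hzf
    rw [h0, Q_zero hQ] at hQz
    exact zero_ne_one hQz

end PlusPlane

end Cfsg.Agent.Helper94
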