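import Mathlib
import Cfsg.Agent.Helper94.SLRootD
import Cfsg.Agent.Helper5.SLn

set_option autoImplicit false
set_option linter.unusedSectionVars false
set_option linter.unusedVariables false
set_option linter.unusedSimpArgs false

/-!
# The root subgroups of `SL_{n+3}(k)` form a non-degenerate class of `k`-root subgroups
-/

namespace Cfsg.Agent.Helper94.SLRoot

open Matrix Cfsg
open scoped commutatorElement

variable {k : Type*} [Field k] {n : ℕ}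

theorem exists_dot_ne_zero {w : Fin (n + 3) → k} (hw : w ≠ 0) :
    ∃ ψ : Fin (n + 3) → k, ψ ⬝ᵥ w ≠ 0 := by
  obtain ⟨i, hi⟩ := Function.ne_iff.mp hw
  exact ⟨Pi.single i 1, by rw [single_dotProduct, one_mul]; exact hi⟩

theorem exists_dot_ne_zero' {φ : Fin (n + 3) → k} (hφ : φ ≠ 0) :
    ∃ v : Fin (n + 3) → k, φ ⬝ᵥ v ≠ 0 := by
  obtain ⟨i, hi⟩ := Function.ne_iff.mp hφ
  exact ⟨Pi.single i 1, by rw [dotProduct_single, mul_one]; exact hi⟩

/-- a vector outside two hyperplanes -/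
theorem exists_vec_both {φ φ' : Fin (n + 3) → k} (hφ : φ ≠ 0) (hφ' : φ' ≠ 0) :
    ∃ v : Fin (n + 3) → k, φ ⬝ᵥ v ≠ 0 ∧ φ' ⬝ᵥ v ≠ 0 := by
  obtain ⟨x1, h1⟩ := exists_dot_ne_zero' hφ
  obtain ⟨x2, h2⟩ := exists_dot_ne_zero' hφ'
  by_cases h3 : φ' ⬝ᵥ x1 = 0
  · by_cases h4 : φ ⬝ᵥ x2 = 0
    · refine ⟨x1 + x2, ?_, ?_⟩
      · rw [dotProduct_add, h4, add_zero]; exact h1
      · rw [dotProduct_add, h3, zero_add]; exact h2
    · exact ⟨x2, h4, h2⟩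
  · exact ⟨x1, h1, h3⟩

/-- a covector vanishing at `w`, but neither at `u` nor at `u'` -/
theorem exists_covec_both {u φ u' φ' w : Fin (n + 3) → k} (h : φ ⬝ᵥ u = 0) (h' : φ' ⬝ᵥ u' = 0)
    (hu : u ≠ 0) (hu' : u' ≠ 0) (hw : φ ⬝ᵥ w ≠ 0) (hw' : φ' ⬝ᵥ w ≠ 0) :
    ∃ ψ : Fin (n + 3) → k, ψ ⬝ᵥ w = 0 ∧ ψ ⬝ᵥ u ≠ 0 ∧ ψ ⬝ᵥ u' ≠ 0 := by
  obtain ⟨ψ1, hψ1⟩ := exists_dot_ne_zero hu
  obtain ⟨ψ2, hψ2⟩ := exists_dot_ne_zero hu'
  obtain ⟨χ1, hχ1⟩ : ∃ χ, χ = ψ1 - ((ψ1 ⬝ᵥ w) / (φ ⬝ᵥ w)) • φ := ⟨_, rfl⟩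
  obtain ⟨χ2, hχ2⟩ : ∃ χ, χ = ψ2 - ((ψ2 ⬝ᵥ w) / (φ' ⬝ᵥ w)) • φ' := ⟨_, rfl⟩
  have a1 : χ1 ⬝ᵥ w = 0 := by
    rw [hχ1, sub_dotProduct, smul_dotProduct, smul_eq_mul, div_mul_cancel₀ _ hw, sub_self]
  have a2 : χ2 ⬝ᵥ w = 0 := by
    rw [hχ2, sub_dotProduct, smul_dotProduct, smul_eq_mul, div_mul_cancel₀ _ hw', sub_self]
  have b1 : χ1 ⬝ᵥ u ≠ 0 := by
    rw [hχ1, sub_dotProduct, smul_dotProduct, h, smul_zero, sub_zero]; exact hψ1
  have b2 : χ2 ⬝ᵥ u' ≠ 0 := by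
    rw [hχ2, sub_dotProduct, smul_dotProduct, h', smul_zero, sub_zero]; exact hψ2
  by_cases c1 : χ1 ⬝ᵥ u' = 0
  · by_cases c2 : χ2 ⬝ᵥ u = 0
    · refine ⟨χ1 + χ2, ?_, ?_, ?_⟩
      · rw [add_dotProduct, a1, a2, add_zero]
      · rw [add_dotProduct, c2, add_zero]; exact b1
      · rw [add_dotProduct, c1, zero_add]; exact b2
    · exact ⟨χ2, a2, c2, b2⟩
  · exact ⟨χ1, a1, b1, c1⟩

theorem single_ne_zero' (i : Fin (n + 3)) : (Pi.single i 1 : Fin (n + 3) → k) ≠ 0 := by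
  intro h0
  have := congrFun h0 i
  simp at this

theorem single_dot_single {i j : Fin (n + 3)} (hij : i ≠ j) :
    (Pi.single j 1 : Fin (n + 3) → k) ⬝ᵥ (Pi.single i 1 : Fin (n + 3) → k) = 0 := by
  rw [single_dotProduct, one_mul, Pi.single_eq_of_ne hij.symm]

theorem single_dot_self (i : Fin (n + 3)) :
    (Pi.single i 1 : Fin (n + 3) → k) ⬝ᵥ (Pi.single i 1 : Fin (n + 3) → k) = 1 := by
  rw [single_dotProduct, one_mul, Pi.single_eq_same]

theorem Sig_generates : (⨆ A ∈ Sig k n, A) = ⊤ := by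
  rw [eq_top_iff, ← Cfsg.Agent.Helper5.closure_transvection_eq_top, Subgroup.closure_le]
  rintro M ⟨i, j, hij, a, rfl⟩
  have hmem : R (Pi.single i 1 : Fin (n + 3) → k) (Pi.single j 1) (single_dot_single hij) ∈
      Sig k n := R_mem_Sig (single_ne_zero' i) (single_ne_zero' j) (single_dot_single hij)
  have hle : R (Pi.single i 1 : Fin (n + 3) → k) (Pi.single j 1) (single_dot_single hij) ≤
      ⨆ A ∈ Sig k n, A := le_biSup (fun A => A) hmem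
  refine hle ⟨a, sl_ext ?_⟩
  rw [Matrix.SpecialLinearGroup.transvection_coe, E_coe]
  exact transvection_eq_eMat i j a

theorem Sig_pair : ∀ A ∈ Sig k n, ∀ B ∈ Sig k n,
    ⁅A, B⁆ = ⊥ ∨ (A ≠ B ∧ Cfsg.Agent.Helper94.IsSL2Image k A B) ∨
      Cfsg.RootCommutatorCase (Sig k n) A B := by
  intro A hA B hB
  obtain ⟨u, φ, h, hu, hφ, rfl⟩ := exists_of_mem_Sig hA
  obtain ⟨u', φ', h', hu', hφ', rfl⟩ := exists_of_mem_Sig hB
  by_cases h1 : φ ⬝ᵥ u' = 0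
  · by_cases h2 : φ' ⬝ᵥ u = 0
    · exact Or.inl (R_commute h h' h1 h2)
    · right; right
      apply Cfsg.Agent.Helper83.commutatorCase_symm
      exact commCase_R h' h hu' hφ' hu hφ h1 h2 (R_mem_Sig hu' hφ h1)
  · by_cases h2 : φ' ⬝ᵥ u = 0
    · right; right
      exact commCase_R h h' hu hφ hu' hφ' h2 h1 (R_mem_Sig hu hφ' h2)
    · right; left
      exact ⟨R_ne h h' hu h1, isSL2Image_R h h' h1 h2⟩

theorem Sig_kroot : Cfsg.IsKRootSubgroupSet k (Sig k n) := by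
  refine Cfsg.Agent.Helper94.isKRootSubgroupSet_of_images k (Sig k n) ?_ ?_ Sig_generates ?_
    Sig_pair
  · intro A hA
    obtain ⟨u, φ, h, hu, hφ, rfl⟩ := exists_of_mem_Sig hA
    exact R_comm u φ h
  · intro A hA
    obtain ⟨u, φ, h, hu, hφ, rfl⟩ := exists_of_mem_Sig hA
    exact R_ne_bot h hu hφ
  · rintro A ⟨g₀, rfl⟩ g
    exact ⟨g * g₀, Cfsg.Agent.Helper83.conjBy_conjBy _ _ _⟩

theorem Sig_class : Cfsg.IsConjClassOfSubgroups (Sig k n) := by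
  constructor
  · exact ⟨_, 1, rfl⟩
  · rintro A ⟨a, rfl⟩ B ⟨b, rfl⟩
    refine ⟨b * a⁻¹, ?_⟩
    rw [Cfsg.Agent.Helper83.conjBy_conjBy, inv_mul_cancel_right]

theorem Sig_adj {u φ u' φ' : Fin (n + 3) → k} (h : φ ⬝ᵥ u = 0) (h' : φ' ⬝ᵥ u' = 0)
    (hu : u ≠ 0) (hφ : φ ≠ 0) (hu' : u' ≠ 0) (hφ' : φ' ≠ 0)
    (h1 : φ ⬝ᵥ u' ≠ 0) (h2 : φ' ⬝ᵥ u ≠ 0) :
    Cfsg.FAdj (Sig k n) (R u φ h) (R u' φ' h') :=
  ⟨R_mem_Sig hu hφ h, R_mem_Sig hu' hφ' h',
    Cfsg.Agent.Helper94.isRankOnePair_of_image k (isSL2Image_R h h' h1 h2) (R_ne h h' hu h1)⟩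

theorem Sig_connected : Cfsg.IsConnectedFamily (Cfsg.FAdj (Sig k n)) (Sig k n) := by
  intro A hA B hB
  obtain ⟨u, φ, h, hu, hφ, rfl⟩ := exists_of_mem_Sig hA
  obtain ⟨u', φ', h', hu', hφ', rfl⟩ := exists_of_mem_Sig hB
  obtain ⟨w, hw, hw'⟩ := exists_vec_both hφ hφ'
  obtain ⟨ψ, hψw, hψu, hψu'⟩ := exists_covec_both h h' hu hu' hw hw'
  have hw0 : w ≠ 0 := by
    rintro rfl
    exact hw (dotProduct_zero φ)
  have hψ0 : ψ ≠ 0 := by
    rintro rfl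
    exact hψu (zero_dotProduct u)
  exact Relation.ReflTransGen.tail
    (Relation.ReflTransGen.single (Sig_adj h hψw hu hφ hw0 hψ0 hw hψu))
    (Sig_adj hψw h' hw0 hψ0 hu' hφ' hψu' hw')

theorem Sig_nondegenerate : Cfsg.IsNondegenerateRootSet (Sig k n) := by
  have h01 : (0 : Fin (n + 3)) ≠ 1 := f01
  have h02 : (0 : Fin (n + 3)) ≠ 2 := f02
  have h12 : (1 : Fin (n + 3)) ≠ 2 := f12
  refine ⟨?_, ?_, ?_⟩
  · -- `R e₀ e₁` and `R e₀ e₂` commute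
    refine ⟨_, R_mem_Sig (single_ne_zero' 0) (single_ne_zero' 1) (single_dot_single h01),
      _, R_mem_Sig (single_ne_zero' 0) (single_ne_zero' 2) (single_dot_single h02), ?_, ?_⟩
    · intro hR
      have hmem : E _ _ (single_dot_single (k := k) h01) 1 ∈
          R (Pi.single 0 1 : Fin (n + 3) → k) (Pi.single 2 1) (single_dot_single h02) :=
        hR ▸ E_mem_R _ _ _ 1
      obtain ⟨t, ht⟩ := hmem
      have h3 := congrArg (fun g : SpecialLinearGroup (Fin (n + 3)) k =>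
        (g : Matrix (Fin (n + 3)) (Fin (n + 3)) k) *ᵥ (Pi.single 1 1 : Fin (n + 3) → k)) ht
      simp only [E_coe, eMat_mulVec, single_dot_self, single_dot_single h12, mul_zero,
        zero_smul, add_zero, one_mul, one_smul] at h3
      rw [add_eq_left] at h3
      exact single_ne_zero' 0 h3
    · exact R_commute _ _ (single_dot_single h01) (single_dot_single h02)
  · -- `R e₀ e₁` and `R e₁ e₀` form a rank one pair
    exact ⟨_, R_mem_Sig (single_ne_zero' 0) (single_ne_zero' 1) (single_dot_single h01),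
      _, R_mem_Sig (single_ne_zero' 1) (single_ne_zero' 0) (single_dot_single h01.symm),
      (Sig_adj (single_dot_single h01) (single_dot_single h01.symm) (single_ne_zero' 0)
        (single_ne_zero' 1) (single_ne_zero' 1) (single_ne_zero' 0)
        (by rw [single_dot_self]; exact one_ne_zero)
        (by rw [single_dot_self]; exact one_ne_zero)).2.2⟩
  · -- `R e₀ e₁` and `R e₁ e₂` are in the commutator case
    refine ⟨_, R_mem_Sig (single_ne_zero' 0) (single_ne_zero' 1) (single_dot_single h01),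
      _, R_mem_Sig (single_ne_zero' 1) (single_ne_zero' 2) (single_dot_single h12), ?_⟩
    exact commCase_R (single_dot_single h01) (single_dot_single h12) (single_ne_zero' 0)
      (single_ne_zero' 1) (single_ne_zero' 1) (single_ne_zero' 2) (single_dot_single h02)
      (by rw [single_dot_self]; exact one_ne_zero)
      (R_mem_Sig (single_ne_zero' 0) (single_ne_zero' 2) (single_dot_single h02))

theorem Sig_all :
    Cfsg.IsRootSubgroupClass (Sig k n) ∧ Cfsg.IsNondegenerateRootSet (Sig k n) ∧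
      Cfsg.IsKRootSubgroupSet k (Sig k n) ∧
      Cfsg.IsConnectedFamily (Cfsg.FAdj (Sig k n)) (Sig k n) :=
  ⟨⟨Sig_kroot.1, Sig_class⟩, Sig_nondegenerate, Sig_kroot, Sig_connected⟩

end Cfsg.Agent.Helper94.SLRoot
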