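import Cfsg.Agent.Helper13.SpFrames
import Cfsg.Agent.S2166

set_option autoImplicit false

/-!
# Centralisers of involutions in `Sp_2m(F)`, characteristic two: the counting formula (part 1)

`N = t - 1` is square-zero and self-adjoint for the symplectic form.  For a basis `e` of the range of `N`
with lifts `u` (`N u_i = e_i`) and Gram matrix `B = (f(u_i, e_j))`, a symplectic `g` commutes with `N`
iff it acts on the span of `e` through a matrix `A` with `Aᵀ B A = B`.
-/

namespace Cfsg.Agent.Helper94.SpC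

open Matrix Cfsg.Agent.Helper13 Cfsg.Agent.S2167

variable {F : Type*} [Field F] {m s : ℕ}

/-- linear combination of a family of vectors -/
def lc (e : Fin s → (Fin m ⊕ Fin m → F)) (a : Fin s → F) : Fin m ⊕ Fin m → F := ∑ i, a i • e i

theorem mulVec_lc (M : Matrix (Fin m ⊕ Fin m) (Fin m ⊕ Fin m) F) (e : Fin s → (Fin m ⊕ Fin m → F))
    (a : Fin s → F) : M *ᵥ lc e a = lc (fun i => M *ᵥ e i) a := by
  unfold lc
  rw [Matrix.mulVec_sum]
  exact Finset.sum_congr rfl fun i _ => Matrix.mulVec_smul _ _ _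

theorem symp_sum_right (x : Fin m ⊕ Fin m → F) {ι : Type*} (S : Finset ι) (v : ι → (Fin m ⊕ Fin m → F)) :
    Cfsg.sympForm m F x (∑ i ∈ S, v i) = ∑ i ∈ S, Cfsg.sympForm m F x (v i) := by
  classical
  induction S using Finset.induction_on with
  | empty =>
    simp only [Finset.sum_empty]
    unfold Cfsg.sympForm
    rw [Matrix.mulVec_zero, dotProduct_zero]
  | insert a S ha ih => rw [Finset.sum_insert ha, Finset.sum_insert ha, symp_add_right, ih]

theorem symp_sum_left (x : Fin m ⊕ Fin m → F) {ι : Type*} (S : Finset ι) (v : ι → (Fin m ⊕ Fin m → F)) :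
    Cfsg.sympForm m F (∑ i ∈ S, v i) x = ∑ i ∈ S, Cfsg.sympForm m F (v i) x := by
  classical
  induction S using Finset.induction_on with
  | empty =>
    simp only [Finset.sum_empty]
    unfold Cfsg.sympForm
    rw [zero_dotProduct]
  | insert a S ha ih => rw [Finset.sum_insert ha, Finset.sum_insert ha, symp_add_left, ih]

theorem symp_lc_right (x : Fin m ⊕ Fin m → F) (e : Fin s → (Fin m ⊕ Fin m → F)) (a : Fin s → F) :
    Cfsg.sympForm m F x (lc e a) = ∑ i, a i * Cfsg.sympForm m F x (e i) := by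
  unfold lc
  rw [symp_sum_right]
  exact Finset.sum_congr rfl fun i _ => symp_smul_right _ _ _

theorem symp_lc_left (x : Fin m ⊕ Fin m → F) (e : Fin s → (Fin m ⊕ Fin m → F)) (a : Fin s → F) :
    Cfsg.sympForm m F (lc e a) x = ∑ i, a i * Cfsg.sympForm m F (e i) x := by
  unfold lc
  rw [symp_sum_left]
  exact Finset.sum_congr rfl fun i _ => symp_smul_left _ _ _

theorem symp_zero_left (x : Fin m ⊕ Fin m → F) : Cfsg.sympForm m F 0 x = 0 := by
  unfold Cfsg.sympForm
  rw [zero_dotProduct]

theorem symp_zero_right (x : Fin m ⊕ Fin m → F) : Cfsg.sympForm m F x 0 = 0 := by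
  unfold Cfsg.sympForm
  rw [Matrix.mulVec_zero, dotProduct_zero]

theorem symp_sub_left (u u' v : Fin m ⊕ Fin m → F) :
    Cfsg.sympForm m F (u - u') v = Cfsg.sympForm m F u v - Cfsg.sympForm m F u' v := by
  unfold Cfsg.sympForm
  rw [sub_dotProduct]

theorem eq_zero_of_symp_left {v : Fin m ⊕ Fin m → F} (h : ∀ x, Cfsg.sympForm m F x v = 0) : v = 0 := by
  by_contra hv
  obtain ⟨x, hx⟩ := sympForm_nondeg_left hv
  exact hx (h x)

/-- the Gram matrix of the pairing of `u` and `e` -/
def gram (u e : Fin s → (Fin m ⊕ Fin m → F)) : Matrix (Fin s) (Fin s) F :=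
  Matrix.of fun i j => Cfsg.sympForm m F (u i) (e j)

theorem gram_mulVec (u e : Fin s → (Fin m ⊕ Fin m → F)) (a : Fin s → F) (i : Fin s) :
    (gram u e *ᵥ a) i = Cfsg.sympForm m F (u i) (lc e a) := by
  rw [symp_lc_right]
  show ∑ j, gram u e i j * a j = _
  exact Finset.sum_congr rfl fun j _ => mul_comm _ _

theorem symp_lc_lc (u e : Fin s → (Fin m ⊕ Fin m → F)) (a b : Fin s → F) :
    Cfsg.sympForm m F (lc u a) (lc e b) = a ⬝ᵥ (gram u e *ᵥ b) := by
  rw [symp_lc_left]
  unfold dotProduct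
  exact Finset.sum_congr rfl fun i _ => by rw [gram_mulVec]

theorem lc_add (e : Fin s → (Fin m ⊕ Fin m → F)) (a b : Fin s → F) : lc e (a + b) = lc e a + lc e b := by
  unfold lc
  rw [← Finset.sum_add_distrib]
  exact Finset.sum_congr rfl fun i _ => by rw [Pi.add_apply, add_smul]

theorem lc_sub (e : Fin s → (Fin m ⊕ Fin m → F)) (a b : Fin s → F) : lc e (a - b) = lc e a - lc e b := by
  unfold lc
  rw [← Finset.sum_sub_distrib]
  exact Finset.sum_congr rfl fun i _ => by rw [Pi.sub_apply, sub_smul]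

/-- linear combination of linear combinations -/
theorem lc_lc (e : Fin s → (Fin m ⊕ Fin m → F)) (A : Matrix (Fin s) (Fin s) F) (a : Fin s → F) :
    lc (fun i => lc e (fun k => A k i)) a = lc e (A *ᵥ a) := by
  unfold lc
  simp only [Finset.smul_sum, smul_smul]
  rw [Finset.sum_comm]
  refine Finset.sum_congr rfl fun k _ => ?_
  rw [← Finset.sum_smul]
  congr 1
  unfold Matrix.mulVec dotProduct
  exact Finset.sum_congr rfl fun i _ => mul_comm _ _

theorem lc_injective {e : Fin s → (Fin m ⊕ Fin m → F)} (hli : LinearIndependent F e) {a b : Fin s → F}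
    (h : lc e a = lc e b) : a = b := by
  have h0 : lc e (a - b) = 0 := by rw [lc_sub, h, sub_self]
  have := Fintype.linearIndependent_iff.mp hli (a - b) h0
  funext i
  exact sub_eq_zero.mp (this i)

/-- The data attached to a square-zero self-adjoint matrix `N`. -/
structure InvData (N : Matrix (Fin m ⊕ Fin m) (Fin m ⊕ Fin m) F) (u e : Fin s → (Fin m ⊕ Fin m → F)) :
    Prop where
  adj : ∀ x y, Cfsg.sympForm m F (N *ᵥ x) y = Cfsg.sympForm m F x (N *ᵥ y)
  sq : N * N = 0
  hue : ∀ i, N *ᵥ u i = e i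
  li : LinearIndependent F e
  span : ∀ x, ∃ a : Fin s → F, N *ᵥ x = lc e a

/-- the span condition follows from the rank -/
theorem span_of_rank {N : Matrix (Fin m ⊕ Fin m) (Fin m ⊕ Fin m) F} {u e : Fin s → (Fin m ⊕ Fin m → F)}
    (hue : ∀ i, N *ᵥ u i = e i) (hli : LinearIndependent F e) (hrank : N.rank = s) :
    ∀ x, ∃ a : Fin s → F, N *ᵥ x = lc e a := by
  have hle : Submodule.span F (Set.range e) ≤ LinearMap.range N.mulVecLin := by
    rw [Submodule.span_le]
    rintro _ ⟨i, rfl⟩
    exact ⟨u i, by rw [Matrix.mulVecLin_apply, hue]⟩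
  have hfr : Module.finrank F (Submodule.span F (Set.range e)) = s := by
    rw [finrank_span_eq_card hli, Fintype.card_fin]
  have heq : Submodule.span F (Set.range e) = LinearMap.range N.mulVecLin := by
    apply Submodule.eq_of_le_of_finrank_eq hle
    rw [hfr]
    exact hrank.symm
  intro x
  have hx : N *ᵥ x ∈ Submodule.span F (Set.range e) := by
    rw [heq]
    exact ⟨x, Matrix.mulVecLin_apply _ _⟩
  obtain ⟨c, hc⟩ := (Submodule.mem_span_range_iff_exists_fun F).mp hx
  exact ⟨c, hc.symm⟩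

section data

variable {N : Matrix (Fin m ⊕ Fin m) (Fin m ⊕ Fin m) F} {u e : Fin s → (Fin m ⊕ Fin m → F)}

theorem InvData.mulVec_lc_u (h : InvData N u e) (a : Fin s → F) : N *ᵥ lc u a = lc e a := by
  rw [mulVec_lc]
  congr 1
  funext i
  exact h.hue i

theorem InvData.sq_mulVec (h : InvData N u e) (x : Fin m ⊕ Fin m → F) : N *ᵥ (N *ᵥ x) = 0 := by
  rw [Matrix.mulVec_mulVec, h.sq, Matrix.zero_mulVec]

theorem InvData.isotropic (h : InvData N u e) (i j : Fin s) : Cfsg.sympForm m F (e i) (e j) = 0 := by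
  rw [← h.hue i, ← h.hue j, h.adj, h.sq_mulVec, symp_zero_right]

/-- vectors killed by `N` are orthogonal to the range -/
theorem InvData.ker_orth (h : InvData N u e) {w : Fin m ⊕ Fin m → F} (hw : N *ᵥ w = 0) (b : Fin s → F) :
    Cfsg.sympForm m F w (lc e b) = 0 := by
  rw [← h.mulVec_lc_u, ← h.adj, hw, symp_zero_left]

theorem InvData.decomp (h : InvData N u e) (x : Fin m ⊕ Fin m → F) :
    ∃ (a : Fin s → F) (w : Fin m ⊕ Fin m → F), x = lc u a + w ∧ N *ᵥ w = 0 := by
  obtain ⟨a, ha⟩ := h.span x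
  refine ⟨a, x - lc u a, by abel, ?_⟩
  rw [Matrix.mulVec_sub, h.mulVec_lc_u, ha, sub_self]

theorem InvData.gram_injective (h : InvData N u e) {b : Fin s → F} (hb : gram u e *ᵥ b = 0) : b = 0 := by
  have h0 : lc e b = 0 := by
    apply eq_zero_of_symp_left
    intro x
    obtain ⟨a, w, rfl, hw⟩ := h.decomp x
    rw [symp_add_left, h.ker_orth hw, add_zero, symp_lc_lc, hb, dotProduct_zero]
  have : lc e b = lc e 0 := by
    rw [h0]
    unfold lc
    simp
  exact lc_injective h.li this

theorem InvData.gram_isUnit (h : InvData N u e) : IsUnit (gram u e) := by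
  rw [← Matrix.mulVec_injective_iff_isUnit]
  intro a b hab
  have : gram u e *ᵥ (a - b) = 0 := by rw [Matrix.mulVec_sub, hab, sub_self]
  exact sub_eq_zero.mp (h.gram_injective this)

/-- the coordinates of `N x` are determined by the pairings of `x` with `e` -/
theorem InvData.formula (h : InvData N u e) {x : Fin m ⊕ Fin m → F} {a : Fin s → F} (ha : N *ᵥ x = lc e a) :
    gram u e *ᵥ a = fun i => - Cfsg.sympForm m F x (e i) := by
  funext i
  rw [gram_mulVec, ← ha, ← h.adj, h.hue, symp_swap]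

/-- matrices preserving the Gram matrix are invertible -/
theorem InvData.isUnit_of_preserves (h : InvData N u e) {A : Matrix (Fin s) (Fin s) F}
    (hA : Aᵀ * gram u e * A = gram u e) : IsUnit A := by
  rw [← Matrix.mulVec_injective_iff_isUnit]
  intro a b hab
  have h1 : A *ᵥ (a - b) = 0 := by rw [Matrix.mulVec_sub, hab, sub_self]
  have h2 : gram u e *ᵥ (a - b) = 0 := by
    rw [← hA, ← Matrix.mulVec_mulVec, h1, Matrix.mulVec_zero]
  exact sub_eq_zero.mp (h.gram_injective h2)

/-- (F1) an element of the centraliser acts on the range through an isometry of the Gram matrix -/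
theorem InvData.exists_matrix (h : InvData N u e) {g : Matrix (Fin m ⊕ Fin m) (Fin m ⊕ Fin m) F}
    (hg : g ∈ Matrix.symplecticGroup (Fin m) F) (hcomm : g * N = N * g) :
    ∃ A : Matrix (Fin s) (Fin s) F, Aᵀ * gram u e * A = gram u e ∧
      ∀ i, g *ᵥ e i = lc e (fun k => A k i) := by
  have hgN : ∀ x, g *ᵥ (N *ᵥ x) = N *ᵥ (g *ᵥ x) := by
    intro x
    rw [Matrix.mulVec_mulVec, Matrix.mulVec_mulVec, hcomm]
  have hex : ∀ i, ∃ c : Fin s → F, g *ᵥ e i = lc e c := by
    intro i
    obtain ⟨c, hc⟩ := h.span (g *ᵥ u i)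
    exact ⟨c, by rw [← h.hue i, hgN, hc]⟩
  choose c hc using hex
  refine ⟨Matrix.of fun k i => c i k, ?_, fun i => ?_⟩
  · ext i j
    have h1 : (((Matrix.of fun k i => c i k : Matrix (Fin s) (Fin s) F))ᵀ * gram u e *
        (Matrix.of fun k i => c i k : Matrix (Fin s) (Fin s) F)) i j
        = c i ⬝ᵥ (gram u e *ᵥ c j) := by
      rw [Matrix.mul_assoc, Matrix.mul_apply]
      unfold dotProduct
      refine Finset.sum_congr rfl fun k _ => ?_
      rw [Matrix.transpose_apply, Matrix.of_apply]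
      congr 1
    rw [h1, ← symp_lc_lc, ← hc j]
    -- g u_i = lc u (c i) + w with N w = 0
    have hw : N *ᵥ (g *ᵥ u i - lc u (c i)) = 0 := by
      rw [Matrix.mulVec_sub, h.mulVec_lc_u, ← hgN, h.hue, hc i, sub_self]
    have h2 : Cfsg.sympForm m F (g *ᵥ u i - lc u (c i)) (g *ᵥ e j) = 0 := by
      rw [hc j]
      exact h.ker_orth hw _
    rw [symp_sub_left, symp_pres hg, sub_eq_zero] at h2
    rw [← h2]
    rfl
  · rw [hc i]
    rfl

/-- (F2) conversely, a symplectic matrix acting on the range through an isometry of the Gram matrix commutes with `N` -/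
theorem InvData.commute_of_matrix (h : InvData N u e) {g : Matrix (Fin m ⊕ Fin m) (Fin m ⊕ Fin m) F}
    (hg : g ∈ Matrix.symplecticGroup (Fin m) F) {A : Matrix (Fin s) (Fin s) F}
    (hA : Aᵀ * gram u e * A = gram u e) (hgA : ∀ i, g *ᵥ e i = lc e (fun k => A k i)) :
    g * N = N * g := by
  have hAu : IsUnit A := h.isUnit_of_preserves hA
  have hAT : Function.Injective Aᵀ.mulVec := by
    rw [Matrix.mulVec_injective_iff_isUnit]
    exact (Matrix.isUnit_transpose A).mpr hAu
  have hglc : ∀ a : Fin s → F, g *ᵥ lc e a = lc e (A *ᵥ a) := by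
    intro a
    rw [mulVec_lc, ← lc_lc]
    congr 1
    funext i
    exact hgA i
  have key : ∀ x, g *ᵥ (N *ᵥ x) = N *ᵥ (g *ᵥ x) := by
    intro x
    obtain ⟨a, ha⟩ := h.span x
    obtain ⟨a', ha'⟩ := h.span (g *ᵥ x)
    rw [ha, ha', hglc]
    congr 1
    have f1 := h.formula ha
    have f2 := h.formula ha'
    -- Aᵀ φ(gx) = φ(x)
    have f3 : Aᵀ *ᵥ (fun i => - Cfsg.sympForm m F (g *ᵥ x) (e i)) = fun i => - Cfsg.sympForm m F x (e i) := by
      funext j
      show ∑ i, Aᵀ j i * (- Cfsg.sympForm m F (g *ᵥ x) (e i)) = _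
      simp only [Matrix.transpose_apply, mul_neg, Finset.sum_neg_distrib]
      congr 1
      rw [← symp_pres hg x (e j), hgA j, symp_lc_right]
    have hsub : A *ᵥ a - a' = 0 := by
      apply h.gram_injective
      rw [Matrix.mulVec_sub, sub_eq_zero]
      apply hAT
      show Aᵀ *ᵥ (gram u e *ᵥ (A *ᵥ a)) = Aᵀ *ᵥ (gram u e *ᵥ a')
      rw [f2, f3, Matrix.mulVec_mulVec, Matrix.mulVec_mulVec, hA, f1]
    exact sub_eq_zero.mp hsub
  apply Matrix.toLin'.injective
  apply LinearMap.ext
  intro x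
  rw [Matrix.toLin'_apply, Matrix.toLin'_apply, ← Matrix.mulVec_mulVec, ← Matrix.mulVec_mulVec]
  exact key x

/-- (F3) the image frame is totally isotropic -/
theorem InvData.isTIFrame_of_matrix (h : InvData N u e) {A : Matrix (Fin s) (Fin s) F}
    (hA : Aᵀ * gram u e * A = gram u e) : IsTIFrame m (fun i => lc e (fun k => A k i)) := by
  have hAu : IsUnit A := h.isUnit_of_preserves hA
  have hAinj : Function.Injective A.mulVec := (Matrix.mulVec_injective_iff_isUnit).mpr hAu
  refine ⟨?_, fun i j => ?_⟩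
  · rw [Fintype.linearIndependent_iff]
    intro c hc
    have h1 : lc (fun i => lc e (fun k => A k i)) c = 0 := hc
    rw [lc_lc] at h1
    have h2 : lc e (A *ᵥ c) = lc e 0 := by
      rw [h1]
      unfold lc
      simp
    have h3 : A *ᵥ c = A *ᵥ 0 := by rw [lc_injective h.li h2, Matrix.mulVec_zero]
    have h4 := hAinj h3
    intro i
    rw [h4]
    rfl
  · rw [symp_lc_left]
    apply Finset.sum_eq_zero
    intro k _
    rw [symp_lc_right]
    rw [Finset.sum_eq_zero, mul_zero]
    intro l _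
    rw [h.isotropic, mul_zero]

end data

end Cfsg.Agent.Helper94.SpC
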