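import Cfsg.Agent.Helper94.SpC1

set_option autoImplicit false

/-!
# Centralisers of involutions in `Sp_2m(F)`: the counting formula (part 2)

`|C(t)| · #(totally isotropic s-frames) = |Sp_2m(F)| · #{A : Aᵀ B A = B}`.
-/

namespace Cfsg.Agent.Helper94.SpC

open Matrix Cfsg.Agent.Helper13 Cfsg.Agent.S2167

variable {F : Type*} [Field F] {m s : ℕ}

/-- the isometries of a Gram matrix -/
abbrev OB (B : Matrix (Fin s) (Fin s) F) := {A : Matrix (Fin s) (Fin s) F // Aᵀ * B * A = B}

theorem commute_sub_one_iff (g t : Matrix (Fin m ⊕ Fin m) (Fin m ⊕ Fin m) F) :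
    g * (t - 1) = (t - 1) * g ↔ g * t = t * g := by
  rw [mul_sub, sub_mul, Matrix.mul_one, Matrix.one_mul]
  constructor
  · intro h
    exact sub_left_injective h
  · intro h
    rw [h]

theorem card_centralizer_mul [Fintype F] (t : Matrix.symplecticGroup (Fin m) F)
    {u e : Fin s → (Fin m ⊕ Fin m → F)}
    (h : InvData ((t : Matrix (Fin m ⊕ Fin m) (Fin m ⊕ Fin m) F) - 1) u e) :
    Nat.card ↥(Subgroup.centralizer ({t} : Set ↥(Matrix.symplecticGroup (Fin m) F))) *
        Nat.card (TIFrames F m s) =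
      Nat.card ↥(Matrix.symplecticGroup (Fin m) F) * Nat.card (OB (gram u e)) := by
  classical
  set e₀ : TIFrames F m s := ⟨e, h.li, h.isotropic⟩ with he₀
  set img : OB (gram u e) → TIFrames F m s :=
    fun A => ⟨fun i => lc e (fun k => A.1 k i), h.isTIFrame_of_matrix A.2⟩ with himg
  have hinj : Function.Injective img := by
    intro A A' hAA
    apply Subtype.ext
    have h1 : ∀ i, lc e (fun k => A.1 k i) = lc e (fun k => A'.1 k i) := by
      intro i
      exact congrFun (congrArg Subtype.val hAA) i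
    ext k i
    exact congrFun (lc_injective h.li (h1 i)) k
  have hC : ∀ g : ↥(Matrix.symplecticGroup (Fin m) F),
      g ∈ Subgroup.centralizer ({t} : Set ↥(Matrix.symplecticGroup (Fin m) F)) ↔
        frameMap e₀ g ∈ Set.range img := by
    intro g
    rw [Subgroup.mem_centralizer_iff]
    constructor
    · intro hg
      have h1 : t * g = g * t := hg t rfl
      have h2 : (g : Matrix (Fin m ⊕ Fin m) (Fin m ⊕ Fin m) F) * t = t * g :=
        (congrArg Subtype.val h1).symm
      obtain ⟨A, hA, hgA⟩ := h.exists_matrix g.2 ((commute_sub_one_iff _ _).mpr h2)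
      refine ⟨⟨A, hA⟩, ?_⟩
      apply Subtype.ext
      funext i
      exact (hgA i).symm
    · rintro ⟨A, hA⟩ t' ht'
      rw [Set.mem_singleton_iff] at ht'
      subst ht'
      have hgA : ∀ i, (g : Matrix (Fin m ⊕ Fin m) (Fin m ⊕ Fin m) F) *ᵥ e i = lc e (fun k => A.1 k i) := by
        intro i
        exact (congrFun (congrArg Subtype.val hA) i).symm
      have h3 := (commute_sub_one_iff _ _).mp (h.commute_of_matrix g.2 A.2 hgA)
      apply Subtype.ext
      exact h3.symm
  have hcardC : Nat.card ↥(Subgroup.centralizer ({t} : Set ↥(Matrix.symplecticGroup (Fin m) F))) =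
      Nat.card {g : Matrix.symplecticGroup (Fin m) F // frameMap e₀ g ∈ Set.range img} :=
    Nat.card_congr (Equiv.subtypeEquivRight hC)
  have h1 := card_frameMap_preimage e₀ (Set.range img)
  have h2 := card_frameMap_preimage e₀ (Set.univ : Set (TIFrames F m s))
  have h3 : Nat.card {g : Matrix.symplecticGroup (Fin m) F // frameMap e₀ g ∈ (Set.univ : Set (TIFrames F m s))} =
      Nat.card ↥(Matrix.symplecticGroup (Fin m) F) :=
    Nat.card_congr (Equiv.subtypeUnivEquiv fun g => Set.mem_univ _)
  have h4 : Nat.card (Set.range img) = Nat.card (OB (gram u e)) := Nat.card_range_of_injective hinj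
  have h5 : Nat.card (Set.univ : Set (TIFrames F m s)) = Nat.card (TIFrames F m s) :=
    Nat.card_congr (Equiv.Set.univ _)
  rw [hcardC, h1, ← h3, h2, h4, h5]
  ring

/-- conjugate elements have centralisers of the same order -/
theorem card_centralizer_of_isConj {G : Type*} [Group G] {a b : G} (hab : IsConj a b) :
    Nat.card ↥(Subgroup.centralizer ({a} : Set G)) = Nat.card ↥(Subgroup.centralizer ({b} : Set G)) := by
  obtain ⟨c, hc⟩ := isConj_iff.mp hab
  refine Nat.card_congr ?_
  refine
    { toFun := fun g => ⟨c * g.1 * c⁻¹, ?_⟩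
      invFun := fun g => ⟨c⁻¹ * g.1 * c, ?_⟩
      left_inv := fun g => Subtype.ext (by simp [mul_assoc])
      right_inv := fun g => Subtype.ext (by simp [mul_assoc]) }
  · rw [Subgroup.mem_centralizer_iff]
    intro x hx
    rw [Set.mem_singleton_iff] at hx
    subst hx
    have hg := (Subgroup.mem_centralizer_iff.mp g.2) a rfl
    rw [← hc]
    calc c * a * c⁻¹ * (c * g.1 * c⁻¹) = c * (a * g.1) * c⁻¹ := by group
      _ = c * (g.1 * a) * c⁻¹ := by rw [hg]
      _ = c * g.1 * c⁻¹ * (c * a * c⁻¹) := by group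
  · rw [Subgroup.mem_centralizer_iff]
    intro x hx
    rw [Set.mem_singleton_iff] at hx
    subst hx
    have hg : b * g.1 = g.1 * b := (Subgroup.mem_centralizer_iff.mp g.2) b rfl
    obtain ⟨g1, hg1⟩ : ∃ g1 : G, g1 = g.1 := ⟨_, rfl⟩
    rw [← hg1] at hg ⊢
    have hg' : c * x * c⁻¹ * g1 = g1 * (c * x * c⁻¹) := by rw [hc]; exact hg
    have e1 : x * (c⁻¹ * g1 * c) = c⁻¹ * (c * x * c⁻¹ * g1) * c := by group
    rw [e1, hg']
    group

end Cfsg.Agent.Helper94.SpC
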