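import Cfsg.Agent.Helper94.SpC2
import Cfsg.Agent.Helper43.SpInvB

set_option autoImplicit false

/-!
# Centralisers of involutions in `Sp_2m(F)`: normal forms

The involutions `tS S` with `S` the hyperbolic pairing of the first `2k` coordinates plus an optional
diagonal entry; their `InvData` and Gram matrices.
-/

namespace Cfsg.Agent.Helper94.SpC

open Matrix Cfsg.Agent.Helper13 Cfsg.Agent.S2167 Cfsg.Agent.Helper43.SpInv

variable {F : Type*} [Field F] {m s : ℕ}

/-- the hyperbolic pairing of the first `2k` naturals: `i ↔ i + k` -/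
def hyp (k i j : ℕ) : Prop := (i + k = j ∧ j < 2 * k) ∨ (j + k = i ∧ i < 2 * k)

instance (k i j : ℕ) : Decidable (hyp k i j) := by unfold hyp; infer_instance

/-- the partner of an index -/
def partner (k i : ℕ) : ℕ := if i < k then i + k else i - k

theorem hyp_iff (k i j : ℕ) : hyp k i j ↔ i < 2 * k ∧ j = partner k i := by
  unfold hyp partner
  split_ifs <;> omega

theorem partner_lt {k i : ℕ} (h : i < 2 * k) : partner k i < 2 * k := by
  unfold partner
  split_ifs <;> omega

theorem partner_partner {k i : ℕ} (h : i < 2 * k) : partner k (partner k i) = i := by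
  unfold partner
  split_ifs <;> omega

/-- normal form matrices: hyperbolic pairing plus `c` at the diagonal position `x` -/
def Hn (F : Type*) [Field F] (n k x : ℕ) (c : F) : Matrix (Fin n) (Fin n) F :=
  Matrix.of fun i j => (if hyp k i.val j.val then (1 : F) else 0) + (if i.val = x ∧ j.val = x then c else 0)

theorem Hn_apply (n k x : ℕ) (c : F) (i j : Fin n) :
    Hn F n k x c i j = (if hyp k i.val j.val then (1 : F) else 0) + (if i.val = x ∧ j.val = x then c else 0) := rfl

theorem Hn_transpose (n k x : ℕ) (c : F) : (Hn F n k x c)ᵀ = Hn F n k x c := by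
  ext i j
  rw [Matrix.transpose_apply, Hn_apply, Hn_apply]
  have h1 : hyp k j.val i.val ↔ hyp k i.val j.val := by unfold hyp; omega
  have h2 : (j.val = x ∧ i.val = x) ↔ (i.val = x ∧ j.val = x) := by omega
  simp only [h1, h2]

/-- evaluation of the product with a vector -/
theorem Hn_mulVec {n k x : ℕ} (c : F) (hk : 2 * k ≤ n) (a : Fin n → F) (i : Fin n) :
    (Hn F n k x c *ᵥ a) i =
      (if h : i.val < 2 * k then a ⟨partner k i.val, lt_of_lt_of_le (partner_lt h) hk⟩ else 0) +
        (if i.val = x then c * a i else 0) := by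
  show ∑ j, Hn F n k x c i j * a j = _
  simp only [Hn_apply, add_mul, Finset.sum_add_distrib]
  congr 1
  · split_ifs with h
    · rw [Finset.sum_eq_single ⟨partner k i.val, lt_of_lt_of_le (partner_lt h) hk⟩]
      · rw [if_pos ((hyp_iff k _ _).mpr ⟨h, rfl⟩), one_mul]
      · intro j _ hj
        rw [if_neg, zero_mul]
        intro hh
        apply hj
        apply Fin.ext
        exact ((hyp_iff k _ _).mp hh).2
      · intro hh
        exact absurd (Finset.mem_univ _) hh
    · apply Finset.sum_eq_zero
      intro j _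
      rw [if_neg, zero_mul]
      intro hh
      exact h ((hyp_iff k _ _).mp hh).1
  · split_ifs with h
    · rw [Finset.sum_eq_single i]
      · rw [if_pos ⟨h, h⟩]
      · intro j _ hj
        rw [if_neg, zero_mul]
        rintro ⟨_, h2⟩
        apply hj
        apply Fin.ext
        rw [h2, h]
      · intro hh
        exact absurd (Finset.mem_univ _) hh
    · apply Finset.sum_eq_zero
      intro j _
      rw [if_neg, zero_mul]
      rintro ⟨h1, _⟩
      exact h h1

/-- injectivity, type `a` -/
theorem Hn_inj_a {k : ℕ} {a : Fin (2 * k) → F} (h : Hn F (2 * k) k 0 0 *ᵥ a = 0) : a = 0 := by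
  funext j
  have hj : partner k j.val < 2 * k := partner_lt j.2
  have h1 := congrFun h ⟨partner k j.val, hj⟩
  rw [Hn_mulVec 0 le_rfl] at h1
  simp only [zero_mul, ite_self, add_zero, Pi.zero_apply] at h1
  rw [dif_pos hj] at h1
  have h2 : (⟨partner k (partner k j.val), lt_of_lt_of_le (partner_lt hj) le_rfl⟩ : Fin (2 * k)) = j :=
    Fin.ext (partner_partner j.2)
  rw [h2] at h1
  exact h1

/-- injectivity, type `b` -/
theorem Hn_inj_b {k : ℕ} {a : Fin (2 * k + 1) → F} (h : Hn F (2 * k + 1) k (2 * k) 1 *ᵥ a = 0) : a = 0 := by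
  funext j
  by_cases hj2 : j.val < 2 * k
  · have hj : partner k j.val < 2 * k := partner_lt hj2
    have h1 := congrFun h ⟨partner k j.val, by omega⟩
    rw [Hn_mulVec 1 (by omega)] at h1
    simp only [Pi.zero_apply] at h1
    rw [dif_pos hj, if_neg (by omega), add_zero] at h1
    have h2 : (⟨partner k (partner k j.val), lt_of_lt_of_le (partner_lt hj) (by omega)⟩ : Fin (2 * k + 1)) = j :=
      Fin.ext (partner_partner hj2)
    rw [h2] at h1
    exact h1
  · have hj : j.val = 2 * k := by have := j.2; omega
    have h1 := congrFun h j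
    rw [Hn_mulVec 1 (by omega)] at h1
    simp only [Pi.zero_apply] at h1
    rw [dif_neg hj2, if_pos hj, zero_add, one_mul] at h1
    exact h1

/-- injectivity, type `c` -/
theorem Hn_inj_c {k : ℕ} (hk : 1 ≤ k) {a : Fin (2 * k) → F} (h : Hn F (2 * k) k 0 1 *ᵥ a = 0) : a = 0 := by
  have key : ∀ j : Fin (2 * k), j.val ≠ k → a j = 0 := by
    intro j hjk
    have hj : partner k j.val < 2 * k := partner_lt j.2
    have h1 := congrFun h ⟨partner k j.val, hj⟩
    rw [Hn_mulVec 1 le_rfl] at h1
    simp only [Pi.zero_apply] at h1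
    have hne : partner k j.val ≠ 0 := by
      unfold partner
      split_ifs <;> omega
    rw [dif_pos hj, if_neg hne, add_zero] at h1
    have h2 : (⟨partner k (partner k j.val), lt_of_lt_of_le (partner_lt hj) le_rfl⟩ : Fin (2 * k)) = j :=
      Fin.ext (partner_partner j.2)
    rw [h2] at h1
    exact h1
  funext j
  by_cases hjk : j.val = k
  · have h0 : (0 : ℕ) < 2 * k := by omega
    have h1 := congrFun h ⟨0, h0⟩
    rw [Hn_mulVec 1 le_rfl] at h1
    simp only [Pi.zero_apply] at h1
    rw [dif_pos h0, if_pos trivial, one_mul, key ⟨0, h0⟩ (by simp; omega), add_zero] at h1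
    have h2 : (⟨partner k 0, lt_of_lt_of_le (partner_lt h0) le_rfl⟩ : Fin (2 * k)) = j := by
      apply Fin.ext
      simp only [partner]
      rw [if_pos (by omega), hjk]
      omega
    rw [h2] at h1
    exact h1
  · exact key j hjk

section general

theorem tS_sub_one_mulVec_inr (S : Matrix (Fin m) (Fin m) F) (a : Fin m) :
    (tS S - 1) *ᵥ Pi.single (Sum.inr a) 1 = Sum.elim (fun i => S i a) 0 := by
  rw [Matrix.mulVec_single_one]
  funext idx
  rw [tS_sub_one]
  rcases idx with i | i
  · simp [Matrix.col]
  · simp [Matrix.col]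

theorem symp_single_inr_elim (a : Fin m) (v : Fin m → F) :
    Cfsg.sympForm m F (Pi.single (Sum.inr a) 1) (Sum.elim v 0) = v a := by
  rw [sympForm_eq_sum]
  simp only [Sum.elim_inl, Sum.elim_inr, Pi.zero_apply, mul_zero, sub_zero]
  rw [Finset.sum_eq_single a]
  · rw [Pi.single_eq_same, one_mul]
  · intro i _ hi
    rw [Pi.single_eq_of_ne (by simpa using hi), zero_mul]
  · intro h
    exact absurd (Finset.mem_univ _) h

/-- the lifts for the normal form -/
def uN (hs : s ≤ m) (j : Fin s) : Fin m ⊕ Fin m → F := Pi.single (Sum.inr (Fin.castLE hs j)) 1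

/-- the frame for the normal form -/
def eN (S : Matrix (Fin m) (Fin m) F) (hs : s ≤ m) (j : Fin s) : Fin m ⊕ Fin m → F :=
  Sum.elim (fun i => S i (Fin.castLE hs j)) 0

theorem gram_uN_eN (S : Matrix (Fin m) (Fin m) F) (hs : s ≤ m) :
    gram (uN hs) (eN S hs) = Matrix.of fun i j => S (Fin.castLE hs i) (Fin.castLE hs j) := by
  ext i j
  unfold gram uN eN
  rw [Matrix.of_apply, Matrix.of_apply, symp_single_inr_elim]

variable [CharP F 2]

theorem rank_of_cols (S : Matrix (Fin m) (Fin m) F) (hs : s ≤ m)
    (hcol0 : ∀ i j, s ≤ (j : Fin m).val → S i j = 0)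
    (hli : LinearIndependent F (fun j : Fin s => S.col (Fin.castLE hs j))) : S.rank = s := by
  classical
  apply le_antisymm
  · have h1 : S = S * Matrix.diagonal (wv F m s) := by
      ext i j
      rw [Matrix.mul_diagonal]
      unfold wv
      split_ifs with h
      · rw [mul_one]
      · rw [mul_zero]
        exact hcol0 i j (by omega)
    rw [h1]
    exact (Matrix.rank_mul_le_right _ _).trans (le_of_eq (rank_diagonal_wv hs))
  · rw [Matrix.rank_eq_finrank_span_cols]
    have h2 := finrank_span_eq_card hli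
    rw [Fintype.card_fin] at h2
    rw [← h2]
    apply Submodule.finrank_mono
    apply Submodule.span_mono
    rintro _ ⟨j, rfl⟩
    exact ⟨Fin.castLE hs j, rfl⟩

/-- `InvData` for `tS S` -/
theorem invData_tS (S : Matrix (Fin m) (Fin m) F) (hS : Sᵀ = S) (hs : s ≤ m)
    (hcol0 : ∀ i j, s ≤ (j : Fin m).val → S i j = 0)
    (hinj : ∀ a : Fin s → F,
      (Matrix.of fun i j => S (Fin.castLE hs i) (Fin.castLE hs j) : Matrix (Fin s) (Fin s) F) *ᵥ a = 0 → a = 0) :
    InvData (tS S - 1) (uN hs) (eN S hs) ∧ (tS S - 1).rank = s := by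
  have hmem := tS_mem hS
  have hsq := tS_mul_self S
  obtain ⟨h1, h2, -⟩ := Cfsg.Agent.S2166.data_of_involution (tS S) hmem hsq
  have hcolli : LinearIndependent F (fun j : Fin s => S.col (Fin.castLE hs j)) := by
    rw [Fintype.linearIndependent_iff]
    intro a ha
    have := hinj a (by
      funext i
      have h3 := congrFun ha (Fin.castLE hs i)
      rw [Finset.sum_apply, Pi.zero_apply] at h3
      show ∑ j, S (Fin.castLE hs i) (Fin.castLE hs j) * a j = 0
      refine Eq.trans ?_ h3
      exact Finset.sum_congr rfl fun j _ => by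
        rw [Pi.smul_apply, smul_eq_mul, mul_comm]
        rfl)
    intro i
    rw [this]
    rfl
  have hrank : (tS S - 1).rank = s := by
    rw [rank_tS_sub_one]
    exact rank_of_cols S hs hcol0 hcolli
  have hue : ∀ i, (tS S - 1) *ᵥ uN hs i = eN S hs i := fun i => tS_sub_one_mulVec_inr S _
  have hli : LinearIndependent F (eN S hs) := by
    rw [Fintype.linearIndependent_iff]
    intro a ha
    apply Fintype.linearIndependent_iff.mp hcolli a
    funext i
    have h3 := congrFun ha (Sum.inl i)
    rw [Finset.sum_apply, Pi.zero_apply] at h3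
    rw [Finset.sum_apply, Pi.zero_apply]
    refine Eq.trans ?_ h3
    exact Finset.sum_congr rfl fun j _ => rfl
  refine ⟨⟨?_, ?_, hue, hli, span_of_rank hue hli hrank⟩, hrank⟩
  · intro x y
    have := h2 x y
    rwa [Cfsg.Agent.S2166.Bf_apply, Cfsg.Agent.S2166.Bf_apply, Matrix.mulVecLin_apply,
      Matrix.mulVecLin_apply] at this
  · exact Cfsg.Agent.S2166.sub_one_sq (tS S) hsq

end general

end Cfsg.Agent.Helper94.SpC
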