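import Cfsg.Agent.Helper94.SpC4

set_option autoImplicit false

/-!
# Centralisers of involutions in `Sp_2m(F)`: the isometry groups of the normal forms

In characteristic two the isometries of `Hn` are a symplectic group (types `a`, `b`) or a vector stabiliser in
a symplectic group (type `c`).
-/

namespace Cfsg.Agent.Helper94.SpC

open Matrix Cfsg.Agent.Helper13 Cfsg.Agent.S2167

variable {F : Type*} [Field F]

/-- isometries of a matrix, general index type -/
abbrev OBι {ι : Type*} [Fintype ι] [DecidableEq ι] (B : Matrix ι ι F) := {A : Matrix ι ι F // Aᵀ * B * A = B}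

/-- reindexing the isometries -/
def OBreindex {ι : Type*} [Fintype ι] [DecidableEq ι] {s : ℕ} (e : ι ≃ Fin s) (B : Matrix (Fin s) (Fin s) F) :
    OB B ≃ OBι (B.submatrix e e) where
  toFun A := ⟨A.1.submatrix e e, by
    rw [Matrix.transpose_submatrix, Matrix.submatrix_mul_equiv, Matrix.submatrix_mul_equiv, A.2]⟩
  invFun A := ⟨A.1.submatrix e.symm e.symm, by
    have h := A.2
    have h2 := congrArg (fun M : Matrix ι ι F => M.submatrix e.symm e.symm) h
    simp only [← Matrix.submatrix_mul_equiv _ _ _ e.symm, Matrix.submatrix_submatrix, Equiv.self_comp_symm,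
      Matrix.submatrix_id_id, ← Matrix.transpose_submatrix] at h2
    exact h2⟩
  left_inv A := by
    apply Subtype.ext
    simp only [Matrix.submatrix_submatrix, Equiv.self_comp_symm, Matrix.submatrix_id_id]
  right_inv A := by
    apply Subtype.ext
    simp only [Matrix.submatrix_submatrix, Equiv.symm_comp_self, Matrix.submatrix_id_id]

/-- the standard identification of `Fin k ⊕ Fin k` with `Fin (2k)` -/
def rho (k : ℕ) : Fin k ⊕ Fin k ≃ Fin (2 * k) := finSumFinEquiv.trans (finCongr (two_mul k).symm)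

theorem rho_inl (k : ℕ) (i : Fin k) : (rho k (Sum.inl i)).val = i.val := by simp [rho]

theorem rho_inr (k : ℕ) (i : Fin k) : (rho k (Sum.inr i)).val = i.val + k := by
  simp [rho]

theorem hyp_rho [CharP F 2] (k : ℕ) (z w : Fin k ⊕ Fin k) :
    (if hyp k (rho k z).val (rho k w).val then (1 : F) else 0) = Matrix.J (Fin k) F z w := by
  rcases z with i | i <;> rcases w with j | j
  · rw [rho_inl, rho_inl, if_neg]
    · simp [Matrix.J]
    · have := i.2; have := j.2; unfold hyp; omega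
  · rw [rho_inl, rho_inr]
    have h1 : hyp k i.val (j.val + k) ↔ i = j := by
      have := i.2; have := j.2
      rw [Fin.ext_iff]; unfold hyp; omega
    simp only [h1, Matrix.J, Matrix.fromBlocks_apply₁₂, Matrix.neg_apply, Matrix.one_apply, CharTwo.neg_eq]
  · rw [rho_inr, rho_inl]
    have h1 : hyp k (i.val + k) j.val ↔ i = j := by
      have := i.2; have := j.2
      rw [Fin.ext_iff]; unfold hyp; omega
    simp only [h1, Matrix.J, Matrix.fromBlocks_apply₂₁, Matrix.one_apply]
  · rw [rho_inr, rho_inr, if_neg]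
    · simp [Matrix.J]
    · have := i.2; have := j.2; unfold hyp; omega

/-- isometries of `J` are the symplectic group -/
def OBJequiv (k : ℕ) : OBι (Matrix.J (Fin k) F) ≃ ↥(Matrix.symplecticGroup (Fin k) F) :=
  Equiv.subtypeEquivRight fun _ => SymplecticGroup.mem_iff'.symm

theorem Hn_submatrix_a [CharP F 2] (k : ℕ) :
    (Hn F (2 * k) k 0 0).submatrix (rho k) (rho k) = Matrix.J (Fin k) F := by
  ext z w
  rw [Matrix.submatrix_apply, Hn_apply, ite_self, add_zero, hyp_rho]

/-- type `a` -/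
theorem card_OB_a [CharP F 2] (k : ℕ) :
    Nat.card (OB (Hn F (2 * k) k 0 0)) = Nat.card ↥(Matrix.symplecticGroup (Fin k) F) := by
  have e1 := OBreindex (rho k) (Hn F (2 * k) k 0 0)
  rw [Nat.card_congr e1, Hn_submatrix_a]
  exact Nat.card_congr (OBJequiv k)

/-! ### type `b` -/

/-- the identification of `(Fin k ⊕ Fin k) ⊕ Fin 1` with `Fin (2k+1)` -/
def rho' (k : ℕ) : (Fin k ⊕ Fin k) ⊕ Fin 1 ≃ Fin (2 * k + 1) :=
  (Equiv.sumCongr (rho k) (Equiv.refl (Fin 1))).trans finSumFinEquiv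

theorem rho'_inl (k : ℕ) (z : Fin k ⊕ Fin k) : (rho' k (Sum.inl z)).val = (rho k z).val := by simp [rho']

theorem rho'_inr (k : ℕ) (u : Fin 1) : (rho' k (Sum.inr u)).val = 2 * k := by
  simp [rho']

/-- the Gram matrix of type `b` in block form -/
def Gb (F : Type*) [Field F] (k : ℕ) : Matrix ((Fin k ⊕ Fin k) ⊕ Fin 1) ((Fin k ⊕ Fin k) ⊕ Fin 1) F :=
  Matrix.fromBlocks (Matrix.J (Fin k) F) 0 0 1

theorem Hn_submatrix_b [CharP F 2] (k : ℕ) :
    (Hn F (2 * k + 1) k (2 * k) 1).submatrix (rho' k) (rho' k) = Gb F k := by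
  ext z w
  rw [Matrix.submatrix_apply, Hn_apply]
  rcases z with z | u <;> rcases w with w | v
  · rw [rho'_inl, rho'_inl, hyp_rho, if_neg, add_zero]
    · rfl
    · have := (rho k z).2; omega
  · rw [rho'_inl, rho'_inr, if_neg, if_neg, add_zero]
    · rfl
    · have := (rho k z).2; omega
    · have := (rho k z).2; unfold hyp; omega
  · rw [rho'_inl, rho'_inr, if_neg, if_neg, add_zero]
    · rfl
    · have := (rho k w).2; omega
    · have := (rho k w).2; unfold hyp; omega
  · rw [rho'_inr, rho'_inr, if_neg, if_pos ⟨rfl, rfl⟩, zero_add]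
    · show (1 : F) = (1 : Matrix (Fin 1) (Fin 1) F) u v
      rw [Subsingleton.elim u v, Matrix.one_apply_eq]
    · unfold hyp; omega

theorem JX_diag {k : ℕ} {n : Type*} [Fintype n] (X : Matrix (Fin k ⊕ Fin k) n F) (j : n) :
    (Xᵀ * Matrix.J (Fin k) F * X) j j = 0 := by
  have h1 : (Xᵀ * Matrix.J (Fin k) F * X) j j = Cfsg.sympForm k F (fun a => X a j) (fun a => X a j) := by
    rw [Matrix.mul_assoc, Matrix.mul_apply]
    unfold Cfsg.sympForm dotProduct
    refine Finset.sum_congr rfl fun a _ => ?_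
    rw [Matrix.transpose_apply, Matrix.mul_apply]
    rfl
  rw [h1, symp_self]

theorem J_diag (k : ℕ) (z : Fin k ⊕ Fin k) : Matrix.J (Fin k) F z z = 0 := by
  rcases z with i | i <;> simp [Matrix.J]

theorem eq_one_of_sq_eq_one [CharP F 2] {a : F} (h : a * a = 1) : a = 1 := by
  have h1 : (a + 1) * (a + 1) = 0 := by
    have : (a + 1) * (a + 1) = a * a + 1 + (a + a) := by ring
    rw [this, h, CharTwo.add_self_eq_zero, CharTwo.add_self_eq_zero, add_zero]
  have h2 : a + 1 = 0 := mul_self_eq_zero.mp h1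
  calc a = a + 1 + 1 := by rw [add_assoc, CharTwo.add_self_eq_zero, add_zero]
    _ = 1 := by rw [h2, zero_add]

/-- the structure of the isometries of `Gb` -/
theorem Gb_isometry [CharP F 2] {k : ℕ} {M : Matrix ((Fin k ⊕ Fin k) ⊕ Fin 1) ((Fin k ⊕ Fin k) ⊕ Fin 1) F}
    (hM : Mᵀ * Gb F k * M = Gb F k) :
    M.toBlocks₁₁ᵀ * Matrix.J (Fin k) F * M.toBlocks₁₁ = Matrix.J (Fin k) F ∧
      M.toBlocks₁₂ = 0 ∧ M.toBlocks₂₁ = 0 ∧ M.toBlocks₂₂ = 1 := by
  obtain ⟨A, hA⟩ : ∃ A, A = M.toBlocks₁₁ := ⟨_, rfl⟩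
  obtain ⟨r, hr⟩ : ∃ r, r = M.toBlocks₁₂ := ⟨_, rfl⟩
  obtain ⟨c, hc⟩ : ∃ c, c = M.toBlocks₂₁ := ⟨_, rfl⟩
  obtain ⟨d, hd⟩ : ∃ d, d = M.toBlocks₂₂ := ⟨_, rfl⟩
  have hMb : M = Matrix.fromBlocks A r c d := by
    rw [hA, hr, hc, hd, Matrix.fromBlocks_toBlocks]
  rw [← hA, ← hr, ← hc, ← hd]
  rw [hMb] at hM
  unfold Gb at hM
  rw [Matrix.fromBlocks_transpose, Matrix.fromBlocks_multiply, Matrix.fromBlocks_multiply,
    Matrix.fromBlocks_inj] at hM
  simp only [Matrix.mul_zero, Matrix.mul_one, add_zero, zero_add] at hM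
  obtain ⟨h11, h12, -, h22⟩ := hM
  -- c = 0
  have hc0 : c = 0 := by
    ext u z
    have h1 := congrFun (congrFun h11 z) z
    rw [Matrix.add_apply, JX_diag, J_diag, zero_add, Matrix.mul_apply] at h1
    rw [Fintype.sum_eq_single u (fun v hv => absurd (Subsingleton.elim v u) hv)] at h1
    rw [Matrix.transpose_apply] at h1
    exact mul_self_eq_zero.mp h1
  rw [hc0] at h11 h12
  simp only [Matrix.transpose_zero, Matrix.zero_mul, add_zero] at h11 h12
  -- d = 1
  have hd1 : d = 1 := by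
    ext u v
    have h1 := congrFun (congrFun h22 u) u
    rw [Matrix.add_apply, JX_diag, zero_add, Matrix.mul_apply,
      Fintype.sum_eq_single u (fun v hv => absurd (Subsingleton.elim v u) hv), Matrix.transpose_apply,
      Matrix.one_apply_eq] at h1
    rw [Subsingleton.elim v u, Matrix.one_apply_eq]
    exact eq_one_of_sq_eq_one h1
  -- r = 0
  have hr0 : r = 0 := by
    have hAmem : A ∈ Matrix.symplecticGroup (Fin k) F := SymplecticGroup.mem_iff'.mpr h11
    have hdet : IsUnit (Aᵀ * Matrix.J (Fin k) F).det := by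
      rw [Matrix.det_mul, Matrix.det_transpose]
      exact (SymplecticGroup.symplectic_det hAmem).mul (Matrix.isUnit_det_J (Fin k) F)
    calc r = ((Aᵀ * Matrix.J (Fin k) F)⁻¹ * (Aᵀ * Matrix.J (Fin k) F)) * r := by
          rw [Matrix.nonsing_inv_mul _ hdet, Matrix.one_mul]
      _ = 0 := by rw [Matrix.mul_assoc, h12, Matrix.mul_zero]
  exact ⟨h11, hr0, hc0, hd1⟩

theorem Gb_of_symp [CharP F 2] {k : ℕ} {A : Matrix (Fin k ⊕ Fin k) (Fin k ⊕ Fin k) F}
    (hA : Aᵀ * Matrix.J (Fin k) F * A = Matrix.J (Fin k) F) :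
    (Matrix.fromBlocks A 0 0 (1 : Matrix (Fin 1) (Fin 1) F))ᵀ * Gb F k *
      Matrix.fromBlocks A 0 0 (1 : Matrix (Fin 1) (Fin 1) F) = Gb F k := by
  unfold Gb
  rw [Matrix.fromBlocks_transpose, Matrix.fromBlocks_multiply, Matrix.fromBlocks_multiply]
  simp only [Matrix.mul_zero, Matrix.mul_one, add_zero, zero_add, Matrix.transpose_zero, Matrix.zero_mul,
    Matrix.transpose_one, hA]

/-- isometries of `Gb` correspond to the symplectic group -/
def OBGbEquiv [CharP F 2] (k : ℕ) : OBι (Gb F k) ≃ OBι (Matrix.J (Fin k) F) where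
  toFun M := ⟨M.1.toBlocks₁₁, (Gb_isometry M.2).1⟩
  invFun A := ⟨Matrix.fromBlocks A.1 0 0 1, Gb_of_symp A.2⟩
  left_inv M := by
    apply Subtype.ext
    obtain ⟨-, h2, h3, h4⟩ := Gb_isometry M.2
    show Matrix.fromBlocks M.1.toBlocks₁₁ 0 0 1 = M.1
    rw [← h2, ← h3, ← h4, Matrix.fromBlocks_toBlocks]
  right_inv A := by
    apply Subtype.ext
    show (Matrix.fromBlocks A.1 0 0 (1 : Matrix (Fin 1) (Fin 1) F)).toBlocks₁₁ = A.1
    rw [Matrix.toBlocks_fromBlocks₁₁]

/-- type `b` -/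
theorem card_OB_b [CharP F 2] (k : ℕ) :
    Nat.card (OB (Hn F (2 * k + 1) k (2 * k) 1)) = Nat.card ↥(Matrix.symplecticGroup (Fin k) F) := by
  have e1 := OBreindex (rho' k) (Hn F (2 * k + 1) k (2 * k) 1)
  rw [Nat.card_congr e1, Hn_submatrix_b, Nat.card_congr (OBGbEquiv k)]
  exact Nat.card_congr (OBJequiv k)

/-! ### type `c` -/

/-- the distinguished index -/
def x0 {k : ℕ} (hk : 1 ≤ k) : Fin k ⊕ Fin k := Sum.inl ⟨0, hk⟩

theorem rho_eq_zero_iff {k : ℕ} (hk : 1 ≤ k) (z : Fin k ⊕ Fin k) : (rho k z).val = 0 ↔ z = x0 hk := by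
  rcases z with i | i
  · rw [rho_inl]
    unfold x0
    constructor
    · intro h
      congr 1
      exact Fin.ext h
    · intro h
      have := Sum.inl.inj h
      rw [this]
  · rw [rho_inr]
    unfold x0
    constructor
    · intro h; omega
    · intro h; exact absurd h (by simp)

/-- the Gram matrix of type `c` -/
def Gc (F : Type*) [Field F] {k : ℕ} (hk : 1 ≤ k) : Matrix (Fin k ⊕ Fin k) (Fin k ⊕ Fin k) F :=
  Matrix.J (Fin k) F + Matrix.vecMulVec (Pi.single (x0 hk) 1) (Pi.single (x0 hk) 1)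

theorem Hn_submatrix_c [CharP F 2] {k : ℕ} (hk : 1 ≤ k) :
    (Hn F (2 * k) k 0 1).submatrix (rho k) (rho k) = Gc F hk := by
  ext z w
  rw [Matrix.submatrix_apply, Hn_apply, hyp_rho]
  unfold Gc
  rw [Matrix.add_apply, Matrix.vecMulVec_apply]
  congr 1
  simp only [rho_eq_zero_iff hk]
  by_cases hz : z = x0 hk
  · by_cases hw : w = x0 hk
    · rw [if_pos ⟨hz, hw⟩, hz, hw, Pi.single_eq_same, mul_one]
    · rw [if_neg (fun h => hw h.2), Pi.single_eq_of_ne hw, mul_zero]
  · rw [if_neg (fun h => hz h.1), Pi.single_eq_of_ne hz, zero_mul]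

theorem eq_of_sq_eq_sq [CharP F 2] {a b : F} (h : a * a = b * b) : a = b := by
  have h1 : (a + b) * (a + b) = 0 := by
    have : (a + b) * (a + b) = a * a + b * b + (a * b + a * b) := by ring
    rw [this, h, CharTwo.add_self_eq_zero, CharTwo.add_self_eq_zero, add_zero]
  have h2 : a + b = 0 := mul_self_eq_zero.mp h1
  calc a = a + b + b := by rw [add_assoc, CharTwo.add_self_eq_zero, add_zero]
    _ = b := by rw [h2, zero_add]

theorem conj_vecMulVec_single {n : Type*} [Fintype n] [DecidableEq n] (M : Matrix n n F) (x : n) :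
    Mᵀ * Matrix.vecMulVec (Pi.single x 1) (Pi.single x 1) * M =
      Matrix.vecMulVec (fun j => M x j) (fun j => M x j) := by
  rw [Matrix.mul_vecMulVec, Matrix.vecMulVec_mul]
  congr 1
  · rw [Matrix.mulVec_single_one]
    rfl
  · rw [Matrix.single_one_vecMul]
    rfl

/-- the structure of the isometries of `Gc` -/
theorem Gc_isometry_iff [CharP F 2] {k : ℕ} (hk : 1 ≤ k) (M : Matrix (Fin k ⊕ Fin k) (Fin k ⊕ Fin k) F) :
    Mᵀ * Gc F hk * M = Gc F hk ↔
      Mᵀ * Matrix.J (Fin k) F * M = Matrix.J (Fin k) F ∧ (fun j => M (x0 hk) j) = Pi.single (x0 hk) 1 := by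
  unfold Gc
  rw [Matrix.mul_add, Matrix.add_mul, conj_vecMulVec_single]
  constructor
  · intro h
    have hrow : (fun j => M (x0 hk) j) = Pi.single (x0 hk) 1 := by
      funext j
      have h1 := congrFun (congrFun h j) j
      rw [Matrix.add_apply, Matrix.add_apply, JX_diag, J_diag, zero_add, zero_add, Matrix.vecMulVec_apply,
        Matrix.vecMulVec_apply] at h1
      exact eq_of_sq_eq_sq h1
    refine ⟨?_, hrow⟩
    rw [hrow] at h
    exact add_right_cancel h
  · rintro ⟨h1, h2⟩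
    rw [h1, h2]

/-- the stabiliser of the distinguished basis vector -/
abbrev StabX (F : Type*) [Field F] {k : ℕ} (hk : 1 ≤ k) :=
  {g : Matrix.symplecticGroup (Fin k) F //
    (g : Matrix (Fin k ⊕ Fin k) (Fin k ⊕ Fin k) F) *ᵥ Pi.single (x0 hk) 1 = Pi.single (x0 hk) 1}

/-- isometries of `Gc` correspond to a vector stabiliser -/
def OBGcEquiv [CharP F 2] {k : ℕ} (hk : 1 ≤ k) : OBι (Gc F hk) ≃ StabX F hk where
  toFun M := ⟨⟨M.1ᵀ, SymplecticGroup.transpose_mem
      (SymplecticGroup.mem_iff'.mpr ((Gc_isometry_iff hk M.1).mp M.2).1)⟩, by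
    show M.1ᵀ *ᵥ Pi.single (x0 hk) 1 = Pi.single (x0 hk) 1
    rw [Matrix.mulVec_single_one]
    exact ((Gc_isometry_iff hk M.1).mp M.2).2⟩
  invFun g := ⟨g.1.1ᵀ, by
    rw [Gc_isometry_iff]
    refine ⟨SymplecticGroup.mem_iff'.mp (SymplecticGroup.transpose_mem g.1.2), ?_⟩
    have := g.2
    rw [Matrix.mulVec_single_one] at this
    exact this⟩
  left_inv M := by
    apply Subtype.ext
    exact Matrix.transpose_transpose _
  right_inv g := by
    apply Subtype.ext
    apply Subtype.ext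
    exact Matrix.transpose_transpose _

theorem card_StabX [Fintype F] {k : ℕ} (hk : 1 ≤ k) :
    (Fintype.card F ^ (2 * k) - 1) * Nat.card (StabX F hk) = Nat.card ↥(Matrix.symplecticGroup (Fin k) F) := by
  have hne : (Pi.single (x0 hk) 1 : Fin k ⊕ Fin k → F) ≠ 0 := by
    intro h
    have := congrFun h (x0 hk)
    rw [Pi.single_eq_same, Pi.zero_apply] at this
    exact one_ne_zero this
  set e₁ : TIFrames F k 1 := ⟨fun _ => Pi.single (x0 hk) 1,
    linearIndependent_unique_iff.mpr hne, fun _ _ => symp_self _⟩ with he₁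
  have h2 := card_frameMap_preimage e₁ (Set.univ : Set (TIFrames F k 1))
  have h3 : Nat.card {g : Matrix.symplecticGroup (Fin k) F // frameMap e₁ g ∈ (Set.univ : Set (TIFrames F k 1))} =
      Nat.card ↥(Matrix.symplecticGroup (Fin k) F) :=
    Nat.card_congr (Equiv.subtypeUnivEquiv fun g => Set.mem_univ _)
  have h5 : Nat.card (Set.univ : Set (TIFrames F k 1)) = Nat.card (TIFrames F k 1) :=
    Nat.card_congr (Equiv.Set.univ _)
  have h6 : Nat.card {g : Matrix.symplecticGroup (Fin k) F // frameMap e₁ g = e₁} = Nat.card (StabX F hk) := by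
    refine Nat.card_congr (Equiv.subtypeEquivRight fun g => ?_)
    constructor
    · intro h
      exact congrFun (congrArg Subtype.val h) 0
    · intro h
      apply Subtype.ext
      funext i
      exact h
  rw [← h3, h2, h5, h6, card_TIFrames]
  simp

/-- type `c` -/
theorem card_OB_c [Fintype F] [CharP F 2] {k : ℕ} (hk : 1 ≤ k) :
    (Fintype.card F ^ (2 * k) - 1) * Nat.card (OB (Hn F (2 * k) k 0 1)) =
      Nat.card ↥(Matrix.symplecticGroup (Fin k) F) := by
  have e1 := OBreindex (rho k) (Hn F (2 * k) k 0 1)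
  rw [Nat.card_congr e1, Hn_submatrix_c hk, Nat.card_congr (OBGcEquiv hk)]
  exact card_StabX hk

end Cfsg.Agent.Helper94.SpC
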