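import Cfsg.Agent.Helper94.SpC5
import Cfsg.Agent.Helper5.SpCard

set_option autoImplicit false

/-!
# Centralisers of involutions in `Sp_2m(F)`: arithmetic and final formulas
-/

namespace Cfsg.Agent.Helper94.SpC

open Matrix Cfsg.Agent.Helper13 Cfsg.Agent.S2167 Cfsg.Agent.Helper43.SpInv

/-- the product `∏_{i<j} (q^(2(i+1)) - 1)` -/
def PP (q j : ℕ) : ℕ := ∏ i ∈ Finset.range j, (q ^ (2 * (i + 1)) - 1)

theorem PP_succ (q j : ℕ) : PP q (j + 1) = PP q j * (q ^ (2 * (j + 1)) - 1) := by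
  unfold PP
  rw [Finset.prod_range_succ]

theorem PP_fin (q j : ℕ) : ∏ i : Fin j, (q ^ (2 * ((i : ℕ) + 1)) - 1) = PP q j := by
  unfold PP
  exact Fin.prod_univ_eq_prod_range (fun i => q ^ (2 * (i + 1)) - 1) j

theorem PP_pos {q : ℕ} (hq : 2 ≤ q) (j : ℕ) : 0 < PP q j := by
  unfold PP
  apply Finset.prod_pos
  intro i _
  have : 1 < q ^ (2 * (i + 1)) := Nat.one_lt_pow (by omega) (by omega)
  omega

/-- the number of totally isotropic frames, rewritten -/
theorem TT_mul (q m : ℕ) (hq : 1 ≤ q) : ∀ s : ℕ, s ≤ m →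
    (∏ i ∈ Finset.range s, (q ^ (2 * m - i) - q ^ i)) * PP q (m - s) =
      q ^ (∑ i ∈ Finset.range s, i) * PP q m := by
  intro s
  induction s with
  | zero => intro _; simp
  | succ s ih =>
    intro hs
    have ih' := ih (by omega)
    rw [Finset.prod_range_succ, Finset.sum_range_succ]
    have h1 : m - s = (m - (s + 1)) + 1 := by omega
    rw [h1, PP_succ] at ih'
    have h2 : q ^ (2 * m - s) - q ^ s = q ^ s * (q ^ (2 * (m - (s + 1) + 1)) - 1) := by
      rw [Nat.mul_sub, mul_one, ← pow_add]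
      congr 2
      omega
    rw [h2, pow_add]
    calc (∏ x ∈ Finset.range s, (q ^ (2 * m - x) - q ^ x)) * (q ^ s * (q ^ (2 * (m - (s + 1) + 1)) - 1)) *
          PP q (m - (s + 1))
        = q ^ s * ((∏ i ∈ Finset.range s, (q ^ (2 * m - i) - q ^ i)) *
            (PP q (m - (s + 1)) * (q ^ (2 * (m - (s + 1) + 1)) - 1))) := by ring
      _ = q ^ s * (q ^ (∑ i ∈ Finset.range s, i) * PP q m) := by rw [ih']
      _ = _ := by ring

theorem TT_pos {q : ℕ} (hq : 2 ≤ q) {m s : ℕ} (hs : s ≤ m) :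
    0 < ∏ i ∈ Finset.range s, (q ^ (2 * m - i) - q ^ i) := by
  apply Finset.prod_pos
  intro i hi
  rw [Finset.mem_range] at hi
  have : q ^ i < q ^ (2 * m - i) := Nat.pow_lt_pow_right (by omega) (by omega)
  omega

theorem exponent_identity {m s : ℕ} (hs : s ≤ m) :
    2 * m * s - (3 * s ^ 2 - s) / 2 + (m - s) ^ 2 + ∑ i ∈ Finset.range s, i = m ^ 2 := by
  obtain ⟨d, rfl⟩ : ∃ d, m = s + d := ⟨m - s, by omega⟩
  have hs3 : s ≤ 3 * s ^ 2 := by nlinarith [Nat.le_mul_self s]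
  have hev : ∃ e₂, 3 * s ^ 2 - s = 2 * e₂ := by
    have : Even (3 * s ^ 2 - s) := by
      rw [Nat.even_sub hs3]
      simp [Nat.even_mul, Nat.even_pow, parity_simps]
    obtain ⟨e, he⟩ := this
    exact ⟨e, by omega⟩
  obtain ⟨e₂, he₂⟩ := hev
  have htri := Finset.sum_range_id_mul_two s
  obtain ⟨tri, htri'⟩ : ∃ tri, tri = ∑ i ∈ Finset.range s, i := ⟨_, rfl⟩
  rw [← htri'] at htri ⊢
  rw [he₂, Nat.mul_div_cancel_left _ (by norm_num : 0 < 2), Nat.add_sub_cancel_left]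
  have hle : e₂ ≤ 2 * (s + d) * s := by
    have h0 : 2 * e₂ ≤ 3 * s ^ 2 := by rw [← he₂]; exact Nat.sub_le _ _
    nlinarith [h0, Nat.zero_le (d * s), Nat.zero_le (s * s)]
  have h1 : (3 * (s : ℤ) ^ 2 - s) = 2 * e₂ := by
    have : ((3 * s ^ 2 - s : ℕ) : ℤ) = ((2 * e₂ : ℕ) : ℤ) := by rw [he₂]
    rw [Nat.cast_sub hs3] at this
    push_cast at this
    exact this
  have h2 : (tri : ℤ) * 2 = s ^ 2 - s := by
    have : ((tri * 2 : ℕ) : ℤ) = ((s * (s - 1) : ℕ) : ℤ) := by rw [htri]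
    rcases Nat.eq_zero_or_pos s with h0 | hpos
    · subst h0
      simpa using this
    · rw [Nat.cast_mul, Nat.cast_mul, Nat.cast_sub hpos] at this
      push_cast at this
      linarith
  have goalZ : ((2 * (s + d) * s - e₂ + d ^ 2 + tri : ℕ) : ℤ) = (((s + d) ^ 2 : ℕ) : ℤ) := by
    rw [Nat.cast_add, Nat.cast_add, Nat.cast_sub hle]
    push_cast
    have h3 : 2 * ((2 * ((s : ℤ) + d) * s - e₂ + d ^ 2 + tri)) = 2 * ((s + d) ^ 2) := by
      linear_combination h1 + h2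
    linarith
  exact_mod_cast goalZ

/-- the final count -/
theorem final_count {q m s C O : ℕ} (hq : 2 ≤ q) (hs : s ≤ m)
    (h : C * (∏ i ∈ Finset.range s, (q ^ (2 * m - i) - q ^ i)) = (q ^ (m ^ 2) * PP q m) * O) :
    C = q ^ (2 * m * s - (3 * s ^ 2 - s) / 2) * O * (q ^ ((m - s) ^ 2) * PP q (m - s)) := by
  have hT := TT_pos hq hs
  apply Nat.eq_of_mul_eq_mul_right hT
  rw [h]
  have h1 := TT_mul q m (by omega) s hs
  have h2 := exponent_identity hs
  calc q ^ (m ^ 2) * PP q m * O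
      = q ^ (2 * m * s - (3 * s ^ 2 - s) / 2) * O * q ^ ((m - s) ^ 2) *
          (q ^ (∑ i ∈ Finset.range s, i) * PP q m) := by
        rw [← h2, pow_add, pow_add]
        ring
    _ = q ^ (2 * m * s - (3 * s ^ 2 - s) / 2) * O * (q ^ ((m - s) ^ 2) * PP q (m - s)) *
          ∏ i ∈ Finset.range s, (q ^ (2 * m - i) - q ^ i) := by
        rw [← h1]
        ring

end Cfsg.Agent.Helper94.SpC
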