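import Mathlib
import Cfsg.Agent.Helper94.SpRootA

set_option autoImplicit false
set_option linter.unusedSectionVars false
set_option linter.unusedVariables false
set_option linter.unusedSimpArgs false

/-!
# The `SL₂` attached to a hyperbolic pair in the symplectic group
-/

namespace Cfsg.Agent.Helper94.SpRoot

open Matrix Cfsg Cfsg.Agent.Helper13
open scoped commutatorElement

variable {F : Type*} [Field F] {m : ℕ}

/-- the matrix of `g ∈ SL₂` acting on the hyperbolic plane `⟨p, r⟩` and trivially on its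
perpendicular -/
def sl2Mat (p r : Fin m ⊕ Fin m → F) (g : Matrix.SpecialLinearGroup (Fin 2) F) :
    Matrix (Fin m ⊕ Fin m) (Fin m ⊕ Fin m) F :=
  1 + vecMulVec p ((g 0 0 - 1) • (Matrix.J (Fin m) F *ᵥ r) - g 0 1 • (Matrix.J (Fin m) F *ᵥ p))
    + vecMulVec r (g 1 0 • (Matrix.J (Fin m) F *ᵥ r) - (g 1 1 - 1) • (Matrix.J (Fin m) F *ᵥ p))

theorem sl2Mat_mulVec (p r : Fin m ⊕ Fin m → F) (g : Matrix.SpecialLinearGroup (Fin 2) F)
    (v : Fin m ⊕ Fin m → F) :
    sl2Mat p r g *ᵥ v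
      = v + ((g 0 0 - 1) * Cfsg.sympForm m F v r - g 0 1 * Cfsg.sympForm m F v p) • p
        + (g 1 0 * Cfsg.sympForm m F v r - (g 1 1 - 1) * Cfsg.sympForm m F v p) • r := by
  rw [sl2Mat, add_mulVec, add_mulVec, one_mulVec, vecMulVec_mulVec, vecMulVec_mulVec,
    op_smul_eq_smul, op_smul_eq_smul, sub_dotProduct, sub_dotProduct, smul_dotProduct,
    smul_dotProduct, smul_dotProduct, smul_dotProduct,
    dotProduct_comm (Matrix.J (Fin m) F *ᵥ r) v, dotProduct_comm (Matrix.J (Fin m) F *ᵥ p) v,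
    ← sympForm_def, ← sympForm_def]
  rfl

theorem sl2_det (g : Matrix.SpecialLinearGroup (Fin 2) F) :
    g 0 0 * g 1 1 - g 0 1 * g 1 0 = 1 := by
  have := g.det_coe
  rwa [Matrix.det_fin_two] at this

theorem sl2Mat_mem {p r : Fin m ⊕ Fin m → F} (h : Cfsg.sympForm m F p r = 1)
    (g : Matrix.SpecialLinearGroup (Fin 2) F) :
    sl2Mat p r g ∈ Matrix.symplecticGroup (Fin m) F := by
  rw [mem_symplecticGroup_iff_preserves]
  intro v w
  have h' : Cfsg.sympForm m F r p = -1 := by rw [sympForm_swap, h]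
  have e1 : Cfsg.sympForm m F p w = - Cfsg.sympForm m F w p := sympForm_swap p w
  have e2 : Cfsg.sympForm m F r w = - Cfsg.sympForm m F w r := sympForm_swap r w
  have hdet := sl2_det g
  simp only [sl2Mat_mulVec, sympForm_add_left, sympForm_add_right, sympForm_smul_left,
    sympForm_smul_right, sympForm_self, h, h', e1, e2]
  linear_combination (Cfsg.sympForm m F v p * Cfsg.sympForm m F w r
    - Cfsg.sympForm m F v r * Cfsg.sympForm m F w p) * hdet

theorem sl2Mat_mul {p r : Fin m ⊕ Fin m → F} (h : Cfsg.sympForm m F p r = 1)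
    (g g' : Matrix.SpecialLinearGroup (Fin 2) F) :
    sl2Mat p r (g * g') = sl2Mat p r g * sl2Mat p r g' := by
  have h' : Cfsg.sympForm m F r p = -1 := by rw [sympForm_swap, h]
  apply matrix_eq_of_mulVec
  intro v
  rw [← mulVec_mulVec]
  simp only [sl2Mat_mulVec, sympForm_add_left, sympForm_add_right, sympForm_smul_left,
    sympForm_smul_right, sympForm_self, h, h', Matrix.SpecialLinearGroup.coe_mul,
    Matrix.mul_apply, Fin.sum_univ_two]
  module

/-- the homomorphism `SL₂(F) → Sp` attached to a hyperbolic pair -/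
def sl2Hom {p r : Fin m ⊕ Fin m → F} (h : Cfsg.sympForm m F p r = 1) :
    Matrix.SpecialLinearGroup (Fin 2) F →* ↥(Matrix.symplecticGroup (Fin m) F) :=
  MonoidHom.mk' (fun g => ⟨sl2Mat p r g, sl2Mat_mem h g⟩)
    (fun g g' => Subtype.ext (sl2Mat_mul h g g'))

theorem sl2Hom_mulVec {p r : Fin m ⊕ Fin m → F} (h : Cfsg.sympForm m F p r = 1)
    (g : Matrix.SpecialLinearGroup (Fin 2) F) (v : Fin m ⊕ Fin m → F) :
    ((sl2Hom h g : ↥(Matrix.symplecticGroup (Fin m) F)) :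
      Matrix (Fin m ⊕ Fin m) (Fin m ⊕ Fin m) F) *ᵥ v
      = v + ((g 0 0 - 1) * Cfsg.sympForm m F v r - g 0 1 * Cfsg.sympForm m F v p) • p
        + (g 1 0 * Cfsg.sympForm m F v r - (g 1 1 - 1) * Cfsg.sympForm m F v p) • r :=
  sl2Mat_mulVec p r g v

theorem sl2Hom_U {p r : Fin m ⊕ Fin m → F} (h : Cfsg.sympForm m F p r = 1) (b : F) :
    sl2Hom h (Cfsg.Agent.S5016.U b) = tE p (-b) := by
  apply sp_ext
  intro v
  rw [sl2Hom_mulVec, tE_mulVec, Cfsg.Agent.S5016.U_apply]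
  simp

theorem sl2Hom_L {p r : Fin m ⊕ Fin m → F} (h : Cfsg.sympForm m F p r = 1) (c : F) :
    sl2Hom h (Cfsg.Agent.S5016.L c) = tE r c := by
  apply sp_ext
  intro v
  rw [sl2Hom_mulVec, tE_mulVec, Cfsg.Agent.S5016.L_apply]
  simp

theorem map_upper {p r : Fin m ⊕ Fin m → F} (h : Cfsg.sympForm m F p r = 1) :
    (Cfsg.upperUnipotentSL2 F).map (sl2Hom h) = T p := by
  ext x
  rw [Subgroup.mem_map, mem_T_iff]
  constructor
  · rintro ⟨g, hg, rfl⟩
    rw [Cfsg.Agent.S5016.eq_U_of_mem hg, sl2Hom_U]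
    exact ⟨_, rfl⟩
  · rintro ⟨c, rfl⟩
    refine ⟨Cfsg.Agent.S5016.U (-c), Cfsg.Agent.S5016.U_mem _, ?_⟩
    rw [sl2Hom_U, neg_neg]

theorem map_lower {p r : Fin m ⊕ Fin m → F} (h : Cfsg.sympForm m F p r = 1) :
    (Cfsg.lowerUnipotentSL2 F).map (sl2Hom h) = T r := by
  ext x
  rw [Subgroup.mem_map, mem_T_iff]
  constructor
  · rintro ⟨g, hg, rfl⟩
    rw [Cfsg.Agent.S5016.eq_L_of_mem hg, sl2Hom_L]
    exact ⟨_, rfl⟩
  · rintro ⟨c, rfl⟩
    exact ⟨Cfsg.Agent.S5016.L c, Cfsg.Agent.S5016.L_mem _, sl2Hom_L h c⟩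

theorem sl2Hom_injective {p r : Fin m ⊕ Fin m → F} (h : Cfsg.sympForm m F p r = 1) :
    Function.Injective (sl2Hom h) := by
  rw [injective_iff_map_eq_one]
  intro g hg
  have h' : Cfsg.sympForm m F r p = -1 := by rw [sympForm_swap, h]
  have key : ∀ v : Fin m ⊕ Fin m → F,
      ((g 0 0 - 1) * Cfsg.sympForm m F v r - g 0 1 * Cfsg.sympForm m F v p) = 0 ∧
      (g 1 0 * Cfsg.sympForm m F v r - (g 1 1 - 1) * Cfsg.sympForm m F v p) = 0 := by
    intro v
    have h1 := sl2Hom_mulVec h g v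
    rw [hg, symp_coe_one, one_mulVec] at h1
    obtain ⟨x, hx⟩ : ∃ x, x = ((g 0 0 - 1) * Cfsg.sympForm m F v r
      - g 0 1 * Cfsg.sympForm m F v p) := ⟨_, rfl⟩
    obtain ⟨y, hy⟩ : ∃ y, y = (g 1 0 * Cfsg.sympForm m F v r
      - (g 1 1 - 1) * Cfsg.sympForm m F v p) := ⟨_, rfl⟩
    rw [← hx, ← hy] at h1 ⊢
    have h2 : x • p + y • r = 0 := by
      have h3 : v + (x • p + y • r) = v := by rw [← add_assoc]; exact h1.symm
      rwa [add_eq_left] at h3
    have h3 := congrArg (fun z => Cfsg.sympForm m F z r) h2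
    have h4 := congrArg (fun z => Cfsg.sympForm m F z p) h2
    simp only [sympForm_add_left, sympForm_smul_left, sympForm_self, h, h', sympForm_zero_left,
      mul_zero, add_zero, zero_add, mul_one, mul_neg, neg_eq_zero] at h3 h4
    exact ⟨h3, h4⟩
  have kp := key p
  have kr := key r
  simp only [sympForm_self, h, h', mul_zero, sub_zero, mul_one, mul_neg, sub_neg_eq_add, zero_add,
    zero_sub, neg_eq_zero, neg_neg] at kp kr
  apply Matrix.SpecialLinearGroup.ext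
  intro i j
  fin_cases i <;> fin_cases j
  · show g 0 0 = 1
    exact sub_eq_zero.mp kp.1
  · show g 0 1 = 0
    exact kr.1
  · show g 1 0 = 0
    exact kp.2
  · show g 1 1 = 1
    exact sub_eq_zero.mp kr.2

/-- `(T p, T r)` is an image of the unitriangular pair of `SL₂` when `f(p, r) ≠ 0` -/
theorem isSL2Image_T {p r : Fin m ⊕ Fin m → F} (h : Cfsg.sympForm m F p r ≠ 0) :
    Cfsg.Agent.Helper94.IsSL2Image F (T p) (T r) := by
  have h1 : Cfsg.sympForm m F p ((Cfsg.sympForm m F p r)⁻¹ • r) = 1 := by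
    rw [sympForm_smul_right, inv_mul_cancel₀ h]
  refine ⟨sl2Hom h1, ?_, map_upper h1, ?_⟩
  · rw [(MonoidHom.ker_eq_bot_iff _).mpr (sl2Hom_injective h1)]
    exact bot_le
  · rw [map_lower h1, T_smul (inv_ne_zero h)]

end Cfsg.Agent.Helper94.SpRoot
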