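import Mathlib
import Cfsg.Agent.Helper94.SpRootB

set_option autoImplicit false
set_option linter.unusedSectionVars false
set_option linter.unusedVariables false
set_option linter.unusedSimpArgs false

/-!
# The symplectic transvection groups form a degenerate class of `F`-root subgroups
-/

namespace Cfsg.Agent.Helper94.SpRoot

open Matrix Cfsg Cfsg.Agent.Helper13
open scoped commutatorElement

variable (F : Type*) [Field F] (m : ℕ)

/-- the set of transvection groups -/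
def TFam : Set (Subgroup ↥(Matrix.symplecticGroup (Fin m) F)) :=
  {A | ∃ p : Fin m ⊕ Fin m → F, p ≠ 0 ∧ A = T p}

variable {F m}

theorem TFam_ne_bot : ∀ A ∈ TFam F m, A ≠ ⊥ := by
  rintro A ⟨p, hp, rfl⟩
  exact T_ne_bot hp

theorem TFam_pair : ∀ A ∈ TFam F m, ∀ B ∈ TFam F m,
    ⁅A, B⁆ = ⊥ ∨ (A ≠ B ∧ Cfsg.Agent.Helper94.IsSL2Image F A B) := by
  rintro A ⟨p, hp, rfl⟩ B ⟨r, hr, rfl⟩
  by_cases h : Cfsg.sympForm m F p r = 0
  · exact Or.inl (T_commute_of_orth h)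
  · exact Or.inr ⟨T_ne_of_form_ne_zero h, isSL2Image_T h⟩

theorem TFam_kroot : Cfsg.IsKRootSubgroupSet F (TFam F m) := by
  refine Cfsg.Agent.Helper94.isKRootSubgroupSet_of_images F (TFam F m) ?_ TFam_ne_bot
    iSup_T_eq_top ?_ (fun A hA B hB => (TFam_pair A hA B hB).imp_right Or.inl)
  · rintro A ⟨p, hp, rfl⟩
    exact T_comm p
  · rintro A ⟨p, hp, rfl⟩ g
    exact ⟨_, mulVec_ne_zero g hp, conjBy_T p g⟩

theorem TFam_adj {p r : Fin m ⊕ Fin m → F} (h : Cfsg.sympForm m F p r ≠ 0) :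
    Cfsg.FAdj (TFam F m) (T p) (T r) := by
  have hp : p ≠ 0 := by
    rintro rfl
    exact h (sympForm_zero_left r)
  have hr : r ≠ 0 := by
    rintro rfl
    exact h (sympForm_zero_right p)
  exact ⟨⟨p, hp, rfl⟩, ⟨r, hr, rfl⟩,
    Cfsg.Agent.Helper94.isRankOnePair_of_image F (isSL2Image_T h) (T_ne_of_form_ne_zero h)⟩

theorem TFam_connected : Cfsg.IsConnectedFamily (Cfsg.FAdj (TFam F m)) (TFam F m) := by
  rintro A ⟨p, hp, rfl⟩ B ⟨r, hr, rfl⟩
  obtain ⟨x, hxp, hxr⟩ := exists_sympForm_ne_zero_both hp hr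
  have hpx : Cfsg.sympForm m F p x ≠ 0 := by
    rw [sympForm_swap]; exact neg_ne_zero.mpr hxp
  exact Relation.ReflTransGen.tail (Relation.ReflTransGen.single (TFam_adj hpx)) (TFam_adj hxr)

theorem TFam_class (hm : 0 < m) : Cfsg.IsConjClassOfSubgroups (TFam F m) := by
  constructor
  · refine ⟨T (Pi.single (Sum.inl ⟨0, hm⟩) 1), _, ?_, rfl⟩
    intro h
    have := congrFun h (Sum.inl ⟨0, hm⟩)
    simp at this
  · rintro A ⟨p, hp, rfl⟩ B ⟨r, hr, rfl⟩
    exact exists_conj_T hp hr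

theorem TFam_all (hm : 0 < m) :
    Cfsg.IsRootSubgroupClass (TFam F m) ∧ Cfsg.IsDegenerateRootSet (TFam F m) ∧
      Cfsg.IsKRootSubgroupSet F (TFam F m) ∧
      Cfsg.IsConnectedFamily (Cfsg.FAdj (TFam F m)) (TFam F m) :=
  ⟨⟨TFam_kroot.1, TFam_class hm⟩,
    Cfsg.Agent.Helper94.isDegenerate_of_images F (TFam F m) TFam_ne_bot TFam_pair,
    TFam_kroot, TFam_connected⟩

end Cfsg.Agent.Helper94.SpRoot
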