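import Mathlib
import Cfsg.Agent.Helper94.SubW1
import Cfsg.Agent.Helper13.SpMax3
import Cfsg.Agent.S0776

set_option autoImplicit false
set_option linter.unusedSectionVars false
set_option linter.unusedVariables false
set_option linter.unusedSimpArgs false
set_option linter.style.haveILetI false

/-!
# Symplectic subfield subgroups: the rational alternating form

`F₀`-structure spanned by the columns of `P`, on which `sympForm` takes values in `F₀`
(`IsFormRationalStructure … F₀ 1 P`).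
-/

namespace Cfsg.Agent.Helper94.SpS

open Matrix Cfsg Cfsg.Geo Cfsg.Agent.Helper13 Cfsg.Agent.Helper94.SubW

variable {F : Type*} [Field F] {m n : ℕ}

local notation "⟪" x ", " y "⟫" => Cfsg.sympForm m F x y

section Fixed

variable (F₀ : Subfield F) {P : GL (Fin m ⊕ Fin m) F} (e : (Fin m ⊕ Fin m) ≃ Fin n)
  (hP : Cfsg.Geo.IsFormRationalStructure (Cfsg.sympForm m F) F₀ 1 P)

local notation "E" => emb F₀ P e

include hP in
theorem form_emb_mem (x y : Fin n → F₀) : ⟪E x, E y⟫ ∈ F₀ := by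
  have h := hP _ _ (emb_rat (e := e) x) (emb_rat (e := e) y)
  rwa [one_mul] at h

/-- the alternating form on `F₀ ^ n` -/
def bz : LinearMap.BilinForm F₀ (Fin n → F₀) :=
  LinearMap.mk₂ F₀ (fun x y => (⟨⟪E x, E y⟫, form_emb_mem F₀ e hP x y⟩ : F₀))
    (by
      intro x x' y
      apply Subtype.ext
      show ⟪E (x + x'), E y⟫ = ⟪E x, E y⟫ + ⟪E x', E y⟫
      rw [emb_add, sympForm_add_left])
    (by
      intro c x y
      apply Subtype.ext
      show ⟪E (c • x), E y⟫ = (c : F) * ⟪E x, E y⟫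
      rw [emb_smul, sympForm_smul_left])
    (by
      intro x y y'
      apply Subtype.ext
      show ⟪E x, E (y + y')⟫ = ⟪E x, E y⟫ + ⟪E x, E y'⟫
      rw [emb_add, sympForm_add_right])
    (by
      intro c x y
      apply Subtype.ext
      show ⟪E x, E (c • y)⟫ = (c : F) * ⟪E x, E y⟫
      rw [emb_smul, sympForm_smul_right])

theorem coe_bz (x y : Fin n → F₀) : ((bz F₀ e hP x y : F₀) : F) = ⟪E x, E y⟫ := rfl

theorem bz_self (x : Fin n → F₀) : bz F₀ e hP x x = 0 := by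
  apply Subtype.ext
  rw [coe_bz, sympForm_self]
  rfl

theorem bz_isAlt : (bz F₀ e hP).IsAlt := fun x => bz_self F₀ e hP x

theorem bz_swap (x y : Fin n → F₀) : bz F₀ e hP x y = - bz F₀ e hP y x := by
  apply Subtype.ext
  rw [Subfield.coe_neg, coe_bz, coe_bz, sympForm_swap]

theorem bz_eq_zero_iff (x y : Fin n → F₀) : bz F₀ e hP x y = 0 ↔ ⟪E x, E y⟫ = 0 := by
  rw [← coe_bz F₀ e hP]
  constructor
  · intro h; rw [h]; rfl
  · intro h; exact Subtype.ext h

theorem bz_comm_zero {x y : Fin n → F₀} (h : bz F₀ e hP x y = 0) : bz F₀ e hP y x = 0 := by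
  rw [bz_swap, h, neg_zero]

/-- non-degeneracy is detected by rational vectors -/
theorem eq_zero_of_emb_perp {u : Fin m ⊕ Fin m → F} (h : ∀ y : Fin n → F₀, ⟪E y, u⟫ = 0) :
    u = 0 := by
  by_contra hu
  obtain ⟨x, hx⟩ := sympForm_nondeg_left hu
  have hall : ∀ v, ⟪v, u⟫ = 0 := by
    apply emb_span_induction (F₀ := F₀) (P := P) (e := e)
    · intro v w hv hw
      rw [sympForm_add_left, hv, hw, add_zero]
    · intro c v hv
      rw [sympForm_smul_left, hv, mul_zero]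
    · intro y
      exact h y
  exact hx (hall x)

theorem eq_zero_of_perp_emb {u : Fin m ⊕ Fin m → F} (h : ∀ y : Fin n → F₀, ⟪u, E y⟫ = 0) :
    u = 0 := by
  apply eq_zero_of_emb_perp F₀ e
  intro y
  rw [sympForm_swap, h y, neg_zero]

theorem bz_nondegenerate : (bz F₀ e hP).Nondegenerate := by
  have hR : (bz F₀ e hP).SeparatingRight := by
    intro y hy
    by_contra hne
    apply emb_ne_zero (P := P) (e := e) hne
    apply eq_zero_of_emb_perp F₀ e
    intro x
    exact (bz_eq_zero_iff F₀ e hP x y).1 (hy x)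
  refine ⟨?_, hR⟩
  intro x hx
  apply hR
  intro y
  exact bz_comm_zero F₀ e hP (hx y)

/-- a non-zero rational vector pairs to `1` with some rational vector -/
theorem exists_bz_eq_one {x : Fin n → F₀} (hx : x ≠ 0) : ∃ y, bz F₀ e hP x y = 1 := by
  have h1 : ∃ y, bz F₀ e hP x y ≠ 0 := by
    by_contra hcon
    push Not at hcon
    exact hx ((bz_nondegenerate F₀ e hP).1 x hcon)
  obtain ⟨y, hy⟩ := h1
  refine ⟨(bz F₀ e hP x y)⁻¹ • y, ?_⟩
  rw [map_smul, smul_eq_mul, inv_mul_cancel₀ hy]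

/-- two non-zero rational vectors have a common non-orthogonal rational vector -/
theorem exists_bz_ne_both {x x' : Fin n → F₀} (hx : x ≠ 0) (hx' : x' ≠ 0) :
    ∃ y, bz F₀ e hP x y ≠ 0 ∧ bz F₀ e hP x' y ≠ 0 := by
  obtain ⟨y₁, hy₁⟩ := exists_bz_eq_one F₀ e hP hx
  obtain ⟨y₂, hy₂⟩ := exists_bz_eq_one F₀ e hP hx'
  by_cases h1 : bz F₀ e hP x' y₁ = 0
  · by_cases h2 : bz F₀ e hP x y₂ = 0
    · refine ⟨y₁ + y₂, ?_, ?_⟩
      · rw [map_add, hy₁, h2, add_zero]; exact one_ne_zero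
      · rw [map_add, h1, hy₂, zero_add]; exact one_ne_zero
    · exact ⟨y₂, h2, by rw [hy₂]; exact one_ne_zero⟩
  · exact ⟨y₁, by rw [hy₁]; exact one_ne_zero, h1⟩

/-- inside the perpendicular of `a`, a vector outside `F₀ a` is not in the radical -/
theorem exists_perp_ne {a b : Fin n → F₀} (ha : a ≠ 0) (hb : ∀ c : F₀, b ≠ c • a) :
    ∃ y, bz F₀ e hP a y = 0 ∧ bz F₀ e hP b y = 1 := by
  obtain ⟨f, hf⟩ := exists_bz_eq_one F₀ e hP ha
  have h1 : ∃ y, bz F₀ e hP a y = 0 ∧ bz F₀ e hP b y ≠ 0 := by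
    by_contra hcon
    push Not at hcon
    apply hb (bz F₀ e hP b f)
    have h2 : b - (bz F₀ e hP b f) • a = 0 := by
      apply (bz_nondegenerate F₀ e hP).1
      intro y
      have h3 := hcon (y - (bz F₀ e hP a y) • f) (by
        rw [map_sub, map_smul, hf, smul_eq_mul, mul_one, sub_self])
      rw [map_sub, map_smul, smul_eq_mul, sub_eq_zero] at h3
      rw [map_sub, LinearMap.sub_apply, map_smul, LinearMap.smul_apply, smul_eq_mul, h3]
      ring
    exact sub_eq_zero.mp h2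
  obtain ⟨y, hy1, hy2⟩ := h1
  refine ⟨(bz F₀ e hP b y)⁻¹ • y, ?_, ?_⟩
  · rw [map_smul, hy1, smul_zero]
  · rw [map_smul, smul_eq_mul, inv_mul_cancel₀ hy2]

/-- inside the perpendicular of `a`, two vectors outside `F₀ a` have a common non-orthogonal
vector -/
theorem exists_perp_ne_both {a b b' : Fin n → F₀} (ha : a ≠ 0) (hb : ∀ c : F₀, b ≠ c • a)
    (hb' : ∀ c : F₀, b' ≠ c • a) :
    ∃ y, bz F₀ e hP a y = 0 ∧ bz F₀ e hP b y ≠ 0 ∧ bz F₀ e hP b' y ≠ 0 := by
  obtain ⟨y₁, hay₁, hy₁⟩ := exists_perp_ne F₀ e hP ha hb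
  obtain ⟨y₂, hay₂, hy₂⟩ := exists_perp_ne F₀ e hP ha hb'
  by_cases h1 : bz F₀ e hP b' y₁ = 0
  · by_cases h2 : bz F₀ e hP b y₂ = 0
    · refine ⟨y₁ + y₂, ?_, ?_, ?_⟩
      · rw [map_add, hay₁, hay₂, add_zero]
      · rw [map_add, hy₁, h2, add_zero]; exact one_ne_zero
      · rw [map_add, h1, hy₂, zero_add]; exact one_ne_zero
    · exact ⟨y₂, hay₂, h2, by rw [hy₂]; exact one_ne_zero⟩
  · exact ⟨y₁, hay₁, by rw [hy₁]; exact one_ne_zero, h1⟩

include hP in
/-- a vector whose pairings against the rational structure are rational is rational -/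
theorem exists_emb_of_form_mem [Finite F] {u : Fin m ⊕ Fin m → F}
    (h : ∀ x : Fin n → F₀, ⟪u, E x⟫ ∈ F₀) : ∃ z : Fin n → F₀, u = E z := by
  obtain ⟨φ, hφ⟩ : ∃ φ : Module.Dual F₀ (Fin n → F₀), ∀ x, ((φ x : F₀) : F) = ⟪u, E x⟫ := by
    refine ⟨{ toFun := fun x => ⟨⟪u, E x⟫, h x⟩, map_add' := ?_, map_smul' := ?_ },
      fun x => rfl⟩
    · intro x x'
      apply Subtype.ext
      show ⟪u, E (x + x')⟫ = ⟪u, E x⟫ + ⟪u, E x'⟫
      rw [emb_add, sympForm_add_right]
    · intro c x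
      apply Subtype.ext
      show ⟪u, E (c • x)⟫ = (c : F) * ⟪u, E x⟫
      rw [emb_smul, sympForm_smul_right]
  obtain ⟨w, hw⟩ : ∃ w, ∀ x, bz F₀ e hP w x = φ x := by
    refine ⟨((bz F₀ e hP).toDual (bz_nondegenerate F₀ e hP)).symm φ, fun x => ?_⟩
    exact LinearMap.BilinForm.apply_toDual_symm_apply (hB := bz_nondegenerate F₀ e hP) φ x
  refine ⟨w, ?_⟩
  have h1 : u - E w = 0 := by
    apply eq_zero_of_perp_emb F₀ e
    intro x
    rw [sympForm_sub_left, ← hφ x, ← hw x, coe_bz, sub_self]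
  exact sub_eq_zero.mp h1

end Fixed

end Cfsg.Agent.Helper94.SpS
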