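import Mathlib
import Cfsg.Agent.Helper94.SpS1

set_option autoImplicit false
set_option linter.unusedSectionVars false
set_option linter.unusedVariables false
set_option linter.unusedSimpArgs false
set_option linter.style.haveILetI false

/-!
# Symplectic subfield subgroups: rational hyperbolic vectors, Siegel elements
-/

namespace Cfsg.Agent.Helper94.SpS

open Matrix Cfsg Cfsg.Geo Cfsg.Agent.Helper13 Cfsg.Agent.Helper94.SubW

variable {F : Type*} [Field F] {m n : ℕ}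

local notation "⟪" x ", " y "⟫" => Cfsg.sympForm m F x y
local notation "Mat" => Matrix (Fin m ⊕ Fin m) (Fin m ⊕ Fin m) F

section Fixed

variable (F₀ : Subfield F) {P : GL (Fin m ⊕ Fin m) F} (e : (Fin m ⊕ Fin m) ≃ Fin n)
  (hP : Cfsg.Geo.IsFormRationalStructure (Cfsg.sympForm m F) F₀ 1 P)

local notation "E" => emb F₀ P e

/-- a rational symplectic (Darboux) family -/
theorem exists_symp_vectors :
    ∃ ev fv : Fin m → (Fin n → F₀),
      (∀ i j, bz F₀ e hP (ev i) (ev j) = 0) ∧ (∀ i j, bz F₀ e hP (fv i) (fv j) = 0) ∧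
      (∀ i j, bz F₀ e hP (ev i) (fv j) = if i = j then 1 else 0) := by
  have hn : n = 2 * m := by
    have h := Fintype.card_congr e
    simp only [Fintype.card_sum, Fintype.card_fin] at h
    omega
  have hfr : Module.finrank F₀ (Fin n → F₀) = 2 * m := by
    rw [Module.finrank_fin_fun, hn]
  obtain ⟨b, hb⟩ := Cfsg.Agent.S0776.exists_symp_basis (bz F₀ e hP) (bz_isAlt F₀ e hP)
    (bz_nondegenerate F₀ e hP) m hfr
  refine ⟨fun i => b (Sum.inr i), fun i => b (Sum.inl i), ?_, ?_, ?_⟩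
  · intro i j
    rw [hb]
    simp [Matrix.J]
  · intro i j
    rw [hb]
    simp [Matrix.J]
  · intro i j
    rw [hb]
    simp [Matrix.J, Matrix.one_apply]

end Fixed

/-! ### Elements of `GL` through their action on vectors -/

theorem gl_ext {g h : GL (Fin m ⊕ Fin m) F}
    (H : ∀ x : Fin m ⊕ Fin m → F, (g : Mat) *ᵥ x = (h : Mat) *ᵥ x) : g = h :=
  Units.ext (matrix_eq_of_mulVec H)

theorem gl_mul_mulVec (g h : GL (Fin m ⊕ Fin m) F) (x : Fin m ⊕ Fin m → F) :
    ((g * h : GL (Fin m ⊕ Fin m) F) : Mat) *ᵥ x = (g : Mat) *ᵥ ((h : Mat) *ᵥ x) := by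
  rw [Units.val_mul, Matrix.mulVec_mulVec]

theorem tv_mulVec (u : Fin m ⊕ Fin m → F) (c : F) (x : Fin m ⊕ Fin m → F) :
    ((tvGL u c : GL (Fin m ⊕ Fin m) F) : Mat) *ᵥ x = x + (c * ⟪x, u⟫) • u := by
  rw [tvGL_coe, sympTransvection_mulVec]

theorem tv_mul (u : Fin m ⊕ Fin m → F) (c d : F) : tvGL u c * tvGL u d = tvGL u (c + d) := by
  apply Units.ext
  rw [Units.val_mul, tvGL_coe, tvGL_coe, tvGL_coe, sympTransvection_mul]

theorem tv_zero (u : Fin m ⊕ Fin m → F) : tvGL u (0 : F) = 1 := by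
  apply Units.ext
  rw [tvGL_coe, sympTransvection_zero]
  rfl

theorem tv_zero_vec (c : F) : tvGL (0 : Fin m ⊕ Fin m → F) c = 1 := by
  apply gl_ext
  intro x
  rw [tv_mulVec, smul_zero, add_zero, Units.val_one, Matrix.one_mulVec]

/-- the Siegel element `x ↦ x + s f(x,a) b + s f(x,b) a` for orthogonal `a`, `b` -/
def sg (a b : Fin m ⊕ Fin m → F) (s : F) : GL (Fin m ⊕ Fin m) F :=
  tvGL (a + b) s * tvGL a (-s) * tvGL b (-s)

theorem sg_mulVec {a b : Fin m ⊕ Fin m → F} (hab : ⟪a, b⟫ = 0) (s : F)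
    (x : Fin m ⊕ Fin m → F) :
    ((sg a b s : GL (Fin m ⊕ Fin m) F) : Mat) *ᵥ x = x + (s * ⟪x, a⟫) • b + (s * ⟪x, b⟫) • a := by
  have hba : ⟪b, a⟫ = 0 := by rw [sympForm_swap, hab, neg_zero]
  rw [sg, gl_mul_mulVec, gl_mul_mulVec, tv_mulVec, tv_mulVec, tv_mulVec]
  simp only [sympForm_add_left, sympForm_add_right, sympForm_smul_left, sympForm_self, hab, hba,
    mul_zero, add_zero, zero_add]
  module

theorem sg_mem_spGL (a b : Fin m ⊕ Fin m → F) (s : F) : sg a b s ∈ Cfsg.spGL m F :=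
  (Cfsg.spGL m F).mul_mem ((Cfsg.spGL m F).mul_mem (tvGL_mem_spGL _ _) (tvGL_mem_spGL _ _))
    (tvGL_mem_spGL _ _)

/-- conjugating a Siegel element by an isometry -/
theorem conj_sg {g : GL (Fin m ⊕ Fin m) F} (hg : g ∈ Cfsg.spGL m F)
    (a b : Fin m ⊕ Fin m → F) (s : F) :
    g * sg a b s * g⁻¹ = sg ((g : Mat) *ᵥ a) ((g : Mat) *ᵥ b) s := by
  unfold sg
  rw [← Matrix.mulVec_add, ← conj_tvGL hg, ← conj_tvGL hg, ← conj_tvGL hg]
  group

theorem sg_add {a b : Fin m ⊕ Fin m → F} (hab : ⟪a, b⟫ = 0) (s s' : F) :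
    sg a b s * sg a b s' = sg a b (s + s') := by
  have hba : ⟪b, a⟫ = 0 := by rw [sympForm_swap, hab, neg_zero]
  apply gl_ext
  intro x
  rw [gl_mul_mulVec, sg_mulVec hab, sg_mulVec hab, sg_mulVec hab]
  simp only [sympForm_add_left, sympForm_smul_left, sympForm_self, hab, hba, mul_zero, add_zero]
  module

theorem sg_zero {a b : Fin m ⊕ Fin m → F} (hab : ⟪a, b⟫ = 0) : sg a b (0 : F) = 1 := by
  apply gl_ext
  intro x
  rw [sg_mulVec hab, Units.val_one, Matrix.one_mulVec]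
  simp

theorem sg_inv {a b : Fin m ⊕ Fin m → F} (hab : ⟪a, b⟫ = 0) (s : F) :
    (sg a b s)⁻¹ = sg a b (-s) := by
  apply inv_eq_of_mul_eq_one_right
  rw [sg_add hab, add_neg_cancel, sg_zero hab]

theorem sg_smul_left {a b : Fin m ⊕ Fin m → F} (hab : ⟪a, b⟫ = 0) (c s : F) :
    sg (c • a) b s = sg a b (c * s) := by
  have hab' : ⟪c • a, b⟫ = 0 := by rw [sympForm_smul_left, hab, mul_zero]
  apply gl_ext
  intro x
  rw [sg_mulVec hab', sg_mulVec hab, sympForm_smul_right]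
  module

theorem sg_smul_right {a b : Fin m ⊕ Fin m → F} (hab : ⟪a, b⟫ = 0) (c s : F) :
    sg a (c • b) s = sg a b (c * s) := by
  have hab' : ⟪a, c • b⟫ = 0 := by rw [sympForm_smul_right, hab, mul_zero]
  apply gl_ext
  intro x
  rw [sg_mulVec hab', sg_mulVec hab, sympForm_smul_right]
  module

theorem sg_symm {a b : Fin m ⊕ Fin m → F} (hab : ⟪a, b⟫ = 0) (s : F) :
    sg a b s = sg b a s := by
  have hba : ⟪b, a⟫ = 0 := by rw [sympForm_swap, hab, neg_zero]
  apply gl_ext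
  intro x
  rw [sg_mulVec hab, sg_mulVec hba]
  module

/-- additivity in the first vector, for mutually orthogonal vectors -/
theorem sg_add_left {a a' b : Fin m ⊕ Fin m → F} (hab : ⟪a, b⟫ = 0) (ha'b : ⟪a', b⟫ = 0)
    (haa' : ⟪a, a'⟫ = 0) (s : F) : sg (a + a') b s = sg a b s * sg a' b s := by
  have hba : ⟪b, a⟫ = 0 := by rw [sympForm_swap, hab, neg_zero]
  have hba' : ⟪b, a'⟫ = 0 := by rw [sympForm_swap, ha'b, neg_zero]
  have ha'a : ⟪a', a⟫ = 0 := by rw [sympForm_swap, haa', neg_zero]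
  have h1 : ⟪a + a', b⟫ = 0 := by rw [sympForm_add_left, hab, ha'b, add_zero]
  apply gl_ext
  intro x
  rw [gl_mul_mulVec, sg_mulVec h1, sg_mulVec hab, sg_mulVec ha'b]
  simp only [sympForm_add_left, sympForm_add_right, sympForm_smul_left, sympForm_self, hab, hba,
    ha'b, hba', haa', ha'a, mul_zero, add_zero, zero_add]
  module

/-- the key separation identity: for mutually orthogonal `a`, `z`, `z₂` -/
theorem sep_identity {a z z₂ : Fin m ⊕ Fin m → F} (haz : ⟪a, z⟫ = 0) (haz₂ : ⟪a, z₂⟫ = 0)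
    (hzz₂ : ⟪z, z₂⟫ = 0) (δ : F) :
    tvGL z 1 * tvGL (z + δ • a) (-1) * (tvGL (z + z₂ + δ • a) 1 * tvGL (z + z₂) (-1))
      = sg a z₂ δ := by
  have hza : ⟪z, a⟫ = 0 := by rw [sympForm_swap, haz, neg_zero]
  have hz₂a : ⟪z₂, a⟫ = 0 := by rw [sympForm_swap, haz₂, neg_zero]
  have hz₂z : ⟪z₂, z⟫ = 0 := by rw [sympForm_swap, hzz₂, neg_zero]
  apply gl_ext
  intro x
  rw [gl_mul_mulVec, gl_mul_mulVec, gl_mul_mulVec, sg_mulVec haz₂, tv_mulVec, tv_mulVec,
    tv_mulVec, tv_mulVec]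
  simp only [sympForm_add_left, sympForm_add_right, sympForm_smul_left, sympForm_smul_right,
    sympForm_self, haz, hza, haz₂, hz₂a, hzz₂, hz₂z, mul_zero, add_zero, zero_add, mul_one,
    one_mul]
  module

end Cfsg.Agent.Helper94.SpS
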