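import Mathlib
import Cfsg.Agent.Helper94.SpS2

set_option autoImplicit false
set_option linter.unusedSectionVars false
set_option linter.unusedVariables false
set_option linter.unusedSimpArgs false
set_option linter.style.haveILetI false

/-!
# Symplectic subfield subgroups: rational isometries and their transitivity
-/

namespace Cfsg.Agent.Helper94.SpS

open Matrix Cfsg Cfsg.Geo Cfsg.Agent.Helper13 Cfsg.Agent.Helper94.SubW

variable {F : Type*} [Field F] {m n : ℕ}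

local notation "⟪" x ", " y "⟫" => Cfsg.sympForm m F x y
local notation "Mat" => Matrix (Fin m ⊕ Fin m) (Fin m ⊕ Fin m) F

section Fixed

variable (F₀ : Subfield F) {P : GL (Fin m ⊕ Fin m) F} (e : (Fin m ⊕ Fin m) ≃ Fin n)
  (hP : Cfsg.Geo.IsFormRationalStructure (Cfsg.sympForm m F) F₀ 1 P)

local notation "E" => emb F₀ P e

/-- the rational isometries: isometries mapping the rational structure into itself, together
with their inverses -/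
def ratIso (F₀ : Subfield F) (P : GL (Fin m ⊕ Fin m) F) (e : (Fin m ⊕ Fin m) ≃ Fin n) :
    Subgroup (GL (Fin m ⊕ Fin m) F) where
  carrier := Set.ofPred (fun h => h ∈ Cfsg.spGL m F ∧
    (∀ x : Fin n → F₀, ∃ y : Fin n → F₀, (h : Mat) *ᵥ emb F₀ P e x = emb F₀ P e y) ∧
    (∀ x : Fin n → F₀, ∃ y : Fin n → F₀,
      ((h⁻¹ : GL (Fin m ⊕ Fin m) F) : Mat) *ᵥ emb F₀ P e x = emb F₀ P e y))
  mul_mem' := by
    rintro g h ⟨hg1, hg2, hg3⟩ ⟨hh1, hh2, hh3⟩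
    refine ⟨(Cfsg.spGL m F).mul_mem hg1 hh1, ?_, ?_⟩
    · intro x
      obtain ⟨y, hy⟩ := hh2 x
      obtain ⟨z, hz⟩ := hg2 y
      exact ⟨z, by rw [gl_mul_mulVec, hy, hz]⟩
    · intro x
      obtain ⟨y, hy⟩ := hg3 x
      obtain ⟨z, hz⟩ := hh3 y
      exact ⟨z, by rw [_root_.mul_inv_rev, gl_mul_mulVec, hy, hz]⟩
  one_mem' := by
    refine ⟨(Cfsg.spGL m F).one_mem, ?_, ?_⟩
    · intro x
      exact ⟨x, by rw [Units.val_one, Matrix.one_mulVec]⟩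
    · intro x
      exact ⟨x, by rw [inv_one, Units.val_one, Matrix.one_mulVec]⟩
  inv_mem' := by
    rintro g ⟨hg1, hg2, hg3⟩
    refine ⟨(Cfsg.spGL m F).inv_mem hg1, hg3, ?_⟩
    rw [inv_inv]
    exact hg2

theorem mem_ratIso {h : GL (Fin m ⊕ Fin m) F} :
    h ∈ ratIso F₀ P e ↔ h ∈ Cfsg.spGL m F ∧
    (∀ x : Fin n → F₀, ∃ y : Fin n → F₀, (h : Mat) *ᵥ E x = E y) ∧
    (∀ x : Fin n → F₀, ∃ y : Fin n → F₀,
      ((h⁻¹ : GL (Fin m ⊕ Fin m) F) : Mat) *ᵥ E x = E y) := Iff.rfl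

theorem ratIso_le : ratIso F₀ P e ≤ Cfsg.Geo.subfieldSubgroup F₀ P ⊓ Cfsg.spGL m F := by
  rintro h ⟨h1, h2, -⟩
  refine ⟨?_, h1⟩
  apply mem_subfieldSubgroup_of_emb (e := e) h 1 one_ne_zero
  intro x
  obtain ⟨y, hy⟩ := h2 x
  exact ⟨y, by rw [hy, one_smul]⟩

/-- action of a rational transvection on a rational vector -/
theorem rat_tv_mulVec (a : Fin n → F₀) (c : F₀) (x : Fin n → F₀) :
    ((tvGL (E a) (c : F) : GL (Fin m ⊕ Fin m) F) : Mat) *ᵥ E x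
      = E (x + (c * bz F₀ e hP x a) • a) := by
  rw [tv_mulVec, emb_add, emb_smul, Subfield.coe_mul, coe_bz]

include hP in
theorem rat_tv_mem (a : Fin n → F₀) (c : F₀) : tvGL (E a) (c : F) ∈ ratIso F₀ P e := by
  refine ⟨tvGL_mem_spGL _ _, ?_, ?_⟩
  · intro x
    exact ⟨x + (c * bz F₀ e hP x a) • a, rat_tv_mulVec F₀ e hP a c x⟩
  · intro x
    refine ⟨x + (-c * bz F₀ e hP x a) • a, ?_⟩
    rw [tvGL_inv]
    have := rat_tv_mulVec F₀ e hP a (-c) x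
    rw [Subfield.coe_neg] at this
    exact this

include hP in
theorem rat_tv_mem' (a : Fin n → F₀) {c : F} (hc : c ∈ F₀) : tvGL (E a) c ∈ ratIso F₀ P e :=
  rat_tv_mem F₀ e hP a ⟨c, hc⟩

include hP in
theorem rat_sg_mem (a b : Fin n → F₀) {c : F} (hc : c ∈ F₀) :
    sg (E a) (E b) c ∈ ratIso F₀ P e := by
  unfold sg
  rw [← emb_add]
  exact (ratIso F₀ P e).mul_mem ((ratIso F₀ P e).mul_mem (rat_tv_mem' F₀ e hP _ hc)
    (rat_tv_mem' F₀ e hP _ (F₀.neg_mem hc))) (rat_tv_mem' F₀ e hP _ (F₀.neg_mem hc))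

/-- a rational transvection fixing `E a` and mapping `E b` to `E b'` -/
theorem exists_rat_map_fix {a b b' : Fin n → F₀} (hab : bz F₀ e hP a b = 0)
    (hab' : bz F₀ e hP a b' = 0) (h : bz F₀ e hP b b' ≠ 0) :
    ∃ g ∈ ratIso F₀ P e, (g : Mat) *ᵥ E a = E a ∧ (g : Mat) *ᵥ E b = E b' := by
  refine ⟨tvGL (E (b - b')) (((bz F₀ e hP b b')⁻¹ : F₀) : F), rat_tv_mem F₀ e hP _ _, ?_, ?_⟩
  · rw [rat_tv_mulVec F₀ e hP]
    congr 1
    rw [map_sub, hab, hab', sub_zero, mul_zero, zero_smul, add_zero]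
  · rw [rat_tv_mulVec F₀ e hP]
    congr 1
    rw [map_sub, bz_self, zero_sub, mul_neg, inv_mul_cancel₀ h, neg_smul, one_smul]
    abel

include hP in
/-- transitivity of the rational isometries on the non-zero rational vectors -/
theorem exists_rat_map {a a' : Fin n → F₀} (ha : a ≠ 0) (ha' : a' ≠ 0) :
    ∃ g ∈ ratIso F₀ P e, (g : Mat) *ᵥ E a = E a' := by
  have key : ∀ b b' : Fin n → F₀, bz F₀ e hP b b' ≠ 0 →
      ∃ g ∈ ratIso F₀ P e, (g : Mat) *ᵥ E b = E b' := by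
    intro b b' h
    obtain ⟨g, hg, -, hgb⟩ := exists_rat_map_fix F₀ e hP (a := 0) (by simp) (by simp) h
    exact ⟨g, hg, hgb⟩
  by_cases h : bz F₀ e hP a a' = 0
  · obtain ⟨y, hy1, hy2⟩ := exists_bz_ne_both F₀ e hP ha ha'
    obtain ⟨g₁, hg₁, h1⟩ := key a y hy1
    obtain ⟨g₂, hg₂, h2⟩ := key y a' (by
      intro h0
      exact hy2 (bz_comm_zero F₀ e hP h0))
    exact ⟨g₂ * g₁, (ratIso F₀ P e).mul_mem hg₂ hg₁, by rw [gl_mul_mulVec, h1, h2]⟩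
  · exact key a a' h

/-- transitivity of the rational isometries on the pairs of independent orthogonal rational
vectors -/
theorem exists_rat_map_pair {a b a' b' : Fin n → F₀} (ha : a ≠ 0)
    (hab : bz F₀ e hP a b = 0) (hb : ∀ c : F₀, b ≠ c • a) (ha' : a' ≠ 0)
    (hab' : bz F₀ e hP a' b' = 0) (hb' : ∀ c : F₀, b' ≠ c • a') :
    ∃ g ∈ ratIso F₀ P e, (g : Mat) *ᵥ E a = E a' ∧ (g : Mat) *ᵥ E b = E b' := by
  obtain ⟨g₁, hg₁, h1⟩ := exists_rat_map F₀ e hP ha ha'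
  obtain ⟨b₁, hb₁⟩ := hg₁.2.1 b
  have hab₁ : bz F₀ e hP a' b₁ = 0 := by
    rw [bz_eq_zero_iff, ← h1, ← hb₁, (mem_spGL_iff g₁).mp hg₁.1, ← bz_eq_zero_iff F₀ e hP]
    exact hab
  have hb₁' : ∀ c : F₀, b₁ ≠ c • a' := by
    intro c hc
    apply hb c
    apply emb_injective (P := P) (e := e)
    have h2 : (g₁ : Mat) *ᵥ E b = (g₁ : Mat) *ᵥ E (c • a) := by
      rw [hb₁, hc, emb_smul, emb_smul, Matrix.mulVec_smul, h1]
    have h3 := congrArg (fun v => ((g₁⁻¹ : GL (Fin m ⊕ Fin m) F) : Mat) *ᵥ v) h2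
    simp only [gl_inv_mulVec] at h3
    exact h3
  by_cases h : bz F₀ e hP b₁ b' = 0
  · obtain ⟨y, hy0, hy1, hy2⟩ := exists_perp_ne_both F₀ e hP ha' hb₁' hb'
    obtain ⟨g₂, hg₂, h2a, h2b⟩ := exists_rat_map_fix F₀ e hP hab₁ hy0 hy1
    obtain ⟨g₃, hg₃, h3a, h3b⟩ := exists_rat_map_fix F₀ e hP hy0 hab' (by
      intro h0
      exact hy2 (bz_comm_zero F₀ e hP h0))
    refine ⟨g₃ * g₂ * g₁, (ratIso F₀ P e).mul_mem ((ratIso F₀ P e).mul_mem hg₃ hg₂) hg₁, ?_, ?_⟩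
    · rw [gl_mul_mulVec, gl_mul_mulVec, h1, h2a, h3a]
    · rw [gl_mul_mulVec, gl_mul_mulVec, hb₁, h2b, h3b]
  · obtain ⟨g₂, hg₂, h2a, h2b⟩ := exists_rat_map_fix F₀ e hP hab₁ hab' h
    refine ⟨g₂ * g₁, (ratIso F₀ P e).mul_mem hg₂ hg₁, ?_, ?_⟩
    · rw [gl_mul_mulVec, h1, h2a]
    · rw [gl_mul_mulVec, hb₁, h2b]

end Fixed

end Cfsg.Agent.Helper94.SpS
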