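import Mathlib
import Cfsg.Agent.Helper94.SpS3
import Cfsg.Agent.Helper45.SubSLB

set_option autoImplicit false
set_option linter.unusedSectionVars false
set_option linter.unusedVariables false
set_option linter.unusedSimpArgs false
set_option linter.style.haveILetI false

/-!
# Symplectic subfield subgroups: one irrational root element at a rational position gives
the whole symplectic group
-/

namespace Cfsg.Agent.Helper94.SpS

open Matrix Cfsg Cfsg.Geo Cfsg.Agent.Helper13 Cfsg.Agent.Helper94.SubW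

variable {F : Type*} [Field F] {m n : ℕ}

local notation "⟪" x ", " y "⟫" => Cfsg.sympForm m F x y
local notation "Mat" => Matrix (Fin m ⊕ Fin m) (Fin m ⊕ Fin m) F

section Fixed

variable (F₀ : Subfield F) {P : GL (Fin m ⊕ Fin m) F} (e : (Fin m ⊕ Fin m) ≃ Fin n)
  (hP : Cfsg.Geo.IsFormRationalStructure (Cfsg.sympForm m F) F₀ 1 P)

local notation "E" => emb F₀ P e

theorem ne_zero_of_bz {a f : Fin n → F₀} (h : bz F₀ e hP a f ≠ 0) : a ≠ 0 := by
  rintro rfl
  apply h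
  simp

theorem ne_smul_of_bz {a b f : Fin n → F₀} (haf : bz F₀ e hP a f = 0)
    (hbf : bz F₀ e hP b f ≠ 0) : ∀ c : F₀, b ≠ c • a := by
  intro c hc
  apply hbf
  rw [hc, map_smul, LinearMap.smul_apply, haf, smul_zero]

/-- three mutually orthogonal rational hyperbolic pairs -/
structure Hyp3 (e₁ e₂ e₃ f₁ f₂ f₃ : Fin n → F₀) : Prop where
  e12 : bz F₀ e hP e₁ e₂ = 0
  e13 : bz F₀ e hP e₁ e₃ = 0
  e23 : bz F₀ e hP e₂ e₃ = 0
  f12 : bz F₀ e hP f₁ f₂ = 0
  f13 : bz F₀ e hP f₁ f₃ = 0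
  f23 : bz F₀ e hP f₂ f₃ = 0
  ef11 : bz F₀ e hP e₁ f₁ = 1
  ef22 : bz F₀ e hP e₂ f₂ = 1
  ef33 : bz F₀ e hP e₃ f₃ = 1
  ef12 : bz F₀ e hP e₁ f₂ = 0
  ef13 : bz F₀ e hP e₁ f₃ = 0
  ef21 : bz F₀ e hP e₂ f₁ = 0
  ef23 : bz F₀ e hP e₂ f₃ = 0
  ef31 : bz F₀ e hP e₃ f₁ = 0
  ef32 : bz F₀ e hP e₃ f₂ = 0

theorem exists_hyp3 (hm : 3 ≤ m) : ∃ e₁ e₂ e₃ f₁ f₂ f₃ : Fin n → F₀,
    Hyp3 F₀ e hP e₁ e₂ e₃ f₁ f₂ f₃ := by
  obtain ⟨ev, fv, hee, hff, hef⟩ := exists_symp_vectors F₀ e hP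
  have h01 : (⟨0, by omega⟩ : Fin m) ≠ ⟨1, by omega⟩ := by simp [Fin.ext_iff]
  have h02 : (⟨0, by omega⟩ : Fin m) ≠ ⟨2, by omega⟩ := by simp [Fin.ext_iff]
  have h12 : (⟨1, by omega⟩ : Fin m) ≠ ⟨2, by omega⟩ := by simp [Fin.ext_iff]
  refine ⟨ev ⟨0, by omega⟩, ev ⟨1, by omega⟩, ev ⟨2, by omega⟩, fv ⟨0, by omega⟩,
    fv ⟨1, by omega⟩, fv ⟨2, by omega⟩, ?_⟩
  constructor
  · exact hee _ _
  · exact hee _ _
  · exact hee _ _
  · exact hff _ _
  · exact hff _ _
  · exact hff _ _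
  · rw [hef, if_pos rfl]
  · rw [hef, if_pos rfl]
  · rw [hef, if_pos rfl]
  · rw [hef, if_neg h01]
  · rw [hef, if_neg h02]
  · rw [hef, if_neg h01.symm]
  · rw [hef, if_neg h12]
  · rw [hef, if_neg h02.symm]
  · rw [hef, if_neg h12.symm]

variable (M : Subgroup (GL (Fin m ⊕ Fin m) F))
  (hHM : Cfsg.Geo.subfieldSubgroup F₀ P ⊓ Cfsg.spGL m F ≤ M) (hMG : M ≤ Cfsg.spGL m F)

include hHM in
theorem ratIso_le_M : ratIso F₀ P e ≤ M := (ratIso_le F₀ e).trans hHM

include hP hHM hMG in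
/-- a transvection parameter available at one rational centre is available at all -/
theorem tv_all_of_one {a : Fin n → F₀} (ha : a ≠ 0) {s : F} (h : tvGL (E a) s ∈ M)
    (a' : Fin n → F₀) : tvGL (E a') s ∈ M := by
  by_cases ha' : a' = 0
  · rw [ha', emb_zero, tv_zero_vec]
    exact M.one_mem
  · obtain ⟨g, hg, hga⟩ := exists_rat_map F₀ e hP ha ha'
    have hgM := ratIso_le_M F₀ e M hHM hg
    rw [← hga, ← conj_tvGL (hMG hgM)]
    exact M.mul_mem (M.mul_mem hgM h) (M.inv_mem hgM)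

include hP hHM hMG in
/-- a Siegel parameter available at one rational pair is available at all -/
theorem sg_all_of_one {a b : Fin n → F₀} (ha : a ≠ 0) (hab : bz F₀ e hP a b = 0)
    (hb : ∀ c : F₀, b ≠ c • a) {s : F} (h : sg (E a) (E b) s ∈ M) {a' b' : Fin n → F₀}
    (ha' : a' ≠ 0) (hab' : bz F₀ e hP a' b' = 0) (hb' : ∀ c : F₀, b' ≠ c • a') :
    sg (E a') (E b') s ∈ M := by
  obtain ⟨g, hg, hga, hgb⟩ := exists_rat_map_pair F₀ e hP ha hab hb ha' hab' hb'
  have hgM := ratIso_le_M F₀ e M hHM hg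
  rw [← hga, ← hgb, ← conj_sg (hMG hgM)]
  exact M.mul_mem (M.mul_mem hgM h) (M.inv_mem hgM)

include hP hMG in
/-- adding a multiple of a rational vector to a vector all of whose transvections lie in `M` -/
theorem tvVecs_add_rat (h : ∀ (a : Fin n → F₀) (s : F), tvGL (E a) s ∈ M)
    {u : Fin m ⊕ Fin m → F} (hu : u ∈ tvVecs M) (a : Fin n → F₀) (μ : F) :
    u + μ • E a ∈ tvVecs M := by
  have hEa : ∀ a : Fin n → F₀, E a ∈ tvVecs M := fun a s => h a s
  by_cases hμ : μ = 0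
  · rw [hμ, zero_smul, add_zero]; exact hu
  by_cases ha : a = 0
  · rw [ha, emb_zero, smul_zero, add_zero]; exact hu
  by_cases hua : ⟪u, E a⟫ = 0
  · by_cases hex : ∃ b : Fin n → F₀, bz F₀ e hP a b = 0 ∧ ⟪u, E b⟫ ≠ 0
    · obtain ⟨b, hab, hub⟩ := hex
      have hab' : ⟪E a, E b⟫ = 0 := (bz_eq_zero_iff F₀ e hP a b).1 hab
      have hT : sg (E a) (E b) (μ / ⟪u, E b⟫) ∈ M := by
        unfold sg
        rw [← emb_add]
        exact M.mul_mem (M.mul_mem (h _ _) (h _ _)) (h _ _)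
      have h1 := tvVecs_map hMG hT hu
      rw [sg_mulVec hab', hua, mul_zero, zero_smul, add_zero, div_mul_cancel₀ _ hub] at h1
      exact h1
    · push Not at hex
      obtain ⟨f, hf⟩ := exists_bz_eq_one F₀ e hP ha
      have h1 : u - ⟪u, E f⟫ • E a = 0 := by
        apply eq_zero_of_perp_emb F₀ e
        intro y
        have h2 := hex (y - (bz F₀ e hP a y) • f) (by
          rw [map_sub, map_smul, hf, smul_eq_mul, mul_one, sub_self])
        rw [emb_sub, emb_smul, sympForm_sub_right, sympForm_smul_right, sub_eq_zero] at h2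
        rw [sympForm_sub_left, sympForm_smul_left, h2, coe_bz]
        ring
      have h2 : u + μ • E a = (⟪u, E f⟫ + μ) • E a := by
        rw [add_smul, ← sub_eq_zero.mp h1]
      rw [h2]
      exact tvVecs_smul (hEa a) _
  · apply tvVecs_add hMG hu (tvVecs_smul (hEa a) μ)
    rw [sympForm_smul_right]
    exact mul_ne_zero hμ hua

include hP hMG in
/-- if all transvections with rational centres lie in `M`, then `M` contains `Sp` -/
theorem le_of_rat_tv (h : ∀ (a : Fin n → F₀) (s : F), tvGL (E a) s ∈ M) :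
    Cfsg.spGL m F ≤ M := by
  apply spGL_le_of_tv
  have key : ∀ v : Fin m ⊕ Fin m → F, ∀ u ∈ tvVecs M, u + v ∈ tvVecs M := by
    apply emb_span_induction (F₀ := F₀) (P := P) (e := e)
    · intro v w hv hw u hu
      rw [← add_assoc]
      exact hw _ (hv u hu)
    · intro c v hv u hu
      by_cases hc : c = 0
      · rw [hc, zero_smul, add_zero]; exact hu
      · have h1 : u + c • v = c • (c⁻¹ • u + v) := by
          rw [smul_add, smul_smul, mul_inv_cancel₀ hc, one_smul]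
        rw [h1]
        exact tvVecs_smul (hv _ (tvVecs_smul hu _)) _
    · intro x u hu
      have := tvVecs_add_rat F₀ e hP M hMG h hu x 1
      rwa [one_smul] at this
  intro v c
  have h0 : (0 : Fin m ⊕ Fin m → F) ∈ tvVecs M := by
    intro c
    rw [tv_zero_vec]
    exact M.one_mem
  have := key v 0 h0
  rw [zero_add] at this
  exact this c

include hP hHM hMG in
/-- if all Siegel elements at rational pairs lie in `M`, then `M` contains `Sp` -/
theorem le_of_sg_all [Finite F] (hm : 3 ≤ m)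
    (h : ∀ (a b : Fin n → F₀), a ≠ 0 → bz F₀ e hP a b = 0 → (∀ c : F₀, b ≠ c • a) →
      ∀ s : F, sg (E a) (E b) s ∈ M) : Cfsg.spGL m F ≤ M := by
  obtain ⟨e₁, e₂, e₃, f₁, f₂, f₃, H⟩ := exists_hyp3 F₀ e hP hm
  have he₁ : e₁ ≠ 0 := ne_zero_of_bz F₀ e hP (by rw [H.ef11]; exact one_ne_zero)
  have he₂ : e₂ ≠ 0 := ne_zero_of_bz F₀ e hP (by rw [H.ef22]; exact one_ne_zero)
  have hf₂ : f₂ ≠ 0 := by
    rintro rfl
    have := H.ef22
    simp at this
  have hf₂e₁ : bz F₀ e hP f₂ e₁ = 0 := bz_comm_zero F₀ e hP H.ef12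
  have hsq : ∀ s : F, tvGL (E e₁) (-(s ^ 2)) ∈ M := by
    intro s
    have hT : sg (E f₂) (E e₁) s ∈ M := h f₂ e₁ hf₂ hf₂e₁
      (ne_smul_of_bz F₀ e hP (f := f₁) (bz_comm_zero F₀ e hP H.f12)
        (by rw [H.ef11]; exact one_ne_zero)) s
    have hTe₂ : ((sg (E f₂) (E e₁) s : GL (Fin m ⊕ Fin m) F) : Mat) *ᵥ E e₂
        = E e₂ + s • E e₁ := by
      rw [sg_mulVec ((bz_eq_zero_iff F₀ e hP f₂ e₁).1 hf₂e₁), ← coe_bz F₀ e hP, ← coe_bz F₀ e hP,
        H.ef22, bz_comm_zero F₀ e hP H.e12]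
      simp
    have h1 : tvGL (E e₂ + s • E e₁) 1 ∈ M := by
      rw [← hTe₂, ← conj_tvGL (hMG hT)]
      exact M.mul_mem (M.mul_mem hT (hHM (ratIso_le F₀ e (rat_tv_mem' F₀ e hP _ F₀.one_mem))))
        (M.inv_mem hT)
    have he₂e₁ : ⟪E e₂, E e₁⟫ = 0 :=
      (bz_eq_zero_iff F₀ e hP e₂ e₁).1 (bz_comm_zero F₀ e hP H.e12)
    have h2 : sg (E e₂) (s • E e₁) 1 ∈ M := by
      rw [sg_smul_right he₂e₁]
      exact h e₂ e₁ he₂ (bz_comm_zero F₀ e hP H.e12)
        (ne_smul_of_bz F₀ e hP (f := f₁) H.ef21 (by rw [H.ef11]; exact one_ne_zero)) _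
    have h3 : tvGL (s • E e₁) (-1) ∈ M := by
      have h4 : tvGL (s • E e₁) (-1)
          = (tvGL (E e₂ + s • E e₁) 1 * tvGL (E e₂) (-1))⁻¹ * sg (E e₂) (s • E e₁) 1 := by
        unfold sg
        group
      rw [h4]
      exact M.mul_mem (M.inv_mem (M.mul_mem h1
        (hHM (ratIso_le F₀ e (rat_tv_mem' F₀ e hP _ (F₀.neg_mem F₀.one_mem)))))) h2
    rw [tvGL_smul] at h3
    have : (-1 : F) * s ^ 2 = -(s ^ 2) := by ring
    rw [this] at h3
    exact h3
  have hall : ∀ x : F, tvGL (E e₁) x ∈ M := by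
    intro x
    by_cases h2 : (2 : F) = 0
    · haveI : Fintype F := Fintype.ofFinite F
      have hch : ringChar F = 2 := CharP.ringChar_of_prime_eq_zero Nat.prime_two h2
      obtain ⟨s, hs⟩ := FiniteField.isSquare_of_char_two hch x
      have h3 := hsq s
      have h4 : -(s ^ 2) = x := by
        rw [hs]
        linear_combination (-(s * s)) * h2
      rwa [h4] at h3
    · have h3 := hsq ((x - 1) / 2)
      have h4 := M.inv_mem (hsq ((x + 1) / 2))
      rw [tvGL_inv] at h4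
      have h5 := M.mul_mem h3 h4
      rw [tv_mul] at h5
      have h6 : -(((x - 1) / 2) ^ 2) + - -(((x + 1) / 2) ^ 2) = x := by
        field_simp
        ring
      rwa [h6] at h5
  apply le_of_rat_tv F₀ e hP M hMG
  intro a s
  exact tv_all_of_one F₀ e hP M hHM hMG he₁ (hall s) a

end Fixed

end Cfsg.Agent.Helper94.SpS
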