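import Mathlib
import Cfsg.Agent.Helper94.SpS4

set_option autoImplicit false
set_option linter.unusedSectionVars false
set_option linter.unusedVariables false
set_option linter.unusedSimpArgs false
set_option linter.style.haveILetI false

/-!
# Symplectic subfield subgroups: the ring of Siegel parameters
-/

namespace Cfsg.Agent.Helper94.SpS

open Matrix Cfsg Cfsg.Geo Cfsg.Agent.Helper13 Cfsg.Agent.Helper94.SubW
open Cfsg.Agent.Helper45.SubSL (NoInter forall_mem_of_closed)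

variable {F : Type*} [Field F] {m n : ℕ}

local notation "⟪" x ", " y "⟫" => Cfsg.sympForm m F x y
local notation "Mat" => Matrix (Fin m ⊕ Fin m) (Fin m ⊕ Fin m) F

section Fixed

variable (F₀ : Subfield F) {P : GL (Fin m ⊕ Fin m) F} (e : (Fin m ⊕ Fin m) ≃ Fin n)
  (hP : Cfsg.Geo.IsFormRationalStructure (Cfsg.sympForm m F) F₀ 1 P)

local notation "E" => emb F₀ P e

variable (M : Subgroup (GL (Fin m ⊕ Fin m) F))
  (hHM : Cfsg.Geo.subfieldSubgroup F₀ P ⊓ Cfsg.spGL m F ≤ M) (hMG : M ≤ Cfsg.spGL m F)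

include hP hHM hMG in
/-- an irrational Siegel element at a rational pair gives the whole symplectic group -/
theorem le_of_sg_irrational [Fintype F] (hm : 3 ≤ m) (hN : NoInter F₀) {a b : Fin n → F₀}
    (ha : a ≠ 0) (hab : bz F₀ e hP a b = 0) (hb : ∀ c : F₀, b ≠ c • a) {δ : F} (hδ : δ ∉ F₀)
    (h : sg (E a) (E b) δ ∈ M) : Cfsg.spGL m F ≤ M := by
  obtain ⟨S, hS⟩ : ∃ S : Set F, ∀ s, s ∈ S ↔ ∀ (a b : Fin n → F₀), a ≠ 0 →
      bz F₀ e hP a b = 0 → (∀ c : F₀, b ≠ c • a) → sg (E a) (E b) s ∈ M :=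
    ⟨Set.ofPred (fun s => ∀ (a b : Fin n → F₀), a ≠ 0 →
      bz F₀ e hP a b = 0 → (∀ c : F₀, b ≠ c • a) → sg (E a) (E b) s ∈ M), fun s => Iff.rfl⟩
  have h0 : ∀ x ∈ F₀, x ∈ S := by
    intro x hx
    rw [hS]
    intro a b _ _ _
    exact ratIso_le_M F₀ e M hHM (rat_sg_mem F₀ e hP a b hx)
  have hadd : ∀ x y, x ∈ S → y ∈ S → x + y ∈ S := by
    intro x y hx hy
    rw [hS] at hx hy ⊢
    intro a b ha hab hb
    rw [← sg_add ((bz_eq_zero_iff F₀ e hP a b).1 hab)]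
    exact M.mul_mem (hx a b ha hab hb) (hy a b ha hab hb)
  have hδS : δ ∈ S := by
    rw [hS]
    intro a' b' ha' hab' hb'
    exact sg_all_of_one F₀ e hP M hHM hMG ha hab hb h ha' hab' hb'
  obtain ⟨e₁, e₂, e₃, f₁, f₂, f₃, H⟩ := exists_hyp3 F₀ e hP hm
  have he₁ : e₁ ≠ 0 := ne_zero_of_bz F₀ e hP (by rw [H.ef11]; exact one_ne_zero)
  have he₂ : e₂ ≠ 0 := ne_zero_of_bz F₀ e hP (by rw [H.ef22]; exact one_ne_zero)
  have hf₂e₂ : bz F₀ e hP f₂ e₂ ≠ 0 := by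
    rw [bz_swap, H.ef22]
    exact neg_ne_zero.mpr one_ne_zero
  have hf₃e₃ : bz F₀ e hP f₃ e₃ ≠ 0 := by
    rw [bz_swap, H.ef33]
    exact neg_ne_zero.mpr one_ne_zero
  have hmul : ∀ x y, x ∈ S → y ∈ S → x * y ∈ S := by
    intro s s' hs hs'
    rw [hS] at hs hs' ⊢
    have hX := hs e₁ f₂ he₁ H.ef12 (ne_smul_of_bz F₀ e hP (f := e₂) H.e12 hf₂e₂)
    have hY := hs' e₂ f₃ he₂ H.ef23 (ne_smul_of_bz F₀ e hP (f := e₃) H.e23 hf₃e₃)
    have c1 : ⟪E e₁, E f₂⟫ = 0 := (bz_eq_zero_iff F₀ e hP _ _).1 H.ef12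
    have c2 : ⟪E e₂, E e₁⟫ = 0 := (bz_eq_zero_iff F₀ e hP _ _).1 (bz_comm_zero F₀ e hP H.e12)
    have c3 : ⟪E e₂, E f₂⟫ = 1 := by rw [← coe_bz F₀ e hP, H.ef22]; rfl
    have c4 : ⟪E f₃, E e₁⟫ = 0 := (bz_eq_zero_iff F₀ e hP _ _).1 (bz_comm_zero F₀ e hP H.ef13)
    have c5 : ⟪E f₃, E f₂⟫ = 0 := (bz_eq_zero_iff F₀ e hP _ _).1 (bz_comm_zero F₀ e hP H.f23)
    have c6 : ⟪E e₂, E f₃⟫ = 0 := (bz_eq_zero_iff F₀ e hP _ _).1 H.ef23
    have c7 : ⟪E e₁, E f₃⟫ = 0 := (bz_eq_zero_iff F₀ e hP _ _).1 H.ef13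
    have hXe₂ : ((sg (E e₁) (E f₂) s : GL (Fin m ⊕ Fin m) F) : Mat) *ᵥ E e₂
        = E e₂ + s • E e₁ := by
      rw [sg_mulVec c1, c2, c3]
      simp
    have hXf₃ : ((sg (E e₁) (E f₂) s : GL (Fin m ⊕ Fin m) F) : Mat) *ᵥ E f₃ = E f₃ := by
      rw [sg_mulVec c1, c4, c5]
      simp
    have h1 : sg (E e₁) (E f₂) s * sg (E e₂) (E f₃) s' * (sg (E e₁) (E f₂) s)⁻¹
        = sg (E e₂) (E f₃) s' * sg (E e₁) (E f₃) (s * s') := by
      rw [conj_sg (hMG hX), hXe₂, hXf₃, sg_add_left c6 (by rw [sympForm_smul_left, c7, mul_zero])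
        (by rw [sympForm_smul_right, c2, mul_zero]), sg_smul_left c7]
    have h2 : sg (E e₁) (E f₃) (s * s') ∈ M := by
      have h3 : sg (E e₁) (E f₃) (s * s') = (sg (E e₂) (E f₃) s')⁻¹
          * (sg (E e₁) (E f₂) s * sg (E e₂) (E f₃) s' * (sg (E e₁) (E f₂) s)⁻¹) := by
        rw [h1]
        group
      rw [h3]
      exact M.mul_mem (M.inv_mem hY) (M.mul_mem (M.mul_mem hX hY) (M.inv_mem hX))
    intro a' b' ha' hab' hb'
    exact sg_all_of_one F₀ e hP M hHM hMG he₁ H.ef13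
      (ne_smul_of_bz F₀ e hP (f := e₃) H.e13 hf₃e₃) h2 ha' hab' hb'
  have hall := forall_mem_of_closed hN S h0 hadd hmul hδS hδ
  apply le_of_sg_all F₀ e hP M hHM hMG hm
  intro a b ha hab hb s
  exact (hS s).1 (hall s) a b ha hab hb

include hP hHM hMG in
/-- an irrational transvection at a rational centre gives the whole symplectic group -/
theorem le_of_tv_irrational [Fintype F] (hm : 3 ≤ m) (hN : NoInter F₀) {a : Fin n → F₀}
    (ha : a ≠ 0) {lam : F} (hlam : lam ∉ F₀) (h : tvGL (E a) lam ∈ M) :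
    Cfsg.spGL m F ≤ M := by
  obtain ⟨e₁, e₂, e₃, f₁, f₂, f₃, H⟩ := exists_hyp3 F₀ e hP hm
  have he₁ : e₁ ≠ 0 := ne_zero_of_bz F₀ e hP (by rw [H.ef11]; exact one_ne_zero)
  have hall := tv_all_of_one F₀ e hP M hHM hMG ha h
  have hneg : ∀ a' : Fin n → F₀, tvGL (E a') (-lam) ∈ M := by
    intro a'
    rw [← tvGL_inv]
    exact M.inv_mem (hall a')
  apply le_of_sg_irrational F₀ e hP M hHM hMG hm hN he₁ H.e12
    (ne_smul_of_bz F₀ e hP (f := f₂) H.ef12 (by rw [H.ef22]; exact one_ne_zero)) hlam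
  unfold sg
  rw [← emb_add]
  exact M.mul_mem (M.mul_mem (hall _) (hneg _)) (hneg _)

end Fixed

end Cfsg.Agent.Helper94.SpS
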