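import Mathlib
import Cfsg.Agent.Helper94.SpS5

set_option autoImplicit false
set_option linter.unusedSectionVars false
set_option linter.unusedVariables false
set_option linter.unusedSimpArgs false
set_option linter.style.haveILetI false

/-!
# Symplectic subfield subgroups: transvection centres of an overgroup are rational or of full
rank
-/

namespace Cfsg.Agent.Helper94.SpS

open Matrix Cfsg Cfsg.Geo Cfsg.Agent.Helper13 Cfsg.Agent.Helper94.SubW
open Cfsg.Agent.Helper45.SubSL (NoInter forall_mem_of_closed)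

variable {F : Type*} [Field F] {m n : ℕ}

local notation "⟪" x ", " y "⟫" => Cfsg.sympForm m F x y
local notation "Mat" => Matrix (Fin m ⊕ Fin m) (Fin m ⊕ Fin m) F

/-- the centres of the `F₀`-transvection groups contained in `M` -/
def TT (F₀ : Subfield F) (M : Subgroup (GL (Fin m ⊕ Fin m) F)) : Set (Fin m ⊕ Fin m → F) :=
  Set.ofPred (fun u => ∀ c ∈ F₀, tvGL u c ∈ M)

theorem mem_TT {F₀ : Subfield F} {M : Subgroup (GL (Fin m ⊕ Fin m) F)}
    {u : Fin m ⊕ Fin m → F} : u ∈ TT F₀ M ↔ ∀ c ∈ F₀, tvGL u c ∈ M := Iff.rfl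

theorem TT_map {F₀ : Subfield F} {M : Subgroup (GL (Fin m ⊕ Fin m) F)}
    (hMG : M ≤ Cfsg.spGL m F) {g : GL (Fin m ⊕ Fin m) F} (hg : g ∈ M)
    {u : Fin m ⊕ Fin m → F} (hu : u ∈ TT F₀ M) : (g : Mat) *ᵥ u ∈ TT F₀ M := by
  intro c hc
  rw [← conj_tvGL (hMG hg)]
  exact M.mul_mem (M.mul_mem hg (hu c hc)) (M.inv_mem hg)

theorem TT_smul {F₀ : Subfield F} {M : Subgroup (GL (Fin m ⊕ Fin m) F)}
    {u : Fin m ⊕ Fin m → F} (hu : u ∈ TT F₀ M) {κ : F} (hκ : κ ^ 2 ∈ F₀) :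
    κ • u ∈ TT F₀ M := by
  intro c hc
  rw [tvGL_smul]
  exact hu _ (F₀.mul_mem hc hκ)

section Fixed

variable (F₀ : Subfield F) {P : GL (Fin m ⊕ Fin m) F} (e : (Fin m ⊕ Fin m) ≃ Fin n)
  (hP : Cfsg.Geo.IsFormRationalStructure (Cfsg.sympForm m F) F₀ 1 P)

local notation "E" => emb F₀ P e

variable (M : Subgroup (GL (Fin m ⊕ Fin m) F))
  (hHM : Cfsg.Geo.subfieldSubgroup F₀ P ⊓ Cfsg.spGL m F ≤ M) (hMG : M ≤ Cfsg.spGL m F)

include hP hHM in
theorem emb_mem_TT (a : Fin n → F₀) : E a ∈ TT F₀ M := by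
  intro c hc
  exact ratIso_le_M F₀ e M hHM (rat_tv_mem' F₀ e hP a hc)

include hP hHM hMG in
/-- first step of the low rank argument -/
theorem TT_step1 {u : Fin m ⊕ Fin m → F} (hu : u ∈ TT F₀ M) {a b z : Fin n → F₀}
    (hua : ⟪u, E a⟫ = 0) (hab : bz F₀ e hP a b = 0) (haz : bz F₀ e hP a z = 0) {c : F}
    (hc : c ∈ F₀) : E z + (c * (⟪u, E b⟫ * ⟪u, E z⟫)) • E a ∈ TT F₀ M := by
  have hab' : ⟪E a, E b⟫ = 0 := (bz_eq_zero_iff F₀ e hP a b).1 hab
  have hza : ⟪E z, E a⟫ = 0 := (bz_eq_zero_iff F₀ e hP z a).1 (bz_comm_zero F₀ e hP haz)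
  have hau : ⟪E a, u⟫ = 0 := by rw [sympForm_swap, hua, neg_zero]
  have hT : sg (E a) (E b) 1 ∈ M := ratIso_le_M F₀ e M hHM (rat_sg_mem F₀ e hP a b F₀.one_mem)
  have hu' : u + ⟪u, E b⟫ • E a ∈ TT F₀ M := by
    have h1 := TT_map hMG hT hu
    rw [sg_mulVec hab', hua, mul_zero, zero_smul, add_zero, one_mul] at h1
    exact h1
  have hg : tvGL u c * tvGL (u + ⟪u, E b⟫ • E a) (-c) ∈ M :=
    M.mul_mem (hu c hc) (hu' _ (F₀.neg_mem hc))
  have h2 := TT_map hMG hg (emb_mem_TT F₀ e hP M hHM z)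
  have h3 : ((tvGL u c * tvGL (u + ⟪u, E b⟫ • E a) (-c) : GL (Fin m ⊕ Fin m) F) : Mat) *ᵥ E z
      = E z + (c * (⟪u, E b⟫ * ⟪u, E z⟫)) • E a := by
    rw [gl_mul_mulVec, tv_mulVec, tv_mulVec]
    simp only [sympForm_add_left, sympForm_add_right, sympForm_smul_left, sympForm_smul_right,
      sympForm_self, hza, hau, hua, mul_zero, add_zero, zero_add]
    rw [sympForm_swap (E z) u]
    module
  rw [h3] at h2
  exact h2

include hP hHM hMG in
/-- second step of the low rank argument: a centre `E z + δ E a` with `a ⊥ z` and irrational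
`δ` gives everything -/
theorem le_of_TT_pair [Fintype F] (hm : 3 ≤ m) (hN : NoInter F₀) {a z : Fin n → F₀}
    (ha : a ≠ 0) (haz : bz F₀ e hP a z = 0) (hz : ∀ c : F₀, z ≠ c • a) {δ : F} (hδ : δ ∉ F₀)
    (h : E z + δ • E a ∈ TT F₀ M) : Cfsg.spGL m F ≤ M := by
  obtain ⟨e₁, e₂, e₃, f₁, f₂, f₃, H⟩ := exists_hyp3 F₀ e hP hm
  have he₁ : e₁ ≠ 0 := ne_zero_of_bz F₀ e hP (by rw [H.ef11]; exact one_ne_zero)
  obtain ⟨g, hg, hga, hgz⟩ := exists_rat_map_pair F₀ e hP ha haz hz he₁ H.e12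
    (ne_smul_of_bz F₀ e hP (f := f₂) H.ef12 (by rw [H.ef22]; exact one_ne_zero))
  have hgM := ratIso_le_M F₀ e M hHM hg
  have h1 : E e₂ + δ • E e₁ ∈ TT F₀ M := by
    have := TT_map hMG hgM h
    rwa [Matrix.mulVec_add, Matrix.mulVec_smul, hga, hgz] at this
  -- the rational element moving `e₂` to `e₂ + e₃`
  have c1 : ⟪E e₃, E f₂⟫ = 0 := (bz_eq_zero_iff F₀ e hP _ _).1 H.ef32
  have c2 : ⟪E e₂, E e₃⟫ = 0 := (bz_eq_zero_iff F₀ e hP _ _).1 H.e23
  have c3 : ⟪E e₂, E f₂⟫ = 1 := by rw [← coe_bz F₀ e hP, H.ef22]; rfl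
  have c4 : ⟪E e₁, E e₃⟫ = 0 := (bz_eq_zero_iff F₀ e hP _ _).1 H.e13
  have c5 : ⟪E e₁, E f₂⟫ = 0 := (bz_eq_zero_iff F₀ e hP _ _).1 H.ef12
  have c6 : ⟪E e₁, E e₂⟫ = 0 := (bz_eq_zero_iff F₀ e hP _ _).1 H.e12
  have hy : sg (E e₃) (E f₂) 1 ∈ M :=
    ratIso_le_M F₀ e M hHM (rat_sg_mem F₀ e hP e₃ f₂ F₀.one_mem)
  have h2 : E e₂ + E e₃ + δ • E e₁ ∈ TT F₀ M := by
    have := TT_map hMG hy h1
    rw [Matrix.mulVec_add, Matrix.mulVec_smul, sg_mulVec c1, sg_mulVec c1, c2, c3, c4, c5] at this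
    simpa using this
  have h3 : sg (E e₁) (E e₃) δ ∈ M := by
    rw [← sep_identity c6 c4 c2 δ]
    refine M.mul_mem (M.mul_mem ?_ (h1 _ (F₀.neg_mem F₀.one_mem))) (M.mul_mem (h2 _ F₀.one_mem) ?_)
    · exact emb_mem_TT F₀ e hP M hHM e₂ 1 F₀.one_mem
    · rw [← emb_add]
      exact emb_mem_TT F₀ e hP M hHM _ _ (F₀.neg_mem F₀.one_mem)
  exact le_of_sg_irrational F₀ e hP M hHM hMG hm hN he₁ H.e13
    (ne_smul_of_bz F₀ e hP (f := f₃) H.ef13 (by rw [H.ef33]; exact one_ne_zero)) hδ h3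

include hP in
/-- a vector orthogonal to all rational vectors orthogonal to `a` is a multiple of `E a` -/
theorem eq_smul_of_perp {u : Fin m ⊕ Fin m → F} {a f : Fin n → F₀}
    (hf : bz F₀ e hP a f = 1)
    (h : ∀ z : Fin n → F₀, bz F₀ e hP a z = 0 → ⟪u, E z⟫ = 0) : u = ⟪u, E f⟫ • E a := by
  have h1 : u - ⟪u, E f⟫ • E a = 0 := by
    apply eq_zero_of_perp_emb F₀ e
    intro y
    have h2 := h (y - (bz F₀ e hP a y) • f) (by
      rw [map_sub, map_smul, hf, smul_eq_mul, mul_one, sub_self])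
    rw [emb_sub, emb_smul, sympForm_sub_right, sympForm_smul_right, sub_eq_zero] at h2
    rw [sympForm_sub_left, sympForm_smul_left, h2, coe_bz]
    ring
  exact sub_eq_zero.mp h1

include hP hHM hMG in
/-- **low rank lemma**: a centre orthogonal to a non-zero rational vector is a rational point,
or `M` contains the symplectic group -/
theorem TT_lowrank [Fintype F] (hm : 3 ≤ m) (hN : NoInter F₀) {u : Fin m ⊕ Fin m → F}
    (hu : u ∈ TT F₀ M) {a : Fin n → F₀} (ha : a ≠ 0) (hua : ⟪u, E a⟫ = 0) :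
    Cfsg.spGL m F ≤ M ∨ ∃ (κ : F) (u₀ : Fin n → F₀), u = κ • E u₀ := by
  by_cases hδ : ∃ b z : Fin n → F₀, bz F₀ e hP a b = 0 ∧ bz F₀ e hP a z = 0 ∧
      ⟪u, E b⟫ * ⟪u, E z⟫ ∉ F₀
  · left
    obtain ⟨b, z, hab, haz, hd⟩ := hδ
    have h1 := TT_step1 F₀ e hP M hHM hMG hu hua hab haz F₀.one_mem
    rw [one_mul] at h1
    refine le_of_TT_pair F₀ e hP M hHM hMG hm hN ha haz ?_ hd h1
    intro c hc
    apply hd
    rw [hc, emb_smul, sympForm_smul_right, hua, mul_zero, mul_zero]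
    exact F₀.zero_mem
  · push Not at hδ
    obtain ⟨f, hf⟩ := exists_bz_eq_one F₀ e hP ha
    by_cases hφ : ∀ z : Fin n → F₀, bz F₀ e hP a z = 0 → ⟪u, E z⟫ = 0
    · right
      exact ⟨_, a, eq_smul_of_perp F₀ e hP hf hφ⟩
    · push Not at hφ
      obtain ⟨z₀, haz₀, hκ⟩ := hφ
      obtain ⟨κ, hκdef⟩ : ∃ κ, κ = ⟪u, E z₀⟫ := ⟨_, rfl⟩
      rw [← hκdef] at hκ
      have hκ2 : κ ^ 2 ∈ F₀ := by
        have := hδ z₀ z₀ haz₀ haz₀
        rwa [← hκdef, ← pow_two] at this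
      have hκi2 : (κ⁻¹) ^ 2 ∈ F₀ := by
        rw [inv_pow]
        exact F₀.inv_mem hκ2
      have hu' : κ⁻¹ • u ∈ TT F₀ M := TT_smul hu hκi2
      have hrat : ∀ z : Fin n → F₀, bz F₀ e hP a z = 0 → ⟪κ⁻¹ • u, E z⟫ ∈ F₀ := by
        intro z haz
        have h1 := hδ z z₀ haz haz₀
        rw [← hκdef] at h1
        have h2 : ⟪κ⁻¹ • u, E z⟫ = ⟪u, E z⟫ * κ * (κ⁻¹) ^ 2 := by
          rw [sympForm_smul_left]
          field_simp
        rw [h2]
        exact F₀.mul_mem h1 hκi2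
      obtain ⟨τ, hτdef⟩ : ∃ τ, τ = ⟪κ⁻¹ • u, E f⟫ := ⟨_, rfl⟩
      have hrat' : ∀ y : Fin n → F₀, ⟪κ⁻¹ • u - τ • E a, E y⟫ ∈ F₀ := by
        intro y
        have h1 := hrat (y - (bz F₀ e hP a y) • f) (by
          rw [map_sub, map_smul, hf, smul_eq_mul, mul_one, sub_self])
        have h2 : ⟪κ⁻¹ • u - τ • E a, E y⟫
            = ⟪κ⁻¹ • u, E (y - (bz F₀ e hP a y) • f)⟫ := by
          rw [emb_sub, emb_smul, sympForm_sub_right, sympForm_smul_right, sympForm_sub_left,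
            sympForm_smul_left (c := τ), ← hτdef, coe_bz]
          ring
        rw [h2]
        exact h1
      obtain ⟨w, hw⟩ := exists_emb_of_form_mem F₀ e hP hrat'
      have hu'eq : κ⁻¹ • u = E w + τ • E a := by
        rw [← hw]
        abel
      have hueq : u = κ • (E w + τ • E a) := by
        rw [← hu'eq, smul_smul, mul_inv_cancel₀ hκ, one_smul]
      have haw : bz F₀ e hP a w = 0 := by
        rw [bz_eq_zero_iff, ← hw, sympForm_sub_right, sympForm_smul_right, sympForm_smul_right,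
          sympForm_self, sympForm_swap, hua]
        ring
      by_cases hτ : τ ∈ F₀
      · right
        refine ⟨κ, w + (⟨τ, hτ⟩ : F₀) • a, ?_⟩
        rw [hueq, emb_add, emb_smul]
      · by_cases hw' : ∃ c : F₀, w = c • a
        · right
          obtain ⟨c, hc⟩ := hw'
          refine ⟨κ * ((c : F) + τ), a, ?_⟩
          rw [hueq, hc, emb_smul, ← add_smul, smul_smul]
        · left
          push Not at hw'
          rw [hu'eq] at hu'
          exact le_of_TT_pair F₀ e hP M hHM hMG hm hN ha haw hw' hτ hu'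

include hP hHM hMG in
/-- **dichotomy**: if `M` does not contain the symplectic group, the centres of its
`F₀`-transvection groups are rational points (with a scalar of rational square) or of full
rank -/
theorem TT_dichotomy [Fintype F] (hm : 3 ≤ m) (hN : NoInter F₀)
    (hnot : ¬ Cfsg.spGL m F ≤ M) {u : Fin m ⊕ Fin m → F} (hu : u ∈ TT F₀ M) :
    (∃ (κ : F) (u₀ : Fin n → F₀), u = κ • E u₀ ∧ κ ^ 2 ∈ F₀) ∨
      (∀ a : Fin n → F₀, a ≠ 0 → ⟪u, E a⟫ ≠ 0) := by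
  by_cases hfull : ∀ a : Fin n → F₀, a ≠ 0 → ⟪u, E a⟫ ≠ 0
  · exact Or.inr hfull
  · left
    push Not at hfull
    obtain ⟨a, ha, hua⟩ := hfull
    rcases TT_lowrank F₀ e hP M hHM hMG hm hN hu ha hua with h | ⟨κ, u₀, hκ⟩
    · exact absurd h hnot
    · by_cases hu₀ : u₀ = 0
      · refine ⟨0, 0, ?_, ?_⟩
        · rw [hκ, hu₀, emb_zero, smul_zero, smul_zero]
        · rw [zero_pow (by norm_num)]
          exact F₀.zero_mem
      · refine ⟨κ, u₀, hκ, ?_⟩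
        by_contra hκ2
        apply hnot
        have h1 := hu 1 F₀.one_mem
        rw [hκ, tvGL_smul, one_mul] at h1
        exact le_of_tv_irrational F₀ e hP M hHM hMG hm hN hu₀ hκ2 h1

end Fixed

end Cfsg.Agent.Helper94.SpS
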