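import Mathlib
import Cfsg.Agent.Helper94.SpS6
import Cfsg.Agent.Helper94.SpRootB
import Cfsg.Agent.Helper94.SubW4
import Cfsg.Agent.Helper45.SubSLG

set_option autoImplicit false
set_option linter.unusedSectionVars false
set_option linter.unusedVariables false
set_option linter.unusedSimpArgs false
set_option linter.style.haveILetI false

/-!
# Symplectic subfield subgroups: rationality criterion and the pair lemma
-/

namespace Cfsg.Agent.Helper94.SpS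

open Matrix Cfsg Cfsg.Geo Cfsg.Agent.Helper13 Cfsg.Agent.Helper94.SubW
open Cfsg.Agent.Helper45.SubSL (NoInter forall_mem_of_closed)

variable {F : Type*} [Field F] {m n : ℕ}

local notation "⟪" x ", " y "⟫" => Cfsg.sympForm m F x y
local notation "Mat" => Matrix (Fin m ⊕ Fin m) (Fin m ⊕ Fin m) F

section Fixed

variable (F₀ : Subfield F) {P : GL (Fin m ⊕ Fin m) F} (e : (Fin m ⊕ Fin m) ≃ Fin n)
  (hP : Cfsg.Geo.IsFormRationalStructure (Cfsg.sympForm m F) F₀ 1 P)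

local notation "E" => emb F₀ P e

include hP in
/-- an isometry mapping rational points to rational points lies in the subfield group -/
theorem mem_subfield_of_points (hm : 1 ≤ m) {g : GL (Fin m ⊕ Fin m) F}
    (hg : g ∈ Cfsg.spGL m F)
    (h : ∀ x : Fin n → F₀, ∃ (lam : F) (y : Fin n → F₀), (g : Mat) *ᵥ E x = lam • E y) :
    g ∈ Cfsg.Geo.subfieldSubgroup F₀ P := by
  have key : ∀ (p s : Fin n → F₀), bz F₀ e hP p s ≠ 0 → ∀ (lam : F) (p₁ : Fin n → F₀),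
      (g : Mat) *ᵥ E p = lam • E p₁ → ∀ (mu : F) (s₁ : Fin n → F₀),
      (g : Mat) *ᵥ E s = mu • E s₁ → lam * mu ∈ F₀ ∧ lam * mu ≠ 0 := by
    intro p s hps lam p₁ hp mu s₁ hs
    have h1 : ⟪(g : Mat) *ᵥ E p, (g : Mat) *ᵥ E s⟫ = ((bz F₀ e hP p s : F₀) : F) := by
      rw [(mem_spGL_iff g).mp hg, coe_bz]
    rw [hp, hs, sympForm_smul_left, sympForm_smul_right, ← coe_bz F₀ e hP] at h1
    have hβ : ((bz F₀ e hP p s : F₀) : F) ≠ 0 := by
      intro h0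
      exact hps (Subtype.ext h0)
    have hγ : ((bz F₀ e hP p₁ s₁ : F₀) : F) ≠ 0 := by
      intro h0
      rw [h0, mul_zero, mul_zero] at h1
      exact hβ h1.symm
    have h3 : lam * mu = ((bz F₀ e hP p s : F₀) : F) / ((bz F₀ e hP p₁ s₁ : F₀) : F) := by
      field_simp
      linear_combination h1
    refine ⟨?_, ?_⟩
    · rw [h3]
      exact F₀.div_mem (bz F₀ e hP p s).2 (bz F₀ e hP p₁ s₁).2
    · rw [h3]
      exact div_ne_zero hβ hγ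
  obtain ⟨ev, fv, hee, hff, hef⟩ := exists_symp_vectors F₀ e hP
  obtain ⟨p₀, hp₀⟩ : ∃ p₀, p₀ = ev ⟨0, by omega⟩ := ⟨_, rfl⟩
  obtain ⟨s₀, hs₀⟩ : ∃ s₀, s₀ = fv ⟨0, by omega⟩ := ⟨_, rfl⟩
  have hps₀ : bz F₀ e hP p₀ s₀ = 1 := by rw [hp₀, hs₀, hef, if_pos rfl]
  have hpp₀ : bz F₀ e hP p₀ p₀ = 0 := bz_self F₀ e hP p₀
  have hss₀ : bz F₀ e hP s₀ s₀ = 0 := bz_self F₀ e hP s₀
  have hsp₀ : bz F₀ e hP s₀ p₀ = -1 := by rw [bz_swap, hps₀]
  have hp₀0 : p₀ ≠ 0 := ne_zero_of_bz F₀ e hP (by rw [hps₀]; exact one_ne_zero)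
  obtain ⟨lam₀, p₁, hlp⟩ := h p₀
  obtain ⟨mu₀, s₁, hms⟩ := h s₀
  obtain ⟨nu₀, t₁, hnt⟩ := h (p₀ + s₀)
  have k1 := key p₀ s₀ (by rw [hps₀]; exact one_ne_zero) lam₀ p₁ hlp mu₀ s₁ hms
  have k2 := key p₀ (p₀ + s₀) (by rw [map_add, hpp₀, hps₀, zero_add]; exact one_ne_zero)
    lam₀ p₁ hlp nu₀ t₁ hnt
  have k3 := key s₀ (p₀ + s₀) (by
    rw [map_add, hsp₀, hss₀, add_zero]; exact neg_ne_zero.mpr one_ne_zero) mu₀ s₁ hms nu₀ t₁ hnt
  have hlam₀ : lam₀ ≠ 0 := left_ne_zero_of_mul k1.2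
  have hsq : lam₀ ^ 2 ∈ F₀ := by
    have : lam₀ ^ 2 = (lam₀ * mu₀) * (lam₀ * nu₀) / (mu₀ * nu₀) := by
      have hmu : mu₀ ≠ 0 := right_ne_zero_of_mul k1.2
      have hnu : nu₀ ≠ 0 := right_ne_zero_of_mul k2.2
      field_simp
    rw [this]
    exact F₀.div_mem (F₀.mul_mem k1.1 k2.1) k3.1
  apply mem_subfieldSubgroup_of_emb (e := e) _ lam₀ hlam₀
  intro s
  by_cases hs0 : s = 0
  · refine ⟨0, ?_⟩
    rw [hs0, emb_zero, Matrix.mulVec_zero, smul_zero]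
  obtain ⟨mu, s₁', hmu⟩ := h s
  suffices hq : mu / lam₀ ∈ F₀ by
    refine ⟨(⟨mu / lam₀, hq⟩ : F₀) • s₁', ?_⟩
    rw [hmu, emb_smul, smul_smul]
    congr 1
    field_simp
  by_cases hps : bz F₀ e hP p₀ s ≠ 0
  · have k := key p₀ s hps lam₀ p₁ hlp mu s₁' hmu
    have : mu / lam₀ = lam₀ * mu / lam₀ ^ 2 := by
      field_simp
    rw [this]
    exact F₀.div_mem k.1 hsq
  · obtain ⟨t, htp, hts⟩ := exists_bz_ne_both F₀ e hP hp₀0 hs0
    obtain ⟨nu, t₁', hnu⟩ := h t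
    have ka := key p₀ t htp lam₀ p₁ hlp nu t₁' hnu
    have kb := key s t hts mu s₁' hmu nu t₁' hnu
    have hnu0 : nu ≠ 0 := right_ne_zero_of_mul ka.2
    have : mu / lam₀ = mu * nu / (lam₀ * nu) := by
      field_simp
    rw [this]
    exact F₀.div_mem kb.1 ka.1

include hP in
/-- in characteristic two, the isometries in the subfield group map rational vectors to rational
vectors -/
theorem rational_of_mem_char_two [Finite F] (hm : 1 ≤ m) (h2 : (2 : F) = 0)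
    {g : GL (Fin m ⊕ Fin m) F} (hg : g ∈ Cfsg.spGL m F)
    (hgs : g ∈ Cfsg.Geo.subfieldSubgroup F₀ P) :
    ∀ x : Fin n → F₀, ∃ y : Fin n → F₀, (g : Mat) *ᵥ E x = E y := by
  obtain ⟨lam, hlam, hg'⟩ := emb_of_mem_subfieldSubgroup (e := e) g hgs
  obtain ⟨ev, fv, hee, hff, hef⟩ := exists_symp_vectors F₀ e hP
  obtain ⟨y, hy⟩ := hg' (ev ⟨0, by omega⟩)
  obtain ⟨y', hy'⟩ := hg' (fv ⟨0, by omega⟩)
  have h1 : ⟪(g : Mat) *ᵥ E (ev ⟨0, by omega⟩), (g : Mat) *ᵥ E (fv ⟨0, by omega⟩)⟫ = 1 := by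
    rw [(mem_spGL_iff g).mp hg, ← coe_bz F₀ e hP, hef, if_pos rfl]
    rfl
  rw [hy, hy', sympForm_smul_left, sympForm_smul_right, ← coe_bz F₀ e hP] at h1
  have hb : ((bz F₀ e hP y y' : F₀) : F) ≠ 0 := by
    intro h0
    rw [h0, mul_zero, mul_zero] at h1
    exact zero_ne_one h1
  have hsq : lam * lam ∈ F₀ := by
    have : lam * lam = 1 / ((bz F₀ e hP y y' : F₀) : F) := by
      field_simp
      linear_combination h1
    rw [this]
    exact F₀.div_mem F₀.one_mem (bz F₀ e hP y y').2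
  have hlam' : lam ∈ F₀ := Cfsg.Agent.Helper45.SubSL.mem_of_sq_mem h2 hsq
  intro x
  obtain ⟨z, hz⟩ := hg' x
  refine ⟨(⟨lam, hlam'⟩ : F₀) • z, ?_⟩
  rw [hz, emb_smul]

end Fixed

/-! ### The pair lemma -/

theorem spToGL_tE (p : Fin m ⊕ Fin m → F) (c : F) :
    spToGL m F (Cfsg.Agent.Helper94.SpRoot.tE p c) = tvGL p c := by
  apply Units.ext
  rw [spToGL_coe, tvGL_coe]
  rfl

/-- **pair lemma**: two `F₀`-transvection groups with centres pairing to `β`, `β² ∉ F₀`, generate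
the full transvection group (odd characteristic) -/
theorem full_of_pair [Fintype F] (F₀ : Subfield F) {r : ℕ} (hr : r.Prime)
    (hcard : Fintype.card F = Nat.card F₀ ^ r) (h2 : (2 : F) ≠ 0)
    (M : Subgroup (GL (Fin m ⊕ Fin m) F)) {p u : Fin m ⊕ Fin m → F}
    (hp : ∀ c ∈ F₀, tvGL p c ∈ M) (hu : ∀ c ∈ F₀, tvGL u c ∈ M) {β : F} (hβ : β = ⟪u, p⟫)
    (hβ2 : β ^ 2 ∉ F₀) (hexc : ¬ (Nat.card F₀ = 3 ∧ (β ^ 2) ^ 2 = -1)) :
    ∀ t : F, tvGL p t ∈ M := by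
  have hβ0 : β ≠ 0 := by
    rintro rfl
    apply hβ2
    rw [zero_pow (by norm_num)]
    exact F₀.zero_mem
  have hΔne : β ^ 2 ≠ 0 := pow_ne_zero 2 hβ0
  have hpr : ⟪p, (-β)⁻¹ • u⟫ = 1 := by
    rw [sympForm_smul_right, sympForm_swap, ← hβ]
    field_simp
  obtain ⟨X, hX⟩ : ∃ X : Subgroup (Matrix.SpecialLinearGroup (Fin 2) F),
      X = (M.comap (spToGL m F)).comap (Cfsg.Agent.Helper94.SpRoot.sl2Hom hpr) := ⟨_, rfl⟩
  have hU : ∀ c ∈ F₀, Cfsg.Agent.Helper46.Dk.uU c ∈ X := by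
    intro c hc
    rw [hX, Subgroup.mem_comap, Subgroup.mem_comap, uU_eq_U, Cfsg.Agent.Helper94.SpRoot.sl2Hom_U,
      spToGL_tE]
    exact hp _ (F₀.neg_mem hc)
  have hL : ∀ c ∈ F₀, Cfsg.Agent.Helper46.Dk.vV (β ^ 2 * c) ∈ X := by
    intro c hc
    rw [hX, Subgroup.mem_comap, Subgroup.mem_comap, vV_eq_L, Cfsg.Agent.Helper94.SpRoot.sl2Hom_L,
      spToGL_tE, tvGL_smul]
    have : β ^ 2 * c * (-β)⁻¹ ^ 2 = c := by
      field_simp
    rw [this]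
    exact hu c hc
  have hle : Subgroup.closure ({g : Matrix.SpecialLinearGroup (Fin 2) F |
        ∃ c ∈ F₀, g = Cfsg.Agent.Helper46.Dk.uU c} ∪
      {g : Matrix.SpecialLinearGroup (Fin 2) F |
        ∃ c ∈ F₀, g = Cfsg.Agent.Helper46.Dk.vV (β ^ 2 * c)}) ≤ X := by
    rw [Subgroup.closure_le]
    rintro g (⟨c, hc, rfl⟩ | ⟨c, hc, rfl⟩)
    · exact hU c hc
    · exact hL c hc
  intro t
  have h1 : (-t) ∈ Subfield.closure ((F₀ : Set F) ∪ {β ^ 2}) := by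
    rw [closure_eq_top F₀ hr hcard hβ2]
    exact Subfield.mem_top _
  have h3 := hle (Cfsg.Agent.Helper46.Dk.uU_mem_closure_of_mem F₀ (β ^ 2) hΔne
    (fun h20 => absurd h20 h2) hexc h1)
  rw [hX, Subgroup.mem_comap, Subgroup.mem_comap, uU_eq_U, Cfsg.Agent.Helper94.SpRoot.sl2Hom_U,
    spToGL_tE, neg_neg] at h3
  exact h3

end Cfsg.Agent.Helper94.SpS
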