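import Mathlib
import Cfsg.Agent.Helper94.SpS7

set_option autoImplicit false
set_option linter.unusedSectionVars false
set_option linter.unusedVariables false
set_option linter.unusedSimpArgs false
set_option linter.style.haveILetI false

/-!
# Symplectic subfield subgroups: overgroups in odd characteristic
-/

namespace Cfsg.Agent.Helper94.SpS

open Matrix Cfsg Cfsg.Geo Cfsg.Agent.Helper13 Cfsg.Agent.Helper94.SubW
open Cfsg.Agent.Helper45.SubSL (NoInter forall_mem_of_closed noInter_of_card)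

variable {F : Type*} [Field F] {m n : ℕ}

local notation "⟪" x ", " y "⟫" => Cfsg.sympForm m F x y
local notation "Mat" => Matrix (Fin m ⊕ Fin m) (Fin m ⊕ Fin m) F

section Fixed

variable (F₀ : Subfield F) {P : GL (Fin m ⊕ Fin m) F} (e : (Fin m ⊕ Fin m) ≃ Fin n)
  (hP : Cfsg.Geo.IsFormRationalStructure (Cfsg.sympForm m F) F₀ 1 P)

local notation "E" => emb F₀ P e

/-- a vector of full rank forces the extension to be large -/
theorem false_of_full_of_quadratic [Fintype F] (hm : 3 ≤ m) (hN : NoInter F₀)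
    {u : Fin m ⊕ Fin m → F} (hfull : ∀ a : Fin n → F₀, a ≠ 0 → ⟪u, E a⟫ ≠ 0) {θ : F}
    (hθ : θ ∉ F₀) (hθ2 : θ ^ 2 = -1) (hc3 : Nat.card F₀ = 3) : False := by
  haveI : Fintype F₀ := Fintype.ofFinite F₀
  have hn : n = m + m := by
    have h := Fintype.card_congr e
    simp only [Fintype.card_sum, Fintype.card_fin] at h
    omega
  obtain ⟨S, hS⟩ : ∃ S : Set F, ∀ x, x ∈ S ↔ ∃ a b : F₀, x = (a : F) + b * θ :=
    ⟨Set.ofPred (fun x => ∃ a b : F₀, x = (a : F) + b * θ), fun x => Iff.rfl⟩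
  have hall : ∀ x, x ∈ S := by
    apply forall_mem_of_closed hN S _ _ _ (μ := θ) _ hθ
    · intro x hx
      rw [hS]
      exact ⟨⟨x, hx⟩, 0, by simp⟩
    · intro x y hx hy
      rw [hS] at hx hy ⊢
      obtain ⟨a, b, rfl⟩ := hx
      obtain ⟨c, d, rfl⟩ := hy
      refine ⟨a + c, b + d, ?_⟩
      push_cast
      ring
    · intro x y hx hy
      rw [hS] at hx hy ⊢
      obtain ⟨a, b, rfl⟩ := hx
      obtain ⟨c, d, rfl⟩ := hy
      refine ⟨a * c - b * d, a * d + b * c, ?_⟩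
      push_cast
      linear_combination ((b : F) * d) * hθ2
    · rw [hS]
      exact ⟨0, 1, by simp⟩
  have h1 : Fintype.card F ≤ Fintype.card (F₀ × F₀) := by
    apply Fintype.card_le_of_surjective (fun ab : F₀ × F₀ => (ab.1 : F) + ab.2 * θ)
    intro x
    obtain ⟨a, b, hab⟩ := (hS x).1 (hall x)
    exact ⟨(a, b), hab.symm⟩
  have h2 : Fintype.card (Fin n → F₀) ≤ Fintype.card F := by
    apply Fintype.card_le_of_injective (fun a : Fin n → F₀ => ⟪u, E a⟫)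
    intro a a' haa'
    by_contra hne
    apply hfull (a - a') (sub_ne_zero.mpr hne)
    rw [emb_sub, sympForm_sub_right]
    exact sub_eq_zero.mpr haa'
  rw [Nat.card_eq_fintype_card] at hc3
  rw [Fintype.card_prod, hc3] at h1
  rw [Fintype.card_fun, hc3, Fintype.card_fin] at h2
  have h3 : 3 ^ 3 ≤ 3 ^ n := Nat.pow_le_pow_right (by norm_num) (by omega)
  omega

variable (M : Subgroup (GL (Fin m ⊕ Fin m) F))
  (hHM : Cfsg.Geo.subfieldSubgroup F₀ P ⊓ Cfsg.spGL m F ≤ M) (hMG : M ≤ Cfsg.spGL m F)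

include e hP hHM hMG in
/-- in odd characteristic, a proper overgroup of the subfield group contains `Sp` -/
theorem le_of_not_mem_odd [Fintype F] (hm : 3 ≤ m) {r : ℕ} (hr : r.Prime)
    (hcard : Fintype.card F = Nat.card F₀ ^ r) (h2 : (2 : F) ≠ 0)
    {g : GL (Fin m ⊕ Fin m) F} (hg : g ∈ M) (hgs : g ∉ Cfsg.Geo.subfieldSubgroup F₀ P) :
    Cfsg.spGL m F ≤ M := by
  by_contra hnot
  have hN := noInter_of_card F₀ r hr hcard
  apply hgs
  apply mem_subfield_of_points F₀ e hP (by omega) (hMG hg)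
  intro x
  obtain ⟨u, hudef⟩ : ∃ u, u = (g : Mat) *ᵥ E x := ⟨_, rfl⟩
  rw [← hudef]
  have hu : u ∈ TT F₀ M := by
    rw [hudef]
    exact TT_map hMG hg (emb_mem_TT F₀ e hP M hHM x)
  rcases TT_dichotomy F₀ e hP M hHM hMG hm hN hnot hu with ⟨κ, u₀, h, -⟩ | hfull
  · exact ⟨κ, u₀, h⟩
  exfalso
  have hsq : ∀ z : Fin n → F₀, ⟪u, E z⟫ ^ 2 ∈ F₀ := by
    intro z
    by_contra hz
    have hz0 : z ≠ 0 := by
      rintro rfl
      apply hz
      rw [emb_zero, sympForm_zero_right, zero_pow (by norm_num)]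
      exact F₀.zero_mem
    by_cases hexc : Nat.card F₀ = 3 ∧ (⟪u, E z⟫ ^ 2) ^ 2 = -1
    · exact false_of_full_of_quadratic F₀ e hm hN hfull hz hexc.2 hexc.1
    · have h3 := full_of_pair F₀ hr hcard h2 M (p := E z) (u := u)
        (fun c hc => emb_mem_TT F₀ e hP M hHM z c hc) hu rfl hz hexc
      exact hnot (le_of_tv_irrational F₀ e hP M hHM hMG hm hN hz0 hz (h3 _))
  have h2F : (2 : F) ∈ F₀ := two_mem F₀
  have hprod : ∀ z z' : Fin n → F₀, ⟪u, E z⟫ * ⟪u, E z'⟫ ∈ F₀ := by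
    intro z z'
    have h3 := hsq (z + z')
    rw [emb_add, sympForm_add_right] at h3
    have h4 : ⟪u, E z⟫ * ⟪u, E z'⟫
        = ((⟪u, E z⟫ + ⟪u, E z'⟫) ^ 2 - ⟪u, E z⟫ ^ 2 - ⟪u, E z'⟫ ^ 2) / 2 := by
      field_simp
      ring
    rw [h4]
    exact F₀.div_mem (F₀.sub_mem (F₀.sub_mem h3 (hsq z)) (hsq z')) h2F
  obtain ⟨e₁, e₂, e₃, f₁, f₂, f₃, H⟩ := exists_hyp3 F₀ e hP hm
  have he₁ : e₁ ≠ 0 := ne_zero_of_bz F₀ e hP (by rw [H.ef11]; exact one_ne_zero)
  obtain ⟨κ, hκdef⟩ : ∃ κ, κ = ⟪u, E e₁⟫ := ⟨_, rfl⟩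
  have hκ : κ ≠ 0 := by rw [hκdef]; exact hfull e₁ he₁
  have hrat : ∀ z : Fin n → F₀, ⟪κ⁻¹ • u, E z⟫ ∈ F₀ := by
    intro z
    have h3 : ⟪κ⁻¹ • u, E z⟫ = ⟪u, E z⟫ * κ / κ ^ 2 := by
      rw [sympForm_smul_left]
      field_simp
    rw [h3]
    refine F₀.div_mem ?_ ?_
    · rw [hκdef]; exact hprod z e₁
    · rw [hκdef]; exact hsq e₁
  obtain ⟨w, hw⟩ := exists_emb_of_form_mem F₀ e hP hrat
  have huw : u = κ • E w := by
    rw [← hw, smul_smul, mul_inv_cancel₀ hκ, one_smul]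
  by_cases hw0 : w = 0
  · apply hfull e₁ he₁
    rw [huw, hw0, emb_zero, smul_zero, sympForm_zero_left]
  · apply hfull w hw0
    rw [huw, sympForm_smul_left, sympForm_self, mul_zero]

end Fixed

end Cfsg.Agent.Helper94.SpS
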