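import Mathlib
import Cfsg.Agent.Helper94.SpS8

set_option autoImplicit false
set_option linter.unusedSectionVars false
set_option linter.unusedVariables false
set_option linter.unusedSimpArgs false
set_option linter.style.haveILetI false

/-!
# Symplectic subfield subgroups: overgroups in characteristic two (dihedral trick)
-/

namespace Cfsg.Agent.Helper94.SpS

open Matrix Cfsg Cfsg.Geo Cfsg.Agent.Helper13 Cfsg.Agent.Helper94.SubW
open Cfsg.Agent.Helper45.SubSL (NoInter forall_mem_of_closed noInter_of_card)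

variable {F : Type*} [Field F] {m n : ℕ}

local notation "⟪" x ", " y "⟫" => Cfsg.sympForm m F x y
local notation "Mat" => Matrix (Fin m ⊕ Fin m) (Fin m ⊕ Fin m) F

theorem gl_injective (g : GL (Fin m ⊕ Fin m) F) {x y : Fin m ⊕ Fin m → F}
    (h : (g : Mat) *ᵥ x = (g : Mat) *ᵥ y) : x = y := by
  have h3 := congrArg (fun v => ((g⁻¹ : GL (Fin m ⊕ Fin m) F) : Mat) *ᵥ v) h
  simp only [gl_inv_mulVec] at h3
  exact h3

theorem tv_comm_of_orth {a b : Fin m ⊕ Fin m → F} (hab : ⟪a, b⟫ = 0) (c d : F) :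
    tvGL a c * tvGL b d = tvGL b d * tvGL a c := by
  have hba : ⟪b, a⟫ = 0 := by rw [sympForm_swap, hab, neg_zero]
  apply gl_ext
  intro x
  rw [gl_mul_mulVec, gl_mul_mulVec, tv_mulVec, tv_mulVec, tv_mulVec, tv_mulVec]
  simp only [sympForm_add_left, sympForm_smul_left, hab, hba, mul_zero, add_zero]
  module

theorem tv_sq_char_two (h2 : (2 : F) = 0) (a : Fin m ⊕ Fin m → F) :
    tvGL a (1 : F) * tvGL a 1 = 1 := by
  rw [tv_mul, one_add_one_eq_two, h2, tv_zero]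

section Fixed

variable (F₀ : Subfield F) {P : GL (Fin m ⊕ Fin m) F} (e : (Fin m ⊕ Fin m) ≃ Fin n)
  (hP : Cfsg.Geo.IsFormRationalStructure (Cfsg.sympForm m F) F₀ 1 P)

local notation "E" => emb F₀ P e

variable (M : Subgroup (GL (Fin m ⊕ Fin m) F))
  (hHM : Cfsg.Geo.subfieldSubgroup F₀ P ⊓ Cfsg.spGL m F ≤ M) (hMG : M ≤ Cfsg.spGL m F)

include hP hHM hMG in
/-- characteristic two: the centres are rational vectors or of full rank -/
theorem TT_rat_or_full [Fintype F] (hm : 3 ≤ m) (hN : NoInter F₀) (h2 : (2 : F) = 0)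
    (hnot : ¬ Cfsg.spGL m F ≤ M) {u : Fin m ⊕ Fin m → F} (hu : u ∈ TT F₀ M) :
    (∃ w : Fin n → F₀, u = E w) ∨ (∀ a : Fin n → F₀, a ≠ 0 → ⟪u, E a⟫ ≠ 0) := by
  rcases TT_dichotomy F₀ e hP M hHM hMG hm hN hnot hu with ⟨κ, u₀, h, hκ⟩ | hfull
  · left
    have hκ' : κ ∈ F₀ := Cfsg.Agent.Helper45.SubSL.mem_of_sq_mem h2 (by rwa [← pow_two])
    exact ⟨(⟨κ, hκ'⟩ : F₀) • u₀, by rw [h, emb_smul]⟩
  · exact Or.inr hfull

include hP hHM hMG in
/-- characteristic two: an element of `M` mapping some non-zero rational vector to a vector which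
is not of full rank lies in the subfield group -/
theorem mem_of_nonfull_image [Fintype F] (hm : 3 ≤ m) (hN : NoInter F₀) (h2 : (2 : F) = 0)
    (hnot : ¬ Cfsg.spGL m F ≤ M) {h : GL (Fin m ⊕ Fin m) F} (hh : h ∈ M) {v : Fin n → F₀}
    (hv : v ≠ 0) {a : Fin n → F₀} (ha : a ≠ 0) (hva : ⟪(h : Mat) *ᵥ E v, E a⟫ = 0) :
    h ∈ Cfsg.Geo.subfieldSubgroup F₀ P := by
  have hiso := (mem_spGL_iff h).mp (hMG hh)
  -- images which are not of full rank are rational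
  have hR : ∀ (z b : Fin n → F₀), b ≠ 0 → ⟪(h : Mat) *ᵥ E z, E b⟫ = 0 →
      ∃ y : Fin n → F₀, (h : Mat) *ᵥ E z = E y := by
    intro z b hb hzb
    rcases TT_rat_or_full F₀ e hP M hHM hMG hm hN h2 hnot
      (TT_map hMG hh (emb_mem_TT F₀ e hP M hHM z)) with hrat | hfull
    · exact hrat
    · exact absurd hzb (hfull b hb)
  have hne : ∀ (z y : Fin n → F₀), z ≠ 0 → (h : Mat) *ᵥ E z = E y → y ≠ 0 := by
    rintro z y hz hzy rfl
    apply hz
    apply emb_injective (P := P) (e := e)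
    apply gl_injective h
    rw [hzy, emb_zero, Matrix.mulVec_zero]
  obtain ⟨v', hv'⟩ := hR v a ha hva
  have hv'0 := hne v v' hv hv'
  -- vectors orthogonal to `v` have rational images
  have hR1 : ∀ z : Fin n → F₀, bz F₀ e hP v z = 0 → ∃ y : Fin n → F₀, (h : Mat) *ᵥ E z = E y := by
    intro z hz
    apply hR z v' hv'0
    rw [← hv', hiso]
    exact (bz_eq_zero_iff F₀ e hP z v).1 (bz_comm_zero F₀ e hP hz)
  -- a hyperbolic partner `f` of `v` and a vector `v₂` orthogonal to both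
  obtain ⟨e₁, e₂, e₃, f₁, f₂, f₃, H⟩ := exists_hyp3 F₀ e hP hm
  have he₁ : e₁ ≠ 0 := ne_zero_of_bz F₀ e hP (by rw [H.ef11]; exact one_ne_zero)
  have he₂ : e₂ ≠ 0 := ne_zero_of_bz F₀ e hP (by rw [H.ef22]; exact one_ne_zero)
  obtain ⟨g₀, hg₀, hg₀e⟩ := exists_rat_map F₀ e hP he₁ hv
  have hiso₀ := (mem_spGL_iff g₀).mp hg₀.1
  obtain ⟨f, hf⟩ := hg₀.2.1 f₁
  obtain ⟨v₂, hv₂⟩ := hg₀.2.1 e₂
  have hvf : bz F₀ e hP v f = 1 := by
    apply Subtype.ext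
    rw [coe_bz, ← hg₀e, ← hf, hiso₀, ← coe_bz F₀ e hP, H.ef11]
  have hvv₂ : bz F₀ e hP v v₂ = 0 := by
    rw [bz_eq_zero_iff, ← hg₀e, ← hv₂, hiso₀, ← bz_eq_zero_iff F₀ e hP]
    exact H.e12
  have hfv₂ : ⟪E f, E v₂⟫ = 0 := by
    rw [← hf, ← hv₂, hiso₀, ← bz_eq_zero_iff F₀ e hP]
    exact bz_comm_zero F₀ e hP H.ef21
  have hv₂0 : v₂ ≠ 0 := by
    rintro rfl
    apply he₂
    apply emb_injective (P := P) (e := e)
    apply gl_injective g₀
    rw [hv₂, emb_zero, Matrix.mulVec_zero]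
  obtain ⟨v₂', hv₂'⟩ := hR1 v₂ hvv₂
  have hv₂'0 := hne v₂ v₂' hv₂0 hv₂'
  obtain ⟨f', hf'⟩ := hR f v₂' hv₂'0 (by rw [← hv₂', hiso]; exact hfv₂)
  apply mem_subfieldSubgroup_of_emb (e := e) h 1 one_ne_zero
  intro y
  obtain ⟨y₁', hy₁'⟩ := hR1 (y - (bz F₀ e hP v y) • f) (by
    rw [map_sub, map_smul, hvf, smul_eq_mul, mul_one, sub_self])
  refine ⟨y₁' + (bz F₀ e hP v y) • f', ?_⟩
  have h3 : E y = E (y - (bz F₀ e hP v y) • f) + ((bz F₀ e hP v y : F₀) : F) • E f := by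
    rw [emb_sub, emb_smul]
    abel
  rw [h3, Matrix.mulVec_add, Matrix.mulVec_smul, hy₁', hf', one_smul, emb_add, emb_smul]

include e hP hHM hMG in
/-- in characteristic two, a proper overgroup of the subfield group contains `Sp` -/
theorem le_of_not_mem_even [Fintype F] (hm : 3 ≤ m) {r : ℕ} (hr : r.Prime)
    (hcard : Fintype.card F = Nat.card F₀ ^ r) (h2 : (2 : F) = 0)
    {g : GL (Fin m ⊕ Fin m) F} (hg : g ∈ M) (hgs : g ∉ Cfsg.Geo.subfieldSubgroup F₀ P) :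
    Cfsg.spGL m F ≤ M := by
  by_contra hnot
  have hN := noInter_of_card F₀ r hr hcard
  obtain ⟨e₁, e₂, e₃, f₁, f₂, f₃, H⟩ := exists_hyp3 F₀ e hP hm
  have he₁ : e₁ ≠ 0 := ne_zero_of_bz F₀ e hP (by rw [H.ef11]; exact one_ne_zero)
  have he₃ : e₃ ≠ 0 := ne_zero_of_bz F₀ e hP (by rw [H.ef33]; exact one_ne_zero)
  have hneg1 : (-1 : F) = 1 := by linear_combination (-1 : F) * h2
  -- the image of `e₁` under `g` is of full rank
  obtain ⟨x, hxdef⟩ : ∃ x, x = (g : Mat) *ᵥ E e₁ := ⟨_, rfl⟩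
  have hxT : x ∈ TT F₀ M := by
    rw [hxdef]; exact TT_map hMG hg (emb_mem_TT F₀ e hP M hHM e₁)
  have hxfull : ∀ a : Fin n → F₀, a ≠ 0 → ⟪x, E a⟫ ≠ 0 := by
    intro a ha hxa
    rw [hxdef] at hxa
    exact hgs (mem_of_nonfull_image F₀ e hP M hHM hMG hm hN h2 hnot hg he₁ ha hxa)
  -- the two involutions
  obtain ⟨z, hzdef⟩ : ∃ z, z = tvGL (E e₁) (1 : F) * tvGL (E e₂) 1 := ⟨_, rfl⟩
  obtain ⟨u, hudef⟩ : ∃ u, u = tvGL x (1 : F) := ⟨_, rfl⟩
  have c12 : ⟪E e₁, E e₂⟫ = 0 := (bz_eq_zero_iff F₀ e hP _ _).1 H.e12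
  have hzM : z ∈ M := by
    rw [hzdef]
    exact M.mul_mem (emb_mem_TT F₀ e hP M hHM e₁ 1 F₀.one_mem)
      (emb_mem_TT F₀ e hP M hHM e₂ 1 F₀.one_mem)
  have huM : u ∈ M := by rw [hudef]; exact hxT 1 F₀.one_mem
  have hzz : z * z = 1 := by
    rw [hzdef]
    calc tvGL (E e₁) (1 : F) * tvGL (E e₂) 1 * (tvGL (E e₁) 1 * tvGL (E e₂) 1)
        = tvGL (E e₁) (1 : F) * (tvGL (E e₂) 1 * tvGL (E e₁) 1) * tvGL (E e₂) 1 := by group
      _ = tvGL (E e₁) (1 : F) * (tvGL (E e₁) 1 * tvGL (E e₂) 1) * tvGL (E e₂) 1 := by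
          rw [tv_comm_of_orth c12]
      _ = (tvGL (E e₁) (1 : F) * tvGL (E e₁) 1) * (tvGL (E e₂) 1 * tvGL (E e₂) 1) := by group
      _ = 1 := by rw [tv_sq_char_two h2, tv_sq_char_two h2, one_mul]
  have huu : u * u = 1 := by rw [hudef]; exact tv_sq_char_two h2 x
  have hz_act : ∀ y : Fin m ⊕ Fin m → F, (z : Mat) *ᵥ y
      = y + ⟪y, E e₂⟫ • E e₂ + ⟪y, E e₁⟫ • E e₁ := by
    intro y
    rw [hzdef, gl_mul_mulVec, tv_mulVec, tv_mulVec, sympForm_add_left, sympForm_smul_left,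
      (bz_eq_zero_iff F₀ e hP e₂ e₁).1 (bz_comm_zero F₀ e hP H.e12)]
    simp
  rcases Cfsg.Agent.Helper45.SubSL.dihedral_dichotomy z u hzz huu with ⟨k, hk⟩ | ⟨k, hk1, hk2, hk3, hk4⟩
  · -- `z` and `u` are not conjugate
    obtain ⟨c, hcdef⟩ : ∃ c, c = (z * u) ^ k := ⟨_, rfl⟩
    rw [← hcdef] at hk
    have hcM : c ∈ M := by rw [hcdef]; exact M.pow_mem (M.mul_mem hzM huM) k
    have hisoc := (mem_spGL_iff c).mp (hMG hcM)
    have hact : ∀ y : Fin m ⊕ Fin m → F,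
        ((c * z * c⁻¹ : GL (Fin m ⊕ Fin m) F) : Mat) *ᵥ ((c : Mat) *ᵥ y)
          = (c : Mat) *ᵥ ((z : Mat) *ᵥ y) := by
      intro y
      rw [gl_mul_mulVec, gl_mul_mulVec, gl_inv_mulVec]
    have h1 := hact (E f₁)
    have h2' := hact (E f₂)
    rw [hk, hudef, tv_mulVec, hz_act, one_mul] at h1 h2'
    have c1 : ⟪E f₁, E e₂⟫ = 0 :=
      (bz_eq_zero_iff F₀ e hP _ _).1 (bz_comm_zero F₀ e hP H.ef21)
    have c2 : ⟪E f₁, E e₁⟫ = 1 := by
      rw [sympForm_swap, ← coe_bz F₀ e hP, H.ef11, Subfield.coe_one, hneg1]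
    have c3 : ⟪E f₂, E e₂⟫ = 1 := by
      rw [sympForm_swap, ← coe_bz F₀ e hP, H.ef22, Subfield.coe_one, hneg1]
    have c4 : ⟪E f₂, E e₁⟫ = 0 :=
      (bz_eq_zero_iff F₀ e hP _ _).1 (bz_comm_zero F₀ e hP H.ef12)
    rw [c1, c2, zero_smul, add_zero, one_smul, Matrix.mulVec_add, add_right_inj] at h1
    rw [c3, c4, zero_smul, add_zero, one_smul, Matrix.mulVec_add, add_right_inj] at h2'
    -- `c e₁` and `c e₂` are both multiples of `x`
    obtain ⟨α, hα⟩ : ∃ α, α = ⟪(c : Mat) *ᵥ E f₁, x⟫ := ⟨_, rfl⟩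
    obtain ⟨β, hβ⟩ : ∃ β, β = ⟪(c : Mat) *ᵥ E f₂, x⟫ := ⟨_, rfl⟩
    rw [← hα] at h1
    rw [← hβ] at h2'
    have h3 : (c : Mat) *ᵥ (β • E e₁ - α • E e₂) = 0 := by
      rw [Matrix.mulVec_sub, Matrix.mulVec_smul, Matrix.mulVec_smul, ← h1, ← h2', smul_smul,
        smul_smul, mul_comm, sub_self]
    have h4 : β • E e₁ - α • E e₂ = 0 := by
      apply gl_injective c
      rw [h3, Matrix.mulVec_zero]
    have h5 : β = 0 := by
      have := congrArg (fun v => ⟪v, E f₁⟫) h4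
      simp only [sympForm_sub_left, sympForm_smul_left, sympForm_zero_left] at this
      rw [← coe_bz F₀ e hP, ← coe_bz F₀ e hP, H.ef11, H.ef21] at this
      simpa using this
    have h6 : (c : Mat) *ᵥ E e₂ = 0 := by rw [← h2', h5, zero_smul]
    have h7 : E e₂ = 0 := by
      apply gl_injective c
      rw [h6, Matrix.mulVec_zero]
    have he₂ : e₂ ≠ 0 := ne_zero_of_bz F₀ e hP (by rw [H.ef22]; exact one_ne_zero)
    exact emb_ne_zero (P := P) (e := e) he₂ h7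
  · -- an involution `w` commuting with both
    obtain ⟨w, hwdef⟩ : ∃ w, w = (z * u) ^ k := ⟨_, rfl⟩
    rw [← hwdef] at hk1 hk2 hk3 hk4
    have hwM : w ∈ M := by rw [hwdef]; exact M.pow_mem (M.mul_mem hzM huM) k
    have hisow := (mem_spGL_iff w).mp (hMG hwM)
    -- `w e₁` lies in the span of `e₁`, `e₂`
    have h1 : (z : Mat) *ᵥ ((w : Mat) *ᵥ E f₁) = (w : Mat) *ᵥ ((z : Mat) *ᵥ E f₁) := by
      rw [← gl_mul_mulVec, ← gl_mul_mulVec, hk3]
    have c1 : ⟪E f₁, E e₂⟫ = 0 :=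
      (bz_eq_zero_iff F₀ e hP _ _).1 (bz_comm_zero F₀ e hP H.ef21)
    have c2 : ⟪E f₁, E e₁⟫ = 1 := by
      rw [sympForm_swap, ← coe_bz F₀ e hP, H.ef11, Subfield.coe_one, hneg1]
    rw [hz_act, hz_act (E f₁), c1, c2, zero_smul, add_zero, one_smul, Matrix.mulVec_add,
      add_assoc, add_right_inj] at h1
    have hwe₁ : ⟪(w : Mat) *ᵥ E e₁, E e₃⟫ = 0 := by
      rw [← h1, sympForm_add_left, sympForm_smul_left, sympForm_smul_left,
        (bz_eq_zero_iff F₀ e hP _ _).1 H.e23, (bz_eq_zero_iff F₀ e hP _ _).1 H.e13]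
      ring
    have hws : w ∈ Cfsg.Geo.subfieldSubgroup F₀ P :=
      mem_of_nonfull_image F₀ e hP M hHM hMG hm hN h2 hnot hwM he₁ he₃ hwe₁
    have hwrat := rational_of_mem_char_two F₀ e hP (by omega) h2 (hMG hwM) hws
    -- a rational vector moved by `w`
    have hex : ∃ x₀ : Fin n → F₀, (w : Mat) *ᵥ E x₀ ≠ E x₀ := by
      by_contra hcon
      push Not at hcon
      apply hk1
      apply gl_ext
      apply emb_span_induction (F₀ := F₀) (P := P) (e := e)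
      · intro v v' hv hv'
        rw [Matrix.mulVec_add, Matrix.mulVec_add, hv, hv']
      · intro c v hv
        rw [Matrix.mulVec_smul, Matrix.mulVec_smul, hv]
      · intro x₀
        rw [hcon x₀, Units.val_one, Matrix.one_mulVec]
    obtain ⟨x₀, hx₀⟩ := hex
    obtain ⟨y₀, hy₀⟩ := hwrat x₀
    have hr0 : y₀ - x₀ ≠ 0 := by
      intro h0
      apply hx₀
      rw [hy₀, sub_eq_zero.mp h0]
    -- `(w - 1) V` is totally isotropic
    have hww : ∀ p : Fin m ⊕ Fin m → F, (w : Mat) *ᵥ ((w : Mat) *ᵥ p) = p := by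
      intro p
      rw [← gl_mul_mulVec, hk2, Units.val_one, Matrix.one_mulVec]
    have hti : ∀ p q : Fin m ⊕ Fin m → F,
        ⟪(w : Mat) *ᵥ p - p, (w : Mat) *ᵥ q - q⟫ = 0 := by
      intro p q
      have h3 : ⟪p, (w : Mat) *ᵥ q⟫ = ⟪(w : Mat) *ᵥ p, q⟫ := by
        rw [← hisow, hww]
      rw [sympForm_sub_left, sympForm_sub_right, sympForm_sub_right, hisow, h3]
      linear_combination (⟪p, q⟫ - ⟪(w : Mat) *ᵥ p, q⟫) * h2
    -- `u` maps `E (y₀ - x₀)` into `(w - 1) V`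
    have h4 : (u : Mat) *ᵥ E (y₀ - x₀)
        = (w : Mat) *ᵥ ((u : Mat) *ᵥ E x₀) - (u : Mat) *ᵥ E x₀ := by
      rw [emb_sub, Matrix.mulVec_sub, ← hy₀, ← gl_mul_mulVec, ← gl_mul_mulVec, hk4]
    have h5 : ⟪(u : Mat) *ᵥ E (y₀ - x₀), E (y₀ - x₀)⟫ = 0 := by
      rw [h4]
      conv_lhs => rw [emb_sub, ← hy₀]
      exact hti _ _
    have hus : u ∈ Cfsg.Geo.subfieldSubgroup F₀ P :=
      mem_of_nonfull_image F₀ e hP M hHM hMG hm hN h2 hnot huM hr0 hr0 h5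
    have hurat := rational_of_mem_char_two F₀ e hP (by omega) h2 (hMG huM) hus
    obtain ⟨y₁, hy₁⟩ := hurat e₁
    rw [hudef, tv_mulVec, one_mul] at hy₁
    have hβ : ⟪E e₁, x⟫ ≠ 0 := by
      rw [sympForm_swap]
      exact neg_ne_zero.mpr (hxfull e₁ he₁)
    have hxw : x = (⟪E e₁, x⟫)⁻¹ • E (y₁ - e₁) := by
      rw [emb_sub, ← hy₁, add_sub_cancel_left, smul_smul, inv_mul_cancel₀ hβ, one_smul]
    by_cases hw0 : y₁ - e₁ = 0
    · apply hxfull e₁ he₁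
      rw [hxw, hw0, emb_zero, smul_zero, sympForm_zero_left]
    · apply hxfull (y₁ - e₁) hw0
      rw [hxw, sympForm_smul_left, sympForm_self, mul_zero]

end Fixed

end Cfsg.Agent.Helper94.SpS
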