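import Mathlib
import Cfsg.Agent.Helper94.SpS9

set_option autoImplicit false
set_option linter.unusedSectionVars false
set_option linter.unusedVariables false
set_option linter.unusedSimpArgs false
set_option linter.style.haveILetI false

/-!
# Symplectic subfield subgroups are maximal
-/

namespace Cfsg.Agent.Helper94.SpS

open Matrix Cfsg Cfsg.Geo Cfsg.Agent.Helper13 Cfsg.Agent.Helper94.SubW
open Cfsg.Agent.Helper45.SubSL (NoInter forall_mem_of_closed noInter_of_card)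

variable {F : Type*} [Field F] {m : ℕ}

local notation "⟪" x ", " y "⟫" => Cfsg.sympForm m F x y
local notation "Mat" => Matrix (Fin m ⊕ Fin m) (Fin m ⊕ Fin m) F

/-- the subfield group is maximal in `Sp`, when the form is rational on the `F₀`-structure -/
theorem sp_subfield_isMaximalIn_one [Fintype F] (hm : 3 ≤ m) (F₀ : Subfield F) (r : ℕ)
    (hr : r.Prime) (hcard : Fintype.card F = Nat.card F₀ ^ r) (P : GL (Fin m ⊕ Fin m) F)
    (hP : Cfsg.Geo.IsFormRationalStructure (Cfsg.sympForm m F) F₀ 1 P) :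
    Cfsg.Geo.IsMaximalIn (Cfsg.spGL m F)
      (Cfsg.Geo.subfieldSubgroup F₀ P ⊓ Cfsg.spGL m F) := by
  obtain ⟨n, ⟨e⟩⟩ : ∃ n, Nonempty ((Fin m ⊕ Fin m) ≃ Fin n) :=
    ⟨_, ⟨Fintype.equivFin _⟩⟩
  constructor
  · refine lt_of_le_of_ne inf_le_right ?_
    intro heq
    -- an irrational transvection
    have hex : ∃ lam : F, lam ∉ F₀ := by
      by_contra hcon
      push Not at hcon
      have h1 : Nat.card F₀ = Fintype.card F := by
        rw [← Nat.card_eq_fintype_card]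
        exact Nat.card_congr (Equiv.subtypeUnivEquiv hcon)
      rw [h1] at hcard
      have h2 : 2 ≤ Fintype.card F := Fintype.one_lt_card
      have h3 : Fintype.card F ^ 2 ≤ Fintype.card F ^ r :=
        Nat.pow_le_pow_right (by omega) hr.two_le
      nlinarith
    obtain ⟨lam, hlam⟩ := hex
    obtain ⟨e₁, e₂, e₃, f₁, f₂, f₃, H⟩ := exists_hyp3 F₀ e hP hm
    have ht : tvGL (emb F₀ P e e₁) lam ∈ Cfsg.Geo.subfieldSubgroup F₀ P := by
      have : tvGL (emb F₀ P e e₁) lam ∈ Cfsg.Geo.subfieldSubgroup F₀ P ⊓ Cfsg.spGL m F := by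
        rw [heq]
        exact tvGL_mem_spGL _ _
      exact this.1
    obtain ⟨mu, hmu, h1⟩ := emb_of_mem_subfieldSubgroup (e := e) _ ht
    obtain ⟨y, hy⟩ := h1 f₁
    rw [tv_mulVec] at hy
    have c1 : ⟪emb F₀ P e f₁, emb F₀ P e e₁⟫ = -1 := by
      rw [sympForm_swap, ← coe_bz F₀ e hP, H.ef11]
      rfl
    have h2 := congrArg (fun v => ⟪v, emb F₀ P e e₁⟫) hy
    have h3 := congrArg (fun v => ⟪v, emb F₀ P e f₁⟫) hy
    simp only [sympForm_add_left, sympForm_smul_left, sympForm_self, c1, mul_zero, add_zero] at h2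
    simp only [sympForm_add_left, sympForm_smul_left, sympForm_self, c1, zero_add] at h3
    rw [← coe_bz F₀ e hP] at h2 h3
    rw [← coe_bz F₀ e hP, H.ef11] at h3
    have hb : ((bz F₀ e hP y e₁ : F₀) : F) ≠ 0 := by
      intro h0
      rw [h0, mul_zero] at h2
      exact absurd h2 (neg_ne_zero.mpr one_ne_zero)
    have hmu' : mu ∈ F₀ := by
      have : mu = -1 / ((bz F₀ e hP y e₁ : F₀) : F) := by
        field_simp
        linear_combination -h2
      rw [this]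
      exact F₀.div_mem (F₀.neg_mem F₀.one_mem) (bz F₀ e hP y e₁).2
    apply hlam
    have : lam = -(mu * ((bz F₀ e hP y f₁ : F₀) : F)) := by
      have h4 : lam * -1 * ((1 : F₀) : F) = mu * ((bz F₀ e hP y f₁ : F₀) : F) := h3
      rw [← h4]
      simp
    rw [this]
    exact F₀.neg_mem (F₀.mul_mem hmu' (bz F₀ e hP y f₁).2)
  · intro M hHM hMG
    by_cases hM : M ≤ Cfsg.Geo.subfieldSubgroup F₀ P
    · left
      exact le_antisymm (le_inf hM hMG) hHM
    · right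
      obtain ⟨g, hg, hgs⟩ := SetLike.not_le_iff_exists.mp hM
      refine le_antisymm hMG ?_
      by_cases h2 : (2 : F) = 0
      · exact le_of_not_mem_even F₀ e hP M hHM hMG hm hr hcard h2 hg hgs
      · exact le_of_not_mem_odd F₀ e hP M hHM hMG hm hr hcard h2 hg hgs

/-! ### Transport along a similitude -/

/-- maximality is transported by conjugation by an element normalising the big group -/
theorem isMaximalIn_map_conj' {G : Type*} [Group G] (d : G) {K X : Subgroup G}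
    (hKmap : K.map (MulAut.conj d).toMonoidHom = K)
    (h : IsMaximalIn K (X ⊓ K)) : IsMaximalIn K (X.map (MulAut.conj d).toMonoidHom ⊓ K) := by
  have hinj : Function.Injective (MulAut.conj d).toMonoidHom := (MulAut.conj d).injective
  have hsurj : Function.Surjective (MulAut.conj d).toMonoidHom := (MulAut.conj d).surjective
  have hmap : X.map (MulAut.conj d).toMonoidHom ⊓ K
      = (X ⊓ K).map (MulAut.conj d).toMonoidHom := by
    rw [Subgroup.map_inf _ _ _ hinj, hKmap]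
  rw [hmap]
  obtain ⟨hlt, hmax⟩ := h
  constructor
  · have := (Subgroup.map_lt_map_iff_of_injective hinj).mpr hlt
    rwa [hKmap] at this
  · intro M hM1 hM2
    have h1 : X ⊓ K ≤ M.comap (MulAut.conj d).toMonoidHom := Subgroup.map_le_iff_le_comap.mp hM1
    have h2 : M.comap (MulAut.conj d).toMonoidHom ≤ K := by
      have hM2' : M ≤ K.map (MulAut.conj d).toMonoidHom := by rw [hKmap]; exact hM2
      have := Subgroup.comap_mono (f := (MulAut.conj d).toMonoidHom) hM2'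
      rwa [Subgroup.comap_map_eq_self_of_injective hinj] at this
    have h3 : (M.comap (MulAut.conj d).toMonoidHom).map (MulAut.conj d).toMonoidHom = M :=
      Subgroup.map_comap_eq_self_of_surjective hsurj M
    rcases hmax _ h1 h2 with h | h
    · left; rw [← h3, h]
    · right; rw [← h3, h, hKmap]

theorem subfieldSubgroup_mul {ι : Type} [Fintype ι] [DecidableEq ι] (F₀ : Subfield F)
    (d P : GL ι F) :
    Cfsg.Geo.subfieldSubgroup F₀ (d * P)
      = (Cfsg.Geo.subfieldSubgroup F₀ P).map (MulAut.conj d).toMonoidHom := by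
  unfold Cfsg.Geo.subfieldSubgroup
  rw [Subgroup.map_map]
  congr 1
  ext x
  simp [MulAut.conj_apply, mul_assoc]

/-- conjugation by a similitude normalises the symplectic group -/
theorem spGL_map_conj {d : GL (Fin m ⊕ Fin m) F} {ζ : F} (hζ : ζ ≠ 0)
    (hd : ∀ x y : Fin m ⊕ Fin m → F, ⟪(d : Mat) *ᵥ x, (d : Mat) *ᵥ y⟫ = ζ * ⟪x, y⟫) :
    (Cfsg.spGL m F).map (MulAut.conj d).toMonoidHom = Cfsg.spGL m F := by
  have hdi : ∀ x y : Fin m ⊕ Fin m → F,
      ⟪((d⁻¹ : GL (Fin m ⊕ Fin m) F) : Mat) *ᵥ x, ((d⁻¹ : GL (Fin m ⊕ Fin m) F) : Mat) *ᵥ y⟫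
        = ζ⁻¹ * ⟪x, y⟫ := by
    intro x y
    have h1 := hd (((d⁻¹ : GL (Fin m ⊕ Fin m) F) : Mat) *ᵥ x)
      (((d⁻¹ : GL (Fin m ⊕ Fin m) F) : Mat) *ᵥ y)
    rw [gl_mulVec_inv, gl_mulVec_inv] at h1
    rw [h1]
    field_simp
  ext x
  rw [Subgroup.mem_map]
  constructor
  · rintro ⟨g, hg, rfl⟩
    have hg' := (mem_spGL_iff g).mp hg
    rw [mem_spGL_iff]
    intro u v
    show ⟪((d * g * d⁻¹ : GL (Fin m ⊕ Fin m) F) : Mat) *ᵥ u,
      ((d * g * d⁻¹ : GL (Fin m ⊕ Fin m) F) : Mat) *ᵥ v⟫ = ⟪u, v⟫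
    rw [gl_mul_mulVec, gl_mul_mulVec, gl_mul_mulVec, gl_mul_mulVec, hd, hg', hdi]
    field_simp
  · intro hx
    have hx' := (mem_spGL_iff x).mp hx
    refine ⟨d⁻¹ * x * d, ?_, ?_⟩
    · rw [mem_spGL_iff]
      intro u v
      rw [gl_mul_mulVec, gl_mul_mulVec, gl_mul_mulVec, gl_mul_mulVec, hdi, hx', hd]
      field_simp
    · show d * (d⁻¹ * x * d) * d⁻¹ = x
      group

/-- the similitude `diag(ζ, 1)` -/
def simGL (m : ℕ) {ζ : F} (hζ : ζ ≠ 0) : GL (Fin m ⊕ Fin m) F :=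
  ⟨Matrix.diagonal (Sum.elim (fun _ => ζ) (fun _ => 1)),
    Matrix.diagonal (Sum.elim (fun _ => ζ⁻¹) (fun _ => 1)),
    by
      rw [Matrix.diagonal_mul_diagonal, ← Matrix.diagonal_one]
      congr 1
      funext i
      rcases i with i | i <;> simp [hζ],
    by
      rw [Matrix.diagonal_mul_diagonal, ← Matrix.diagonal_one]
      congr 1
      funext i
      rcases i with i | i <;> simp [hζ]⟩

theorem simGL_form {ζ : F} (hζ : ζ ≠ 0) (x y : Fin m ⊕ Fin m → F) :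
    ⟪((simGL m hζ : GL (Fin m ⊕ Fin m) F) : Mat) *ᵥ x,
      ((simGL m hζ : GL (Fin m ⊕ Fin m) F) : Mat) *ᵥ y⟫ = ζ * ⟪x, y⟫ := by
  show ⟪Matrix.diagonal (Sum.elim (fun _ => ζ) (fun _ => 1)) *ᵥ x,
    Matrix.diagonal (Sum.elim (fun _ => ζ) (fun _ => 1)) *ᵥ y⟫ = ζ * ⟪x, y⟫
  rw [sympForm_eq_sum, sympForm_eq_sum, Finset.mul_sum]
  apply Finset.sum_congr rfl
  intro i _
  simp only [Matrix.mulVec_diagonal, Sum.elim_inl, Sum.elim_inr]
  ring

/-- **the subfield group is maximal in the symplectic group** -/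
theorem sp_subfield_isMaximalIn [Fintype F] (hm : 3 ≤ m) (F₀ : Subfield F) (r : ℕ)
    (hr : r.Prime) (hcard : Fintype.card F = Nat.card F₀ ^ r) (P : GL (Fin m ⊕ Fin m) F)
    (ζ : F) (hζ : ζ ≠ 0)
    (hP : Cfsg.Geo.IsFormRationalStructure (Cfsg.sympForm m F) F₀ ζ P) :
    Cfsg.Geo.IsMaximalIn (Cfsg.spGL m F)
      (Cfsg.Geo.subfieldSubgroup F₀ P ⊓ Cfsg.spGL m F) := by
  obtain ⟨d, hddef⟩ : ∃ d, d = simGL m hζ := ⟨_, rfl⟩
  have hd : ∀ x y : Fin m ⊕ Fin m → F, ⟪(d : Mat) *ᵥ x, (d : Mat) *ᵥ y⟫ = ζ * ⟪x, y⟫ := by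
    rw [hddef]
    exact simGL_form hζ
  have hP' : Cfsg.Geo.IsFormRationalStructure (Cfsg.sympForm m F) F₀ 1 (d * P) := by
    intro u v hu hv
    rw [one_mul, gl_mul_mulVec, gl_mul_mulVec, hd]
    exact hP u v hu hv
  have h1 := sp_subfield_isMaximalIn_one hm F₀ r hr hcard (d * P) hP'
  have hdi : ∀ x y : Fin m ⊕ Fin m → F,
      ⟪((d⁻¹ : GL (Fin m ⊕ Fin m) F) : Mat) *ᵥ x, ((d⁻¹ : GL (Fin m ⊕ Fin m) F) : Mat) *ᵥ y⟫
        = ζ⁻¹ * ⟪x, y⟫ := by
    intro x y
    have h1 := hd (((d⁻¹ : GL (Fin m ⊕ Fin m) F) : Mat) *ᵥ x)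
      (((d⁻¹ : GL (Fin m ⊕ Fin m) F) : Mat) *ᵥ y)
    rw [gl_mulVec_inv, gl_mulVec_inv] at h1
    rw [h1]
    field_simp
  have h2 := isMaximalIn_map_conj' d⁻¹ (spGL_map_conj (inv_ne_zero hζ) hdi) h1
  rw [← subfieldSubgroup_mul, inv_mul_cancel_left] at h2
  exact h2

end Cfsg.Agent.Helper94.SpS
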