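import Mathlib
import Cfsg.Agent.Helper94.SubO1
import Cfsg.Agent.Helper94.SubO2

set_option autoImplicit false
set_option linter.unusedSectionVars false
set_option linter.unusedVariables false
set_option linter.unusedSimpArgs false
set_option linter.style.haveILetI false

/-!
# The quadratic form on the rational structure, and the geometry it provides
-/

namespace Cfsg.Agent.Helper94.SubO

open Matrix Cfsg Cfsg.Geo Cfsg.Agent.Helper13 Cfsg.Agent.Helper94.SubU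

variable {F : Type*} [Field F] [Fintype F] {n q : ℕ}

local notation "⟪" x ", " y "⟫" => Cfsg.hermForm n F q x y
local notation "Matn" => Matrix (Fin n) (Fin n) F

/-- the embedding of `F₀ ^ n` onto the rational structure -/
def emb (F₀ : Subfield F) (P : GL (Fin n) F) (x : Fin n → F₀) : Fin n → F :=
  (P : Matn) *ᵥ (fun i => (x i : F))

section Emb

variable {F₀ : Subfield F} {P : GL (Fin n) F}

theorem pr_emb (x : Fin n → F₀) : PR F₀ P (emb F₀ P x) := ⟨_, fun i => (x i).2, rfl⟩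

theorem exists_emb {v : Fin n → F} (hv : PR F₀ P v) : ∃ x, emb F₀ P x = v := by
  obtain ⟨u, hu, rfl⟩ := hv
  exact ⟨fun i => ⟨u i, hu i⟩, rfl⟩

theorem emb_add (x y : Fin n → F₀) : emb F₀ P (x + y) = emb F₀ P x + emb F₀ P y := by
  unfold emb
  rw [← Matrix.mulVec_add]
  congr 1

theorem emb_smul (c : F₀) (x : Fin n → F₀) : emb F₀ P (c • x) = (c : F) • emb F₀ P x := by
  unfold emb
  rw [← Matrix.mulVec_smul]
  congr 1

theorem emb_zero : emb F₀ P 0 = 0 := by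
  unfold emb
  have : (fun i => (((0 : Fin n → F₀) i : F₀) : F)) = 0 := by
    funext i; simp
  rw [this, Matrix.mulVec_zero]

theorem emb_injective {x y : Fin n → F₀} (h : emb F₀ P x = emb F₀ P y) : x = y := by
  have h1 := P_injective (P := P) h
  funext i
  exact Subtype.ext (congrFun h1 i)

theorem emb_ne_zero {x : Fin n → F₀} (hx : x ≠ 0) : emb F₀ P x ≠ 0 := by
  intro h
  apply hx
  apply emb_injective (P := P)
  rw [h, emb_zero]

theorem two_mem (F₀ : Subfield F) : (2 : F) ∈ F₀ := by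
  rw [← one_add_one_eq_two]
  exact F₀.add_mem F₀.one_mem F₀.one_mem

end Emb

section Fixed

variable (hF : Fintype.card F = q ^ 2) (F₀ : Subfield F)
  (hcard : Fintype.card F = Nat.card F₀ ^ 2) {P : GL (Fin n) F}
  (hP : Cfsg.Geo.IsFormRationalStructure (Cfsg.hermForm n F q) F₀ 1 P)

/-- the quadratic form on `F₀ ^ n` -/
noncomputable def Qz (x : Fin n → F₀) : F₀ :=
  ⟨⟪emb F₀ P x, emb F₀ P x⟫ / 2,
    F₀.div_mem (PR.herm_mem F₀ hP (pr_emb x) (pr_emb x)) (two_mem F₀)⟩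

theorem coe_Qz (x : Fin n → F₀) : ((Qz F₀ hP x : F₀) : F) = ⟪emb F₀ P x, emb F₀ P x⟫ / 2 := rfl

include hF hcard in
theorem coe_polar_Qz (h2 : (2 : F) ≠ 0) (x y : Fin n → F₀) :
    ((QuadraticMap.polar (Qz F₀ hP) x y : F₀) : F) = ⟪emb F₀ P x, emb F₀ P y⟫ := by
  unfold QuadraticMap.polar
  rw [Subfield.coe_sub, Subfield.coe_sub, coe_Qz, coe_Qz, coe_Qz, emb_add, hermForm_add_left,
    hermForm_add_right hF, hermForm_add_right hF,
    PR.herm_symm hF F₀ hcard hP (pr_emb y) (pr_emb x)]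
  field_simp
  ring

include hF hcard in
theorem nondeg_Qz (h2 : (2 : F) ≠ 0) : IsNondegenerateQuadraticForm (Qz F₀ hP) := by
  refine ⟨?_, ⟨?_, ?_, ?_, ?_⟩, ?_⟩
  · intro c v
    apply Subtype.ext
    rw [Subfield.coe_mul, coe_Qz, coe_Qz, emb_smul, hermForm_smul_left, hermForm_smul_right,
      pow_q_of_mem hF F₀ hcard c.2, SubmonoidClass.coe_pow]
    ring
  · intro x y v
    apply Subtype.ext
    rw [Subfield.coe_add, coe_polar_Qz hF F₀ hcard hP h2, coe_polar_Qz hF F₀ hcard hP h2,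
      coe_polar_Qz hF F₀ hcard hP h2, emb_add, hermForm_add_left]
  · intro c x v
    apply Subtype.ext
    rw [Subfield.coe_mul, coe_polar_Qz hF F₀ hcard hP h2, coe_polar_Qz hF F₀ hcard hP h2,
      emb_smul, hermForm_smul_left]
  · intro v x y
    apply Subtype.ext
    rw [Subfield.coe_add, coe_polar_Qz hF F₀ hcard hP h2, coe_polar_Qz hF F₀ hcard hP h2,
      coe_polar_Qz hF F₀ hcard hP h2, emb_add, hermForm_add_right hF]
  · intro c v x
    apply Subtype.ext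
    rw [Subfield.coe_mul, coe_polar_Qz hF F₀ hcard hP h2, coe_polar_Qz hF F₀ hcard hP h2,
      emb_smul, hermForm_smul_right, pow_q_of_mem hF F₀ hcard c.2]
  · intro v hv
    obtain ⟨y, hy, hne⟩ := exists_PR_herm_ne_zero hF F₀ hcard (P := P) (emb_ne_zero (P := P) hv)
    obtain ⟨x, rfl⟩ := exists_emb hy
    have h1 : QuadraticMap.polar (Qz F₀ hP) x v ≠ 0 := by
      intro h0
      apply hne
      rw [← coe_polar_Qz hF F₀ hcard hP h2, h0]
      rfl
    refine ⟨⟨x, h1⟩, ⟨x, ?_⟩⟩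
    rwa [QuadraticMap.polar_comm]

include hF hcard in
theorem Qz_eq_zero_iff (h2 : (2 : F) ≠ 0) (x : Fin n → F₀) :
    Qz F₀ hP x = 0 ↔ ⟪emb F₀ P x, emb F₀ P x⟫ = 0 := by
  constructor
  · intro h
    have h1 := congrArg (Subtype.val : F₀ → F) h
    rw [coe_Qz] at h1
    have h3 : ⟪emb F₀ P x, emb F₀ P x⟫ / 2 = 0 := h1
    rcases div_eq_zero_iff.mp h3 with h4 | h4
    · exact h4
    · exact absurd h4 h2
  · intro h
    apply Subtype.ext
    rw [coe_Qz, h, zero_div]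
    rfl

include hF hcard in
theorem polar_Qz_eq_zero_iff (h2 : (2 : F) ≠ 0) (x y : Fin n → F₀) :
    QuadraticMap.polar (Qz F₀ hP) x y = 0 ↔ ⟪emb F₀ P x, emb F₀ P y⟫ = 0 := by
  rw [← coe_polar_Qz hF F₀ hcard hP h2]
  constructor
  · intro h; rw [h]; rfl
  · intro h; exact Subtype.ext h

theorem two_ne_zero_sub (h2 : (2 : F) ≠ 0) : (2 : F₀) ≠ 0 := by
  intro h
  apply h2
  have h1 : ((1 : F₀) + 1 : F₀) = 0 := by rw [one_add_one_eq_two]; exact h
  have := congrArg (Subtype.val : F₀ → F) h1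
  rw [Subfield.coe_add, Subfield.coe_one, one_add_one_eq_two] at this
  exact this

/-! ### geometry of the rational structure -/

include hF hcard hP in
/-- a non-zero singular rational vector orthogonal to four given rational vectors -/
theorem exists_PR_sing_perp4 (h2 : (2 : F) ≠ 0) (hn : 7 ≤ n) {a b c d : Fin n → F}
    (ha : PR F₀ P a) (hb : PR F₀ P b) (hc : PR F₀ P c) (hd : PR F₀ P d) :
    ∃ u, PR F₀ P u ∧ u ≠ 0 ∧ ⟪u, u⟫ = 0 ∧ ⟪u, a⟫ = 0 ∧ ⟪u, b⟫ = 0 ∧ ⟪u, c⟫ = 0 ∧ ⟪u, d⟫ = 0 := by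
  haveI : Fintype F₀ := Fintype.ofFinite F₀
  obtain ⟨a, rfl⟩ := exists_emb ha
  obtain ⟨b, rfl⟩ := exists_emb hb
  obtain ⟨c, rfl⟩ := exists_emb hc
  obtain ⟨d, rfl⟩ := exists_emb hd
  obtain ⟨u, hu0, hu, hua, hub, huc, hud⟩ := exists_sing_perp4 (nondeg_Qz hF F₀ hcard hP h2)
    (two_ne_zero_sub F₀ h2) hn a b c d
  refine ⟨emb F₀ P u, pr_emb u, emb_ne_zero hu0, (Qz_eq_zero_iff hF F₀ hcard hP h2 u).1 hu,
    (polar_Qz_eq_zero_iff hF F₀ hcard hP h2 _ _).1 hua,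
    (polar_Qz_eq_zero_iff hF F₀ hcard hP h2 _ _).1 hub,
    (polar_Qz_eq_zero_iff hF F₀ hcard hP h2 _ _).1 huc,
    (polar_Qz_eq_zero_iff hF F₀ hcard hP h2 _ _).1 hud⟩

include hF hcard hP in
/-- a non-singular rational vector orthogonal to a given one -/
theorem exists_PR_nonsing_perp (h2 : (2 : F) ≠ 0) (hn : 3 ≤ n) {u : Fin n → F}
    (hu : PR F₀ P u) : ∃ s, PR F₀ P s ∧ ⟪s, u⟫ = 0 ∧ ⟪s, s⟫ ≠ 0 := by
  haveI : Fintype F₀ := Fintype.ofFinite F₀
  obtain ⟨u, rfl⟩ := exists_emb hu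
  obtain ⟨s, hsu, hss⟩ := exists_nonsing_perp (nondeg_Qz hF F₀ hcard hP h2) hn u
  refine ⟨emb F₀ P s, pr_emb s, (polar_Qz_eq_zero_iff hF F₀ hcard hP h2 _ _).1 hsu, ?_⟩
  intro h
  exact hss ((Qz_eq_zero_iff hF F₀ hcard hP h2 s).2 h)

include hF hcard hP in
/-- a singular rational vector not orthogonal to two given non-zero rational vectors -/
theorem exists_PR_sing_ne_both (h2 : (2 : F) ≠ 0) (hn : 9 ≤ n) {a b : Fin n → F}
    (ha : PR F₀ P a) (hb : PR F₀ P b) (ha0 : a ≠ 0) (hb0 : b ≠ 0) :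
    ∃ v, PR F₀ P v ∧ ⟪v, v⟫ = 0 ∧ ⟪v, a⟫ ≠ 0 ∧ ⟪v, b⟫ ≠ 0 := by
  haveI : Fintype F₀ := Fintype.ofFinite F₀
  obtain ⟨a, rfl⟩ := exists_emb ha
  obtain ⟨b, rfl⟩ := exists_emb hb
  have ha0' : a ≠ 0 := by
    rintro rfl
    exact ha0 emb_zero
  have hb0' : b ≠ 0 := by
    rintro rfl
    exact hb0 emb_zero
  obtain ⟨v, hv, hva, hvb⟩ := exists_sing_ne_both (nondeg_Qz hF F₀ hcard hP h2)
    (two_ne_zero_sub F₀ h2) hn ha0' hb0'
  refine ⟨emb F₀ P v, pr_emb v, (Qz_eq_zero_iff hF F₀ hcard hP h2 v).1 hv, ?_, ?_⟩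
  · intro h
    exact hva ((polar_Qz_eq_zero_iff hF F₀ hcard hP h2 _ _).2 h)
  · intro h
    exact hvb ((polar_Qz_eq_zero_iff hF F₀ hcard hP h2 _ _).2 h)

include hF hcard hP in
/-- induction over the rational structure from its singular vectors -/
theorem PR_induction (h2 : (2 : F) ≠ 0) (hn : 9 ≤ n) (C : (Fin n → F) → Prop)
    (hadd : ∀ v w, C v → C w → C (v + w)) (hsmul : ∀ (c : F) v, c ∈ F₀ → C v → C (c • v))
    (hsing : ∀ v, PR F₀ P v → ⟪v, v⟫ = 0 → C v) : ∀ v, PR F₀ P v → C v := by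
  haveI : Fintype F₀ := Fintype.ofFinite F₀
  have h0 : C 0 := hsing 0 PR.zero (hermForm_zero_left _)
  obtain ⟨W, hW⟩ : ∃ W : Submodule F₀ (Fin n → F₀), ∀ x, x ∈ W ↔ C (emb F₀ P x) := by
    refine ⟨{ carrier := {x | C (emb F₀ P x)}, add_mem' := ?_, zero_mem' := ?_, smul_mem' := ?_ },
      fun x => Iff.rfl⟩
    · intro x y hx hy
      show C (emb F₀ P (x + y))
      rw [emb_add]
      exact hadd _ _ hx hy
    · show C (emb F₀ P 0)
      rw [emb_zero]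
      exact h0
    · intro c x hx
      show C (emb F₀ P (c • x))
      rw [emb_smul]
      exact hsmul _ _ c.2 hx
  have h1 := top_le_of_sing (nondeg_Qz hF F₀ hcard hP h2) (two_ne_zero_sub F₀ h2) hn W (by
    intro y hy
    rw [hW]
    exact hsing _ (pr_emb y) ((Qz_eq_zero_iff hF F₀ hcard hP h2 y).1 hy))
  intro v hv
  obtain ⟨x, rfl⟩ := exists_emb hv
  exact (hW x).1 (h1 x)

include hF hcard hP in
/-- a hyperbolic partner in the rational structure -/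
theorem exists_PR_hyp (h2 : (2 : F) ≠ 0) (hn : 7 ≤ n) {u : Fin n → F} (hu : PR F₀ P u)
    (hu0 : u ≠ 0) : ∃ u', PR F₀ P u' ∧ ⟪u', u'⟫ = 0 ∧ ⟪u, u'⟫ = 1 := by
  haveI : Fintype F₀ := Fintype.ofFinite F₀
  obtain ⟨u, rfl⟩ := exists_emb hu
  have hu0' : u ≠ 0 := by
    rintro rfl
    exact hu0 emb_zero
  obtain ⟨u', hu', huu'⟩ := exists_hyp (nondeg_Qz hF F₀ hcard hP h2) (two_ne_zero_sub F₀ h2) hn
    hu0'
  refine ⟨emb F₀ P u', pr_emb u', (Qz_eq_zero_iff hF F₀ hcard hP h2 u').1 hu', ?_⟩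
  rw [← coe_polar_Qz hF F₀ hcard hP h2, huu']
  rfl

include hF hcard hP in
/-- a singular rational vector orthogonal to `b` but not to `a` -/
theorem exists_PR_sing_perp_ne (h2 : (2 : F) ≠ 0) (hn : 9 ≤ n) {a b : Fin n → F}
    (ha : PR F₀ P a) (hb : PR F₀ P b) (h : ∀ c : F, c ∈ F₀ → a ≠ c • b) :
    ∃ v, PR F₀ P v ∧ ⟪v, v⟫ = 0 ∧ ⟪v, a⟫ ≠ 0 ∧ ⟪v, b⟫ = 0 := by
  haveI : Fintype F₀ := Fintype.ofFinite F₀
  obtain ⟨a, rfl⟩ := exists_emb ha
  obtain ⟨b, rfl⟩ := exists_emb hb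
  have hab : a ∉ Submodule.span F₀ {b} := by
    intro hmem
    obtain ⟨c, hc⟩ := Submodule.mem_span_singleton.1 hmem
    apply h (c : F) c.2
    rw [← hc, emb_smul]
  obtain ⟨v, hv, hva, hvb⟩ := exists_sing_perp_ne (nondeg_Qz hF F₀ hcard hP h2)
    (two_ne_zero_sub F₀ h2) hn hab
  refine ⟨emb F₀ P v, pr_emb v, (Qz_eq_zero_iff hF F₀ hcard hP h2 v).1 hv, ?_,
    (polar_Qz_eq_zero_iff hF F₀ hcard hP h2 _ _).1 hvb⟩
  intro h'
  exact hva ((polar_Qz_eq_zero_iff hF F₀ hcard hP h2 _ _).2 h')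

end Fixed

end Cfsg.Agent.Helper94.SubO
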