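import Mathlib
import Cfsg.Agent.Helper94.SubO3
import Cfsg.Agent.Helper94.SubO4
import Cfsg.Agent.Helper13.UIwa3

set_option autoImplicit false
set_option linter.unusedSectionVars false
set_option linter.unusedVariables false
set_option linter.unusedSimpArgs false
set_option linter.style.haveILetI false

/-!
# Elements of the orthogonal subfield subgroup: Siegel elements and a torus
-/

namespace Cfsg.Agent.Helper94.SubO

open Matrix Cfsg Cfsg.Geo Cfsg.Agent.Helper13 Cfsg.Agent.Helper94.SubU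

variable {F : Type*} [Field F] [Fintype F] {n q : ℕ}

local notation "⟪" x ", " y "⟫" => Cfsg.hermForm n F q x y
local notation "Matn" => Matrix (Fin n) (Fin n) F

/-- the matrix of the torus element `u ↦ μ u`, `u' ↦ μ⁻¹ u'` -/
noncomputable def torm (q : ℕ) (u u' : Fin n → F) (μ : F) : Matrix (Fin n) (Fin n) F :=
  (1 + (μ - 1) • rankOne q u u') * (1 + (μ⁻¹ - 1) • rankOne q u' u)

theorem torm_mulVec {u u' : Fin n → F} (μ : F) (h : ⟪u', u'⟫ = 0) (y : Fin n → F) :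
    torm q u u' μ *ᵥ y = y + ((μ⁻¹ - 1) * ⟪y, u⟫) • u' + ((μ - 1) * ⟪y, u'⟫) • u := by
  unfold torm
  rw [← Matrix.mulVec_mulVec, one_add_rankOne_mulVec, one_add_rankOne_mulVec, hermForm_add_left,
    hermForm_smul_left, h, mul_zero, add_zero]

theorem det_torm {u u' : Fin n → F} {μ : F} (hμ : μ ≠ 0) (h : ⟪u, u'⟫ = 1) (h' : ⟪u', u⟫ = 1) :
    (torm q u u' μ).det = 1 := by
  unfold torm
  rw [Matrix.det_mul, det_one_add_rankOne, det_one_add_rankOne, h, h']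
  field_simp
  ring

section Fixed

variable (hF : Fintype.card F = q ^ 2) (F₀ : Subfield F)
  (hcard : Fintype.card F = Nat.card F₀ ^ 2) {P : GL (Fin n) F}
  (hP : Cfsg.Geo.IsFormRationalStructure (Cfsg.hermForm n F q) F₀ 1 P)

include hF hcard hP in
/-- the Siegel elements with rational data lie in `H` -/
theorem YY_mem (h2 : (2 : F) ≠ 0) {u s : Fin n → F} (hu : PR F₀ P u) (hs : PR F₀ P s)
    (h1 : ⟪u, u⟫ = 0) (hsu : ⟪s, u⟫ = 0) : NN q u s (-⟪s, s⟫ / 2) ∈ HH q F₀ P := by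
  have hcm : -⟪s, s⟫ / 2 ∈ F₀ :=
    F₀.div_mem (F₀.neg_mem (PR.herm_mem F₀ hP hs hs)) (two_mem F₀)
  refine Subgroup.mem_inf.mpr ⟨?_, Subgroup.mem_inf.mpr ⟨?_, NN_mem_sl _ _ _⟩⟩
  · apply mem_subfieldSubgroup_of_PR _ 1 one_ne_zero
    intro v hv
    refine ⟨_, ?_, (one_smul F _).symm⟩
    rw [NN_mulVec hF _ h1 hsu]
    exact ((hv.add (hu.smul (PR.herm_mem F₀ hP hv hs))).sub
      (hs.smul (PR.herm_mem F₀ hP hv hu))).add
      (hu.smul (F₀.mul_mem hcm (PR.herm_mem F₀ hP hv hu)))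
  · apply NN_mem_GU hF h1 hsu
    rw [pow_q_of_mem hF F₀ hcard hcm]
    field_simp
    ring

include hF hcard hP in
/-- a torus element in `H` -/
theorem exists_torus {u u' : Fin n → F} (hu : PR F₀ P u) (hu' : PR F₀ P u')
    (h1 : ⟪u, u⟫ = 0) (h1' : ⟪u', u'⟫ = 0) (huu' : ⟪u, u'⟫ = 1) {μ : F} (hμ : μ ∈ F₀)
    (hμ0 : μ ≠ 0) : ∃ d ∈ HH q F₀ P, (d : Matn) *ᵥ u = μ • u := by
  have hu'u : ⟪u', u⟫ = 1 := by
    rw [← PR.herm_symm hF F₀ hcard hP hu hu', huu']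
  have hμq : μ ^ q = μ := pow_q_of_mem hF F₀ hcard hμ
  have hμi : μ⁻¹ ∈ F₀ := F₀.inv_mem hμ
  have hμiq : μ⁻¹ ^ q = μ⁻¹ := pow_q_of_mem hF F₀ hcard hμi
  refine ⟨glOfDetOne (torm q u u' μ) (det_torm hμ0 huu' hu'u), ?_, ?_⟩
  · refine Subgroup.mem_inf.mpr ⟨?_, Subgroup.mem_inf.mpr ⟨?_, ?_⟩⟩
    · apply mem_subfieldSubgroup_of_PR _ 1 one_ne_zero
      intro v hv
      refine ⟨_, ?_, (one_smul F _).symm⟩
      rw [glOfDetOne_coe, torm_mulVec μ h1']
      exact (hv.add (hu'.smul (F₀.mul_mem (F₀.sub_mem hμi F₀.one_mem)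
        (PR.herm_mem F₀ hP hv hu)))).add
        (hu.smul (F₀.mul_mem (F₀.sub_mem hμ F₀.one_mem) (PR.herm_mem F₀ hP hv hu')))
    · rw [mem_GU_iff, glOfDetOne_coe]
      intro x y
      rw [torm_mulVec μ h1', torm_mulVec μ h1']
      simp only [hermForm_add_left, hermForm_add_right hF, hermForm_smul_left,
        hermForm_smul_right, h1, h1', huu', hu'u, mul_pow, hermForm_conj hF, frob_sub' hF,
        hμq, hμiq, one_pow, mul_zero, add_zero, mul_one]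
      field_simp
      ring
    · rw [mem_specialLinear_iff, glOfDetOne_coe]
      exact det_torm hμ0 huu' hu'u
  · rw [glOfDetOne_coe, torm_mulVec μ h1', h1, huu']
    module

include hF hcard in
/-- every element of the subfield is a sum of two squares -/
theorem exists_sq_add_sq (h2 : (2 : F) ≠ 0) {x : F} (hx : x ∈ F₀) :
    ∃ a b : F, a ∈ F₀ ∧ b ∈ F₀ ∧ x = a ^ 2 + b ^ 2 := by
  haveI : Fintype F₀ := Fintype.ofFinite F₀
  by_cases hx0 : x = 0
  · exact ⟨0, 0, F₀.zero_mem, F₀.zero_mem, by rw [hx0]; ring⟩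
  have hx0' : (⟨x, hx⟩ : F₀) ≠ 0 := by
    intro h
    exact hx0 (congrArg Subtype.val h)
  obtain ⟨s, t, hst⟩ := exists_binary_eq_one (two_ne_zero_sub F₀ h2)
    (inv_ne_zero hx0') (inv_ne_zero hx0')
  refine ⟨s, t, s.2, t.2, ?_⟩
  have h1 := congrArg (Subtype.val : F₀ → F) hst
  have h3 : x⁻¹ * (s : F) ^ 2 + x⁻¹ * (t : F) ^ 2 = 1 := by
    simpa using h1
  field_simp at h3
  linear_combination -h3

include hF hcard hP in
/-- one non-trivial transvection with rational singular centre in an overgroup of `H` gives all of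
them -/
theorem utv_of_one (h2 : (2 : F) ≠ 0) (hn : 7 ≤ n) {M : Subgroup (GL (Fin n) F)}
    (hHM : HH q F₀ P ≤ M) {u : Fin n → F} (hu : PR F₀ P u) (hu0 : u ≠ 0) (h1 : ⟪u, u⟫ = 0)
    {κ₀ : F} (hκ₀ : κ₀ ≠ 0) (hκ₀' : κ₀ + κ₀ ^ q = 0) (hmem : NN q u 0 κ₀ ∈ M) :
    u ∈ utvVecs q M := by
  obtain ⟨u', hu', h1', huu'⟩ := exists_PR_hyp hF F₀ hcard hP h2 hn hu hu0
  have key : ∀ a : F, a ∈ F₀ → NN q u 0 (κ₀ * a ^ 2) ∈ M := by
    intro a ha
    by_cases ha0 : a = 0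
    · rw [ha0]
      have : κ₀ * (0 : F) ^ 2 = 0 := by ring
      rw [this, NN_zero_zero hF h1]
      exact M.one_mem
    obtain ⟨d, hd, hdu⟩ := exists_torus hF F₀ hcard hP hu hu' h1 h1' huu' ha ha0
    have hdU : IsU q (d : Matn) := (mem_GU_iff d).mp hd.2.1
    have h3 := NN_conj hF d hdU κ₀ h1 (hermForm_zero_left u)
    rw [hdu, Matrix.mulVec_zero] at h3
    have h4 : NN q (a • u) 0 κ₀ = NN q u 0 (κ₀ * a ^ 2) := by
      have h1a : ⟪a • u, a • u⟫ = 0 := by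
        rw [hermForm_smul_left, hermForm_smul_right, h1, mul_zero, mul_zero]
      apply Units.ext
      rw [NN_zero_coe hF _ h1a, NN_zero_coe hF _ h1, unitaryTransvection_smul,
        pow_q_of_mem hF F₀ hcard ha]
      congr 1
      ring
    rw [← h4, ← h3]
    exact M.mul_mem (M.mul_mem (hHM hd) hmem) (M.inv_mem (hHM hd))
  apply mem_utvVecs_of_NN hF h1
  intro κ hκ
  have hx : κ / κ₀ ∈ F₀ := by
    apply mem_of_pow_q hF F₀ hcard
    have e1 : κ ^ q = -κ := by linear_combination hκ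
    have e2 : κ₀ ^ q = -κ₀ := by linear_combination hκ₀'
    rw [div_pow, e1, e2, neg_div_neg_eq]
  obtain ⟨a, b, ha, hb, hab⟩ := exists_sq_add_sq hF F₀ hcard h2 hx
  have h5 := NN_mul hF (κ₀ * a ^ 2) (κ₀ * b ^ 2) h1 (hermForm_zero_left u) (hermForm_zero_left u)
  rw [add_zero, hermForm_zero_left, sub_zero] at h5
  have h6 : κ₀ * a ^ 2 + κ₀ * b ^ 2 = κ := by
    rw [← mul_add, ← hab, mul_div_cancel₀ _ hκ₀]
  rw [h6] at h5
  rw [← h5]
  exact M.mul_mem (key a ha) (key b hb)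

include hF hcard hP in
/-- the transvections with rational singular centre do not lie in `H` -/
theorem NN_zero_not_mem (h2 : (2 : F) ≠ 0) {u : Fin n → F} (hu : PR F₀ P u) (hu0 : u ≠ 0)
    (h1 : ⟪u, u⟫ = 0) {κ : F} (hκ : κ ∉ F₀) : NN q u 0 κ ∉ Cfsg.Geo.subfieldSubgroup F₀ P := by
  intro hmem
  obtain ⟨lam, hlam, h⟩ := PR_of_mem_subfieldSubgroup _ hmem
  have hN : ∀ y, ((NN q u 0 κ : GL (Fin n) F) : Matn) *ᵥ y = y + (κ * ⟪y, u⟫) • u := by
    intro y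
    rw [NN_mulVec hF κ h1 (hermForm_zero_left u), hermForm_zero_right hF]
    module
  obtain ⟨v', hv', hgv⟩ := h u hu
  rw [hN, h1, mul_zero, zero_smul, add_zero] at hgv
  have hlam' : lam ∈ F₀ := PR.scalar_mem hu hv' hu0 hgv
  obtain ⟨y, hy, hyu⟩ := exists_PR_herm_ne_zero hF F₀ hcard (P := P) hu0
  obtain ⟨v'', hv'', hgy⟩ := h y hy
  rw [hN] at hgy
  have h3 : PR F₀ P ((κ * ⟪y, u⟫) • u) := by
    have : (κ * ⟪y, u⟫) • u = lam • v'' - y := by
      rw [← hgy]; abel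
    rw [this]
    exact (hv''.smul hlam').sub hy
  have h4 : κ * ⟪y, u⟫ ∈ F₀ := by
    by_cases h0 : (κ * ⟪y, u⟫) • u = 0
    · rcases smul_eq_zero.mp h0 with h | h
      · rw [h]; exact F₀.zero_mem
      · exact absurd h hu0
    · exact PR.scalar_mem h3 hu h0 rfl
  apply hκ
  have : κ = κ * ⟪y, u⟫ / ⟪y, u⟫ := by
    rw [mul_div_cancel_right₀ _ hyu]
  rw [this]
  exact F₀.div_mem h4 (PR.herm_mem F₀ hP hy hu)

end Fixed

end Cfsg.Agent.Helper94.SubO
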