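import Mathlib
import Cfsg.Agent.Helper94.SubO5

set_option autoImplicit false
set_option linter.unusedSectionVars false
set_option linter.unusedVariables false
set_option linter.unusedSimpArgs false
set_option linter.style.haveILetI false

/-!
# An overgroup of the orthogonal subfield subgroup contains an element outside it fixing a rational
singular vector
-/

namespace Cfsg.Agent.Helper94.SubO

open Matrix Cfsg Cfsg.Geo Cfsg.Agent.Helper13 Cfsg.Agent.Helper94.SubU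

variable {F : Type*} [Field F] [Fintype F] {n q : ℕ}

local notation "⟪" x ", " y "⟫" => Cfsg.hermForm n F q x y
local notation "Matn" => Matrix (Fin n) (Fin n) F

section Fixed

variable (hF : Fintype.card F = q ^ 2) (F₀ : Subfield F)
  (hcard : Fintype.card F = Nat.card F₀ ^ 2) {P : GL (Fin n) F}
  (hP : Cfsg.Geo.IsFormRationalStructure (Cfsg.hermForm n F q) F₀ 1 P)

include hF hcard hP in
/-- if `N(x; w, c)` lies in the subfield group, with `w` anisotropic, then `x` is proportional to a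
rational vector -/
theorem centre_rational {x w : Fin n → F} {c : F} (hx0 : x ≠ 0) (h1 : ⟪x, x⟫ = 0)
    (h2 : ⟪w, x⟫ = 0) (hww : ⟪w, w⟫ ≠ 0)
    (hmem : NN q x w c ∈ Cfsg.Geo.subfieldSubgroup F₀ P) {z : Fin n → F} (hz : PR F₀ P z)
    (hz0 : z ≠ 0) (hzx : ⟪z, x⟫ = 0) (hzw : ⟪z, w⟫ = 0) :
    ∃ ξ : F, ∃ a, PR F₀ P a ∧ x = ξ • a := by
  obtain ⟨lam, hlam, h⟩ := PR_of_mem_subfieldSubgroup _ hmem
  have hxw : ⟪x, w⟫ = 0 := herm_swap_zero hF h2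
  have hXz : ((NN q x w c : GL (Fin n) F) : Matn) *ᵥ z = z := by
    rw [NN_mulVec hF c h1 h2, hzx, hzw]
    module
  obtain ⟨v', hv', hgv⟩ := h z hz
  rw [hXz] at hgv
  have hlam' : lam ∈ F₀ := PR.scalar_mem hz hv' hz0 hgv
  have hmap : ∀ v, PR F₀ P v → PR F₀ P (((NN q x w c : GL (Fin n) F) : Matn) *ᵥ v) := by
    intro v hv
    obtain ⟨v'', hv'', hgv''⟩ := h v hv
    rw [hgv'']
    exact hv''.smul hlam'
  obtain ⟨y, hy, hyx⟩ := exists_PR_herm_ne_zero hF F₀ hcard (P := P) hx0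
  obtain ⟨y₁, hy₁⟩ : ∃ y₁, y₁ = ((NN q x w c : GL (Fin n) F) : Matn) *ᵥ y - y := ⟨_, rfl⟩
  have hy₁PR : PR F₀ P y₁ := by
    rw [hy₁]
    exact (hmap y hy).sub hy
  have hy₁' : y₁ = ⟪y, w⟫ • x - ⟪y, x⟫ • w + (c * ⟪y, x⟫) • x := by
    rw [hy₁, NN_mulVec hF c h1 h2]
    abel
  have e1 : ⟪y₁, x⟫ = 0 := by
    rw [hy₁']
    simp only [hermForm_add_left, hermForm_sub_left, hermForm_smul_left, h1, h2]
    ring
  have e2 : ⟪y₁, w⟫ = -(⟪y, x⟫ * ⟪w, w⟫) := by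
    rw [hy₁']
    simp only [hermForm_add_left, hermForm_sub_left, hermForm_smul_left, hxw]
    ring
  have hy₂PR : PR F₀ P (((NN q x w c : GL (Fin n) F) : Matn) *ᵥ y₁ - y₁) :=
    (hmap y₁ hy₁PR).sub hy₁PR
  have hy₂ : ((NN q x w c : GL (Fin n) F) : Matn) *ᵥ y₁ - y₁ = (-(⟪y, x⟫ * ⟪w, w⟫)) • x := by
    rw [NN_mulVec hF c h1 h2, e1, e2]
    module
  rw [hy₂] at hy₂PR
  have hne : -(⟪y, x⟫ * ⟪w, w⟫) ≠ 0 := neg_ne_zero.2 (mul_ne_zero hyx hww)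
  refine ⟨(-(⟪y, x⟫ * ⟪w, w⟫))⁻¹, _, hy₂PR, ?_⟩
  rw [smul_smul, inv_mul_cancel₀ hne, one_smul]

include hF hcard hP in
/-- a unitary element mapping the rational singular points to rational points lies in the subfield
group -/
theorem mem_subfield_of_sing (h2 : (2 : F) ≠ 0) (hn : 9 ≤ n) (g : GL (Fin n) F)
    (hg : IsU q (g : Matn))
    (h : ∀ u, PR F₀ P u → u ≠ 0 → ⟪u, u⟫ = 0 → ∃ ξ : F, ∃ a, PR F₀ P a ∧ (g : Matn) *ᵥ u = ξ • a) :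
    g ∈ Cfsg.Geo.subfieldSubgroup F₀ P := by
  obtain ⟨u₀, hu₀, hu₀0, hu₀s, -⟩ := exists_PR_sing_perp4 hF F₀ hcard hP h2 (by omega)
    (PR.zero (F₀ := F₀) (P := P)) (PR.zero (F₀ := F₀) (P := P)) (PR.zero (F₀ := F₀) (P := P))
    (PR.zero (F₀ := F₀) (P := P))
  obtain ⟨ξ₀, a₀, ha₀, hga₀⟩ := h u₀ hu₀ hu₀0 hu₀s
  have hgne : ∀ v : Fin n → F, v ≠ 0 → (g : Matn) *ᵥ v ≠ 0 := by
    intro v hv h0
    apply hv
    apply glU_mulVec_injective g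
    rw [h0, Matrix.mulVec_zero]
  have hξ₀ : ξ₀ ≠ 0 := by
    rintro rfl
    rw [zero_smul] at hga₀
    exact hgne u₀ hu₀0 hga₀
  have hsing : ∀ u, PR F₀ P u → ⟪u, u⟫ = 0 → ∃ a, PR F₀ P a ∧ (g : Matn) *ᵥ u = ξ₀ • a := by
    intro u hu hus
    by_cases hu0 : u = 0
    · refine ⟨0, PR.zero, ?_⟩
      rw [hu0, Matrix.mulVec_zero, smul_zero]
    obtain ⟨z, hz, hzs, hzu₀, hzu⟩ := exists_PR_sing_ne_both hF F₀ hcard hP h2 hn hu₀ hu hu₀0 hu0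
    have hz0 : z ≠ 0 := by
      rintro rfl
      exact hzu (hermForm_zero_left u)
    obtain ⟨ξz, az, haz, hgz⟩ := h z hz hz0 hzs
    obtain ⟨ξu, au, hau, hgu⟩ := h u hu hu0 hus
    have e0 : ξz * ξ₀ ^ q * ⟪az, a₀⟫ = ⟪z, u₀⟫ := by
      rw [← hg z u₀, hgz, hga₀, hermForm_smul_left, hermForm_smul_right]
      ring
    have e1 : ξz * ξu ^ q * ⟪az, au⟫ = ⟪z, u⟫ := by
      rw [← hg z u, hgz, hgu, hermForm_smul_left, hermForm_smul_right]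
      ring
    have hγ₀ : ⟪az, a₀⟫ ≠ 0 := by
      intro h0
      rw [h0, mul_zero] at e0
      exact hzu₀ e0.symm
    have hγ : ⟪az, au⟫ ≠ 0 := by
      intro h0
      rw [h0, mul_zero] at e1
      exact hzu e1.symm
    have hξz : ξz ≠ 0 := by
      rintro rfl
      rw [zero_mul, zero_mul] at e0
      exact hzu₀ e0.symm
    have m0 : ξz * ξ₀ ^ q ∈ F₀ := by
      have : ξz * ξ₀ ^ q = ⟪z, u₀⟫ / ⟪az, a₀⟫ := by
        rw [← e0, mul_div_cancel_right₀ _ hγ₀]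
      rw [this]
      exact F₀.div_mem (PR.herm_mem F₀ hP hz hu₀) (PR.herm_mem F₀ hP haz ha₀)
    have m1 : ξz * ξu ^ q ∈ F₀ := by
      have : ξz * ξu ^ q = ⟪z, u⟫ / ⟪az, au⟫ := by
        rw [← e1, mul_div_cancel_right₀ _ hγ]
      rw [this]
      exact F₀.div_mem (PR.herm_mem F₀ hP hz hu) (PR.herm_mem F₀ hP haz hau)
    have hξ₀q : ξ₀ ^ q ≠ 0 := pow_ne_zero _ hξ₀
    have m2 : (ξu / ξ₀) ^ q ∈ F₀ := by
      have : (ξu / ξ₀) ^ q = (ξz * ξu ^ q) / (ξz * ξ₀ ^ q) := by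
        rw [div_pow]
        field_simp
      rw [this]
      exact F₀.div_mem m1 m0
    have m3 : ξu / ξ₀ ∈ F₀ := by
      rw [← frob_frob hF (ξu / ξ₀)]
      exact F₀.pow_mem m2 q
    refine ⟨(ξu / ξ₀) • au, hau.smul m3, ?_⟩
    rw [hgu, smul_smul, mul_div_cancel₀ _ hξ₀]
  have hall : ∀ v, PR F₀ P v → ∃ a, PR F₀ P a ∧ (g : Matn) *ᵥ v = ξ₀ • a := by
    apply PR_induction hF F₀ hcard hP h2 hn
    · rintro v w ⟨a, ha, hva⟩ ⟨b, hb, hwb⟩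
      refine ⟨a + b, ha.add hb, ?_⟩
      rw [Matrix.mulVec_add, hva, hwb, smul_add]
    · rintro c v hc ⟨a, ha, hva⟩
      refine ⟨c • a, ha.smul hc, ?_⟩
      rw [Matrix.mulVec_smul, hva, smul_comm]
    · exact hsing
  exact mem_subfieldSubgroup_of_PR g ξ₀ hξ₀ hall

include hF hcard hP in
/-- **Step A**: an overgroup of `H` in `SU` that is not `H` contains an element outside `H` fixing a
non-zero rational singular vector -/
theorem exists_fixing (h2 : (2 : F) ≠ 0) (hn : 9 ≤ n) {θ : F} (hθ : θ ∉ F₀)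
    {M : Subgroup (GL (Fin n) F)} (hHM : HH q F₀ P ≤ M)
    (hMG : M ≤ Cfsg.GU n F q ⊓ Cfsg.Geo.specialLinear (Fin n) F) {g : GL (Fin n) F}
    (hgM : g ∈ M) (hgH : g ∉ HH q F₀ P) :
    ∃ m ∈ M, m ∉ HH q F₀ P ∧ ∃ u, PR F₀ P u ∧ u ≠ 0 ∧ ⟪u, u⟫ = 0 ∧ (m : Matn) *ᵥ u = u := by
  by_contra hcon
  push Not at hcon
  have hgU : IsU q (g : Matn) := (mem_GU_iff g).mp (hMG hgM).1
  apply hgH
  refine Subgroup.mem_inf.mpr ⟨?_, hMG hgM⟩
  apply mem_subfield_of_sing hF F₀ hcard hP h2 hn g hgU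
  intro u₁ hu₁ hu₁0 hu₁s
  obtain ⟨s₁, hs₁, hs₁u₁, hs₁s₁⟩ := exists_PR_nonsing_perp hF F₀ hcard hP h2 (by omega) hu₁
  have hY := YY_mem hF F₀ hcard hP h2 hu₁ hs₁ hu₁s hs₁u₁
  have hXM : g * NN q u₁ s₁ (-⟪s₁, s₁⟫ / 2) * g⁻¹ ∈ M :=
    M.mul_mem (M.mul_mem hgM (hHM hY)) (M.inv_mem hgM)
  rw [NN_conj hF g hgU _ hu₁s hs₁u₁] at hXM
  obtain ⟨x, hx⟩ : ∃ x, x = (g : Matn) *ᵥ u₁ := ⟨_, rfl⟩
  obtain ⟨w, hw⟩ : ∃ w, w = (g : Matn) *ᵥ s₁ := ⟨_, rfl⟩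
  rw [← hx, ← hw] at hXM
  have h1x : ⟪x, x⟫ = 0 := by rw [hx, hgU, hu₁s]
  have h2x : ⟪w, x⟫ = 0 := by rw [hx, hw, hgU, hs₁u₁]
  have hww : ⟪w, w⟫ ≠ 0 := by rw [hw, hgU]; exact hs₁s₁
  have hx0 : x ≠ 0 := by
    rw [hx]
    intro h0
    apply hu₁0
    apply glU_mulVec_injective g
    rw [h0, Matrix.mulVec_zero]
  obtain ⟨a, b, ha, hb, hxab⟩ := exists_decomp hF F₀ hcard (P := P) hθ x
  obtain ⟨a', b', ha', hb', hwab⟩ := exists_decomp hF F₀ hcard (P := P) hθ w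
  obtain ⟨u', hu', hu'0, hu's, hu'a, hu'b, hu'a', hu'b'⟩ :=
    exists_PR_sing_perp4 hF F₀ hcard hP h2 (by omega) ha hb ha' hb'
  have hu'x : ⟪u', x⟫ = 0 := by
    rw [hxab, hermForm_add_right hF, hermForm_smul_right, hu'a, hu'b]
    ring
  have hu'w : ⟪u', w⟫ = 0 := by
    rw [hwab, hermForm_add_right hF, hermForm_smul_right, hu'a', hu'b']
    ring
  have hXu' : ((NN q x w (-⟪s₁, s₁⟫ / 2) : GL (Fin n) F) : Matn) *ᵥ u' = u' := by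
    rw [NN_mulVec hF _ h1x h2x, hu'x, hu'w]
    module
  have hXH : NN q x w (-⟪s₁, s₁⟫ / 2) ∈ HH q F₀ P := by
    by_contra hX
    exact hcon _ hXM hX u' hu' hu'0 hu's hXu'
  rw [← hx]
  exact centre_rational hF F₀ hcard hP hx0 h1x h2x hww (Subgroup.mem_inf.mp hXH).1 hu' hu'0 hu'x
    hu'w

end Fixed

end Cfsg.Agent.Helper94.SubO
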