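import Mathlib
import Cfsg.Agent.Helper94.SubO6

set_option autoImplicit false
set_option linter.unusedSectionVars false
set_option linter.unusedVariables false
set_option linter.unusedSimpArgs false
set_option linter.style.haveILetI false

/-!
# From an element fixing a rational singular vector to a transvection
-/

namespace Cfsg.Agent.Helper94.SubO

open Matrix Cfsg Cfsg.Geo Cfsg.Agent.Helper13 Cfsg.Agent.Helper94.SubU

variable {F : Type*} [Field F] [Fintype F] {n q : ℕ}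

local notation "⟪" x ", " y "⟫" => Cfsg.hermForm n F q x y
local notation "Matn" => Matrix (Fin n) (Fin n) F

section Fixed

variable (hF : Fintype.card F = q ^ 2) (F₀ : Subfield F)
  (hcard : Fintype.card F = Nat.card F₀ ^ 2) {P : GL (Fin n) F}
  (hP : Cfsg.Geo.IsFormRationalStructure (Cfsg.hermForm n F q) F₀ 1 P)

include hF hcard hP in
/-- the two parts of a vector orthogonal to a rational vector are orthogonal to it -/
theorem perp_parts {θ : F} (hθ : θ ∉ F₀) {a b v : Fin n → F} (ha : PR F₀ P a) (hb : PR F₀ P b)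
    (hv : PR F₀ P v) (h : ⟪a + θ • b, v⟫ = 0) : ⟪a, v⟫ = 0 ∧ ⟪b, v⟫ = 0 := by
  rw [hermForm_add_left, hermForm_smul_left] at h
  exact scal_unique F₀ hθ (PR.herm_mem F₀ hP ha hv) (PR.herm_mem F₀ hP hb hv) h

include hF hcard hP in
/-- a rational vector orthogonal to the rational part of `u^⊥` is a multiple of `u` -/
theorem eq_smul_of_perp_perp {u u' : Fin n → F} (hu : PR F₀ P u) (hu' : PR F₀ P u')
    (huu' : ⟪u, u'⟫ = 1) {b : Fin n → F} (hb : PR F₀ P b)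
    (h : ∀ s, PR F₀ P s → ⟪s, u⟫ = 0 → ⟪b, s⟫ = 0) : b = ⟪b, u'⟫ • u := by
  have hu'u : ⟪u', u⟫ = 1 := by
    rw [← PR.herm_symm hF F₀ hcard hP hu hu', huu']
  have key : b - ⟪b, u'⟫ • u = 0 := by
    apply eq_zero_of_PR_perp hF F₀ hcard (P := P)
    intro y hy
    have hs : PR F₀ P (y - ⟪y, u⟫ • u') := hy.sub (hu'.smul (PR.herm_mem F₀ hP hy hu))
    have hsu : ⟪y - ⟪y, u⟫ • u', u⟫ = 0 := by
      rw [hermForm_sub_left, hermForm_smul_left, hu'u]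
      ring
    have h3 := h _ hs hsu
    rw [hermForm_sub_right hF, hermForm_smul_right, PR.herm_pow hF F₀ hcard hP hy hu] at h3
    rw [hermForm_sub_right hF, hermForm_smul_right, PR.herm_pow hF F₀ hcard hP hb hu',
      PR.herm_symm hF F₀ hcard hP hy hb]
    linear_combination h3
  exact sub_eq_zero.mp key

/-- an invertible map preserving the rational part of `u^⊥` is onto it -/
theorem surj_on_perp (m : GL (Fin n) F) (u : Fin n → F)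
    (hmap : ∀ s, PR F₀ P s → ⟪s, u⟫ = 0 →
      PR F₀ P ((m : Matn) *ᵥ s) ∧ ⟪(m : Matn) *ᵥ s, u⟫ = 0) :
    ∀ s', PR F₀ P s' → ⟪s', u⟫ = 0 → ∃ s, PR F₀ P s ∧ ⟪s, u⟫ = 0 ∧ (m : Matn) *ᵥ s = s' := by
  obtain ⟨S, hS⟩ : ∃ S : Set (Fin n → F), S = {s | PR F₀ P s ∧ ⟪s, u⟫ = 0} := ⟨_, rfl⟩
  have hfin : S.Finite := Set.toFinite S
  have hmaps : Set.MapsTo (fun s => (m : Matn) *ᵥ s) S S := by
    intro s hs
    rw [hS] at hs ⊢
    exact hmap s hs.1 hs.2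
  have hinj : Set.InjOn (fun s => (m : Matn) *ᵥ s) S := by
    intro x _ y _ hxy
    exact glU_mulVec_injective m hxy
  have hbij := (Set.Finite.injOn_iff_bijOn_of_mapsTo hfin hmaps).mp hinj
  intro s' hs' hs'u
  have hs'S : s' ∈ S := by rw [hS]; exact ⟨hs', hs'u⟩
  obtain ⟨s, hsS, hss'⟩ := hbij.surjOn hs'S
  rw [hS] at hsS
  exact ⟨s, hsS.1, hsS.2, hss'⟩

variable {θ : F} (hθ0 : θ ≠ 0) (hθq : θ ^ q = -θ) (hθ : θ ∉ F₀)
  {M : Subgroup (GL (Fin n) F)} (hHM : HH q F₀ P ≤ M)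
  (hMG : M ≤ Cfsg.GU n F q ⊓ Cfsg.Geo.specialLinear (Fin n) F)
  {m : GL (Fin n) F} (hmM : m ∈ M) {u : Fin n → F} (hu : PR F₀ P u)
  (h1 : Cfsg.hermForm n F q u u = 0)
  (hmu : (m : Matrix (Fin n) (Fin n) F) *ᵥ u = u)

include hF hcard hP hHM hMG hmM hu h1 hmu in
/-- conjugates of the Siegel elements at `u` -/
theorem conj_YY_mem (h2 : (2 : F) ≠ 0) {s : Fin n → F} (hs : PR F₀ P s) (hsu : ⟪s, u⟫ = 0) :
    NN q u ((m : Matn) *ᵥ s) (-⟪s, s⟫ / 2) ∈ M := by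
  have hmU : IsU q (m : Matn) := (mem_GU_iff m).mp (hMG hmM).1
  have hY := YY_mem hF F₀ hcard hP h2 hu hs h1 hsu
  have h3 : m * NN q u s (-⟪s, s⟫ / 2) * m⁻¹ ∈ M :=
    M.mul_mem (M.mul_mem hmM (hHM hY)) (M.inv_mem hmM)
  rwa [NN_conj hF m hmU _ h1 hsu, hmu] at h3

include hF hcard hP hHM hMG hmM hu h1 hmu hθ0 hθq hθ in
/-- case (a): some `θ`-part is not orthogonal to the rational part of `u^⊥` -/
theorem transvection_caseA (h2 : (2 : F) ≠ 0) {s s' : Fin n → F} (hs : PR F₀ P s)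
    (hsu : ⟪s, u⟫ = 0) (hs' : PR F₀ P s') (hs'u : ⟪s', u⟫ = 0)
    (hne : ⟪pb q θ P ((m : Matn) *ᵥ s), s'⟫ ≠ 0) :
    ∃ κ : F, κ ≠ 0 ∧ κ + κ ^ q = 0 ∧ NN q u 0 κ ∈ M := by
  have hmU : IsU q (m : Matn) := (mem_GU_iff m).mp (hMG hmM).1
  obtain ⟨w, hw⟩ : ∃ w, w = (m : Matn) *ᵥ s := ⟨_, rfl⟩
  obtain ⟨A, hA⟩ : ∃ A, A = pa q θ P w := ⟨_, rfl⟩
  obtain ⟨B, hB⟩ : ∃ B, B = pb q θ P w := ⟨_, rfl⟩
  have hAPR : PR F₀ P A := hA ▸ pr_pa hF F₀ hcard hθ w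
  have hBPR : PR F₀ P B := hB ▸ pr_pb hF F₀ hcard hθ w
  have hwAB : w = A + θ • B := by rw [hA, hB, pa_add_pb]
  rw [← hw, ← hB] at hne
  have hwu : ⟪w, u⟫ = 0 := by
    rw [hw, ← hmu, hmU, hsu]
  have hN : NN q u w (-⟪s, s⟫ / 2) ∈ M := by
    rw [hw]
    exact conj_YY_mem hF F₀ hcard hP hHM hMG hmM hu h1 hmu h2 hs hsu
  have hN' : NN q u s' (-⟪s', s'⟫ / 2) ∈ M := hHM (YY_mem hF F₀ hcard hP h2 hu hs' h1 hs'u)
  obtain ⟨c, hc⟩ : ∃ c, c = -⟪s, s⟫ / 2 := ⟨_, rfl⟩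
  obtain ⟨c', hc'⟩ : ∃ c', c' = -⟪s', s'⟫ / 2 := ⟨_, rfl⟩
  rw [← hc] at hN
  rw [← hc'] at hN'
  have e1 := NN_mul hF c c' h1 hwu hs'u
  have e2 := NN_mul hF c' c h1 hs'u hwu
  obtain ⟨κ, hκ⟩ : ∃ κ, κ = ⟪w, s'⟫ - ⟪s', w⟫ := ⟨_, rfl⟩
  have hs'wu : ⟪s' + w, u⟫ = 0 := by rw [hermForm_add_left, hs'u, hwu, add_zero]
  have e3 := NN_mul hF (c' + c - ⟪w, s'⟫) κ h1 hs'wu (hermForm_zero_left u)
  have e4 : s' + w + 0 = w + s' := by abel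
  have e5 : c' + c - ⟪w, s'⟫ + κ - ⟪(0 : Fin n → F), s' + w⟫ = c + c' - ⟪s', w⟫ := by
    rw [hermForm_zero_left, hκ]
    ring
  rw [e4, e5, ← e1, ← e2] at e3
  have hκM : NN q u 0 κ ∈ M := by
    have : NN q u 0 κ = (NN q u s' c' * NN q u w c)⁻¹ * (NN q u w c * NN q u s' c') := by
      rw [← e3]
      group
    rw [this]
    exact M.mul_mem (M.inv_mem (M.mul_mem hN' hN)) (M.mul_mem hN hN')
  have hκ' : κ = 2 * θ * ⟪B, s'⟫ := by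
    rw [hκ, hwAB, hermForm_add_left, hermForm_smul_left, hermForm_add_right hF,
      hermForm_smul_right, hθq, PR.herm_symm hF F₀ hcard hP hs' hAPR,
      PR.herm_symm hF F₀ hcard hP hs' hBPR]
    ring
  refine ⟨κ, ?_, ?_, hκM⟩
  · rw [hκ']
    exact mul_ne_zero (mul_ne_zero h2 hθ0) hne
  · rw [hκ', mul_pow, mul_pow, hθq, PR.herm_pow hF F₀ hcard hP hBPR hs',
      pow_q_of_mem hF F₀ hcard (two_mem F₀)]
    ring

include hF hcard hP hHM hMG hmM hu h1 hmu hθ0 hθq hθ in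
/-- case (b): some `θ`-part is a non-zero multiple of `u` -/
theorem transvection_caseB (h2 : (2 : F) ≠ 0) {s : Fin n → F} (hs : PR F₀ P s)
    (hsu : ⟪s, u⟫ = 0) {φ : F} (hφ : φ ∈ F₀) (hφ0 : φ ≠ 0)
    (hB : pb q θ P ((m : Matn) *ᵥ s) = φ • u) :
    ∃ κ : F, κ ≠ 0 ∧ κ + κ ^ q = 0 ∧ NN q u 0 κ ∈ M := by
  have hmU : IsU q (m : Matn) := (mem_GU_iff m).mp (hMG hmM).1
  obtain ⟨w, hw⟩ : ∃ w, w = (m : Matn) *ᵥ s := ⟨_, rfl⟩
  obtain ⟨A, hA⟩ : ∃ A, A = pa q θ P w := ⟨_, rfl⟩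
  have hAPR : PR F₀ P A := hA ▸ pr_pa hF F₀ hcard hθ w
  have hwAB : w = A + (θ * φ) • u := by
    rw [hA, mul_smul, ← hB, ← hw, pa_add_pb]
  have hwu : ⟪w, u⟫ = 0 := by
    rw [hw, ← hmu, hmU, hsu]
  have hAu : ⟪A, u⟫ = 0 := by
    have h3 := hwu
    rw [hwAB, hermForm_add_left, hermForm_smul_left, h1, mul_zero, add_zero] at h3
    exact h3
  have huA : ⟪u, A⟫ = 0 := herm_swap_zero hF hAu
  have hAA : ⟪A, A⟫ = ⟪s, s⟫ := by
    have h3 : ⟪w, w⟫ = ⟪s, s⟫ := by rw [hw, hmU]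
    rw [← h3, hwAB]
    simp only [hermForm_add_left, hermForm_add_right hF, hermForm_smul_left, hermForm_smul_right,
      h1, hAu, huA, mul_zero, add_zero]
  have hN : NN q u w (-⟪s, s⟫ / 2) ∈ M := by
    rw [hw]
    exact conj_YY_mem hF F₀ hcard hP hHM hMG hmM hu h1 hmu h2 hs hsu
  rw [hwAB, NN_shift hF _ _ h1 hAu, ← hAA] at hN
  have hYA : NN q u A (-⟪A, A⟫ / 2) ∈ M := hHM (YY_mem hF F₀ hcard hP h2 hu hAPR h1 hAu)
  obtain ⟨κ, hκ⟩ : ∃ κ, κ = (θ * φ) ^ q - θ * φ := ⟨_, rfl⟩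
  have e3 := NN_mul hF (-⟪A, A⟫ / 2) κ h1 hAu (hermForm_zero_left u)
  rw [add_zero, hermForm_zero_left, sub_zero] at e3
  have e4 : -⟪A, A⟫ / 2 + κ = -⟪A, A⟫ / 2 + (θ * φ) ^ q - θ * φ := by
    rw [hκ]; ring
  rw [e4] at e3
  have hκM : NN q u 0 κ ∈ M := by
    have : NN q u 0 κ = (NN q u A (-⟪A, A⟫ / 2))⁻¹ *
        NN q u A (-⟪A, A⟫ / 2 + (θ * φ) ^ q - θ * φ) := by
      rw [← e3]
      group
    rw [this]
    exact M.mul_mem (M.inv_mem hYA) hN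
  have hκ' : κ = -(2 * θ * φ) := by
    rw [hκ, mul_pow, hθq, pow_q_of_mem hF F₀ hcard hφ]
    ring
  refine ⟨κ, ?_, ?_, hκM⟩
  · rw [hκ']
    exact neg_ne_zero.2 (mul_ne_zero (mul_ne_zero h2 hθ0) hφ0)
  · rw [hκ', frob_neg' hF, mul_pow, mul_pow, hθq, pow_q_of_mem hF F₀ hcard hφ,
      pow_q_of_mem hF F₀ hcard (two_mem F₀)]
    ring

end Fixed

end Cfsg.Agent.Helper94.SubO
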