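import Mathlib
import Cfsg.Agent.Helper94.SubO7

set_option autoImplicit false
set_option linter.unusedSectionVars false
set_option linter.unusedVariables false
set_option linter.unusedSimpArgs false
set_option linter.style.haveILetI false

/-!
# From an element fixing a rational singular vector to a transvection: the last case
-/

namespace Cfsg.Agent.Helper94.SubO

open Matrix Cfsg Cfsg.Geo Cfsg.Agent.Helper13 Cfsg.Agent.Helper94.SubU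

variable {F : Type*} [Field F] [Fintype F] {n q : ℕ}

local notation "⟪" x ", " y "⟫" => Cfsg.hermForm n F q x y
local notation "Matn" => Matrix (Fin n) (Fin n) F

section Fixed

variable (hF : Fintype.card F = q ^ 2) (F₀ : Subfield F)
  (hcard : Fintype.card F = Nat.card F₀ ^ 2) {P : GL (Fin n) F}
  (hP : Cfsg.Geo.IsFormRationalStructure (Cfsg.hermForm n F q) F₀ 1 P)
  {θ : F} (hθ0 : θ ≠ 0) (hθq : θ ^ q = -θ) (hθ : θ ∉ F₀)
  {M : Subgroup (GL (Fin n) F)} (hHM : HH q F₀ P ≤ M)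
  (hMG : M ≤ Cfsg.GU n F q ⊓ Cfsg.Geo.specialLinear (Fin n) F)
  {m : GL (Fin n) F} (hmM : m ∈ M) {u : Fin n → F} (hu : PR F₀ P u)
  (h1 : Cfsg.hermForm n F q u u = 0)
  (hmu : (m : Matrix (Fin n) (Fin n) F) *ᵥ u = u)

include hF hcard hP hHM hMG hmM hu h1 hmu hθ0 hθq hθ in
/-- case (c): the rational part of `u^⊥` is preserved -/
theorem transvection_caseC (h2 : (2 : F) ≠ 0) (hn : 7 ≤ n) (hmH : m ∉ HH q F₀ P) (hu0 : u ≠ 0)
    (hB : ∀ s, PR F₀ P s → ⟪s, u⟫ = 0 → pb q θ P ((m : Matn) *ᵥ s) = 0) :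
    ∃ κ : F, κ ≠ 0 ∧ κ + κ ^ q = 0 ∧ NN q u 0 κ ∈ M := by
  have hmU : IsU q (m : Matn) := (mem_GU_iff m).mp (hMG hmM).1
  obtain ⟨u', hu', h1', huu'⟩ := exists_PR_hyp hF F₀ hcard hP h2 hn hu hu0
  have hu'u : ⟪u', u⟫ = 1 := by
    rw [← PR.herm_symm hF F₀ hcard hP hu hu', huu']
  have hmap : ∀ s, PR F₀ P s → ⟪s, u⟫ = 0 →
      PR F₀ P ((m : Matn) *ᵥ s) ∧ ⟪(m : Matn) *ᵥ s, u⟫ = 0 := by
    intro s hs hsu
    constructor
    · have h3 := pa_add_pb (q := q) (P := P) θ ((m : Matn) *ᵥ s)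
      rw [hB s hs hsu, smul_zero, add_zero] at h3
      rw [← h3]
      exact pr_pa hF F₀ hcard hθ _
    · rw [← hmu, hmU, hsu]
  have hsurj := surj_on_perp F₀ m u hmap
  obtain ⟨v, hv⟩ : ∃ v, v = (m : Matn) *ᵥ u' := ⟨_, rfl⟩
  obtain ⟨a, ha⟩ : ∃ a, a = pa q θ P v := ⟨_, rfl⟩
  obtain ⟨b, hb⟩ : ∃ b, b = pb q θ P v := ⟨_, rfl⟩
  have haPR : PR F₀ P a := ha ▸ pr_pa hF F₀ hcard hθ v
  have hbPR : PR F₀ P b := hb ▸ pr_pb hF F₀ hcard hθ v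
  have hvab : v = a + θ • b := by rw [ha, hb, pa_add_pb]
  have hb_perp : ∀ s', PR F₀ P s' → ⟪s', u⟫ = 0 → ⟪b, s'⟫ = 0 := by
    intro s' hs' hs'u
    obtain ⟨s, hs, hsu, hms⟩ := hsurj s' hs' hs'u
    have e1 : ⟪s', v⟫ = ⟪s, u'⟫ := by rw [← hms, hv, hmU]
    rw [hvab, hermForm_add_right hF, hermForm_smul_right, hθq] at e1
    have e2 : (⟪s', a⟫ - ⟪s, u'⟫) + θ * (-⟪s', b⟫) = 0 := by linear_combination e1
    have e3 := (scal_unique F₀ hθ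
      (F₀.sub_mem (PR.herm_mem F₀ hP hs' haPR) (PR.herm_mem F₀ hP hs hu'))
      (F₀.neg_mem (PR.herm_mem F₀ hP hs' hbPR)) e2).2
    rw [PR.herm_symm hF F₀ hcard hP hbPR hs']
    exact neg_eq_zero.mp e3
  have hbu := eq_smul_of_perp_perp hF F₀ hcard hP hu hu' huu' hbPR hb_perp
  obtain ⟨c₃, hc₃⟩ : ∃ c₃, c₃ = ⟪b, u'⟫ := ⟨_, rfl⟩
  have hc₃m : c₃ ∈ F₀ := hc₃ ▸ PR.herm_mem F₀ hP hbPR hu'
  rw [← hc₃] at hbu
  have key : ∀ y, PR F₀ P y → PR F₀ P ((m : Matn) *ᵥ y - (θ * c₃ * ⟪y, u⟫) • u) := by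
    intro y hy
    have hβ : ⟪y, u⟫ ∈ F₀ := PR.herm_mem F₀ hP hy hu
    have hs : PR F₀ P (y - ⟪y, u⟫ • u') := hy.sub (hu'.smul hβ)
    have hsu : ⟪y - ⟪y, u⟫ • u', u⟫ = 0 := by
      rw [hermForm_sub_left, hermForm_smul_left, hu'u]
      ring
    have e1 : (m : Matn) *ᵥ y - (θ * c₃ * ⟪y, u⟫) • u
        = (m : Matn) *ᵥ (y - ⟪y, u⟫ • u') + ⟪y, u⟫ • a := by
      rw [Matrix.mulVec_sub, Matrix.mulVec_smul, ← hv, hvab, hbu]
      module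
    rw [e1]
    exact (hmap _ hs hsu).1.add (haPR.smul hβ)
  by_cases h0 : c₃ = 0
  · exfalso
    apply hmH
    refine Subgroup.mem_inf.mpr ⟨?_, hMG hmM⟩
    apply mem_subfieldSubgroup_of_PR m 1 one_ne_zero
    intro y hy
    refine ⟨_, ?_, (one_smul F _).symm⟩
    have := key y hy
    rwa [h0, mul_zero, zero_mul, zero_smul, sub_zero] at this
  obtain ⟨κ, hκ⟩ : ∃ κ, κ = -(θ * c₃) := ⟨_, rfl⟩
  have hκq : κ + κ ^ q = 0 := by
    rw [hκ, frob_neg' hF, mul_pow, hθq, pow_q_of_mem hF F₀ hcard hc₃m]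
    ring
  have htGU : NN q u 0 κ ∈ Cfsg.GU n F q := by
    apply NN_mem_GU hF h1 (hermForm_zero_left u)
    rw [hermForm_zero_left, neg_zero]
    exact hκq
  have hmt : m * NN q u 0 κ ∈ HH q F₀ P := by
    refine Subgroup.mem_inf.mpr ⟨?_, Subgroup.mul_mem _ (hMG hmM)
      (Subgroup.mem_inf.mpr ⟨htGU, NN_mem_sl _ _ _⟩)⟩
    apply mem_subfieldSubgroup_of_PR _ 1 one_ne_zero
    intro y hy
    refine ⟨_, ?_, (one_smul F _).symm⟩
    have e1 : ((m * NN q u 0 κ : GL (Fin n) F) : Matn) *ᵥ y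
        = (m : Matn) *ᵥ y - (θ * c₃ * ⟪y, u⟫) • u := by
      rw [Units.val_mul, ← Matrix.mulVec_mulVec, NN_mulVec hF κ h1 (hermForm_zero_left u),
        hermForm_zero_right hF]
      simp only [Matrix.mulVec_add, Matrix.mulVec_sub, Matrix.mulVec_smul, hmu,
        Matrix.mulVec_zero]
      rw [hκ]
      module
    rw [e1]
    exact key y hy
  refine ⟨κ, ?_, hκq, ?_⟩
  · rw [hκ]
    exact neg_ne_zero.2 (mul_ne_zero hθ0 h0)
  · have : NN q u 0 κ = m⁻¹ * (m * NN q u 0 κ) := by group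
    rw [this]
    exact M.mul_mem (M.inv_mem hmM) (hHM hmt)

include hF hcard hP hHM hMG hmM hu h1 hmu hθ0 hθq hθ in
/-- **Step B**: an element outside `H` fixing a non-zero rational singular vector `u` yields a
non-trivial transvection with centre `u` in the overgroup -/
theorem exists_transvection (h2 : (2 : F) ≠ 0) (hn : 7 ≤ n) (hmH : m ∉ HH q F₀ P) (hu0 : u ≠ 0) :
    ∃ κ : F, κ ≠ 0 ∧ κ + κ ^ q = 0 ∧ NN q u 0 κ ∈ M := by
  by_cases hA : ∃ s s', PR F₀ P s ∧ ⟪s, u⟫ = 0 ∧ PR F₀ P s' ∧ ⟪s', u⟫ = 0 ∧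
      ⟪pb q θ P ((m : Matn) *ᵥ s), s'⟫ ≠ 0
  · obtain ⟨s, s', hs, hsu, hs', hs'u, hne⟩ := hA
    exact transvection_caseA hF F₀ hcard hP hθ0 hθq hθ hHM hMG hmM hu h1 hmu h2 hs hsu hs' hs'u hne
  push Not at hA
  by_cases hB : ∃ s, PR F₀ P s ∧ ⟪s, u⟫ = 0 ∧ pb q θ P ((m : Matn) *ᵥ s) ≠ 0
  · obtain ⟨s, hs, hsu, hne⟩ := hB
    obtain ⟨u', hu', h1', huu'⟩ := exists_PR_hyp hF F₀ hcard hP h2 hn hu hu0
    have hBPR : PR F₀ P (pb q θ P ((m : Matn) *ᵥ s)) := pr_pb hF F₀ hcard hθ _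
    have h3 := eq_smul_of_perp_perp hF F₀ hcard hP hu hu' huu' hBPR
      (fun s' hs' hs'u => hA s s' hs hsu hs' hs'u)
    have hφ0 : ⟪pb q θ P ((m : Matn) *ᵥ s), u'⟫ ≠ 0 := by
      intro h0
      rw [h0, zero_smul] at h3
      exact hne h3
    exact transvection_caseB hF F₀ hcard hP hθ0 hθq hθ hHM hMG hmM hu h1 hmu h2 hs hsu
      (PR.herm_mem F₀ hP hBPR hu') hφ0 h3
  push Not at hB
  exact transvection_caseC hF F₀ hcard hP hθ0 hθq hθ hHM hMG hmM hu h1 hmu h2 hn hmH hu0 hB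

end Fixed

end Cfsg.Agent.Helper94.SubO
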