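import Mathlib
import Cfsg.Agent.Helper94.SubO8

set_option autoImplicit false
set_option linter.unusedSectionVars false
set_option linter.unusedVariables false
set_option linter.unusedSimpArgs false
set_option linter.style.haveILetI false

/-!
# All transvections from the rational ones, and the maximality of the orthogonal subfield subgroup
-/

namespace Cfsg.Agent.Helper94.SubO

open Matrix Cfsg Cfsg.Geo Cfsg.Agent.Helper13 Cfsg.Agent.Helper94.SubU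

variable {F : Type*} [Field F] [Fintype F] {n q : ℕ}

local notation "⟪" x ", " y "⟫" => Cfsg.hermForm n F q x y
local notation "Matn" => Matrix (Fin n) (Fin n) F

section Fixed

variable (hF : Fintype.card F = q ^ 2) (F₀ : Subfield F)
  (hcard : Fintype.card F = Nat.card F₀ ^ 2) {P : GL (Fin n) F}
  (hP : Cfsg.Geo.IsFormRationalStructure (Cfsg.hermForm n F q) F₀ 1 P)

include hF hcard hP in
/-- a Siegel element of `H` moving one rational singular vector to another -/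
theorem siegel_move (h2 : (2 : F) ≠ 0) {u v z : Fin n → F} (hu : PR F₀ P u) (hv : PR F₀ P v)
    (hz : PR F₀ P z) (hus : ⟪u, u⟫ = 0) (hvs : ⟪v, v⟫ = 0) (hzs : ⟪z, z⟫ = 0) {β : F} (hβ : β ≠ 0)
    (huz : ⟪u, z⟫ = β) (hvz : ⟪v, z⟫ = β) :
    ∃ E ∈ HH q F₀ P, (E : Matn) *ᵥ u = v := by
  have hβm : β ∈ F₀ := huz ▸ PR.herm_mem F₀ hP hu hz
  have hβim : β⁻¹ ∈ F₀ := F₀.inv_mem hβm
  have hβiq : β⁻¹ ^ q = β⁻¹ := pow_q_of_mem hF F₀ hcard hβim
  obtain ⟨s, hs⟩ : ∃ s, s = β⁻¹ • (u - v) := ⟨_, rfl⟩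
  have hsPR : PR F₀ P s := hs ▸ (hu.sub hv).smul hβim
  have hsz : ⟪s, z⟫ = 0 := by
    rw [hs, hermForm_smul_left, hermForm_sub_left, huz, hvz, sub_self, mul_zero]
  have hvu : ⟪v, u⟫ = ⟪u, v⟫ := PR.herm_symm hF F₀ hcard hP hv hu
  have hus' : ⟪u, s⟫ = -(β⁻¹ * ⟪u, v⟫) := by
    rw [hs, hermForm_smul_right, hermForm_sub_right hF, hus, hβiq]
    ring
  have hss : ⟪s, s⟫ = -(2 * β⁻¹ * β⁻¹ * ⟪u, v⟫) := by
    rw [hs, hermForm_smul_left, hermForm_smul_right, hermForm_sub_left, hermForm_sub_right hF,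
      hermForm_sub_right hF, hus, hvs, hvu, hβiq]
    ring
  refine ⟨NN q z s (-⟪s, s⟫ / 2), YY_mem hF F₀ hcard hP h2 hz hsPR hzs hsz, ?_⟩
  rw [NN_mulVec hF _ hzs hsz, hus', huz, hss, hs]
  have e1 : (-(-(2 * β⁻¹ * β⁻¹ * ⟪u, v⟫)) / 2 * β) = β⁻¹ * ⟪u, v⟫ := by
    field_simp
  rw [e1, smul_smul, mul_inv_cancel₀ hβ, one_smul]
  module

variable {M : Subgroup (GL (Fin n) F)} (hHM : HH q F₀ P ≤ M)
  (hMG : M ≤ Cfsg.GU n F q ⊓ Cfsg.Geo.specialLinear (Fin n) F)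

include hF hcard hP hHM hMG in
/-- all rational singular vectors are centres of transvections of `M` as soon as one is -/
theorem utv_all_sing (h2 : (2 : F) ≠ 0) (hn : 9 ≤ n) {u : Fin n → F} (hu : PR F₀ P u)
    (hu0 : u ≠ 0) (huM : u ∈ utvVecs q M) :
    ∀ v, PR F₀ P v → ⟪v, v⟫ = 0 → v ∈ utvVecs q M := by
  have hM : M ≤ Cfsg.GU n F q := fun x hx => (hMG hx).1
  intro v hv hvs
  by_cases hv0 : v = 0
  · have : v = (0 : F) • u := by rw [hv0, zero_smul]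
    rw [this]
    exact utvVecs_smul hF huM 0
  obtain ⟨z, hz, hzs, hzu, hzv⟩ := exists_PR_sing_ne_both hF F₀ hcard hP h2 hn hu hv hu0 hv0
  have huz : ⟪u, z⟫ ≠ 0 := by rwa [PR.herm_symm hF F₀ hcard hP hu hz]
  have hvz : ⟪v, z⟫ ≠ 0 := by rwa [PR.herm_symm hF F₀ hcard hP hv hz]
  obtain ⟨r, hr⟩ : ∃ r, r = ⟪u, z⟫ / ⟪v, z⟫ := ⟨_, rfl⟩
  have hrm : r ∈ F₀ := hr ▸ F₀.div_mem (PR.herm_mem F₀ hP hu hz) (PR.herm_mem F₀ hP hv hz)
  have hr0 : r ≠ 0 := hr ▸ div_ne_zero huz hvz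
  have hrv : PR F₀ P (r • v) := hv.smul hrm
  have hrvs : ⟪r • v, r • v⟫ = 0 := by
    rw [hermForm_smul_left, hermForm_smul_right, hvs, mul_zero, mul_zero]
  have hrvz : ⟪r • v, z⟫ = ⟪u, z⟫ := by
    rw [hermForm_smul_left, hr, div_mul_cancel₀ _ hvz]
  obtain ⟨E, hE, hEu⟩ := siegel_move hF F₀ hcard hP h2 hu hrv hz huM.1 hrvs hzs huz rfl hrvz
  have h3 := utvVecs_map hM (hHM hE) huM
  rw [hEu] at h3
  have h4 := utvVecs_smul hF h3 r⁻¹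
  rwa [smul_smul, inv_mul_cancel₀ hr0, one_smul] at h4

include hF in
/-- transfer along a transvection -/
theorem utv_transfer (hM : M ≤ Cfsg.GU n F q) {u x : Fin n → F} (hu : u ∈ utvVecs q M) {κ : F}
    (hκ : κ + κ ^ q = 0) (hx : x + (κ * ⟪x, u⟫) • u ∈ utvVecs q M) : x ∈ utvVecs q M := by
  have hκ' : -κ + (-κ) ^ q = 0 := by
    rw [frob_neg' hF]
    linear_combination -hκ
  have h3 := utvVecs_tv hM hu hx hκ'
  have e1 : ⟪x + (κ * ⟪x, u⟫) • u, u⟫ = ⟪x, u⟫ := by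
    rw [hermForm_add_left, hermForm_smul_left, hu.1, mul_zero, add_zero]
  rw [e1] at h3
  have e2 : x + (κ * ⟪x, u⟫) • u + (-κ * ⟪x, u⟫) • u = x := by module
  rwa [e2] at h3

variable {θ : F} (hθ0 : θ ≠ 0) (hθq : θ ^ q = -θ) (hθ : θ ∉ F₀)
  (hsing : ∀ v, PR F₀ P v → Cfsg.hermForm n F q v v = 0 → v ∈ utvVecs q M)

include hF hcard hP hMG hθ0 hθq hsing in
/-- hyperbolic type -/
theorem utv_hyp {a b : Fin n → F} (ha : PR F₀ P a) (hb : PR F₀ P b) (has : ⟪a, a⟫ = 0)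
    (hbs : ⟪b, b⟫ = 0) (hab : ⟪a, b⟫ ≠ 0) : a + θ • b ∈ utvVecs q M := by
  have hM : M ≤ Cfsg.GU n F q := fun x hx => (hMG hx).1
  have hba : ⟪b, a⟫ ≠ 0 := by rwa [PR.herm_symm hF F₀ hcard hP hb ha]
  obtain ⟨c, hc⟩ : ∃ c, c = θ⁻¹ / ⟪b, a⟫ := ⟨_, rfl⟩
  have hcq : c + c ^ q = 0 := by
    rw [hc, div_pow, inv_pow, hθq, PR.herm_pow hF F₀ hcard hP hb ha]
    field_simp
    ring
  have h3 := utvVecs_tv hM (hsing a ha has) (hsing b hb hbs) hcq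
  have h4 := utvVecs_smul hF h3 θ
  have e1 : θ • (b + (c * ⟪b, a⟫) • a) = a + θ • b := by
    rw [hc, div_mul_cancel₀ _ hba, smul_add, smul_smul, mul_inv_cancel₀ hθ0, one_smul, add_comm]
  rwa [e1] at h4

include hF hcard hP hMG hθ0 hθq hsing in
/-- both parts singular -/
theorem utv_sing_sing (h2 : (2 : F) ≠ 0) (hn : 9 ≤ n) {a b : Fin n → F} (ha : PR F₀ P a)
    (hb : PR F₀ P b) (has : ⟪a, a⟫ = 0) (hbs : ⟪b, b⟫ = 0) : a + θ • b ∈ utvVecs q M := by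
  have hM : M ≤ Cfsg.GU n F q := fun x hx => (hMG hx).1
  by_cases hab : ⟪a, b⟫ = 0
  swap
  · exact utv_hyp hF F₀ hcard hP hMG hθ0 hθq hsing ha hb has hbs hab
  by_cases hdep : ∃ c : F, c ∈ F₀ ∧ a = c • b
  · obtain ⟨c, hc, rfl⟩ := hdep
    have : c • b + θ • b = (c + θ) • b := by rw [add_smul]
    rw [this]
    exact utvVecs_smul hF (hsing b hb hbs) _
  push Not at hdep
  obtain ⟨u₂, hu₂, hu₂s, hu₂a, hu₂b⟩ := exists_PR_sing_perp_ne hF F₀ hcard hP h2 hn ha hb hdep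
  have hau₂ : ⟪a, u₂⟫ ≠ 0 := by rwa [PR.herm_symm hF F₀ hcard hP ha hu₂]
  have hbu₂ : ⟪b, u₂⟫ = 0 := by rwa [PR.herm_symm hF F₀ hcard hP hb hu₂]
  have hθq' : θ + θ ^ q = 0 := by rw [hθq]; ring
  apply utv_transfer hF hM (hsing u₂ hu₂ hu₂s) hθq'
  have hαm : ⟪a, u₂⟫ ∈ F₀ := PR.herm_mem F₀ hP ha hu₂
  have e1 : a + θ • b + (θ * ⟪a + θ • b, u₂⟫) • u₂ = a + θ • (b + ⟪a, u₂⟫ • u₂) := by
    rw [hermForm_add_left, hermForm_smul_left, hbu₂]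
    module
  rw [e1]
  have hb'PR : PR F₀ P (b + ⟪a, u₂⟫ • u₂) := hb.add (hu₂.smul hαm)
  have hb's : ⟪b + ⟪a, u₂⟫ • u₂, b + ⟪a, u₂⟫ • u₂⟫ = 0 := by
    simp only [hermForm_add_left, hermForm_add_right hF, hermForm_smul_left, hermForm_smul_right,
      hbs, hbu₂, hu₂b, hu₂s, mul_zero, add_zero]
  have hab' : ⟪a, b + ⟪a, u₂⟫ • u₂⟫ ≠ 0 := by
    rw [hermForm_add_right hF, hermForm_smul_right, hab, zero_add,
      PR.herm_pow hF F₀ hcard hP ha hu₂]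
    exact mul_ne_zero hau₂ hau₂
  exact utv_hyp hF F₀ hcard hP hMG hθ0 hθq hsing ha hb'PR has hb's hab'

include hF hcard hP hMG hθ0 hθq hθ hsing in
/-- every isotropic vector is the centre of transvections of `M` -/
theorem utv_all (h2 : (2 : F) ≠ 0) (hn : 9 ≤ n) (x : Fin n → F) (hx : ⟪x, x⟫ = 0) :
    x ∈ utvVecs q M := by
  have hM : M ≤ Cfsg.GU n F q := fun x hx => (hMG hx).1
  obtain ⟨a, b, ha, hb, rfl⟩ := exists_decomp hF F₀ hcard (P := P) hθ x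
  have hba : ⟪b, a⟫ = ⟪a, b⟫ := PR.herm_symm hF F₀ hcard hP hb ha
  have hnorm : ⟪a, a⟫ = θ ^ 2 * ⟪b, b⟫ := by
    have h3 := hx
    simp only [hermForm_add_left, hermForm_add_right hF, hermForm_smul_left, hermForm_smul_right,
      hθq, hba] at h3
    linear_combination h3
  by_cases hbs : ⟪b, b⟫ = 0
  · have has : ⟪a, a⟫ = 0 := by rw [hnorm, hbs, mul_zero]
    exact utv_sing_sing hF F₀ hcard hP hMG hθ0 hθq hsing h2 hn ha hb has hbs
  have hθ2 : θ ^ 2 ∈ F₀ := by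
    apply mem_of_pow_q hF F₀ hcard
    rw [← pow_mul, mul_comm, pow_mul, hθq]
    ring
  have has : ⟪a, a⟫ ≠ 0 := by
    rw [hnorm]
    exact mul_ne_zero (pow_ne_zero 2 hθ0) hbs
  have ha0 : a ≠ 0 := by
    rintro rfl
    exact has (hermForm_zero_left _)
  have hb0 : b ≠ 0 := by
    rintro rfl
    exact hbs (hermForm_zero_left _)
  obtain ⟨u, hu, hus, hua, hub⟩ := exists_PR_sing_ne_both hF F₀ hcard hP h2 hn ha hb ha0 hb0
  have hau : ⟪a, u⟫ = ⟪u, a⟫ := PR.herm_symm hF F₀ hcard hP ha hu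
  have hbu : ⟪b, u⟫ = ⟪u, b⟫ := PR.herm_symm hF F₀ hcard hP hb hu
  obtain ⟨α, hα⟩ : ∃ α, α = ⟪u, a⟫ := ⟨_, rfl⟩
  obtain ⟨β, hβ⟩ : ∃ β, β = ⟪u, b⟫ := ⟨_, rfl⟩
  have hαm : α ∈ F₀ := hα ▸ PR.herm_mem F₀ hP hu ha
  have hβm : β ∈ F₀ := hβ ▸ PR.herm_mem F₀ hP hu hb
  rw [← hα] at hua hau
  rw [← hβ] at hub hbu
  obtain ⟨γ, hγ⟩ : ∃ γ, γ = -⟪b, b⟫ / (2 * α * β) := ⟨_, rfl⟩
  have hγm : γ ∈ F₀ := by
    rw [hγ]
    exact F₀.div_mem (F₀.neg_mem (PR.herm_mem F₀ hP hb hb))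
      (F₀.mul_mem (F₀.mul_mem (two_mem F₀) hαm) hβm)
  have hγ' : ⟪b, b⟫ + 2 * γ * α * β = 0 := by
    rw [hγ]
    field_simp
    ring
  have hκ : θ * γ + (θ * γ) ^ q = 0 := by
    rw [mul_pow, hθq, pow_q_of_mem hF F₀ hcard hγm]
    ring
  apply utv_transfer hF hM (hsing u hu hus) hκ
  have e1 : a + θ • b + (θ * γ * ⟪a + θ • b, u⟫) • u
      = (a + (γ * θ ^ 2 * β) • u) + θ • (b + (γ * α) • u) := by
    rw [hermForm_add_left, hermForm_smul_left, hau, hbu]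
    module
  rw [e1]
  have ha'PR : PR F₀ P (a + (γ * θ ^ 2 * β) • u) :=
    ha.add (hu.smul (F₀.mul_mem (F₀.mul_mem hγm hθ2) hβm))
  have hb'PR : PR F₀ P (b + (γ * α) • u) := hb.add (hu.smul (F₀.mul_mem hγm hαm))
  have hb's : ⟪b + (γ * α) • u, b + (γ * α) • u⟫ = 0 := by
    simp only [hermForm_add_left, hermForm_add_right hF, hermForm_smul_left, hermForm_smul_right,
      hus, hbu, ← hβ, mul_zero, add_zero, mul_pow, pow_q_of_mem hF F₀ hcard hγm,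
      pow_q_of_mem hF F₀ hcard hαm]
    linear_combination hγ'
  have ha's : ⟪a + (γ * θ ^ 2 * β) • u, a + (γ * θ ^ 2 * β) • u⟫ = 0 := by
    simp only [hermForm_add_left, hermForm_add_right hF, hermForm_smul_left, hermForm_smul_right,
      hus, hau, ← hα, mul_zero, add_zero, mul_pow, pow_q_of_mem hF F₀ hcard hγm,
      pow_q_of_mem hF F₀ hcard hβm, pow_q_of_mem hF F₀ hcard hθ2, hnorm]
    linear_combination (θ ^ 2) * hγ'
  exact utv_sing_sing hF F₀ hcard hP hMG hθ0 hθq hsing h2 hn ha'PR hb'PR ha's hb's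

end Fixed

/-- **Maximality of the orthogonal subfield subgroup of the special unitary group.** -/
theorem isMaximalIn_orth_subfield (hF : Fintype.card F = q ^ 2) (hn : 13 ≤ n) (hodd : Odd q)
    (F₀ : Subfield F) (hcard : Fintype.card F = Nat.card F₀ ^ 2) (P : GL (Fin n) F)
    (hP : Cfsg.Geo.IsFormRationalStructure (Cfsg.hermForm n F q) F₀ 1 P) :
    Cfsg.Geo.IsMaximalIn (Cfsg.GU n F q ⊓ Cfsg.Geo.specialLinear (Fin n) F)
      (Cfsg.Geo.subfieldSubgroup F₀ P ⊓ (Cfsg.GU n F q ⊓ Cfsg.Geo.specialLinear (Fin n) F)) := by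
  have h2 : (2 : F) ≠ 0 := two_ne_zero_of_odd hF hodd
  obtain ⟨θ, hθ0, hθq⟩ := exists_theta hF F₀ hcard
  have hθ : θ ∉ F₀ := theta_not_mem hF F₀ hcard h2 hθ0 hθq
  have hθq' : θ + θ ^ q = 0 := by rw [hθq]; ring
  obtain ⟨u₀, hu₀, hu₀0, hu₀s, -⟩ := exists_PR_sing_perp4 hF F₀ hcard hP h2 (by omega)
    (PR.zero (F₀ := F₀) (P := P)) (PR.zero (F₀ := F₀) (P := P)) (PR.zero (F₀ := F₀) (P := P))
    (PR.zero (F₀ := F₀) (P := P))
  constructor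
  · refine lt_of_le_of_ne inf_le_right ?_
    intro heq
    have h3 : NN q u₀ 0 θ ∈ Cfsg.GU n F q ⊓ Cfsg.Geo.specialLinear (Fin n) F := by
      refine Subgroup.mem_inf.mpr ⟨?_, NN_mem_sl _ _ _⟩
      apply NN_mem_GU hF hu₀s (hermForm_zero_left u₀)
      rw [hermForm_zero_left, neg_zero]
      exact hθq'
    rw [← heq] at h3
    exact NN_zero_not_mem hF F₀ hcard hP h2 hu₀ hu₀0 hu₀s hθ (Subgroup.mem_inf.mp h3).1
  · intro M hHM hMG
    by_cases hMH : M = Cfsg.Geo.subfieldSubgroup F₀ P ⊓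
        (Cfsg.GU n F q ⊓ Cfsg.Geo.specialLinear (Fin n) F)
    · exact Or.inl hMH
    right
    apply le_antisymm hMG
    have hHM' : HH q F₀ P ≤ M := hHM
    obtain ⟨g, hgM, hgH⟩ : ∃ g ∈ M, g ∉ HH q F₀ P := by
      by_contra hcon
      push Not at hcon
      exact hMH (le_antisymm hcon hHM)
    obtain ⟨m, hmM, hmH, u, hu, hu0, hus, hmu⟩ :=
      exists_fixing hF F₀ hcard hP h2 (by omega) hθ hHM' hMG hgM hgH
    obtain ⟨κ, hκ0, hκq, hκM⟩ := exists_transvection hF F₀ hcard hP hθ0 hθq hθ hHM' hMG hmM hu hus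
      hmu h2 (by omega) hmH hu0
    have huM := utv_of_one hF F₀ hcard hP h2 (by omega) hHM' hu hu0 hus hκ0 hκq hκM
    have hsing := utv_all_sing hF F₀ hcard hP hHM' hMG h2 (by omega) hu hu0 huM
    apply suGL_le_of_tv hF (by omega) M
    intro v hv
    exact utv_all hF F₀ hcard hP hMG hθ0 hθq hθ hsing h2 (by omega) v hv

end Cfsg.Agent.Helper94.SubO
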