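import Mathlib
import Cfsg.Agent.Helper94.SubU3

set_option autoImplicit false
set_option linter.unusedSectionVars false
set_option linter.unusedVariables false
set_option linter.unusedSimpArgs false
set_option linter.style.haveILetI false

/-!
# The rational transvections are transitive on the pairs spanning rational isotropic lines
-/

namespace Cfsg.Agent.Helper94.SubU

open Matrix Cfsg Cfsg.Geo Cfsg.Agent.Helper13

variable {F : Type*} [Field F] [Fintype F] {n q : ℕ}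

local notation "Matn" => Matrix (Fin n) (Fin n) F

section Fixed

variable (hF : Fintype.card F = q ^ 2) (F₀ : Subfield F)
  (hcard : Fintype.card F = Nat.card F₀ ^ 2)
variable {ζ : F} (hζ0 : ζ ≠ 0) (hζ : ζ + ζ ^ q = 0) {P : GL (Fin n) F}
  (hP : Cfsg.Geo.IsFormRationalStructure (Cfsg.hermForm n F q) F₀ ζ P)
  (halt : ∀ u : Fin n → F, (∀ i, u i ∈ F₀) →
    Cfsg.hermForm n F q ((P : Matrix (Fin n) (Fin n) F) *ᵥ u)
      ((P : Matrix (Fin n) (Fin n) F) *ᵥ u) = 0)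

include hF hcard hζ0 hζ hP halt

/-- one step moving `a` to a non-perpendicular `a'` -/
theorem move_first_of_ne {a a' b : Fin n → F} (ha : Rat F₀ a) (ha' : Rat F₀ a') (hb : Rat F₀ b)
    (hne : ff q ζ P a a' ≠ 0) : ∃ b₁, Rat F₀ b₁ ∧ Conn q F₀ P a b a' b₁ := by
  have hu : Rat F₀ (a' - a) := ha'.sub ha
  have hα : (ff q ζ P a a')⁻¹ ∈ F₀ := F₀.inv_mem (ff_mem F₀ hP ha ha')
  have h := Conn.step hF F₀ hcard hζ0 hζ hP halt (a := a) (b := b) hu hα
  have h1 : ff q ζ P a (a' - a) = ff q ζ P a a' := by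
    rw [ff_sub_right hF, ff_self F₀ halt ha, sub_zero]
  have h2 : a + ((ff q ζ P a a')⁻¹ * ff q ζ P a (a' - a)) • (a' - a) = a' := by
    rw [h1, inv_mul_cancel₀ hne, one_smul]
    abel
  rw [h2] at h
  exact ⟨_, hb.add (hu.smul (F₀.mul_mem hα (ff_mem F₀ hP hb hu))), h⟩

/-- moving the first vector of a pair anywhere -/
theorem move_first {a a' b : Fin n → F} (ha : Rat F₀ a) (ha' : Rat F₀ a') (hb : Rat F₀ b)
    (ha0 : a ≠ 0) (ha'0 : a' ≠ 0) : ∃ b₁, Rat F₀ b₁ ∧ Conn q F₀ P a b a' b₁ := by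
  by_cases hne : ff q ζ P a a' = 0
  swap
  · exact move_first_of_ne hF F₀ hcard hζ0 hζ hP halt ha ha' hb hne
  obtain ⟨c, hc, h1, h2⟩ := exists_ff_ne_zero_both hF F₀ hcard hζ0 halt (P := P) ha0 ha'0
  obtain ⟨b₂, hb₂, hconn₁⟩ := move_first_of_ne hF F₀ hcard hζ0 hζ hP halt ha hc hb h1
  have h3 : ff q ζ P c a' ≠ 0 := by
    rw [ff_skew hF F₀ halt hc ha']
    exact neg_ne_zero.mpr h2
  obtain ⟨b₁, hb₁, hconn₂⟩ := move_first_of_ne hF F₀ hcard hζ0 hζ hP halt hc ha' hb₂ h3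
  exact ⟨b₁, hb₁, hconn₁.trans F₀ hconn₂⟩

/-- one step moving `b` to a non-perpendicular `b'` while fixing `a` -/
theorem move_second_of_ne {a b b' : Fin n → F} (ha : Rat F₀ a) (hb : Rat F₀ b) (hb' : Rat F₀ b')
    (hab : ff q ζ P a b = 0) (hab' : ff q ζ P a b' = 0) (hne : ff q ζ P b b' ≠ 0) :
    Conn q F₀ P a b a b' := by
  have hu : Rat F₀ (b' - b) := hb'.sub hb
  have hα : (ff q ζ P b b')⁻¹ ∈ F₀ := F₀.inv_mem (ff_mem F₀ hP hb hb')
  have h := Conn.step hF F₀ hcard hζ0 hζ hP halt (a := a) (b := b) hu hα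
  have h1 : ff q ζ P b (b' - b) = ff q ζ P b b' := by
    rw [ff_sub_right hF, ff_self F₀ halt hb, sub_zero]
  have h2 : b + ((ff q ζ P b b')⁻¹ * ff q ζ P b (b' - b)) • (b' - b) = b' := by
    rw [h1, inv_mul_cancel₀ hne, one_smul]
    abel
  have h3 : a + ((ff q ζ P b b')⁻¹ * ff q ζ P a (b' - b)) • (b' - b) = a := by
    rw [ff_sub_right hF, hab, hab', sub_zero, mul_zero, zero_smul, add_zero]
  rw [h2, h3] at h
  exact h

/-- a rational vector perpendicular to `a` detecting `b` -/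
theorem exists_perp_detect {a b : Fin n → F} (ha : Rat F₀ a) (hb : Rat F₀ b)
    (hind : ∀ s : F, s • a ≠ b) :
    ∃ c, Rat F₀ c ∧ ff q ζ P a c = 0 ∧ ff q ζ P b c ≠ 0 := by
  have hb0 : b ≠ 0 := by
    rintro rfl
    exact hind 0 (zero_smul _ _)
  by_cases ha0 : a = 0
  · obtain ⟨x, hx, h1⟩ := exists_ff_ne_zero hF F₀ hcard hζ0 (P := P) hb0
    refine ⟨x, hx, ?_, h1⟩
    rw [ha0]
    unfold ff
    rw [Matrix.mulVec_zero, hermForm_zero_left, mul_zero]
  obtain ⟨d, hd, had⟩ := exists_ff_ne_zero hF F₀ hcard hζ0 (P := P) ha0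
  obtain ⟨μ, hμ⟩ : ∃ μ, μ = ff q ζ P b d / ff q ζ P a d := ⟨_, rfl⟩
  have hμm : μ ∈ F₀ := by
    rw [hμ]
    exact F₀.div_mem (ff_mem F₀ hP hb hd) (ff_mem F₀ hP ha hd)
  have hb'' : b - μ • a ≠ 0 := by
    intro h
    exact hind μ (sub_eq_zero.mp h).symm
  obtain ⟨x, hx, h1⟩ := exists_ff_ne_zero hF F₀ hcard hζ0 (P := P) hb''
  have hν : ff q ζ P a x / ff q ζ P a d ∈ F₀ :=
    F₀.div_mem (ff_mem F₀ hP ha hx) (ff_mem F₀ hP ha hd)
  refine ⟨x - (ff q ζ P a x / ff q ζ P a d) • d, hx.sub (hd.smul hν), ?_, ?_⟩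
  · rw [ff_sub_right hF, ff_smul_right_rat hF F₀ hcard _ _ hν, div_mul_cancel₀ _ had, sub_self]
  · rw [ff_sub_right hF, ff_smul_right_rat hF F₀ hcard _ _ hν]
    rw [ff_sub_left, ff_smul_left] at h1
    intro h0
    apply h1
    rw [hμ]
    field_simp
    field_simp at h0
    linear_combination h0

theorem exists_perp_detect_both {a b b' : Fin n → F} (ha : Rat F₀ a) (hb : Rat F₀ b)
    (hb' : Rat F₀ b') (hind : ∀ s : F, s • a ≠ b) (hind' : ∀ s : F, s • a ≠ b') :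
    ∃ c, Rat F₀ c ∧ ff q ζ P a c = 0 ∧ ff q ζ P b c ≠ 0 ∧ ff q ζ P b' c ≠ 0 := by
  obtain ⟨c₁, hc₁, h1a, h1⟩ := exists_perp_detect hF F₀ hcard hζ0 hζ hP halt ha hb hind
  obtain ⟨c₂, hc₂, h2a, h2⟩ := exists_perp_detect hF F₀ hcard hζ0 hζ hP halt ha hb' hind'
  by_cases h3 : ff q ζ P b' c₁ = 0
  swap
  · exact ⟨c₁, hc₁, h1a, h1, h3⟩
  by_cases h4 : ff q ζ P b c₂ = 0
  swap
  · exact ⟨c₂, hc₂, h2a, h4, h2⟩
  refine ⟨c₁ + c₂, hc₁.add hc₂, ?_, ?_, ?_⟩
  · rw [ff_add_right hF, h1a, h2a, add_zero]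
  · rw [ff_add_right hF, h4, add_zero]; exact h1
  · rw [ff_add_right hF, h3, zero_add]; exact h2

/-- moving the second vector inside `a^⊥` -/
theorem move_second {a b b' : Fin n → F} (ha : Rat F₀ a) (hb : Rat F₀ b) (hb' : Rat F₀ b')
    (hab : ff q ζ P a b = 0) (hab' : ff q ζ P a b' = 0) (hind : ∀ s : F, s • a ≠ b)
    (hind' : ∀ s : F, s • a ≠ b') : Conn q F₀ P a b a b' := by
  by_cases hne : ff q ζ P b b' = 0
  swap
  · exact move_second_of_ne hF F₀ hcard hζ0 hζ hP halt ha hb hb' hab hab' hne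
  obtain ⟨c, hc, hac, hbc, hb'c⟩ :=
    exists_perp_detect_both hF F₀ hcard hζ0 hζ hP halt ha hb hb' hind hind'
  have h1 := move_second_of_ne hF F₀ hcard hζ0 hζ hP halt ha hb hc hab hac hbc
  have h2 : ff q ζ P c b' ≠ 0 := by
    rw [ff_skew hF F₀ halt hc hb']
    exact neg_ne_zero.mpr hb'c
  have h3 := move_second_of_ne hF F₀ hcard hζ0 hζ hP halt ha hc hb' hac hab' h2
  exact h1.trans F₀ h3

omit hF hcard hζ0 hζ hP halt in
/-- linked pairs have the same independence and the same form value -/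
theorem Conn.transfer {a b a' b' : Fin n → F} (h : Conn q F₀ P a b a' b')
    (hind : ∀ s t : F, s • a + t • b = 0 → s = 0 ∧ t = 0) :
    (∀ s t : F, s • a' + t • b' = 0 → s = 0 ∧ t = 0) ∧ ff q ζ P a' b' = ff q ζ P a b := by
  obtain ⟨g, hg, hga, hgb⟩ := h
  constructor
  · intro s t hst
    apply hind
    apply P_injective (P := P)
    apply glU_mulVec_injective g
    rw [Matrix.mulVec_add, Matrix.mulVec_smul, Matrix.mulVec_smul, Matrix.mulVec_add,
      Matrix.mulVec_smul, Matrix.mulVec_smul, hga, hgb, Matrix.mulVec_zero, Matrix.mulVec_zero,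
      ← Matrix.mulVec_smul, ← Matrix.mulVec_smul, ← Matrix.mulVec_add, hst, Matrix.mulVec_zero]
  · have hU : IsU q (g : Matn) := (mem_GU_iff g).mp hg.2.1
    unfold ff
    rw [← hga, ← hgb, hU]

/-- the rational transvections are transitive on independent perpendicular pairs -/
theorem conn_all {a b a' b' : Fin n → F} (ha : Rat F₀ a) (hb : Rat F₀ b) (ha' : Rat F₀ a')
    (hb' : Rat F₀ b') (hind : ∀ s t : F, s • a + t • b = 0 → s = 0 ∧ t = 0)
    (hind' : ∀ s t : F, s • a' + t • b' = 0 → s = 0 ∧ t = 0)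
    (hab : ff q ζ P a b = 0) (hab' : ff q ζ P a' b' = 0) : Conn q F₀ P a b a' b' := by
  have ha0 : a ≠ 0 := by
    rintro rfl
    have := hind 1 0 (by simp)
    exact one_ne_zero this.1
  have ha'0 : a' ≠ 0 := by
    rintro rfl
    have := hind' 1 0 (by simp)
    exact one_ne_zero this.1
  obtain ⟨b₁, hb₁, h1⟩ := move_first hF F₀ hcard hζ0 hζ hP halt ha ha' hb ha0 ha'0
  obtain ⟨hind₁, hf₁⟩ := h1.transfer F₀ (ζ := ζ) hind
  rw [hab] at hf₁
  have k1 : ∀ s : F, s • a' ≠ b₁ := by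
    intro s hs
    have := hind₁ s (-1) (by rw [hs]; simp)
    have h2 := this.2
    norm_num at h2
  have k2 : ∀ s : F, s • a' ≠ b' := by
    intro s hs
    have := hind' s (-1) (by rw [hs]; simp)
    have h2 := this.2
    norm_num at h2
  exact h1.trans F₀ (move_second hF F₀ hcard hζ0 hζ hP halt ha' hb₁ hb' hf₁ hab' k1 k2)

end Fixed

end Cfsg.Agent.Helper94.SubU
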