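import Mathlib
import Cfsg.Agent.Helper94.SubU4

set_option autoImplicit false
set_option linter.unusedSectionVars false
set_option linter.unusedVariables false
set_option linter.unusedSimpArgs false
set_option linter.style.haveILetI false

/-!
# Maximality of the symplectic-type subfield subgroup of `SU_n(q)`
-/

namespace Cfsg.Agent.Helper94.SubU

open Matrix Cfsg Cfsg.Geo Cfsg.Agent.Helper13

variable {F : Type*} [Field F] [Fintype F] {n q : ℕ}

local notation "Matn" => Matrix (Fin n) (Fin n) F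

/-- dependent rational parts give a multiple of a rational vector -/
theorem prop_of_dep (F₀ : Subfield F) {a b : Fin n → F} (ha : Rat F₀ a) (hb : Rat F₀ b) (θ : F)
    {s t : F} (hst : s • a + t • b = 0) (hne : ¬ (s = 0 ∧ t = 0)) :
    ∃ (lam : F) (v : Fin n → F), Rat F₀ v ∧ a + θ • b = lam • v := by
  by_cases hs : s = 0
  · have ht : t ≠ 0 := fun h => hne ⟨hs, h⟩
    rw [hs, zero_smul, zero_add] at hst
    have hb0 : b = 0 := (smul_eq_zero.mp hst).resolve_left ht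
    exact ⟨1, a, ha, by rw [hb0, smul_zero, add_zero, one_smul]⟩
  · have ha' : a = (-(t / s)) • b := by
      have h1 : s⁻¹ • (s • a + t • b) = 0 := by rw [hst, smul_zero]
      rw [smul_add, smul_smul, smul_smul, inv_mul_cancel₀ hs, one_smul] at h1
      rw [neg_smul, eq_neg_iff_add_eq_zero, div_eq_inv_mul]
      exact h1
    exact ⟨-(t / s) + θ, b, hb, by rw [ha', add_smul]⟩

section Fixed

variable (hF : Fintype.card F = q ^ 2) (F₀ : Subfield F)
  (hcard : Fintype.card F = Nat.card F₀ ^ 2)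
variable {ζ : F} (hζ0 : ζ ≠ 0) (hζ : ζ + ζ ^ q = 0) {P : GL (Fin n) F}
  (hP : Cfsg.Geo.IsFormRationalStructure (Cfsg.hermForm n F q) F₀ ζ P)
  (halt : ∀ u : Fin n → F, (∀ i, u i ∈ F₀) →
    Cfsg.hermForm n F q ((P : Matrix (Fin n) (Fin n) F) *ᵥ u)
      ((P : Matrix (Fin n) (Fin n) F) *ᵥ u) = 0)

include hF hcard hζ0 hζ hP halt

/-- rational points are transvection centres of every overgroup of `H` -/
theorem rat_mem_utvVecs {M : Subgroup (GL (Fin n) F)} (hHM : HH q F₀ P ≤ M) {u : Fin n → F}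
    (hu : Rat F₀ u) : (P : Matn) *ᵥ u ∈ utvVecs q M :=
  ⟨halt u hu, fun c hc g hg => hHM (rt_mem hF F₀ hcard hζ0 hζ hP halt hu hc g hg)⟩

/-- the value of the form on `a + θ b` -/
theorem ff_decomp {a b : Fin n → F} (ha : Rat F₀ a) (hb : Rat F₀ b) (θ : F) :
    ff q ζ P (a + θ • b) (a + θ • b) = (θ ^ q - θ) * ff q ζ P a b := by
  rw [ff_add_left, ff_add_right hF, ff_add_right hF, ff_smul_left, ff_smul_left, ff_smul_right,
    ff_smul_right, ff_self F₀ halt ha, ff_self F₀ halt hb, ff_skew hF F₀ halt hb ha]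
  ring

theorem ff_eq_zero_of_isotropic {θ : F} (hθ : θ ∉ F₀) {x : Fin n → F}
    (hx : Cfsg.hermForm n F q ((P : Matn) *ᵥ x) ((P : Matn) *ᵥ x) = 0) :
    ff q ζ P (sv q θ x) (tv q θ x) = 0 := by
  have h1 : ff q ζ P x x = 0 := by unfold ff; rw [hx, mul_zero]
  have ha : Rat F₀ (sv q θ x) := fun i => spart_mem hF F₀ hcard hθ (x i)
  have hb : Rat F₀ (tv q θ x) := fun i => tpart_mem hF F₀ hcard hθ (x i)
  rw [← sv_add_tv (q := q) θ x, ff_decomp hF F₀ hcard hζ0 hζ hP halt ha hb θ] at h1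
  have h2 : θ ^ q - θ ≠ 0 := by
    intro h
    apply theta_ne hF F₀ hcard hθ
    linear_combination -h
  exact (mul_eq_zero.mp h1).resolve_left h2

/-- an overgroup of `H` inside `SU` containing an element outside `H` contains all transvections -/
theorem all_utvVecs (i₀ : Fin n) {M : Subgroup (GL (Fin n) F)} (hHM : HH q F₀ P ≤ M)
    (hMK : M ≤ Cfsg.GU n F q ⊓ Cfsg.Geo.specialLinear (Fin n) F) {g : GL (Fin n) F} (hg : g ∈ M)
    (hgH : g ∉ HH q F₀ P) (w' : Fin n → F) (hw' : Cfsg.hermForm n F q w' w' = 0) :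
    w' ∈ utvVecs q M := by
  have hMU : M ≤ Cfsg.GU n F q := fun x hx => (hMK hx).1
  obtain ⟨θ, hθ⟩ := exists_not_mem hF F₀ hcard
  have hgS : g ∉ Cfsg.Geo.subfieldSubgroup F₀ P := fun h => hgH ⟨h, hMK hg⟩
  obtain ⟨A, hA⟩ : ∃ A : GL (Fin n) F, A = P⁻¹ * g * P := ⟨_, rfl⟩
  -- a rational point moved to an irrational point
  obtain ⟨u₀, hu₀, hirr⟩ : ∃ u₀ : Fin n → F, Rat F₀ u₀ ∧ ∀ (lam : F) (v : Fin n → F), Rat F₀ v →
      (A : Matn) *ᵥ u₀ ≠ lam • v := by
    by_contra hcon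
    push Not at hcon
    obtain ⟨lam, hlam, hent⟩ := entries_of_rat_points hF F₀ hcard A i₀ hcon
    rw [hA] at hent
    exact hgS (mem_subfieldSubgroup_of_entries F₀ P g lam hlam hent)
  obtain ⟨x, hx⟩ : ∃ x, x = (A : Matn) *ᵥ u₀ := ⟨_, rfl⟩
  have hPx : (P : Matn) *ᵥ x = (g : Matn) *ᵥ ((P : Matn) *ᵥ u₀) := by
    rw [hx, hA, Units.val_mul, Units.val_mul, Matrix.mulVec_mulVec, Matrix.mulVec_mulVec,
      ← Matrix.mul_assoc, ← Matrix.mul_assoc, ← Units.val_mul, mul_inv_cancel, Units.val_one,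
      Matrix.one_mul]
  have hw : (P : Matn) *ᵥ x ∈ utvVecs q M := by
    rw [hPx]
    exact utvVecs_map hMU hg (rat_mem_utvVecs hF F₀ hcard hζ0 hζ hP halt hHM hu₀)
  have ha : Rat F₀ (sv q θ x) := fun i => spart_mem hF F₀ hcard hθ (x i)
  have hb : Rat F₀ (tv q θ x) := fun i => tpart_mem hF F₀ hcard hθ (x i)
  have hind : ∀ s t : F, s • sv q θ x + t • tv q θ x = 0 → s = 0 ∧ t = 0 := by
    intro s t hst
    by_contra hne
    obtain ⟨lam, v, hv, hlv⟩ := prop_of_dep F₀ ha hb θ hst hne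
    rw [sv_add_tv] at hlv
    exact hirr lam v hv (hx ▸ hlv)
  have hab := ff_eq_zero_of_isotropic hF F₀ hcard hζ0 hζ hP halt hθ hw.1
  -- the target
  obtain ⟨x', hx'⟩ : ∃ x', x' = ((P⁻¹ : GL (Fin n) F) : Matn) *ᵥ w' := ⟨_, rfl⟩
  have hPx' : (P : Matn) *ᵥ x' = w' := by
    rw [hx', Matrix.mulVec_mulVec, ← Units.val_mul, mul_inv_cancel, Units.val_one,
      Matrix.one_mulVec]
  have ha' : Rat F₀ (sv q θ x') := fun i => spart_mem hF F₀ hcard hθ (x' i)
  have hb' : Rat F₀ (tv q θ x') := fun i => tpart_mem hF F₀ hcard hθ (x' i)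
  by_cases hind' : ∀ s t : F, s • sv q θ x' + t • tv q θ x' = 0 → s = 0 ∧ t = 0
  · have hab' := ff_eq_zero_of_isotropic hF F₀ hcard hζ0 hζ hP halt hθ (x := x')
      (by rw [hPx']; exact hw')
    obtain ⟨h, hh, h1, h2⟩ := conn_all hF F₀ hcard hζ0 hζ hP halt ha hb ha' hb' hind hind' hab hab'
    have h3 : (h : Matn) *ᵥ ((P : Matn) *ᵥ x) = w' := by
      rw [← hPx']
      conv_lhs => rw [← sv_add_tv (q := q) θ x]
      conv_rhs => rw [← sv_add_tv (q := q) θ x']
      rw [Matrix.mulVec_add, Matrix.mulVec_smul, Matrix.mulVec_add, Matrix.mulVec_smul, h1, h2,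
        Matrix.mulVec_add, Matrix.mulVec_smul]
    rw [← h3]
    exact utvVecs_map hMU (hHM hh) hw
  · push Not at hind'
    obtain ⟨s, t, hst, hne⟩ := hind'
    obtain ⟨lam, v, hv, hlv⟩ := prop_of_dep F₀ ha' hb' θ hst (fun h => hne h.1 h.2)
    rw [sv_add_tv] at hlv
    rw [← hPx', hlv, Matrix.mulVec_smul]
    exact utvVecs_smul hF (rat_mem_utvVecs hF F₀ hcard hζ0 hζ hP halt hHM hv) lam

end Fixed

end Cfsg.Agent.Helper94.SubU
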