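import Mathlib
import Cfsg.Agent.Helper94.SubU5

set_option autoImplicit false
set_option linter.unusedSectionVars false
set_option linter.unusedVariables false
set_option linter.unusedSimpArgs false
set_option linter.style.haveILetI false

/-!
# Maximality of the symplectic-type subfield subgroup of `SU_n(q)`: properness and conclusion
-/

namespace Cfsg.Agent.Helper94.SubU

open Matrix Cfsg Cfsg.Geo Cfsg.Agent.Helper13

variable {F : Type*} [Field F] [Fintype F] {n q : ℕ}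

local notation "Matn" => Matrix (Fin n) (Fin n) F

section Fixed

variable (hF : Fintype.card F = q ^ 2) (F₀ : Subfield F)
  (hcard : Fintype.card F = Nat.card F₀ ^ 2)
variable {ζ : F} (hζ0 : ζ ≠ 0) (hζ : ζ + ζ ^ q = 0) {P : GL (Fin n) F}
  (hP : Cfsg.Geo.IsFormRationalStructure (Cfsg.hermForm n F q) F₀ ζ P)
  (halt : ∀ u : Fin n → F, (∀ i, u i ∈ F₀) →
    Cfsg.hermForm n F q ((P : Matrix (Fin n) (Fin n) F) *ᵥ u)
      ((P : Matrix (Fin n) (Fin n) F) *ᵥ u) = 0)

include hF hcard hζ0 hζ hP halt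

/-- a rational isotropic line -/
theorem exists_rat_pair {i₀ i₁ i₂ : Fin n} (h01 : i₀ ≠ i₁) (h02 : i₀ ≠ i₂) (h12 : i₁ ≠ i₂) :
    ∃ a b : Fin n → F, Rat F₀ a ∧ Rat F₀ b ∧ ff q ζ P a b = 0 ∧
      ∀ s t : F, s • a + t • b = 0 → s = 0 ∧ t = 0 := by
  have he0 := Rat.single (F := F) F₀ i₀
  have he1 := Rat.single (F := F) F₀ i₁
  have he2 := Rat.single (F := F) F₀ i₂
  by_cases h : ff q ζ P (Pi.single i₀ 1) (Pi.single i₁ 1) = 0
  · refine ⟨Pi.single i₀ 1, Pi.single i₁ 1, he0, he1, h, ?_⟩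
    intro s t hst
    have h0 := congrFun hst i₀
    have h1 := congrFun hst i₁
    simp only [Pi.add_apply, Pi.smul_apply, smul_eq_mul, Pi.zero_apply, Pi.single_eq_same,
      mul_one] at h0 h1
    rw [Pi.single_eq_of_ne h01, mul_zero, add_zero] at h0
    rw [Pi.single_eq_of_ne (Ne.symm h01), mul_zero, zero_add] at h1
    exact ⟨h0, h1⟩
  · have m1 := ff_mem F₀ hP he0 he1
    have m2 := ff_mem F₀ hP he0 he2
    refine ⟨Pi.single i₀ 1, ff q ζ P (Pi.single i₀ 1) (Pi.single i₂ 1) • Pi.single i₁ 1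
      - ff q ζ P (Pi.single i₀ 1) (Pi.single i₁ 1) • Pi.single i₂ 1, he0,
      (he1.smul m2).sub (he2.smul m1), ?_, ?_⟩
    · rw [ff_sub_right hF, ff_smul_right_rat hF F₀ hcard _ _ m2,
        ff_smul_right_rat hF F₀ hcard _ _ m1]
      ring
    · intro s t hst
      have h0 := congrFun hst i₀
      have h2 := congrFun hst i₂
      simp only [Pi.add_apply, Pi.smul_apply, Pi.sub_apply, smul_eq_mul, Pi.zero_apply,
        Pi.single_eq_same, mul_one] at h0 h2
      rw [Pi.single_eq_of_ne h01, Pi.single_eq_of_ne h02, mul_zero, mul_zero, sub_zero, mul_zero,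
        add_zero] at h0
      rw [Pi.single_eq_of_ne (Ne.symm h02), Pi.single_eq_of_ne (Ne.symm h12), mul_zero, mul_zero,
        zero_add, zero_sub, mul_neg, neg_eq_zero] at h2
      exact ⟨h0, (mul_eq_zero.mp h2).resolve_right h⟩

/-- `H` is a proper subgroup of `SU` -/
theorem exists_not_mem_HH {i₀ i₁ i₂ : Fin n} (h01 : i₀ ≠ i₁) (h02 : i₀ ≠ i₂) (h12 : i₁ ≠ i₂) :
    ∃ g : GL (Fin n) F, g ∈ Cfsg.GU n F q ⊓ Cfsg.Geo.specialLinear (Fin n) F ∧
      g ∉ HH q F₀ P := by
  obtain ⟨θ, hθ⟩ := exists_not_mem hF F₀ hcard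
  have hθ' : θ ^ q - θ ≠ 0 := by
    intro h
    apply theta_ne hF F₀ hcard hθ
    linear_combination -h
  obtain ⟨a, b, ha, hb, hab, hind⟩ := exists_rat_pair hF F₀ hcard hζ0 hζ hP halt h01 h02 h12
  have ha0 : a ≠ 0 := by
    rintro rfl
    have := hind 1 0 (by simp)
    exact one_ne_zero this.1
  have hb0 : b ≠ 0 := by
    rintro rfl
    have := hind 0 1 (by simp)
    exact one_ne_zero this.2
  obtain ⟨x, hx⟩ : ∃ x, x = a + θ • b := ⟨_, rfl⟩
  have hxx : ff q ζ P x x = 0 := by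
    rw [hx, ff_decomp hF F₀ hcard hζ0 hζ hP halt ha hb θ, hab, mul_zero]
  have hw : Cfsg.hermForm n F q ((P : Matn) *ᵥ x) ((P : Matn) *ᵥ x) = 0 := by
    rw [herm_eq_ff hζ0, hxx, mul_zero]
  refine ⟨glOfDetOne (Cfsg.unitaryTransvection n q ((P : Matn) *ᵥ x) ζ)
    (det_unitaryTransvection _ _ hw), Subgroup.mem_inf.mpr ⟨?_, ?_⟩, ?_⟩
  · rw [mem_GU_iff, glOfDetOne_coe]
    exact isU_unitaryTransvection hF _ ζ hw hζ
  · rw [mem_specialLinear_iff, glOfDetOne_coe]
    exact det_unitaryTransvection _ _ hw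
  · intro hmem
    obtain ⟨lam, hlam, hr⟩ := rat_of_mem_subfieldSubgroup F₀ P _ hmem.1
    have hact : ∀ u : Fin n → F, ((glOfDetOne (Cfsg.unitaryTransvection n q ((P : Matn) *ᵥ x) ζ)
        (det_unitaryTransvection _ _ hw) : GL (Fin n) F) : Matn) *ᵥ ((P : Matn) *ᵥ u)
        = (P : Matn) *ᵥ (u + ff q ζ P u x • x) := by
      intro u
      rw [glOfDetOne_coe, unitaryTransvection_mulVec, Matrix.mulVec_add, Matrix.mulVec_smul]
      rfl
    -- the scalar is rational
    have hlam₀ : lam ∈ F₀ := by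
      obtain ⟨v, hv, hvb⟩ := hr b hb
      rw [hact] at hvb
      have h1 : ff q ζ P b x = 0 := by
        rw [hx, ff_add_right hF, ff_smul_right, ff_self F₀ halt hb, ff_skew hF F₀ halt hb ha, hab]
        ring
      rw [h1, zero_smul, add_zero, ← Matrix.mulVec_smul] at hvb
      have h2 : b = lam • v := P_injective (P := P) hvb
      obtain ⟨i, hi⟩ : ∃ i, b i ≠ 0 := by
        by_contra hcon
        push Not at hcon
        exact hb0 (funext hcon)
      have h3 : b i = lam * v i := congrFun h2 i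
      have hvi : v i ≠ 0 := by
        intro h0
        rw [h0, mul_zero] at h3
        exact hi h3
      have h4 : lam = b i / v i := by rw [h3, mul_div_cancel_right₀ _ hvi]
      rw [h4]
      exact F₀.div_mem (hb i) (hv i)
    obtain ⟨d, hd, had⟩ := exists_ff_ne_zero hF F₀ hcard hζ0 (P := P) ha0
    obtain ⟨v', hv', hvd⟩ := hr d hd
    rw [hact, ← Matrix.mulVec_smul] at hvd
    have h5 : d + ff q ζ P d x • x = lam • v' := P_injective (P := P) hvd
    obtain ⟨κ, hκ⟩ : ∃ κ, κ = ff q ζ P d x := ⟨_, rfl⟩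
    rw [← hκ] at h5
    have hr' : Rat F₀ (κ • a + (κ * θ) • b) := by
      have : κ • a + (κ * θ) • b = lam • v' - d := by
        rw [← h5, hx]; module
      rw [this]
      exact (hv'.smul hlam₀).sub hd
    have h6 := fr_of_rat hF F₀ hcard hr'
    rw [fr_add hF, fr_smul, fr_smul, fr_of_rat hF F₀ hcard ha, fr_of_rat hF F₀ hcard hb] at h6
    have h7 : (κ ^ q - κ) • a + ((κ * θ) ^ q - κ * θ) • b = 0 := by
      have : κ ^ q • a + (κ * θ) ^ q • b - (κ • a + (κ * θ) • b) = 0 := sub_eq_zero.mpr h6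
      rw [← this]; module
    obtain ⟨h8, h9⟩ := hind _ _ h7
    have hκ0 : κ = 0 := by
      have h10 : κ ^ q = κ := sub_eq_zero.mp h8
      rw [mul_pow, h10] at h9
      have h11 : κ * (θ ^ q - θ) = 0 := by linear_combination h9
      exact (mul_eq_zero.mp h11).resolve_right hθ'
    rw [hκ, hx, ff_add_right hF, ff_smul_right] at hκ0
    have hα : ff q ζ P d a ≠ 0 := by
      rw [ff_skew hF F₀ halt hd ha]
      exact neg_ne_zero.mpr had
    have mα := ff_mem F₀ hP hd ha
    have mβ := ff_mem F₀ hP hd hb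
    by_cases hβ : ff q ζ P d b = 0
    · rw [hβ, mul_zero, add_zero] at hκ0
      exact hα hκ0
    · have h12 : θ ^ q = -(ff q ζ P d a) / ff q ζ P d b := by
        field_simp
        linear_combination hκ0
      have h13 : θ ^ q ∈ F₀ := by
        rw [h12]
        exact F₀.div_mem (F₀.neg_mem mα) mβ
      apply hθ
      rw [← frob_frob hF θ, pow_q_of_mem hF F₀ hcard h13]
      exact h13

/-- **Maximality** of the symplectic-type subfield subgroup of `SU_n(q)` -/
theorem isMaximalIn_subfield_symplectic (hn : 4 ≤ n) :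
    Cfsg.Geo.IsMaximalIn (Cfsg.GU n F q ⊓ Cfsg.Geo.specialLinear (Fin n) F)
      (Cfsg.Geo.subfieldSubgroup F₀ P ⊓ (Cfsg.GU n F q ⊓ Cfsg.Geo.specialLinear (Fin n) F)) := by
  have h32 : ¬ (n = 3 ∧ q = 2) := by omega
  have h01 : (⟨0, by omega⟩ : Fin n) ≠ ⟨1, by omega⟩ := by
    intro h; have := congrArg Fin.val h; simp at this
  have h02 : (⟨0, by omega⟩ : Fin n) ≠ ⟨2, by omega⟩ := by
    intro h; have := congrArg Fin.val h; simp at this
  have h12 : (⟨1, by omega⟩ : Fin n) ≠ ⟨2, by omega⟩ := by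
    intro h; have := congrArg Fin.val h; simp at this
  constructor
  · refine lt_of_le_of_ne inf_le_right ?_
    intro heq
    obtain ⟨g, hgK, hgH⟩ := exists_not_mem_HH hF F₀ hcard hζ0 hζ hP halt h01 h02 h12
    apply hgH
    show g ∈ Cfsg.Geo.subfieldSubgroup F₀ P ⊓ (Cfsg.GU n F q ⊓ Cfsg.Geo.specialLinear (Fin n) F)
    rw [heq]
    exact hgK
  · intro M hHM hMK
    by_cases hle : M ≤ HH q F₀ P
    · left
      exact le_antisymm hle hHM
    · right
      obtain ⟨g, hgM, hgH⟩ := SetLike.not_le_iff_exists.mp hle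
      refine le_antisymm hMK (suGL_le_of_tv hF h32 M ?_)
      intro w hw
      exact all_utvVecs hF F₀ hcard hζ0 hζ hP halt ⟨0, by omega⟩ hHM hMK hgM hgH w hw

end Fixed

end Cfsg.Agent.Helper94.SubU
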