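import Cfsg.Agent.Helper94.Weight

set_option autoImplicit false
set_option linter.unusedSectionVars false
set_option linter.unusedSimpArgs false

namespace Cfsg.Agent.Helper94

open Cfsg Cfsg.Geo
open scoped Matrix

section SubfieldA

variable {ι : Type} [Fintype ι] [DecidableEq ι] {F : Type*} [Field F]

/-- The normaliser of a set of matrices under conjugation. -/
def setNormalizer (S : Set (Matrix ι ι F)) : Subgroup (Matrix.GeneralLinearGroup ι F) where
  carrier := {g | ∀ k : Matrix ι ι F,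
    k ∈ S ↔ (g : Matrix ι ι F) * k * ((g⁻¹ : Matrix.GeneralLinearGroup ι F) : Matrix ι ι F) ∈ S}
  mul_mem' {a b} ha hb := by
    intro k
    rw [hb k, ha, Units.val_mul, mul_inv_rev, Units.val_mul]
    constructor <;> intro h <;> simpa [mul_assoc] using h
  one_mem' := by
    intro k
    simp
  inv_mem' {a} ha := by
    intro k
    have h := ha (((a⁻¹ : Matrix.GeneralLinearGroup ι F) : Matrix ι ι F) * k * (a : Matrix ι ι F))
    rw [inv_inv]
    rw [h]
    constructor <;> intro h' <;>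
      simpa [mul_assoc, ← Units.val_mul] using h'

/-- The set of fixed points of `x ↦ x ^ m` in a subalgebra. -/
def powFixed (K : Subalgebra F (Matrix ι ι F)) (m : ℕ) : Set (Matrix ι ι F) :=
  {x | x ∈ K ∧ x ^ m = x}

theorem gl_conj_pow (g : Matrix.GeneralLinearGroup ι F) (k : Matrix ι ι F) (m : ℕ) :
    ((g : Matrix ι ι F) * k * ((g⁻¹ : Matrix.GeneralLinearGroup ι F) : Matrix ι ι F)) ^ m
      = (g : Matrix ι ι F) * k ^ m * ((g⁻¹ : Matrix.GeneralLinearGroup ι F) : Matrix ι ι F) :=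
  Units.conj_pow g k m

theorem gl_conj_cancel (g : Matrix.GeneralLinearGroup ι F) {k k' : Matrix ι ι F}
    (h : (g : Matrix ι ι F) * k * ((g⁻¹ : Matrix.GeneralLinearGroup ι F) : Matrix ι ι F)
      = (g : Matrix ι ι F) * k' * ((g⁻¹ : Matrix.GeneralLinearGroup ι F) : Matrix ι ι F)) : k = k' := by
  have h1 := congrArg (fun M => ((g⁻¹ : Matrix.GeneralLinearGroup ι F) : Matrix ι ι F) * M
    * (g : Matrix ι ι F)) h
  simp only [mul_assoc, Units.inv_mul, mul_one] at h1
  simpa [← mul_assoc] using h1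

theorem subalgebraNormalizer_le_setNormalizer (K : Subalgebra F (Matrix ι ι F)) (m : ℕ) :
    subalgebraNormalizer K ≤ setNormalizer (powFixed K m) := by
  intro g hg k
  constructor
  · rintro ⟨hk, hkm⟩
    refine ⟨(hg k).1 hk, ?_⟩
    rw [gl_conj_pow, hkm]
  · rintro ⟨hk, hkm⟩
    refine ⟨(hg k).2 hk, ?_⟩
    rw [gl_conj_pow] at hkm
    exact gl_conj_cancel g hkm

/-- A nonzero element of a field subalgebra kills no nonzero vector. -/
theorem mulVec_ne_zero_of_field {r : ℕ} {K : Subalgebra F (Matrix ι ι F)} (hK : IsFieldSubalgebra r K)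
    {y : Matrix ι ι F} (hy : y ∈ K) (hy0 : y ≠ 0) {u : ι → F} (hu : u ≠ 0) : y *ᵥ u ≠ 0 := by
  intro h
  obtain ⟨y', hy', hyy'⟩ := hK.inv y hy hy0
  have h1 : y' * y = 1 := by rw [← hK.comm y hy y' hy']; exact hyy'
  apply hu
  have := congrArg (fun v => y' *ᵥ v) h
  simp only [Matrix.mulVec_mulVec, h1, Matrix.one_mulVec, Matrix.mulVec_zero] at this
  exact this

/-- Some transvection does not normalise a set containing a non-scalar element of a field subalgebra. -/
theorem exists_transvection_not_mem {r : ℕ} {K : Subalgebra F (Matrix ι ι F)}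
    (hK : IsFieldSubalgebra r K) (hcard : 3 ≤ Fintype.card ι) {S : Set (Matrix ι ι F)} (hSK : S ⊆ K)
    {a : Matrix ι ι F} (haS : a ∈ S) (hns : ∀ c : F, a ≠ c • (1 : Matrix ι ι F)) :
    ∃ g : Matrix.GeneralLinearGroup ι F, g ∈ specialLinear ι F ∧ g ∉ setNormalizer S := by
  classical
  have haK : a ∈ K := hSK haS
  have hne : Nonempty ι := Fintype.card_pos_iff.mp (by omega)
  obtain ⟨i⟩ := hne
  obtain ⟨w, hw⟩ : ∃ w : ι → F, w = Pi.single i 1 := ⟨_, rfl⟩
  have hw0 : w ≠ 0 := by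
    intro h
    have := congrFun h i
    rw [hw] at this
    simp at this
  -- a functional vanishing on `w` and `a w`
  obtain ⟨p, hp⟩ : ∃ p : Submodule F (ι → F), p = Submodule.span F {w, a *ᵥ w} := ⟨_, rfl⟩
  have hpdim : Module.finrank F p ≤ 2 := by
    rw [hp]
    have := finrank_span_le_card (R := F) ({w, a *ᵥ w} : Set (ι → F))
    have h2 : ({w, a *ᵥ w} : Set (ι → F)).toFinset.card ≤ 2 := by
      rw [Set.toFinset_insert, Set.toFinset_singleton]
      exact Finset.card_le_two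
    omega
  have hplt : p < ⊤ := by
    rw [lt_top_iff_ne_top]
    intro h
    rw [h, finrank_top, Module.finrank_fintype_fun_eq_card] at hpdim
    omega
  obtain ⟨ψ, hψ0, hψp⟩ := Submodule.exists_le_ker_of_lt_top p hplt
  have hψw : ψ w = 0 := by
    have : w ∈ p := by rw [hp]; exact Submodule.subset_span (by simp)
    exact LinearMap.mem_ker.mp (hψp this)
  have hψaw : ψ (a *ᵥ w) = 0 := by
    have : a *ᵥ w ∈ p := by rw [hp]; exact Submodule.subset_span (by simp)
    exact LinearMap.mem_ker.mp (hψp this)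
  obtain ⟨v₁, hv₁⟩ : ∃ v, ψ v ≠ 0 := by
    by_contra hcon
    push Not at hcon
    exact hψ0 (LinearMap.ext hcon)
  obtain ⟨v₀, hv₀⟩ : ∃ v, ψ v = 1 := ⟨(ψ v₁)⁻¹ • v₁, by rw [map_smul, smul_eq_mul, inv_mul_cancel₀ hv₁]⟩
  have h1 : 1 + ψ w ≠ 0 := by rw [hψw, add_zero]; exact one_ne_zero
  refine ⟨tvGL ψ w h1, ?_, ?_⟩
  · rw [mem_specialLinear_iff, tvGL_det, hψw, add_zero]
  · intro hmem
    obtain ⟨t, ht⟩ : ∃ t : Matrix.GeneralLinearGroup ι F, t = tvGL ψ w h1 := ⟨_, rfl⟩
    rw [← ht] at hmem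
    have htv : ∀ x, (t : Matrix ι ι F) *ᵥ x = x + ψ x • w := by
      intro x; rw [ht]; exact tvGL_mulVec ψ w h1 x
    have ha' := (hmem a).1 haS
    obtain ⟨a', ha'def⟩ : ∃ a' : Matrix ι ι F, a' = (t : Matrix ι ι F) * a
        * ((t⁻¹ : Matrix.GeneralLinearGroup ι F) : Matrix ι ι F) := ⟨_, rfl⟩
    rw [← ha'def] at ha'
    have ha'K : a' ∈ K := hSK ha'
    have hcomm : a' * (t : Matrix ι ι F) = (t : Matrix ι ι F) * a := by
      rw [ha'def, mul_assoc, Units.inv_mul, mul_one]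
    -- `y = a' - a` kills `w`
    have hyK : a' - a ∈ K := K.sub_mem ha'K haK
    have hyw : (a' - a) *ᵥ w = 0 := by
      have e1 : (a' * (t : Matrix ι ι F)) *ᵥ w = a' *ᵥ w := by
        rw [← Matrix.mulVec_mulVec, htv, hψw, zero_smul, add_zero]
      have e2 : ((t : Matrix ι ι F) * a) *ᵥ w = a *ᵥ w := by
        rw [← Matrix.mulVec_mulVec, htv, hψaw, zero_smul, add_zero]
      rw [Matrix.sub_mulVec, ← e1, hcomm, e2, sub_self]
    have hy0 : a' - a = 0 := by
      by_contra hne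
      exact mulVec_ne_zero_of_field hK hyK hne hw0 hyw
    have haa : a' = a := sub_eq_zero.mp hy0
    rw [haa] at hcomm
    -- evaluate at `v₀`
    have e3 := congrArg (fun M : Matrix ι ι F => M *ᵥ v₀) hcomm
    simp only [← Matrix.mulVec_mulVec, htv, hv₀, one_smul, Matrix.mulVec_add] at e3
    -- `a w = ψ(a v₀) w`
    have e4 : a *ᵥ w = ψ (a *ᵥ v₀) • w := by
      have := add_left_cancel e3
      exact this
    have hsc : a - ψ (a *ᵥ v₀) • (1 : Matrix ι ι F) ∈ K :=
      K.sub_mem haK (K.smul_mem K.one_mem _)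
    have hsc0 : a - ψ (a *ᵥ v₀) • (1 : Matrix ι ι F) ≠ 0 := by
      intro h
      exact hns _ (sub_eq_zero.mp h)
    apply mulVec_ne_zero_of_field hK hsc hsc0 hw0
    rw [Matrix.sub_mulVec, Matrix.smul_mulVec, Matrix.one_mulVec, e4, sub_self]

end SubfieldA

end Cfsg.Agent.Helper94
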