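import Cfsg.Agent.Helper94.SubfieldA

set_option autoImplicit false
set_option linter.unusedSectionVars false
set_option linter.unusedSimpArgs false
set_option linter.style.haveILetI false

namespace Cfsg.Agent.Helper94

open Cfsg Cfsg.Geo
open scoped Matrix

section SubfieldB

variable {ι : Type} [Fintype ι] [DecidableEq ι] {F : Type*} [Field F]

/-- The field structure on a field subalgebra. -/
@[reducible] noncomputable def fieldOfSub [Nonempty ι] {r : ℕ} {K : Subalgebra F (Matrix ι ι F)}
    (hK : IsFieldSubalgebra r K) : Field ↥K :=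
  IsField.toField
    { exists_pair_ne := ⟨0, 1, by
        intro h
        have h1 : (0 : Matrix ι ι F) = 1 := congrArg Subtype.val h
        obtain ⟨i⟩ := ‹Nonempty ι›
        have := congrFun (congrFun h1 i) i
        simp at this⟩
      mul_comm := fun x y => Subtype.ext (hK.comm x x.2 y y.2)
      mul_inv_cancel := fun {a} ha => by
        obtain ⟨y, hy, hxy⟩ := hK.inv a a.2 (fun h => ha (Subtype.ext h))
        exact ⟨⟨y, hy⟩, Subtype.ext hxy⟩ }

theorem exists_powFixed_elements [Fintype F] [Nonempty ι] {r q : ℕ} {K : Subalgebra F (Matrix ι ι F)}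
    (hK : IsFieldSubalgebra r K) (hq : Fintype.card F = q) (s t : ℕ) (hs : 1 < s) (ht : 1 < t)
    (hr : r = s * t) :
    ∃ a θ : Matrix ι ι F, a ∈ powFixed K (q ^ s) ∧ (∀ c : F, a ≠ c • (1 : Matrix ι ι F)) ∧ θ ∈ K ∧
      θ ^ (q ^ s) ≠ θ := by
  classical
  letI := fieldOfSub hK
  haveI : Finite ↥K := Finite.of_injective (fun x : ↥K => (x : Matrix ι ι F)) Subtype.val_injective
  have hq2 : 2 ≤ q := by rw [← hq]; exact Fintype.one_lt_card
  have hcardK : Nat.card ↥K = q ^ r := by
    rw [Module.natCard_eq_pow_finrank (K := F) (V := ↥K), hK.finrank_eq, Nat.card_eq_fintype_card, hq]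
  obtain ⟨g, hg⟩ := IsCyclic.exists_generator (α := (↥K)ˣ)
  have hord : orderOf g = q ^ r - 1 := by
    rw [orderOf_eq_card_of_forall_mem_zpowers hg, Nat.card_units, hcardK]
  obtain ⟨N, hN⟩ : ∃ N, N = q ^ r - 1 := ⟨_, rfl⟩
  obtain ⟨m, hm⟩ : ∃ m, m = q ^ s - 1 := ⟨_, rfl⟩
  have hqs : 1 ≤ q ^ s := Nat.one_le_pow _ _ (by omega)
  have hqr : q ^ s < q ^ r := by
    rw [hr]
    apply Nat.pow_lt_pow_right (by omega)
    nlinarith
  have hqq : q < q ^ s := by
    calc q = q ^ 1 := (pow_one q).symm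
      _ < q ^ s := Nat.pow_lt_pow_right (by omega) hs
  have hmN : m ∣ N := by
    have := Nat.sub_one_dvd_pow_sub_one (q ^ s) t
    rw [← pow_mul, ← hr] at this
    rw [hm, hN]; exact this
  have hm0 : 0 < m := by omega
  have hmltN : m < N := by omega
  obtain ⟨k, hk⟩ := hmN
  have hk0 : k ≠ 0 := by
    rintro rfl
    omega
  obtain ⟨a, ha⟩ : ∃ a : (↥K)ˣ, a = g ^ k := ⟨_, rfl⟩
  have horda : orderOf a = m := by
    rw [ha, orderOf_pow_of_dvd hk0 (by rw [hord, ← hN, hk]; exact Dvd.intro_left m rfl), hord, ← hN, hk]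
    exact Nat.mul_div_cancel _ (Nat.pos_of_ne_zero hk0)
  have hapow : a ^ (q ^ s) = a := by
    have h1 : a ^ m = 1 := by rw [← horda]; exact pow_orderOf_eq_one a
    have h2 : q ^ s = m + 1 := by omega
    rw [h2, pow_succ, h1, one_mul]
  refine ⟨((a : ↥K) : Matrix ι ι F), ((g : ↥K) : Matrix ι ι F), ⟨(a : ↥K).2, ?_⟩, ?_, (g : ↥K).2, ?_⟩
  · have := congrArg (fun u : (↥K)ˣ => ((u : ↥K) : Matrix ι ι F)) hapow
    simpa using this
  · intro c hc
    have hc0 : c ≠ 0 := by
      rintro rfl
      rw [zero_smul] at hc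
      have : ((a : ↥K)) = 0 := Subtype.ext hc
      exact a.ne_zero this
    have h1 : a ^ (q - 1) = 1 := by
      apply Units.ext
      apply Subtype.ext
      rw [Units.val_pow_eq_pow_val, SubmonoidClass.coe_pow, hc, smul_pow, one_pow]
      have : c ^ (q - 1) = 1 := by
        rw [← hq]; exact FiniteField.pow_card_sub_one_eq_one c hc0
      rw [this, one_smul]
      rfl
    have h2 := orderOf_dvd_of_pow_eq_one h1
    rw [horda] at h2
    have h3 := Nat.le_of_dvd (by omega) h2
    omega
  · intro h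
    have h1 : g ^ (q ^ s) = g := by
      apply Units.ext
      apply Subtype.ext
      rw [Units.val_pow_eq_pow_val, SubmonoidClass.coe_pow]
      exact h
    have h2 : g ^ m = 1 := by
      have h3 : q ^ s = m + 1 := by omega
      rw [h3, pow_succ] at h1
      exact mul_right_cancel (b := g) (by rw [h1, one_mul])
    have h4 := orderOf_dvd_of_pow_eq_one h2
    rw [hord, ← hN] at h4
    have h5 := Nat.le_of_dvd hm0 h4
    omega

end SubfieldB

end Cfsg.Agent.Helper94
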