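import Cfsg.Agent.Helper94.SubfieldB

set_option autoImplicit false
set_option linter.unusedSectionVars false
set_option linter.unusedSimpArgs false
set_option linter.style.haveILetI false

namespace Cfsg.Agent.Helper94

open Cfsg Cfsg.Geo
open scoped Matrix

section SubfieldC

variable {ι : Type} [Fintype ι] [DecidableEq ι] {F : Type*} [Field F]

/-- Determinant of `1 + M` with `M * M = 0` in positive characteristic. -/
theorem det_one_add_of_sq_zero [Fintype F] [Nonempty ι] {M : Matrix ι ι F} (hM : M * M = 0) :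
    (1 + M).det = 1 := by
  obtain ⟨p, hp⟩ := CharP.exists F
  haveI : Fact p.Prime := ⟨CharP.char_is_prime F p⟩
  have hp2 : 2 ≤ p := (Fact.out : p.Prime).two_le
  haveI : CharP (Matrix ι ι F) p := Matrix.charP p
  have hMp : M ^ p = 0 := by
    have : p = 2 + (p - 2) := by omega
    rw [this, pow_add, pow_two, hM, zero_mul]
  have h1 : (1 + M) ^ p = 1 := by
    rw [add_pow_char_of_commute p (Commute.one_left M), one_pow, hMp, add_zero]
  have h2 : (1 + M).det ^ p = 1 := by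
    rw [← Matrix.det_pow, h1, Matrix.det_one]
  have h3 : ((1 + M).det - 1) ^ p = 0 := by
    rw [sub_pow_char, h2, one_pow, sub_self]
  exact sub_eq_zero.mp (pow_eq_zero_iff (by omega) |>.mp h3)

theorem exists_commuting_not_normalizing [Fintype F] [Nonempty ι] {r q : ℕ}
    {K : Subalgebra F (Matrix ι ι F)} (hK : IsFieldSubalgebra r K) (hq : Fintype.card F = q)
    (s : ℕ) (hd : 2 * r ≤ Fintype.card ι) {θ : Matrix ι ι F} (hθK : θ ∈ K)
    (hθ : θ ^ (q ^ s) ≠ θ) :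
    ∃ g : Matrix.GeneralLinearGroup ι F, g ∈ specialLinear ι F ∧
      g ∈ setNormalizer (powFixed K (q ^ s)) ∧ g ∉ subalgebraNormalizer K := by
  classical
  letI := fieldOfSub hK
  have hsm : ∀ (k : ↥K) (v : ι → F), k • v = (k : Matrix ι ι F) *ᵥ v := fun k v => rfl
  haveI : Module.Finite ↥K (ι → F) := Module.Finite.of_restrictScalars_finite F ↥K (ι → F)
  obtain ⟨p, hpc⟩ := CharP.exists F
  haveI : Fact p.Prime := ⟨CharP.char_is_prime F p⟩
  haveI : CharP ↥K p := charP_of_injective_algebraMap (algebraMap F ↥K).injective p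
  obtain ⟨f, -, hqf⟩ := FiniteField.card F p
  -- dimension over `K`
  have hdim : r * Module.finrank ↥K (ι → F) = Fintype.card ι := by
    have := Module.finrank_mul_finrank F ↥K (ι → F)
    rw [hK.finrank_eq, Module.finrank_fintype_fun_eq_card] at this
    exact this
  obtain ⟨d, hddef⟩ : ∃ d, d = Module.finrank ↥K (ι → F) := ⟨_, rfl⟩
  have hd2 : 2 ≤ d := by
    rw [← hddef] at hdim
    by_contra hlt
    push Not at hlt
    have : r * d ≤ r * 1 := Nat.mul_le_mul_left r (by omega)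
    have hr0 : 0 < r := by
      rcases Nat.eq_zero_or_pos r with h | h
      · rw [h] at hdim hd
        have : 0 < Fintype.card ι := Fintype.card_pos
        omega
      · exact h
    omega
  obtain ⟨b⟩ : Nonempty (Module.Basis (Fin d) ↥K (ι → F)) := ⟨Module.finBasisOfFinrankEq ↥K (ι → F) hddef.symm⟩
  obtain ⟨i₀, hi₀⟩ : ∃ i : Fin d, i = ⟨0, by omega⟩ := ⟨_, rfl⟩
  obtain ⟨i₁, hi₁⟩ : ∃ i : Fin d, i = ⟨1, by omega⟩ := ⟨_, rfl⟩
  have hi01 : i₁ ≠ i₀ := by
    rw [hi₀, hi₁]; intro h; simp [Fin.ext_iff] at h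
  obtain ⟨lam, hlam⟩ : ∃ lam : (ι → F) →ₗ[↥K] ↥K, lam = b.coord i₀ := ⟨_, rfl⟩
  obtain ⟨b₁, hb₁⟩ : ∃ v : ι → F, v = b i₀ := ⟨_, rfl⟩
  obtain ⟨b₂, hb₂⟩ : ∃ v : ι → F, v = b i₁ := ⟨_, rfl⟩
  have hlam1 : lam b₁ = 1 := by
    rw [hlam, hb₁, Module.Basis.coord_apply, Module.Basis.repr_self, Finsupp.single_eq_same]
  have hlam2 : lam b₂ = 0 := by
    rw [hlam, hb₂, Module.Basis.coord_apply, Module.Basis.repr_self, Finsupp.single_eq_of_ne hi01.symm]
  have hb₂0 : b₂ ≠ 0 := by rw [hb₂]; exact b.ne_zero i₁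
  -- Frobenius power
  obtain ⟨Q', hQ'⟩ : ∃ Q' : ℕ, Q' = q ^ s := ⟨_, rfl⟩
  have hQ'p : Q' = p ^ ((f : ℕ) * s) := by rw [hQ', ← hq, hqf, pow_mul]
  have hfrob_add : ∀ x y : ↥K, (x + y) ^ Q' = x ^ Q' + y ^ Q' := by
    intro x y
    rw [hQ'p]
    exact add_pow_char_pow x y p _
  have hfrobF : ∀ c : F, c ^ Q' = c := by
    intro c
    rw [hQ', ← hq]
    exact FiniteField.pow_card_pow s c
  rw [← hQ'] at hθ ⊢
  -- the nilpotent map
  let N : (ι → F) →ₗ[F] (ι → F) :=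
    { toFun := fun v => (lam v) ^ Q' • b₂
      map_add' := fun v w => by
        show (lam (v + w)) ^ Q' • b₂ = (lam v) ^ Q' • b₂ + (lam w) ^ Q' • b₂
        rw [map_add, hfrob_add, add_smul]
      map_smul' := fun c v => by
        show (lam (c • v)) ^ Q' • b₂ = c • ((lam v) ^ Q' • b₂)
        have e1 : c • v = (algebraMap F ↥K c) • v := by
          rw [algebraMap_smul]
        rw [e1, map_smul, smul_eq_mul, mul_pow, ← map_pow, hfrobF, mul_smul, algebraMap_smul] }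
  have hNdef : ∀ v, N v = (lam v) ^ Q' • b₂ := fun v => rfl
  have hNN : ∀ v, N (N v) = 0 := by
    intro v
    rw [hNdef (N v), hNdef v, map_smul, hlam2, smul_zero, zero_pow, zero_smul]
    rw [hQ']
    have : 0 < q := by rw [← hq]; exact Fintype.card_pos
    exact (Nat.pow_pos this).ne'
  obtain ⟨M, hMdef⟩ : ∃ M : Matrix ι ι F, M = LinearMap.toMatrix' N := ⟨_, rfl⟩
  have hMv : ∀ v, M *ᵥ v = N v := by
    intro v; rw [hMdef, LinearMap.toMatrix'_mulVec]
  have hMM : M * M = 0 := by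
    apply Matrix.mulVec_injective
    funext v
    rw [← Matrix.mulVec_mulVec, hMv, hMv, hNN, Matrix.zero_mulVec]
  obtain ⟨g, hg⟩ : ∃ g : Matrix.GeneralLinearGroup ι F, (g : Matrix ι ι F) = 1 + M ∧
      ((g⁻¹ : Matrix.GeneralLinearGroup ι F) : Matrix ι ι F) = 1 - M := by
    refine ⟨⟨1 + M, 1 - M, ?_, ?_⟩, rfl, rfl⟩
    · rw [add_mul, mul_sub, mul_sub, hMM]; simp
    · rw [sub_mul, mul_add, mul_add, hMM]; simp
  obtain ⟨hgv, hgi⟩ := hg
  -- `M` commutes with the fixed points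
  have hMcomm : ∀ x ∈ powFixed K Q', M * x = x * M := by
    rintro x ⟨hxK, hxQ⟩
    apply Matrix.mulVec_injective
    funext v
    rw [← Matrix.mulVec_mulVec, ← Matrix.mulVec_mulVec, hMv, hMv, hNdef, hNdef]
    have e1 : x *ᵥ v = (⟨x, hxK⟩ : ↥K) • v := rfl
    have e2 : (⟨x, hxK⟩ : ↥K) ^ Q' = ⟨x, hxK⟩ := Subtype.ext (by
      rw [SubmonoidClass.coe_pow]; exact hxQ)
    rw [e1, map_smul, smul_eq_mul, mul_pow, e2, mul_smul, hsm]
  have hgcomm : ∀ x ∈ powFixed K Q', (g : Matrix ι ι F) * x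
      * ((g⁻¹ : Matrix.GeneralLinearGroup ι F) : Matrix ι ι F) = x := by
    intro x hx
    have h1 : (g : Matrix ι ι F) * x = x * (g : Matrix ι ι F) := by
      rw [hgv, add_mul, mul_add, one_mul, mul_one, hMcomm x hx]
    rw [h1, mul_assoc, Units.mul_inv, mul_one]
  refine ⟨g, ?_, ?_, ?_⟩
  · rw [mem_specialLinear_iff, hgv]
    exact det_one_add_of_sq_zero hMM
  · intro k
    constructor
    · intro hk
      rw [hgcomm k hk]; exact hk
    · intro hk
      have h1 := hgcomm _ hk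
      have h2 : k = (g : Matrix ι ι F) * k * ((g⁻¹ : Matrix.GeneralLinearGroup ι F) : Matrix ι ι F) :=
        gl_conj_cancel g h1.symm
      rw [h2]; exact hk
  · intro hmem
    have hθ' := (hmem θ).1 hθK
    obtain ⟨θ', hθ'def⟩ : ∃ θ' : Matrix ι ι F, θ' = (g : Matrix ι ι F) * θ
        * ((g⁻¹ : Matrix.GeneralLinearGroup ι F) : Matrix ι ι F) := ⟨_, rfl⟩
    rw [← hθ'def] at hθ'
    have hcomm : θ' * (g : Matrix ι ι F) = (g : Matrix ι ι F) * θ := by
      rw [hθ'def, mul_assoc, Units.inv_mul, mul_one]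
    have hgb₂ : (g : Matrix ι ι F) *ᵥ b₂ = b₂ := by
      rw [hgv, Matrix.add_mulVec, Matrix.one_mulVec, hMv, hNdef, hlam2, zero_pow, zero_smul, add_zero]
      rw [hQ']
      have : 0 < q := by rw [← hq]; exact Fintype.card_pos
      exact (Nat.pow_pos this).ne'
    have hθb₂ : N (θ *ᵥ b₂) = 0 := by
      have e1 : θ *ᵥ b₂ = (⟨θ, hθK⟩ : ↥K) • b₂ := rfl
      rw [hNdef, e1, map_smul, hlam2, smul_zero, zero_pow, zero_smul]
      rw [hQ']
      have : 0 < q := by rw [← hq]; exact Fintype.card_pos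
      exact (Nat.pow_pos this).ne'
    have hyb₂ : (θ' - θ) *ᵥ b₂ = 0 := by
      have e1 : (θ' * (g : Matrix ι ι F)) *ᵥ b₂ = θ' *ᵥ b₂ := by
        rw [← Matrix.mulVec_mulVec, hgb₂]
      have e2 : ((g : Matrix ι ι F) * θ) *ᵥ b₂ = θ *ᵥ b₂ := by
        rw [← Matrix.mulVec_mulVec, hgv, Matrix.add_mulVec, Matrix.one_mulVec, hMv, hθb₂, add_zero]
      rw [Matrix.sub_mulVec, ← e1, hcomm, e2, sub_self]
    have hy0 : θ' - θ = 0 := by
      by_contra hne
      exact mulVec_ne_zero_of_field hK (K.sub_mem hθ' hθK) hne hb₂0 hyb₂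
    have hθθ : θ' = θ := sub_eq_zero.mp hy0
    rw [hθθ, hgv, add_mul, mul_add, one_mul, mul_one] at hcomm
    have hMθ : θ * M = M * θ := add_left_cancel hcomm
    have e3 := congrArg (fun A : Matrix ι ι F => A *ᵥ b₁) hMθ
    simp only [← Matrix.mulVec_mulVec, hMv] at e3
    have e4 : θ *ᵥ b₁ = (⟨θ, hθK⟩ : ↥K) • b₁ := rfl
    rw [hNdef b₁, hlam1, one_pow, one_smul, e4, hNdef, map_smul, hlam1, smul_eq_mul, mul_one,
      ← hsm ⟨θ, hθK⟩ b₂] at e3
    have e5 : ((⟨θ, hθK⟩ : ↥K) - (⟨θ, hθK⟩ : ↥K) ^ Q') • b₂ = 0 := by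
      rw [sub_smul, e3, sub_self]
    rcases smul_eq_zero.mp e5 with h | h
    · apply hθ
      have := sub_eq_zero.mp h
      have h2 := congrArg (fun x : ↥K => (x : Matrix ι ι F)) this
      simp only [SubmonoidClass.coe_pow] at h2
      exact h2.symm
    · exact hb₂0 h

end SubfieldC

end Cfsg.Agent.Helper94
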