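import Mathlib
import Cfsg.Prelude.Def_GeometricClasses

set_option autoImplicit false
set_option linter.unusedSectionVars false

namespace Cfsg.Agent.Helper94

open Cfsg Cfsg.Geo
open scoped Matrix

section Symp

variable {F : Type*} [Field F] {m : ℕ}

theorem sympForm_apply (u v : Fin m ⊕ Fin m → F) :
    sympForm m F u v = ∑ i, (u (Sum.inr i) * v (Sum.inl i) - u (Sum.inl i) * v (Sum.inr i)) := by
  simp [sympForm, Matrix.J, Matrix.mulVec, dotProduct, Fintype.sum_sum_type, Matrix.fromBlocks,
    Matrix.one_apply, Finset.sum_sub_distrib]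
  ring

theorem sympForm_add_left (x y v : Fin m ⊕ Fin m → F) :
    sympForm m F (x + y) v = sympForm m F x v + sympForm m F y v := by
  simp [sympForm, add_dotProduct]

theorem sympForm_smul_left (c : F) (x v : Fin m ⊕ Fin m → F) :
    sympForm m F (c • x) v = c * sympForm m F x v := by
  simp [sympForm, smul_dotProduct]

theorem sympForm_add_right (v x y : Fin m ⊕ Fin m → F) :
    sympForm m F v (x + y) = sympForm m F v x + sympForm m F v y := by
  simp [sympForm, Matrix.mulVec_add, dotProduct_add]

theorem sympForm_smul_right (c : F) (v x : Fin m ⊕ Fin m → F) :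
    sympForm m F v (c • x) = c * sympForm m F v x := by
  simp [sympForm, Matrix.mulVec_smul, dotProduct_smul]

theorem sympForm_zero_left (v : Fin m ⊕ Fin m → F) : sympForm m F 0 v = 0 := by
  simp [sympForm]

theorem sympForm_zero_right (v : Fin m ⊕ Fin m → F) : sympForm m F v 0 = 0 := by
  simp [sympForm]

theorem sympForm_self (v : Fin m ⊕ Fin m → F) : sympForm m F v v = 0 := by
  rw [sympForm_apply]
  apply Finset.sum_eq_zero
  intro i _
  ring

theorem sympForm_swap (u v : Fin m ⊕ Fin m → F) : sympForm m F u v = - sympForm m F v u := by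
  rw [sympForm_apply, sympForm_apply, ← Finset.sum_neg_distrib]
  apply Finset.sum_congr rfl
  intro i _
  ring

theorem sympForm_sum_left {κ : Type*} (s : Finset κ) (c : κ → (Fin m ⊕ Fin m → F))
    (v : Fin m ⊕ Fin m → F) :
    sympForm m F (∑ k ∈ s, c k) v = ∑ k ∈ s, sympForm m F (c k) v := by
  classical
  induction s using Finset.induction_on with
  | empty => simp [sympForm_zero_left]
  | insert a s ha ih => rw [Finset.sum_insert ha, Finset.sum_insert ha, sympForm_add_left, ih]

theorem sympForm_sum_right {κ : Type*} (s : Finset κ) (c : κ → (Fin m ⊕ Fin m → F))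
    (v : Fin m ⊕ Fin m → F) :
    sympForm m F v (∑ k ∈ s, c k) = ∑ k ∈ s, sympForm m F v (c k) := by
  classical
  induction s using Finset.induction_on with
  | empty => simp [sympForm_zero_right]
  | insert a s ha ih => rw [Finset.sum_insert ha, Finset.sum_insert ha, sympForm_add_right, ih]

theorem sympForm_isBilinear : IsBilinearForm (sympForm m F) :=
  ⟨sympForm_add_left, sympForm_smul_left, sympForm_add_right, sympForm_smul_right⟩

/-- Action of the symplectic transvection matrix. -/
theorem sympTransvection_mulVec (u : Fin m ⊕ Fin m → F) (c : F) (x : Fin m ⊕ Fin m → F) :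
    sympTransvection m u c *ᵥ x = x + (c * sympForm m F x u) • u := by
  unfold sympTransvection
  rw [Matrix.add_mulVec, Matrix.one_mulVec, Matrix.smul_mulVec]
  congr 1
  ext j
  simp only [Matrix.mulVec, Matrix.vecMulVec_apply, dotProduct, Pi.smul_apply, smul_eq_mul, sympForm]
  rw [Finset.mul_sum, Finset.mul_sum, Finset.sum_mul]
  apply Finset.sum_congr rfl
  intro k _
  ring

theorem sympTransvection_mul_neg (u : Fin m ⊕ Fin m → F) (c : F) :
    sympTransvection m u c * sympTransvection m u (-c) = 1 := by
  apply Matrix.mulVec_injective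
  funext x
  rw [← Matrix.mulVec_mulVec, sympTransvection_mulVec, sympTransvection_mulVec, Matrix.one_mulVec,
    sympForm_add_left, sympForm_smul_left, sympForm_self]
  rw [mul_zero, add_zero, add_assoc, ← add_smul]
  simp

/-- The symplectic transvection `x ↦ x + c f(x,u) u` as an element of the general linear group. -/
noncomputable def sympTv (u : Fin m ⊕ Fin m → F) (c : F) : Matrix.GeneralLinearGroup (Fin m ⊕ Fin m) F :=
  ⟨sympTransvection m u c, sympTransvection m u (-c), sympTransvection_mul_neg u c, by
    have := sympTransvection_mul_neg u (-c)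
    rwa [neg_neg] at this⟩

theorem sympTv_mulVec (u : Fin m ⊕ Fin m → F) (c : F) (x : Fin m ⊕ Fin m → F) :
    ((sympTv u c : Matrix.GeneralLinearGroup (Fin m ⊕ Fin m) F) : Matrix _ _ F) *ᵥ x
      = x + (c * sympForm m F x u) • u :=
  sympTransvection_mulVec u c x

theorem sympTv_mem_spGL (u : Fin m ⊕ Fin m → F) (c : F) : sympTv u c ∈ spGL m F := by
  intro x y
  show sympForm m F (((sympTv u c : Matrix.GeneralLinearGroup (Fin m ⊕ Fin m) F) : Matrix _ _ F) *ᵥ x)
    (((sympTv u c : Matrix.GeneralLinearGroup (Fin m ⊕ Fin m) F) : Matrix _ _ F) *ᵥ y) = sympForm m F x y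
  rw [sympTv_mulVec, sympTv_mulVec]
  simp only [sympForm_add_left, sympForm_add_right, sympForm_smul_left, sympForm_smul_right,
    sympForm_self]
  rw [sympForm_swap u y]
  ring

theorem mem_spGL_iff (g : Matrix.GeneralLinearGroup (Fin m ⊕ Fin m) F) :
    g ∈ spGL m F ↔ ∀ u v, sympForm m F ((g : Matrix _ _ F) *ᵥ u) ((g : Matrix _ _ F) *ᵥ v)
      = sympForm m F u v := Iff.rfl

end Symp

end Cfsg.Agent.Helper94
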