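import Mathlib
import Cfsg.Prelude.Def_GeometricClasses

set_option autoImplicit false
set_option linter.unusedSectionVars false

namespace Cfsg.Agent.Helper94

open Cfsg Cfsg.Geo
open scoped Matrix Kronecker

section Tensor

variable {F : Type*} [Field F] {n₁ n₂ : ℕ}

/-- The pure tensor `x ⊗ y` as a coordinate vector indexed by `Fin n₁ × Fin n₂`. -/
def pt (x : Fin n₁ → F) (y : Fin n₂ → F) : Fin n₁ × Fin n₂ → F := fun a => x a.1 * y a.2

theorem pt_apply (x : Fin n₁ → F) (y : Fin n₂ → F) (a : Fin n₁ × Fin n₂) :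
    pt x y a = x a.1 * y a.2 := rfl

theorem pt_add_left (x x' : Fin n₁ → F) (y : Fin n₂ → F) : pt (x + x') y = pt x y + pt x' y := by
  ext a; simp [pt, add_mul]

theorem pt_add_right (x : Fin n₁ → F) (y y' : Fin n₂ → F) : pt x (y + y') = pt x y + pt x y' := by
  ext a; simp [pt, mul_add]

theorem pt_smul_left (c : F) (x : Fin n₁ → F) (y : Fin n₂ → F) : pt (c • x) y = c • pt x y := by
  ext a; simp [pt, mul_assoc]

theorem pt_smul_right (c : F) (x : Fin n₁ → F) (y : Fin n₂ → F) : pt x (c • y) = c • pt x y := by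
  ext a; simp [pt, mul_left_comm]

theorem pt_neg_left (x : Fin n₁ → F) (y : Fin n₂ → F) : pt (-x) y = - pt x y := by
  ext a; simp [pt]

theorem pt_neg_right (x : Fin n₁ → F) (y : Fin n₂ → F) : pt x (-y) = - pt x y := by
  ext a; simp [pt]

theorem pt_sub_left (x x' : Fin n₁ → F) (y : Fin n₂ → F) : pt (x - x') y = pt x y - pt x' y := by
  ext a; simp [pt, sub_mul]

theorem pt_sub_right (x : Fin n₁ → F) (y y' : Fin n₂ → F) : pt x (y - y') = pt x y - pt x y' := by
  ext a; simp [pt, mul_sub]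

theorem pt_zero_left (y : Fin n₂ → F) : pt (0 : Fin n₁ → F) y = 0 := by
  ext a; simp [pt]

theorem pt_zero_right (x : Fin n₁ → F) : pt x (0 : Fin n₂ → F) = 0 := by
  ext a; simp [pt]

/-- A Kronecker product acts factorwise on pure tensors. -/
theorem kronecker_mulVec_pt (A : Matrix (Fin n₁) (Fin n₁) F) (B : Matrix (Fin n₂) (Fin n₂) F)
    (x : Fin n₁ → F) (y : Fin n₂ → F) :
    (A ⊗ₖ B) *ᵥ pt x y = pt (A *ᵥ x) (B *ᵥ y) := by
  ext ⟨i, j⟩
  simp only [Matrix.mulVec, dotProduct, pt, Matrix.kroneckerMap_apply, Fintype.sum_prod_type]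
  rw [Finset.sum_mul_sum]
  refine Finset.sum_congr rfl fun i' _ => Finset.sum_congr rfl fun j' _ => ?_
  ring

/-- If a pure tensor `x ⊗ y` with `x i ≠ 0` equals `x' ⊗ y'`, then `y` is a multiple of `y'`. -/
theorem pt_eq_right {x x' : Fin n₁ → F} {y y' : Fin n₂ → F} (h : pt x y = pt x' y') {i : Fin n₁}
    (hi : x i ≠ 0) : y = (x' i / x i) • y' := by
  ext j
  have := congrFun h (i, j)
  simp only [pt] at this
  simp only [Pi.smul_apply, smul_eq_mul]
  field_simp
  linear_combination this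

/-- If a pure tensor `x ⊗ y` with `y j ≠ 0` equals `x' ⊗ y'`, then `x` is a multiple of `x'`. -/
theorem pt_eq_left {x x' : Fin n₁ → F} {y y' : Fin n₂ → F} (h : pt x y = pt x' y') {j : Fin n₂}
    (hj : y j ≠ 0) : x = (y' j / y j) • x' := by
  ext i
  have := congrFun h (i, j)
  simp only [pt] at this
  simp only [Pi.smul_apply, smul_eq_mul]
  field_simp
  linear_combination this

variable {ι : Type} [Fintype ι] [DecidableEq ι]

/-- The linear isomorphism `F^(n₁ × n₂) → F^ι` attached to the bijection `e` and the change of basis `P`. -/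
def tau (e : ι ≃ Fin n₁ × Fin n₂) (P : Matrix.GeneralLinearGroup ι F) (z : Fin n₁ × Fin n₂ → F) :
    ι → F := (P : Matrix ι ι F) *ᵥ (z ∘ e)

variable (e : ι ≃ Fin n₁ × Fin n₂) (P : Matrix.GeneralLinearGroup ι F)

theorem tau_add (z z' : Fin n₁ × Fin n₂ → F) : tau e P (z + z') = tau e P z + tau e P z' := by
  unfold tau
  rw [← Matrix.mulVec_add]; rfl

theorem tau_smul (c : F) (z : Fin n₁ × Fin n₂ → F) : tau e P (c • z) = c • tau e P z := by
  unfold tau
  rw [← Matrix.mulVec_smul]; rfl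

theorem tau_zero : tau e P (0 : Fin n₁ × Fin n₂ → F) = 0 := by
  unfold tau
  have : ((0 : Fin n₁ × Fin n₂ → F) ∘ e) = 0 := rfl
  rw [this, Matrix.mulVec_zero]

theorem tau_neg (z : Fin n₁ × Fin n₂ → F) : tau e P (-z) = - tau e P z := by
  unfold tau
  rw [← Matrix.mulVec_neg]; rfl

theorem tau_sub (z z' : Fin n₁ × Fin n₂ → F) : tau e P (z - z') = tau e P z - tau e P z' := by
  unfold tau
  rw [← Matrix.mulVec_sub]; rfl

theorem tau_injective : Function.Injective (tau e P) := by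
  intro z z' h
  unfold tau at h
  have h' : (((P⁻¹ : Matrix.GeneralLinearGroup ι F) : Matrix ι ι F) *ᵥ ((P : Matrix ι ι F) *ᵥ (z ∘ e)))
      = (((P⁻¹ : Matrix.GeneralLinearGroup ι F) : Matrix ι ι F) *ᵥ ((P : Matrix ι ι F) *ᵥ (z' ∘ e))) := by
    rw [h]
  rw [Matrix.mulVec_mulVec, Matrix.mulVec_mulVec, ← Units.val_mul, inv_mul_cancel, Units.val_one,
    Matrix.one_mulVec, Matrix.one_mulVec] at h'
  funext a
  have := congrFun h' (e.symm a)
  simpa using this

theorem tau_surjective : Function.Surjective (tau e P) := by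
  intro v
  refine ⟨(((P⁻¹ : Matrix.GeneralLinearGroup ι F) : Matrix ι ι F) *ᵥ v) ∘ e.symm, ?_⟩
  unfold tau
  have : ((((P⁻¹ : Matrix.GeneralLinearGroup ι F) : Matrix ι ι F) *ᵥ v) ∘ e.symm) ∘ e
      = ((P⁻¹ : Matrix.GeneralLinearGroup ι F) : Matrix ι ι F) *ᵥ v := by
    funext a; simp
  rw [this, Matrix.mulVec_mulVec, ← Units.val_mul, mul_inv_cancel, Units.val_one, Matrix.one_mulVec]

theorem tau_eq_zero_iff (z : Fin n₁ × Fin n₂ → F) : tau e P z = 0 ↔ z = 0 := by
  constructor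
  · intro h
    exact tau_injective e P (h.trans (tau_zero e P).symm)
  · rintro rfl; exact tau_zero e P

/-- Elements of the tensor product subgroup act on `tau`-coordinates through a Kronecker product. -/
theorem exists_of_mem_tensorProductSubgroup {g : Matrix.GeneralLinearGroup ι F}
    (hg : g ∈ tensorProductSubgroup n₁ n₂ e P) :
    ∃ (a : Matrix.GeneralLinearGroup (Fin n₁) F) (b : Matrix.GeneralLinearGroup (Fin n₂) F),
      ∀ z : Fin n₁ × Fin n₂ → F, (g : Matrix ι ι F) *ᵥ tau e P z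
        = tau e P (((a : Matrix (Fin n₁) (Fin n₁) F) ⊗ₖ (b : Matrix (Fin n₂) (Fin n₂) F)) *ᵥ z) := by
  obtain ⟨k', ⟨k, ⟨a, b, hk⟩, rfl⟩, rfl⟩ := hg
  refine ⟨a, b, fun z => ?_⟩
  unfold tau
  simp only [MulEquiv.coe_toMonoidHom, MulAut.conj_apply, Units.val_mul]
  rw [← Matrix.mulVec_mulVec, ← Matrix.mulVec_mulVec, Matrix.mulVec_mulVec _ _ (P : Matrix ι ι F),
    ← Units.val_mul, inv_mul_cancel, Units.val_one, Matrix.one_mulVec]
  congr 1
  rw [← hk]
  show ((glReindex e.symm k : Matrix.GeneralLinearGroup ι F) : Matrix ι ι F) *ᵥ (z ∘ e) = _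
  have : ((glReindex e.symm k : Matrix.GeneralLinearGroup ι F) : Matrix ι ι F)
      = (k : Matrix (Fin n₁ × Fin n₂) (Fin n₁ × Fin n₂) F).submatrix e e := by
    simp [glReindex, Matrix.reindex_apply]
  rw [this, Matrix.submatrix_mulVec_equiv]
  simp [Function.comp_assoc]

theorem exists_of_mem_tensorProductSubgroup_pt {g : Matrix.GeneralLinearGroup ι F}
    (hg : g ∈ tensorProductSubgroup n₁ n₂ e P) :
    ∃ (a : Matrix.GeneralLinearGroup (Fin n₁) F) (b : Matrix.GeneralLinearGroup (Fin n₂) F),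
      ∀ (x : Fin n₁ → F) (y : Fin n₂ → F), (g : Matrix ι ι F) *ᵥ tau e P (pt x y)
        = tau e P (pt ((a : Matrix (Fin n₁) (Fin n₁) F) *ᵥ x) ((b : Matrix (Fin n₂) (Fin n₂) F) *ᵥ y)) := by
  obtain ⟨a, b, h⟩ := exists_of_mem_tensorProductSubgroup e P hg
  exact ⟨a, b, fun x y => by rw [h, kronecker_mulVec_pt]⟩

/-! ### Forms -/

/-- A form that is linear in the first argument and `σ`-semilinear in the second. -/
structure IsSesq {κ : Type} (σ : F → F) (f : (κ → F) → (κ → F) → F) : Prop where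
  add_left : ∀ x y v, f (x + y) v = f x v + f y v
  smul_left : ∀ (c : F) (x v : κ → F), f (c • x) v = c * f x v
  add_right : ∀ v x y, f v (x + y) = f v x + f v y
  smul_right : ∀ (c : F) (v x : κ → F), f v (c • x) = σ c * f v x

theorem IsSesq.of_bilinear {κ : Type} [Fintype κ] {f : (κ → F) → (κ → F) → F} (hf : IsBilinearForm f) :
    IsSesq id f :=
  ⟨hf.add_left, hf.smul_left, hf.add_right, hf.smul_right⟩

section Sesq

variable {κ : Type} [Fintype κ] [DecidableEq κ] {σ : F → F} {f : (κ → F) → (κ → F) → F}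

theorem IsSesq.zero_left (hf : IsSesq σ f) (v : κ → F) : f 0 v = 0 := by
  have := hf.smul_left 0 0 v
  simpa using this

theorem IsSesq.zero_right (hf : IsSesq σ f) (v : κ → F) : f v 0 = 0 := by
  have := hf.add_right v 0 0
  simpa using this

theorem IsSesq.sum_left (hf : IsSesq σ f) {α : Type*} (s : Finset α) (g : α → (κ → F)) (v : κ → F) :
    f (∑ i ∈ s, g i) v = ∑ i ∈ s, f (g i) v := by
  classical
  induction s using Finset.induction_on with
  | empty => simp [hf.zero_left]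
  | insert a s ha ih => rw [Finset.sum_insert ha, Finset.sum_insert ha, hf.add_left, ih]

theorem IsSesq.sum_right (hf : IsSesq σ f) {α : Type*} (s : Finset α) (g : α → (κ → F)) (v : κ → F) :
    f v (∑ i ∈ s, g i) = ∑ i ∈ s, f v (g i) := by
  classical
  induction s using Finset.induction_on with
  | empty => simp [hf.zero_right]
  | insert a s ha ih => rw [Finset.sum_insert ha, Finset.sum_insert ha, hf.add_right, ih]

/-- A sesquilinear form is the form of its Gram matrix. -/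
theorem formOfGram_gramMatrix (hf : IsSesq σ f) (x y : κ → F) :
    formOfGram σ (gramMatrix f) x y = f x y := by
  have hx : x = ∑ a, x a • (Pi.single a (1 : F) : κ → F) := by
    funext i
    simp [Finset.sum_apply, Pi.single_apply]
  have hy : y = ∑ b, y b • (Pi.single b (1 : F) : κ → F) := by
    funext i
    simp [Finset.sum_apply, Pi.single_apply]
  conv_rhs => rw [hx, hy]
  rw [hf.sum_left]
  unfold formOfGram gramMatrix
  refine Finset.sum_congr rfl fun a _ => ?_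
  rw [hf.sum_right]
  refine Finset.sum_congr rfl fun b _ => ?_
  rw [hf.smul_left, hf.smul_right]
  ring

end Sesq

/-- The form with Gram matrix a Kronecker product is multiplicative on pure tensors. -/
theorem formOfGram_kronecker_pt {σ : F → F} (hσ : ∀ a b, σ (a * b) = σ a * σ b)
    (G₁ : Matrix (Fin n₁) (Fin n₁) F) (G₂ : Matrix (Fin n₂) (Fin n₂) F)
    (x x' : Fin n₁ → F) (y y' : Fin n₂ → F) :
    formOfGram σ (G₁ ⊗ₖ G₂) (pt x y) (pt x' y') = formOfGram σ G₁ x x' * formOfGram σ G₂ y y' := by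
  unfold formOfGram
  simp only [Fintype.sum_prod_type, pt, Matrix.kroneckerMap_apply, hσ]
  rw [Finset.sum_mul_sum]
  refine Finset.sum_congr rfl fun i _ => Finset.sum_congr rfl fun j _ => ?_
  rw [Finset.sum_mul_sum]
  refine Finset.sum_congr rfl fun i' _ => Finset.sum_congr rfl fun j' _ => ?_
  ring

/-- The value of the ambient form on images of pure tensors. -/
theorem tensorForm_pt {σ : F → F} (hσ : ∀ a b, σ (a * b) = σ a * σ b)
    {f : (ι → F) → (ι → F) → F} {f₁ : (Fin n₁ → F) → (Fin n₁ → F) → F}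
    {f₂ : (Fin n₂ → F) → (Fin n₂ → F) → F} (h₁ : IsSesq σ f₁) (h₂ : IsSesq σ f₂) {c : F}
    (hT : ∀ x y : Fin n₁ × Fin n₂ → F,
      f ((P : Matrix ι ι F) *ᵥ (x ∘ e)) ((P : Matrix ι ι F) *ᵥ (y ∘ e)) =
        c * formOfGram σ (gramMatrix f₁ ⊗ₖ gramMatrix f₂) x y)
    (x x' : Fin n₁ → F) (y y' : Fin n₂ → F) :
    f (tau e P (pt x y)) (tau e P (pt x' y')) = c * (f₁ x x' * f₂ y y') := by
  unfold tau
  rw [hT, formOfGram_kronecker_pt hσ, formOfGram_gramMatrix h₁, formOfGram_gramMatrix h₂]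

/-- If `a ⊗ b` preserves the tensor product of two non-zero forms, both factors are similarities with
inverse multipliers. -/
theorem exists_multiplier {κ₁ κ₂ : Type} {f₁ : (κ₁ → F) → (κ₁ → F) → F}
    {f₂ : (κ₂ → F) → (κ₂ → F) → F} {a : (κ₁ → F) → (κ₁ → F)} {b : (κ₂ → F) → (κ₂ → F)}
    (h₁ : ∃ x x', f₁ x x' ≠ 0) (h₂ : ∃ y y', f₂ y y' ≠ 0)
    (h : ∀ x x' y y', f₁ (a x) (a x') * f₂ (b y) (b y') = f₁ x x' * f₂ y y') :
    ∃ μ : F, μ ≠ 0 ∧ (∀ x x', f₁ (a x) (a x') = μ * f₁ x x') ∧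
      (∀ y y', f₂ (b y) (b y') = μ⁻¹ * f₂ y y') := by
  obtain ⟨x₀, x₀', hx⟩ := h₁
  obtain ⟨y₀, y₀', hy⟩ := h₂
  have h0 := h x₀ x₀' y₀ y₀'
  have hne : f₁ (a x₀) (a x₀') * f₂ (b y₀) (b y₀') ≠ 0 := by rw [h0]; exact mul_ne_zero hx hy
  have ha0 : f₁ (a x₀) (a x₀') ≠ 0 := left_ne_zero_of_mul hne
  have hb0 : f₂ (b y₀) (b y₀') ≠ 0 := right_ne_zero_of_mul hne
  refine ⟨f₁ (a x₀) (a x₀') / f₁ x₀ x₀', div_ne_zero ha0 hx, ?_, ?_⟩
  · intro x x'
    have h1 := h x x' y₀ y₀'
    field_simp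
    have : f₁ (a x) (a x') * f₁ x₀ x₀' * (f₂ (b y₀) (b y₀') * f₂ y₀ y₀')
        = f₁ (a x₀) (a x₀') * f₁ x x' * (f₂ (b y₀) (b y₀') * f₂ y₀ y₀') := by
      linear_combination (f₁ x₀ x₀' * f₂ y₀ y₀') * h1 - (f₁ x x' * f₂ y₀ y₀') * h0
    exact mul_right_cancel₀ (mul_ne_zero hb0 hy) this
  · intro y y'
    have h1 := h x₀ x₀' y y'
    rw [inv_div]
    field_simp
    linear_combination h1

end Tensor

end Cfsg.Agent.Helper94
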