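import Cfsg.Agent.Helper94.TensorSetup
import Cfsg.Agent.Helper94.Frame3

set_option autoImplicit false
set_option linter.unusedSectionVars false

namespace Cfsg.Agent.Helper94

open Cfsg Cfsg.Geo
open scoped Matrix Kronecker

section Gram

variable {F : Type*} [Field F] {κ : Type} [Fintype κ] [DecidableEq κ]
  {f : (κ → F) → (κ → F) → F}

/-- A similarity of a bilinear form in matrix terms. -/
theorem gram_similarity (hf : IsSesq id f) (a : Matrix κ κ F) (μ : F)
    (h : ∀ x x', f (a *ᵥ x) (a *ᵥ x') = μ * f x x') :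
    a.transpose * gramMatrix f * a = μ • gramMatrix f := by
  ext i j
  have := h (Pi.single i 1) (Pi.single j 1)
  rw [← formOfGram_gramMatrix hf] at this
  simp only [Matrix.mulVec_single_one, formOfGram, id] at this
  rw [Matrix.smul_apply, smul_eq_mul]
  have hG : gramMatrix f i j = f (Pi.single i 1) (Pi.single j 1) := rfl
  rw [hG, ← this]
  simp only [Matrix.mul_apply, Matrix.transpose_apply, Finset.sum_mul, Matrix.col_apply]
  rw [Finset.sum_comm]

theorem det_gramMatrix_ne_zero (hf : IsSesq id f) (hnd : IsNondegenerateForm f) :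
    (gramMatrix f).det ≠ 0 := by
  intro hdet
  obtain ⟨v, hv, hGv⟩ := Matrix.exists_mulVec_eq_zero_iff.mpr hdet
  obtain ⟨⟨x, hx⟩, -⟩ := hnd v hv
  apply hx
  rw [← formOfGram_gramMatrix hf]
  unfold formOfGram
  refine Finset.sum_eq_zero fun a _ => ?_
  have : ∑ b, gramMatrix f a b * v b = 0 := by
    have := congrFun hGv a
    simpa [Matrix.mulVec, dotProduct] using this
  simp only [id, mul_assoc, ← Finset.mul_sum, this, mul_zero]

theorem det_sq_eq_of_similarity (hf : IsSesq id f) (hnd : IsNondegenerateForm f)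
    (a : Matrix κ κ F) (μ : F) (h : ∀ x x', f (a *ᵥ x) (a *ᵥ x') = μ * f x x') :
    a.det ^ 2 = μ ^ Fintype.card κ := by
  have h1 := congrArg Matrix.det (gram_similarity hf a μ h)
  rw [Matrix.det_mul, Matrix.det_mul, Matrix.det_transpose, Matrix.det_smul] at h1
  have h0 := det_gramMatrix_ne_zero hf hnd
  have : a.det ^ 2 * (gramMatrix f).det = μ ^ Fintype.card κ * (gramMatrix f).det := by
    rw [← h1]; ring
  exact mul_right_cancel₀ h0 this

end Gram

section F3

variable {F : Type*} [Field F] [Fintype F]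

/-- Over the field with three elements a similarity of a non-degenerate bilinear form in dimension three has
multiplier one. -/
theorem multiplier_eq_one (hq3 : Fintype.card F = 3) {f : (Fin 3 → F) → (Fin 3 → F) → F}
    (hf : IsSesq id f) (hnd : IsNondegenerateForm f) (a : Matrix (Fin 3) (Fin 3) F) {μ : F} (hμ : μ ≠ 0)
    (h : ∀ x x', f (a *ᵥ x) (a *ᵥ x') = μ * f x x') : μ = 1 := by
  have h1 := det_sq_eq_of_similarity hf hnd a μ h
  rw [Fintype.card_fin] at h1
  have h3 := F3_three hq3
  have h2 : (2 : F) ≠ 0 := two_ne_zero_of_card_three hq3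
  rcases F3_cases hq3 μ with hμ0 | hμ1 | hμ1
  · exact absurd hμ0 hμ
  · exact hμ1
  · exfalso
    rw [hμ1] at h1
    rcases F3_cases hq3 a.det with hd | hd | hd
    · rw [hd] at h1
      have : (1 : F) = 0 := by linear_combination h1
      exact one_ne_zero this
    · rw [hd] at h1
      apply h2
      linear_combination h1
    · rw [hd] at h1
      apply h2
      linear_combination h1

variable {κ : Type} [Fintype κ] [DecidableEq κ] {f : (κ → F) → (κ → F) → F}

theorem polar_diag (hf : IsSymmetricForm f) (x y : κ → F) :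
    QuadraticMap.polar (fun v => f v v) x y = 2 * f x y := by
  show f (x + y) (x + y) - f x x - f y y = 2 * f x y
  rw [hf.bilinear.add_left, hf.bilinear.add_right, hf.bilinear.add_right, hf.symm y x]
  ring

theorem isNondegenerateQuadraticForm_diag (h2 : (2 : F) ≠ 0) (hf : IsSymmetricForm f) :
    IsNondegenerateQuadraticForm (fun v => f v v) where
  smul c v := by
    show f (c • v) (c • v) = c ^ 2 * f v v
    rw [hf.bilinear.smul_left, hf.bilinear.smul_right]; ring
  polar_bilinear := by
    refine ⟨?_, ?_, ?_, ?_⟩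
    · intro x y v; rw [polar_diag hf, polar_diag hf, polar_diag hf, hf.bilinear.add_left]; ring
    · intro c x v; rw [polar_diag hf, polar_diag hf, hf.bilinear.smul_left]; ring
    · intro v x y; rw [polar_diag hf, polar_diag hf, polar_diag hf, hf.bilinear.add_right]; ring
    · intro c v x; rw [polar_diag hf, polar_diag hf, hf.bilinear.smul_right]; ring
  nondegenerate := by
    intro v hv
    obtain ⟨⟨x, hx⟩, ⟨y, hy⟩⟩ := hf.nondegenerate v hv
    exact ⟨⟨x, by rw [polar_diag hf]; exact mul_ne_zero h2 hx⟩,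
      ⟨y, by rw [polar_diag hf]; exact mul_ne_zero h2 hy⟩⟩

/-- An orthogonal frame for a symmetric form on `F^3` over the field with three elements: the only
vectors of value `ε` are the `± w j`. -/
structure IsFormFrame3 (f : (Fin 3 → F) → (Fin 3 → F) → F) (ε : F) (w : Fin 3 → (Fin 3 → F)) :
    Prop where
  ne : ε ≠ 0
  val : ∀ j, f (w j) (w j) = ε
  orth : ∀ j k, j ≠ k → f (w j) (w k) = 0
  unique : ∀ v, f v v = ε → ∃ j, v = w j ∨ v = - w j

theorem exists_formFrame3 (hq3 : Fintype.card F = 3) {f : (Fin 3 → F) → (Fin 3 → F) → F}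
    (hf : IsSymmetricForm f) : ∃ (ε : F) (w : Fin 3 → (Fin 3 → F)), IsFormFrame3 f ε w := by
  have h2 : (2 : F) ≠ 0 := two_ne_zero_of_card_three hq3
  have hQ := isNondegenerateQuadraticForm_diag h2 hf
  have hdim : Module.finrank F (⊤ : Submodule F (Fin 3 → F)) = 3 := by
    rw [finrank_top]; simp
  have hW : IsNondegenerateOn (QuadraticMap.polar (fun v => f v v)) (⊤ : Submodule F (Fin 3 → F)) := by
    intro v _ hv
    obtain ⟨⟨x, hx⟩, ⟨y, hy⟩⟩ := hQ.nondegenerate v hv
    exact ⟨⟨x, Submodule.mem_top, hx⟩, ⟨y, Submodule.mem_top, hy⟩⟩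
  obtain ⟨ε, w0, w1, w2, hfr⟩ := exists_frame3 hq3 hQ hdim hW
  have h01 : f w0 w1 = 0 := by
    have := hfr.o01; rw [polar_diag hf] at this
    exact (mul_eq_zero.mp this).resolve_left h2
  have h02 : f w0 w2 = 0 := by
    have := hfr.o02; rw [polar_diag hf] at this
    exact (mul_eq_zero.mp this).resolve_left h2
  have h12 : f w1 w2 = 0 := by
    have := hfr.o12; rw [polar_diag hf] at this
    exact (mul_eq_zero.mp this).resolve_left h2
  refine ⟨ε, ![w0, w1, w2], hfr.ne, ?_, ?_, ?_⟩
  · intro j
    fin_cases j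
    · exact hfr.val0
    · exact hfr.val1
    · exact hfr.val2
  · intro j k hjk
    fin_cases j <;> fin_cases k <;> first | exact absurd rfl hjk | skip
    · exact h01
    · exact h02
    · exact (hf.symm _ _).trans h01
    · exact h12
    · exact (hf.symm _ _).trans h02
    · exact (hf.symm _ _).trans h12
  · intro v hv
    rcases hfr.unique hq3 hQ (Submodule.mem_top) hv with h | h | h
    · exact ⟨0, h⟩
    · exact ⟨1, h⟩
    · exact ⟨2, h⟩

theorem IsFormFrame3.ne_zero {f : (Fin 3 → F) → (Fin 3 → F) → F} {ε : F} {w : Fin 3 → (Fin 3 → F)}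
    (hw : IsFormFrame3 f ε w) (hf : IsSymmetricForm f) (j : Fin 3) : w j ≠ 0 := by
  intro h
  have := hw.val j
  rw [h] at this
  have h0 : f 0 0 = 0 := by
    have := hf.bilinear.smul_left 0 0 0
    simpa using this
  exact hw.ne (this.symm.trans h0)

/-- An isometry of `f` permutes the frame lines. -/
theorem IsFormFrame3.perm {f : (Fin 3 → F) → (Fin 3 → F) → F} {ε : F} {w : Fin 3 → (Fin 3 → F)}
    (hw : IsFormFrame3 f ε w) {a : Matrix (Fin 3) (Fin 3) F}
    (ha : ∀ x x', f (a *ᵥ x) (a *ᵥ x') = f x x') (j : Fin 3) :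
    ∃ (k : Fin 3) (s : F), a *ᵥ w j = s • w k := by
  have : f (a *ᵥ w j) (a *ᵥ w j) = ε := by rw [ha, hw.val]
  obtain ⟨k, hk | hk⟩ := hw.unique _ this
  · exact ⟨k, 1, by rw [hk, one_smul]⟩
  · exact ⟨k, -1, by rw [hk, neg_smul, one_smul]⟩

end F3

end Cfsg.Agent.Helper94
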