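import Cfsg.Agent.Helper94.TensorF3

set_option autoImplicit false
set_option linter.unusedSectionVars false

namespace Cfsg.Agent.Helper94

open Cfsg Cfsg.Geo
open scoped Matrix Kronecker

section OrthFamily

variable {F : Type*} [Field F] {κ : Type} [Fintype κ] [DecidableEq κ]
  {f : (κ → F) → (κ → F) → F}

/-- An orthogonal family of non-singular vectors of full length for a non-degenerate symmetric form in odd
characteristic. -/
theorem exists_orthogonal_family (h2 : (2 : F) ≠ 0) (hf : IsSymmetricForm f) :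
    ∃ u : Fin (Fintype.card κ) → (κ → F), (∀ i, f (u i) (u i) ≠ 0) ∧
      ∀ i j, i ≠ j → f (u i) (u j) = 0 := by
  let B : LinearMap.BilinForm F (κ → F) :=
    LinearMap.mk₂ F f hf.bilinear.add_left (fun c x y => by simpa using hf.bilinear.smul_left c x y)
      hf.bilinear.add_right (fun c x y => by simpa using hf.bilinear.smul_right c x y)
  have hB : ∀ x y, B x y = f x y := fun x y => rfl
  have hsymm : B.IsSymm := ⟨fun x y => by simp only [hB]; exact hf.symm x y⟩
  have : Invertible (2 : F) := invertibleOfNonzero h2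
  obtain ⟨v, hv⟩ := LinearMap.BilinForm.exists_orthogonal_basis (LinearMap.BilinForm.isSymm_iff.mp hsymm)
  have hsep : B.SeparatingLeft := by
    intro x hx
    by_contra hx0
    obtain ⟨-, ⟨y, hy⟩⟩ := hf.nondegenerate x hx0
    exact hy (hx y)
  have hne := hv.not_isOrtho_basis_self_of_separatingLeft hsep
  have hcard : Module.finrank F (κ → F) = Fintype.card κ := Module.finrank_fintype_fun_eq_card F
  refine ⟨fun i => v (Fin.cast hcard.symm i), fun i => ?_, fun i j hij => ?_⟩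
  · exact hne _
  · apply hv
    intro h
    exact hij (Fin.cast_injective _ h)

end OrthFamily

section E

variable {F : Type*} [Field F] [Fintype F] {κ : Type} [Fintype κ] [DecidableEq κ]
  {f : (κ → F) → (κ → F) → F}

private theorem exists_E_aux (hq3 : Fintype.card F = 3) (hf : IsSymmetricForm f) {u₁ u₂ u₃ : κ → F}
    {d : F} (hd : d ≠ 0) (h1 : f u₁ u₁ = d) (h2 : f u₂ u₂ = d) (h3 : f u₃ u₃ ≠ 0)
    (h12 : f u₁ u₂ = 0) (h13 : f u₁ u₃ = 0) (h23 : f u₂ u₃ = 0) :
    ∃ (δ : F) (y y' : κ → F), δ ≠ 0 ∧ f y y = δ ∧ f y' y' = δ ∧ f y y' = δ ∧ ∀ γ : F, y ≠ γ • y' := by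
  have h21 : f u₂ u₁ = 0 := (hf.symm _ _).trans h12
  have h31 : f u₃ u₁ = 0 := (hf.symm _ _).trans h13
  have h32 : f u₃ u₂ = 0 := (hf.symm _ _).trans h23
  have hthree := F3_three hq3
  have hb := hf.bilinear
  have hsq : ∀ x : F, x ≠ 0 → x * x = 1 := fun x hx => sq_eq_one_of_card_le_three (by omega) hx
  have hd3 : f u₃ u₃ = d ∨ f u₃ u₃ = -d := by
    have e1 := hsq d hd
    have e3 := hsq _ h3
    have : (f u₃ u₃ - d) * (f u₃ u₃ + d) = 0 := by linear_combination e3 - e1
    rcases mul_eq_zero.mp this with h | h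
    · left; linear_combination h
    · right; linear_combination h
  rcases hd3 with h3 | h3
  · -- all three values equal
    refine ⟨-d, u₁ + u₂, -u₁ - u₃, neg_ne_zero.mpr hd, ?_, ?_, ?_, ?_⟩
    · simp only [hb.add_left, hb.add_right, h1, h2, h12, h21]
      linear_combination d * hthree
    · have : -u₁ - u₃ = (-1 : F) • u₁ + (-1 : F) • u₃ := by module
      rw [this]
      simp only [hb.add_left, hb.add_right, hb.smul_left, hb.smul_right, h1, h3, h13, h31]
      linear_combination d * hthree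
    · have : -u₁ - u₃ = (-1 : F) • u₁ + (-1 : F) • u₃ := by module
      rw [this]
      simp only [hb.add_left, hb.add_right, hb.smul_right, h1, h13, h21, h23]
      ring
    · intro γ h
      have e : f (u₁ + u₂) u₂ = f (γ • (-u₁ - u₃)) u₂ := by rw [h]
      have : -u₁ - u₃ = (-1 : F) • u₁ + (-1 : F) • u₃ := by module
      rw [this] at e
      simp only [hb.add_left, hb.smul_left, h12, h2, h32] at e
      apply hd
      linear_combination e
  · -- third value opposite
    refine ⟨d, u₁, u₁ + u₂ + u₃, hd, h1, ?_, ?_, ?_⟩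
    · simp only [hb.add_left, hb.add_right, h1, h2, h3, h12, h13, h21, h23, h31, h32]
      ring
    · simp only [hb.add_right, h1, h12, h13]
      ring
    · intro γ h
      have e : f u₁ u₂ = f (γ • (u₁ + u₂ + u₃)) u₂ := by rw [← h]
      simp only [hb.smul_left, hb.add_left, h12, h2, h32] at e
      have hγ : γ = 0 := by
        have : γ * d = 0 := by linear_combination -e
        exact (mul_eq_zero.mp this).resolve_right hd
      rw [hγ, zero_smul] at h
      rw [h] at h1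
      have h0 : f 0 0 = 0 := by
        have := hb.smul_left 0 0 0
        simpa using this
      exact hd (h1.symm.trans h0)

/-- Over the field with three elements, a non-degenerate symmetric form in dimension at least three has
two non-proportional vectors `y`, `y'` with `f y y = f y' y' = f y y' ≠ 0`. -/
theorem exists_E (hq3 : Fintype.card F = 3) (hf : IsSymmetricForm f) (h3 : 3 ≤ Fintype.card κ) :
    ∃ (δ : F) (y y' : κ → F), δ ≠ 0 ∧ f y y = δ ∧ f y' y' = δ ∧ f y y' = δ ∧ ∀ γ : F, y ≠ γ • y' := by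
  have h2 : (2 : F) ≠ 0 := two_ne_zero_of_card_three hq3
  obtain ⟨u, hu, huo⟩ := exists_orthogonal_family h2 hf
  set i₁ : Fin (Fintype.card κ) := ⟨0, by omega⟩ with hi₁
  set i₂ : Fin (Fintype.card κ) := ⟨1, by omega⟩ with hi₂
  set i₃ : Fin (Fintype.card κ) := ⟨2, by omega⟩ with hi₃
  have n12 : i₁ ≠ i₂ := by simp [hi₁, hi₂, Fin.ext_iff]
  have n13 : i₁ ≠ i₃ := by simp [hi₁, hi₃, Fin.ext_iff]
  have n23 : i₂ ≠ i₃ := by simp [hi₂, hi₃, Fin.ext_iff]
  have hsq : ∀ x : F, x ≠ 0 → x * x = 1 := fun x hx => sq_eq_one_of_card_le_three (by omega) hx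
  have hpm : ∀ a b : F, a ≠ 0 → b ≠ 0 → a = b ∨ a = -b := by
    intro a b ha hb
    have : (a - b) * (a + b) = 0 := by linear_combination hsq a ha - hsq b hb
    rcases mul_eq_zero.mp this with h | h
    · left; linear_combination h
    · right; linear_combination h
  rcases hpm _ _ (hu i₁) (hu i₂) with h | h
  · exact exists_E_aux hq3 hf (hu i₂) h rfl (hu i₃) (huo _ _ n12) (huo _ _ n13) (huo _ _ n23)
  · rcases hpm _ _ (hu i₁) (hu i₃) with h' | h'
    · exact exists_E_aux hq3 hf (hu i₃) h' rfl (hu i₂) (huo _ _ n13) (huo _ _ n12)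
        (huo _ _ n23.symm)
    · have : f (u i₂) (u i₂) = f (u i₃) (u i₃) := by
        have e1 : f (u i₂) (u i₂) = - f (u i₁) (u i₁) := by rw [h]; ring
        have e2 : f (u i₃) (u i₃) = - f (u i₁) (u i₁) := by rw [h']; ring
        rw [e1, e2]
      exact exists_E_aux hq3 hf (hu i₃) this rfl (hu i₁) (huo _ _ n23) (huo _ _ n12.symm)
        (huo _ _ n13.symm)

end E

section TensorOrth

variable {F : Type*} [Field F] [Fintype F] {ι : Type} [Fintype ι] [DecidableEq ι]

theorem refl_fix {Q : (ι → F) → F} (hQ : IsNondegenerateQuadraticForm Q) (a : ι → F) (ha : Q a ≠ 0)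
    (x : ι → F) (h : QuadraticMap.polar Q a x = 0) :
    ((reflGL hQ a ha : Matrix.GeneralLinearGroup ι F) : Matrix ι ι F) *ᵥ x = x := by
  rw [refl_apply_eq hQ a ha x 0 (by rw [h, mul_zero]), zero_smul, sub_zero]

/-- `O_3(3) ⊗ O_{n₂}(3)` is not maximal in `Ω`: it stabilises the decomposition into three
non-degenerate subspaces coming from the frame of the three-dimensional factor. -/
theorem exists_between_of_tensor_orth3 (hq : Fintype.card F = 3) {Q : (ι → F) → F}
    (hQ : IsNondegenerateQuadraticForm Q) (n₂ : ℕ) (h2 : 3 ≤ n₂) (e : ι ≃ Fin 3 × Fin n₂)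
    (P : Matrix.GeneralLinearGroup ι F) (f₁ : (Fin 3 → F) → (Fin 3 → F) → F)
    (f₂ : (Fin n₂ → F) → (Fin n₂ → F) → F) (hf₁ : IsSymmetricForm f₁) (hf₂ : IsSymmetricForm f₂)
    (hT : IsTensorFormStructure id (QuadraticMap.polar Q) f₁ f₂ e P) :
    ∃ K : Subgroup (Matrix.GeneralLinearGroup ι F),
      tensorProductSubgroup 3 n₂ e P ⊓ omegaGL Q < K ∧ K < omegaGL Q := by
  classical
  obtain ⟨c, hc, hT⟩ := hT
  have h3 := F3_three hq
  have h2F : (2 : F) ≠ 0 := two_ne_zero_of_card_three hq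
  have hs₁ : IsSesq id f₁ := IsSesq.of_bilinear hf₁.bilinear
  have hs₂ : IsSesq id f₂ := IsSesq.of_bilinear hf₂.bilinear
  set θ : (Fin 3 → F) → (Fin n₂ → F) → (ι → F) := fun x y => tau e P (pt x y) with hθ
  have hS : IsTensorSetup (tensorProductSubgroup 3 n₂ e P) θ := isTensorSetup_left e P
  have hform : ∀ x y x' y', QuadraticMap.polar Q (θ x y) (θ x' y') = c * (f₁ x x' * f₂ y y') :=
    fun x y x' y' => tensorForm_pt e P (fun _ _ => rfl) hs₁ hs₂ hT x x' y y'
  have hQθ : ∀ x y, Q (θ x y) = - (c * (f₁ x x * f₂ y y)) := by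
    intro x y
    have := B_self hQ (θ x y)
    rw [hform] at this
    linear_combination this + Q (θ x y) * h3
  obtain ⟨ε, w, hw⟩ := exists_formFrame3 hq hf₁
  set L := Lset θ w with hL
  obtain ⟨δ, y, y', hδ, hyy, hy'y', hyy', hnp⟩ := exists_E hq hf₂ (by simpa using h2)
  have h01 : (0 : Fin 3) ≠ 1 := by decide
  have key : ∀ g ∈ tensorProductSubgroup 3 n₂ e P ⊓ omegaGL Q, ∀ v ∈ L,
      (g : Matrix ι ι F) *ᵥ v ∈ L := by
    intro g hg
    obtain ⟨a, b, hab⟩ := hS.act g hg.1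
    have hiso := (mem_isometryGroup_iff g).mp (omegaGL_le_isometryGroup hg.2)
    have hisoB : ∀ u v, QuadraticMap.polar Q ((g : Matrix ι ι F) *ᵥ u) ((g : Matrix ι ι F) *ᵥ v)
        = QuadraticMap.polar Q u v := by
      intro u v
      unfold QuadraticMap.polar
      rw [← Matrix.mulVec_add, hiso, hiso, hiso]
    have hmul : ∀ x x' y y', f₁ ((a : Matrix (Fin 3) (Fin 3) F) *ᵥ x) ((a : Matrix (Fin 3) (Fin 3) F) *ᵥ x')
        * f₂ ((b : Matrix (Fin n₂) (Fin n₂) F) *ᵥ y) ((b : Matrix (Fin n₂) (Fin n₂) F) *ᵥ y')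
        = f₁ x x' * f₂ y y' := by
      intro x x' y y'
      have := hisoB (θ x y) (θ x' y')
      rw [hab, hab, hform, hform] at this
      exact mul_left_cancel₀ hc this
    obtain ⟨μ, hμ, hμ₁, -⟩ := exists_multiplier
      (a := fun x => (a : Matrix (Fin 3) (Fin 3) F) *ᵥ x)
      (b := fun y => (b : Matrix (Fin n₂) (Fin n₂) F) *ᵥ y)
      ⟨w 0, w 0, by rw [hw.val]; exact hw.ne⟩ ⟨y, y, by rw [hyy]; exact hδ⟩ hmul
    have hμ1 : μ = 1 := multiplier_eq_one hq hs₁ hf₁.nondegenerate _ hμ hμ₁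
    have hperm := hw.perm (a := (a : Matrix (Fin 3) (Fin 3) F)) (fun x x' => by rw [hμ₁, hμ1, one_mul])
    exact maps_Lset_of_act hS hab hperm
  -- the distinguished vectors
  obtain ⟨q₀, hq₀⟩ : ∃ q₀ : F, q₀ = - (c * (ε * δ)) := ⟨_, rfl⟩
  have hq₀ne : q₀ ≠ 0 := by rw [hq₀]; exact neg_ne_zero.mpr (mul_ne_zero hc (mul_ne_zero hw.ne hδ))
  set p₀ := θ (w 0) y with hp₀
  set p₁ := θ (w 1) y with hp₁
  set p' := θ (w 0) y' with hp'
  have hQp₀ : Q p₀ = q₀ := by rw [hp₀, hQθ, hw.val, hyy, hq₀]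
  have hQp₁ : Q p₁ = q₀ := by rw [hp₁, hQθ, hw.val, hyy, hq₀]
  have hQp' : Q p' = q₀ := by rw [hp', hQθ, hw.val, hy'y', hq₀]
  have hQp₀ne : Q p₀ ≠ 0 := by rw [hQp₀]; exact hq₀ne
  have hQp'ne : Q p' ≠ 0 := by rw [hQp']; exact hq₀ne
  have hB0' : QuadraticMap.polar Q p₀ p' = - q₀ := by rw [hp₀, hp', hform, hw.val, hyy', hq₀]; ring
  have hB'0 : QuadraticMap.polar Q p' p₀ = - q₀ := by rw [B_comm, hB0']
  have hB01 : QuadraticMap.polar Q p₀ p₁ = 0 := by rw [hp₀, hp₁, hform, hw.orth 0 1 h01]; ring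
  have hB10 : QuadraticMap.polar Q p₁ p₀ = 0 := by rw [B_comm, hB01]
  have hB'1 : QuadraticMap.polar Q p' p₁ = 0 := by rw [hp', hp₁, hform, hw.orth 0 1 h01]; ring
  have hB1' : QuadraticMap.polar Q p₁ p' = 0 := by rw [B_comm, hB'1]
  have hB00 : QuadraticMap.polar Q p₀ p₀ = 2 * q₀ := by rw [B_self hQ, hQp₀]
  have hB11 : QuadraticMap.polar Q p₁ p₁ = 2 * q₀ := by rw [B_self hQ, hQp₁]
  have hB'' : QuadraticMap.polar Q p' p' = 2 * q₀ := by rw [B_self hQ, hQp']
  have hinv : q₀⁻¹ * q₀ = 1 := inv_mul_cancel₀ hq₀ne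
  -- reflections in vectors of the first slice stabilise L
  have hreflmaps : ∀ (y₀ : Fin n₂ → F) (h : Q (θ (w 0) y₀) ≠ 0), ∀ v ∈ L,
      ((reflGL hQ (θ (w 0) y₀) h : Matrix.GeneralLinearGroup ι F) : Matrix ι ι F) *ᵥ v ∈ L := by
    intro y₀ h
    refine maps_Lset_of_transvection hS
      (φ := fun v => - ((Q (θ (w 0) y₀))⁻¹ * QuadraticMap.polar Q (θ (w 0) y₀) v)) (j₀ := 0) (y₀ := y₀)
      (fun v => by rw [reflGL_mulVec, sub_eq_add_neg, neg_smul]) ?_
    intro j hj u
    rw [hform, hw.orth 0 j (Ne.symm hj)]; ring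
  have hreflS : ∀ (y₀ : Fin n₂ → F) (h : Q (θ (w 0) y₀) ≠ 0),
      reflGL hQ (θ (w 0) y₀) h ∈ stabilizing (glToMat ι F) L := by
    intro y₀ h
    apply mem_stabilizing_of_maps
    · exact hreflmaps y₀ h
    · rw [reflGL_inv]; exact hreflmaps y₀ h
  set r₀ := reflGL hQ p₀ hQp₀ne with hr₀
  set r' := reflGL hQ p' hQp'ne with hr'
  -- the second witness uses the reflection in d = p₀ - p₁
  set d := p₀ - p₁ with hd
  have hQd : Q d = 2 * q₀ := by rw [hd, Q_sub hQ, hQp₀, hQp₁, hB01]; ring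
  have hQdne : Q d ≠ 0 := by rw [hQd]; exact mul_ne_zero h2F hq₀ne
  have hinvd : (2 * q₀)⁻¹ * (2 * q₀) = 1 := inv_mul_cancel₀ (mul_ne_zero h2F hq₀ne)
  set rd := reflGL hQ d hQdne with hrd
  refine exists_between_of_subgroup _ _ (stabilizing (glToMat ι F) L) ?_
    (r₀ * r' * r₀ * r') (reflComm_mem_omegaGL hQ p₀ p' hQp₀ne hQp'ne) ?_ ?_
    (rd * r' * rd * r') (reflComm_mem_omegaGL hQ d p' hQdne hQp'ne) ?_
  · intro g hg
    exact mem_stabilizing_of_maps g (key g hg) (key g⁻¹ (inv_mem hg))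
  · exact mul_mem (mul_mem (mul_mem (hreflS y hQp₀ne) (hreflS y' hQp'ne)) (hreflS y hQp₀ne))
      (hreflS y' hQp'ne)
  · refine not_mem_of_fixes hS (hw.ne_zero hf₁ 0) (hw.ne_zero hf₁ 1) ?_ ?_ hnp
    · intro u
      have hu0 : QuadraticMap.polar Q p₀ (θ (w 1) u) = 0 := by
        rw [hp₀, hform, hw.orth 0 1 h01]; ring
      have hu' : QuadraticMap.polar Q p' (θ (w 1) u) = 0 := by
        rw [hp', hform, hw.orth 0 1 h01]; ring
      rw [reflComm_mulVec, refl_fix hQ p' hQp'ne _ hu', refl_fix hQ p₀ hQp₀ne _ hu0,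
        refl_fix hQ p' hQp'ne _ hu', refl_fix hQ p₀ hQp₀ne _ hu0]
    · show _ *ᵥ p' = p₀
      have e1 : (r' : Matrix ι ι F) *ᵥ p' = - p' := by
        rw [refl_apply_eq hQ p' hQp'ne _ 2 (by rw [hB'', hQp']; field_simp)]
        module
      have e2 : (r₀ : Matrix ι ι F) *ᵥ (- p') = - p' - p₀ := by
        rw [refl_apply_eq hQ p₀ hQp₀ne _ 1 (by rw [B_neg_right hQ, hB0', hQp₀, neg_neg, hinv])]
        module
      have e3 : (r' : Matrix ι ι F) *ᵥ (- p' - p₀) = - p₀ := by
        rw [refl_apply_eq hQ p' hQp'ne _ (-1) (by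
          rw [B_sub_right hQ, B_neg_right hQ, hB'', hB'0, hQp']
          linear_combination (-1 : F) * hinv)]
        module
      have e4 : (r₀ : Matrix ι ι F) *ᵥ (- p₀) = p₀ := by
        rw [refl_apply_eq hQ p₀ hQp₀ne _ (-2) (by
          rw [B_neg_right hQ, hB00, hQp₀]
          linear_combination (-2 : F) * hinv)]
        module
      rw [reflComm_mulVec, e1, e2, e3, e4]
  · intro hmem
    have hin : p₁ ∈ L := ⟨1, y, rfl⟩
    have := (hmem p₁).mp hin
    simp only [Units.coeHom_apply] at this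
    have f1 : (r' : Matrix ι ι F) *ᵥ p₁ = p₁ := refl_fix hQ p' hQp'ne _ hB'1
    have f2 : (rd : Matrix ι ι F) *ᵥ p₁ = p₀ := by
      rw [refl_apply_eq hQ d hQdne _ (-1) (by
        rw [hQd, hd, B_sub_left hQ, hB01, hB11]
        linear_combination (-1 : F) * hinvd)]
      rw [hd]; module
    have f3 : (r' : Matrix ι ι F) *ᵥ p₀ = p₀ + p' := by
      rw [refl_apply_eq hQ p' hQp'ne _ (-1) (by
        rw [hB'0, hQp']
        linear_combination (-1 : F) * hinv)]
      module
    have f4 : (rd : Matrix ι ι F) *ᵥ (p₀ + p') = (p₀ + p') - (2 : F)⁻¹ • d := by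
      rw [refl_apply_eq hQ d hQdne _ (2 : F)⁻¹ (by
        rw [hQd, hd, B_sub_left hQ, B_add_right hQ, B_add_right hQ, hB00, hB0', hB10, hB1', mul_inv]
        linear_combination (2 : F)⁻¹ * hinv)]
    rw [reflComm_mulVec, f1, f2, f3, f4] at this
    rcases perp_of_mem_Lset hform hw.orth h01 this with h | h
    · -- not orthogonal to the first slice
      have hne : (2 : F)⁻¹ • y + y' ≠ 0 := by
        intro h0
        apply hnp (-2)
        have : y = (2 : F) • ((2 : F)⁻¹ • y + y') + (-2 : F) • y' := by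
          rw [smul_add, smul_smul, mul_inv_cancel₀ h2F]; module
        rw [h0, smul_zero, zero_add] at this
        exact this
      obtain ⟨-, ⟨u, hu⟩⟩ := hf₂.nondegenerate _ hne
      apply hu
      have h1 := h u
      rw [B_sub_left hQ, B_add_left hQ, B_smul_left hQ, hd, B_sub_left hQ] at h1
      simp only [hp₀, hp₁, hp', hform, hw.val, hw.orth 1 0 (Ne.symm h01)] at h1
      rw [hf₂.bilinear.add_left, hf₂.bilinear.smul_left]
      have hcε : c * ε ≠ 0 := mul_ne_zero hc hw.ne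
      apply mul_left_cancel₀ hcε
      have h22 : (2 : F) * (2 : F)⁻¹ = 1 := mul_inv_cancel₀ h2F
      linear_combination h1 + (c * ε * f₂ y u) * h22
    · -- not orthogonal to the second slice
      have h1 := h y
      rw [B_sub_left hQ, B_add_left hQ, B_smul_left hQ, hd, B_sub_left hQ] at h1
      change QuadraticMap.polar Q p₀ p₁ + QuadraticMap.polar Q p' p₁
        - (2 : F)⁻¹ * (QuadraticMap.polar Q p₀ p₁ - QuadraticMap.polar Q p₁ p₁) = 0 at h1
      rw [hB01, hB'1, hB11] at h1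
      apply hq₀ne
      have h22 : (2 : F)⁻¹ * 2 = 1 := inv_mul_cancel₀ h2F
      linear_combination h1 - q₀ * h22

end TensorOrth

end Cfsg.Agent.Helper94
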