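import Cfsg.Agent.Helper94.Tensor
import Cfsg.Agent.Helper94.Frame

set_option autoImplicit false
set_option linter.unusedSectionVars false

namespace Cfsg.Agent.Helper94

open Cfsg Cfsg.Geo
open scoped Matrix Kronecker

section Between

/-- The basic group-theoretic skeleton of all non-maximality proofs. -/
theorem exists_between_of_subgroup {G : Type*} [Group G] (T A S : Subgroup G) (h1 : T ⊓ A ≤ S)
    (g₁ : G) (hg₁A : g₁ ∈ A) (hg₁S : g₁ ∈ S) (hg₁T : g₁ ∉ T)
    (g₂ : G) (hg₂A : g₂ ∈ A) (hg₂S : g₂ ∉ S) :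
    ∃ K : Subgroup G, T ⊓ A < K ∧ K < A := by
  refine ⟨S ⊓ A, ?_, ?_⟩
  · rw [SetLike.lt_iff_le_and_exists]
    exact ⟨le_inf h1 inf_le_right, g₁, ⟨hg₁S, hg₁A⟩, fun h => hg₁T h.1⟩
  · rw [SetLike.lt_iff_le_and_exists]
    exact ⟨inf_le_right, g₂, hg₂A, fun h => hg₂S h.1⟩

end Between

section Setup

variable {F : Type*} [Field F] {ι : Type} [Fintype ι] [DecidableEq ι] {k₁ k₂ : ℕ}

/-- An abstract "tensor setup": a bilinear map `θ` from two coordinate spaces whose pure values are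
acted on factorwise by the subgroup `T`. -/
structure IsTensorSetup (T : Subgroup (Matrix.GeneralLinearGroup ι F))
    (θ : (Fin k₁ → F) → (Fin k₂ → F) → (ι → F)) : Prop where
  add_left : ∀ x x' y, θ (x + x') y = θ x y + θ x' y
  add_right : ∀ x y y', θ x (y + y') = θ x y + θ x y'
  smul_left : ∀ (c : F) x y, θ (c • x) y = c • θ x y
  smul_right : ∀ (c : F) x y, θ x (c • y) = c • θ x y
  eq_right : ∀ {x x' y y'}, θ x y = θ x' y' → ∀ {i}, x i ≠ 0 → y = (x' i / x i) • y'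
  act : ∀ g ∈ T, ∃ (a : Matrix.GeneralLinearGroup (Fin k₁) F) (b : Matrix.GeneralLinearGroup (Fin k₂) F),
    ∀ x y, (g : Matrix ι ι F) *ᵥ θ x y
      = θ ((a : Matrix (Fin k₁) (Fin k₁) F) *ᵥ x) ((b : Matrix (Fin k₂) (Fin k₂) F) *ᵥ y)

theorem isTensorSetup_left {n₁ n₂ : ℕ} (e : ι ≃ Fin n₁ × Fin n₂) (P : Matrix.GeneralLinearGroup ι F) :
    IsTensorSetup (tensorProductSubgroup n₁ n₂ e P) (fun x y => tau e P (pt x y)) where
  add_left x x' y := by simp only [pt_add_left, tau_add]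
  add_right x y y' := by simp only [pt_add_right, tau_add]
  smul_left c x y := by simp only [pt_smul_left, tau_smul]
  smul_right c x y := by simp only [pt_smul_right, tau_smul]
  eq_right h _ hi := pt_eq_right (tau_injective e P h) hi
  act _ hg := exists_of_mem_tensorProductSubgroup_pt e P hg

theorem isTensorSetup_right {n₁ n₂ : ℕ} (e : ι ≃ Fin n₁ × Fin n₂) (P : Matrix.GeneralLinearGroup ι F) :
    IsTensorSetup (tensorProductSubgroup n₁ n₂ e P) (fun y x => tau e P (pt x y)) where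
  add_left x x' y := by simp only [pt_add_right, tau_add]
  add_right x y y' := by simp only [pt_add_left, tau_add]
  smul_left c x y := by simp only [pt_smul_right, tau_smul]
  smul_right c x y := by simp only [pt_smul_left, tau_smul]
  eq_right h _ hi := pt_eq_left (tau_injective e P h) hi
  act _ hg := by
    obtain ⟨a, b, h⟩ := exists_of_mem_tensorProductSubgroup_pt e P hg
    exact ⟨b, a, fun y x => h x y⟩

variable {T : Subgroup (Matrix.GeneralLinearGroup ι F)}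
  {θ : (Fin k₁ → F) → (Fin k₂ → F) → (ι → F)}

theorem IsTensorSetup.zero_left (h : IsTensorSetup T θ) (y : Fin k₂ → F) : θ 0 y = 0 := by
  have := h.smul_left 0 0 y
  simpa using this

theorem IsTensorSetup.zero_right (h : IsTensorSetup T θ) (x : Fin k₁ → F) : θ x 0 = 0 := by
  have := h.smul_right 0 x 0
  simpa using this

theorem IsTensorSetup.neg_left (h : IsTensorSetup T θ) (x : Fin k₁ → F) (y : Fin k₂ → F) :
    θ (-x) y = - θ x y := by
  have := h.smul_left (-1) x y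
  simpa using this

theorem IsTensorSetup.neg_right (h : IsTensorSetup T θ) (x : Fin k₁ → F) (y : Fin k₂ → F) :
    θ x (-y) = - θ x y := by
  have := h.smul_right (-1) x y
  simpa using this

/-- The union of the "slices" `θ (w j) ·`. -/
def Lset {t : ℕ} (θ : (Fin k₁ → F) → (Fin k₂ → F) → (ι → F)) (w : Fin t → (Fin k₁ → F)) : Set (ι → F) :=
  {v | ∃ j y, v = θ (w j) y}

variable {t : ℕ} {w : Fin t → (Fin k₁ → F)}

/-- An element of `T` whose first factor permutes the frame lines maps `Lset` into itself. -/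
theorem maps_Lset_of_act (h : IsTensorSetup T θ) {g : Matrix.GeneralLinearGroup ι F}
    {a : Matrix.GeneralLinearGroup (Fin k₁) F} {b : Matrix.GeneralLinearGroup (Fin k₂) F}
    (hab : ∀ x y, (g : Matrix ι ι F) *ᵥ θ x y
      = θ ((a : Matrix (Fin k₁) (Fin k₁) F) *ᵥ x) ((b : Matrix (Fin k₂) (Fin k₂) F) *ᵥ y))
    (hperm : ∀ j, ∃ (k : Fin t) (s : F), (a : Matrix (Fin k₁) (Fin k₁) F) *ᵥ w j = s • w k) :
    ∀ v ∈ Lset θ w, (g : Matrix ι ι F) *ᵥ v ∈ Lset θ w := by
  rintro v ⟨j, y, rfl⟩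
  obtain ⟨k, s, hk⟩ := hperm j
  refine ⟨k, s • ((b : Matrix (Fin k₂) (Fin k₂) F) *ᵥ y), ?_⟩
  rw [hab, hk, h.smul_left, h.smul_right]

/-- A transvection-like map in the direction of an element of a slice, whose functional vanishes on the
other slices, maps `Lset` into itself. -/
theorem maps_Lset_of_transvection (h : IsTensorSetup T θ) {g : Matrix.GeneralLinearGroup ι F}
    {φ : (ι → F) → F} {j₀ : Fin t} {y₀ : Fin k₂ → F}
    (hg : ∀ v, (g : Matrix ι ι F) *ᵥ v = v + φ v • θ (w j₀) y₀)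
    (hφ : ∀ j, j ≠ j₀ → ∀ y, φ (θ (w j) y) = 0) :
    ∀ v ∈ Lset θ w, (g : Matrix ι ι F) *ᵥ v ∈ Lset θ w := by
  rintro v ⟨j, y, rfl⟩
  by_cases hj : j = j₀
  · subst hj
    refine ⟨j, y + φ (θ (w j) y) • y₀, ?_⟩
    rw [hg, h.add_right, h.smul_right]
  · refine ⟨j, y, ?_⟩
    rw [hg, hφ j hj, zero_smul, add_zero]

/-- Criterion for not lying in `T`. -/
theorem not_mem_of_fixes (h : IsTensorSetup T θ) {g : Matrix.GeneralLinearGroup ι F}
    {w₀ w₁ : Fin k₁ → F} (hw₀ : w₀ ≠ 0) (hw₁ : w₁ ≠ 0)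
    (hfix : ∀ y, (g : Matrix ι ι F) *ᵥ θ w₁ y = θ w₁ y)
    {y₀ z : Fin k₂ → F} (hmove : (g : Matrix ι ι F) *ᵥ θ w₀ y₀ = θ w₀ z)
    (hz : ∀ γ : F, z ≠ γ • y₀) : g ∉ T := by
  intro hgT
  obtain ⟨a, b, hab⟩ := h.act g hgT
  obtain ⟨i₀, hi₀⟩ : ∃ i, w₀ i ≠ 0 := by
    by_contra hcon
    push Not at hcon
    exact hw₀ (funext hcon)
  obtain ⟨i₁, hi₁⟩ : ∃ i, w₁ i ≠ 0 := by
    by_contra hcon
    push Not at hcon
    exact hw₁ (funext hcon)
  -- from the fixed slice: `b y₀` is a multiple of `y₀`... more precisely `y₀ = β • b y₀`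
  have h1 := hab w₁ y₀
  rw [hfix] at h1
  have h1' := h.eq_right h1 hi₁
  -- from the moved slice
  have h2 := hab w₀ y₀
  rw [hmove] at h2
  have h2' := h.eq_right h2 hi₀
  set β := ((a : Matrix (Fin k₁) (Fin k₁) F) *ᵥ w₁) i₁ / w₁ i₁ with hβ
  set γ := ((a : Matrix (Fin k₁) (Fin k₁) F) *ᵥ w₀) i₀ / w₀ i₀ with hγ
  by_cases hβ0 : β = 0
  · rw [hβ0, zero_smul] at h1'
    apply hz 0
    rw [h2', h1', Matrix.mulVec_zero, smul_zero, smul_zero]
  · apply hz (γ * β⁻¹)
    rw [h2']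
    have : (b : Matrix (Fin k₂) (Fin k₂) F) *ᵥ y₀ = β⁻¹ • y₀ := by
      conv_rhs => rw [h1']
      rw [smul_smul, inv_mul_cancel₀ hβ0, one_smul]
    rw [this, smul_smul]

/-- Criterion for not lying in `Lset`: an element of `Lset` is orthogonal to one of two given slices. -/
theorem perp_of_mem_Lset {f : (ι → F) → (ι → F) → F} {f₁ : (Fin k₁ → F) → (Fin k₁ → F) → F}
    {f₂ : (Fin k₂ → F) → (Fin k₂ → F) → F} {c : F}
    (hform : ∀ x y x' y', f (θ x y) (θ x' y') = c * (f₁ x x' * f₂ y y'))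
    (horth : ∀ j k, j ≠ k → f₁ (w j) (w k) = 0) {j₀ j₁ : Fin t} (h01 : j₀ ≠ j₁)
    {v : ι → F} (hv : v ∈ Lset θ w) :
    (∀ u, f v (θ (w j₀) u) = 0) ∨ (∀ u, f v (θ (w j₁) u) = 0) := by
  obtain ⟨j, y, rfl⟩ := hv
  by_cases hj : j = j₀
  · right
    intro u
    rw [hform, horth j j₁ (by rw [hj]; exact h01)]
    ring
  · left
    intro u
    rw [hform, horth j j₀ hj]
    ring

end Setup

end Cfsg.Agent.Helper94
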