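import Cfsg.Agent.Helper94.TensorF3
import Cfsg.Agent.Helper94.Symp

set_option autoImplicit false
set_option linter.unusedSectionVars false

namespace Cfsg.Agent.Helper94

open Cfsg Cfsg.Geo
open scoped Matrix Kronecker

section TensorSymp

variable {F : Type*} [Field F] [Fintype F]

theorem sympTv_inv {m : ℕ} (u : Fin m ⊕ Fin m → F) (c : F) : (sympTv u c)⁻¹ = sympTv u (-c) :=
  Units.ext rfl

/-- `Sp_{n₁}(3) ⊗ O_3(3)` is not maximal in `Sp_{3 n₁}(3)`: it stabilises the decomposition into three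
non-degenerate subspaces coming from the frame of the orthogonal factor. -/
theorem exists_between_of_tensor_symp (m : ℕ) (hq : Fintype.card F = 3) (n₁ : ℕ) (hn₁ : 0 < n₁)
    (e : (Fin m ⊕ Fin m) ≃ Fin n₁ × Fin 3) (P : Matrix.GeneralLinearGroup (Fin m ⊕ Fin m) F)
    (f₁ : (Fin n₁ → F) → (Fin n₁ → F) → F) (f₂ : (Fin 3 → F) → (Fin 3 → F) → F)
    (hf₁ : IsSymplecticForm f₁) (hf₂ : IsSymmetricForm f₂)
    (hT : IsTensorFormStructure id (sympForm m F) f₁ f₂ e P) :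
    ∃ K : Subgroup (Matrix.GeneralLinearGroup (Fin m ⊕ Fin m) F),
      tensorProductSubgroup n₁ 3 e P ⊓ spGL m F < K ∧ K < spGL m F := by
  classical
  obtain ⟨c, hc, hT⟩ := hT
  have hs₁ : IsSesq id f₁ := IsSesq.of_bilinear hf₁.bilinear
  have hs₂ : IsSesq id f₂ := IsSesq.of_bilinear hf₂.bilinear
  set θ : (Fin 3 → F) → (Fin n₁ → F) → (Fin m ⊕ Fin m → F) := fun y x => tau e P (pt x y) with hθ
  have hS : IsTensorSetup (tensorProductSubgroup n₁ 3 e P) θ := isTensorSetup_right e P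
  have hform : ∀ y x y' x', sympForm m F (θ y x) (θ y' x') = c * (f₂ y y' * f₁ x x') := by
    intro y x y' x'
    rw [hθ]
    simp only
    rw [tensorForm_pt e P (fun _ _ => rfl) hs₁ hs₂ hT, mul_comm (f₁ x x')]
  obtain ⟨ε, w, hw⟩ := exists_formFrame3 hq hf₂
  set L := Lset θ w with hL
  -- vectors for the witnesses
  obtain ⟨x₀, hx₀⟩ : ∃ x₀ : Fin n₁ → F, x₀ ≠ 0 :=
    ⟨fun _ => (1 : F), fun h => one_ne_zero (α := F) (congrFun h ⟨0, hn₁⟩)⟩
  obtain ⟨⟨x₁, hx₁⟩, -⟩ := hf₁.nondegenerate x₀ hx₀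
  set η := f₁ x₁ x₀ with hη
  have h01 : (0 : Fin 3) ≠ 1 := by decide
  have key : ∀ g ∈ tensorProductSubgroup n₁ 3 e P ⊓ spGL m F, ∀ v ∈ L,
      (g : Matrix (Fin m ⊕ Fin m) (Fin m ⊕ Fin m) F) *ᵥ v ∈ L := by
    intro g hg
    obtain ⟨a, b, hab⟩ := hS.act g hg.1
    have hiso := (mem_spGL_iff g).mp hg.2
    have hmul : ∀ y y' x x', f₂ ((a : Matrix (Fin 3) (Fin 3) F) *ᵥ y) ((a : Matrix (Fin 3) (Fin 3) F) *ᵥ y')
        * f₁ ((b : Matrix (Fin n₁) (Fin n₁) F) *ᵥ x) ((b : Matrix (Fin n₁) (Fin n₁) F) *ᵥ x')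
        = f₂ y y' * f₁ x x' := by
      intro y y' x x'
      have := hiso (θ y x) (θ y' x')
      rw [hab, hab, hform, hform] at this
      exact mul_left_cancel₀ hc this
    obtain ⟨μ, hμ, hμ₂, -⟩ := exists_multiplier
      (f₁ := f₂) (f₂ := f₁) (a := fun y => (a : Matrix (Fin 3) (Fin 3) F) *ᵥ y)
      (b := fun x => (b : Matrix (Fin n₁) (Fin n₁) F) *ᵥ x)
      ⟨w 0, w 0, by rw [hw.val]; exact hw.ne⟩ ⟨x₁, x₀, hx₁⟩ hmul
    have hμ1 : μ = 1 := multiplier_eq_one hq hs₂ hf₂.nondegenerate _ hμ hμ₂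
    have hperm := hw.perm (a := (a : Matrix (Fin 3) (Fin 3) F)) (fun x x' => by rw [hμ₂, hμ1, one_mul])
    exact maps_Lset_of_act hS hab hperm
  -- first witness: a transvection inside one slice
  set p := θ (w 0) x₀ with hp
  have hφ : ∀ s : F, ∀ j, j ≠ (0 : Fin 3) → ∀ y, s * sympForm m F (θ (w j) y) p = 0 := by
    intro s j hj y
    rw [hp, hform, hw.orth j 0 hj]; ring
  have hg₁maps : ∀ s : F, ∀ v ∈ L,
      ((sympTv p s : Matrix.GeneralLinearGroup (Fin m ⊕ Fin m) F) : Matrix _ _ F) *ᵥ v ∈ L := by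
    intro s
    exact maps_Lset_of_transvection hS (φ := fun v => s * sympForm m F v p) (j₀ := 0) (y₀ := x₀)
      (fun v => sympTv_mulVec p s v) (hφ s)
  have hcεη : c * (ε * η) ≠ 0 := mul_ne_zero hc (mul_ne_zero hw.ne hx₁)
  have hz : ∀ γ : F, x₁ + (1 * (c * (ε * η))) • x₀ ≠ γ • x₁ := by
    intro γ h
    have h1 : f₁ (x₁ + (1 * (c * (ε * η))) • x₀) x₁ = f₁ (γ • x₁) x₁ := by rw [h]
    rw [hf₁.bilinear.add_left, hf₁.bilinear.smul_left, hf₁.bilinear.smul_left, hf₁.alternating,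
      hf₁.skew x₀ x₁] at h1
    have : (c * (ε * η)) * η = 0 := by linear_combination -h1
    exact mul_ne_zero hcεη hx₁ this
  refine exists_between_of_subgroup _ _ (stabilizing (glToMat (Fin m ⊕ Fin m) F) L) ?_
    (sympTv p 1) (sympTv_mem_spGL p 1) ?_ ?_
    (sympTv (θ (w 0 + w 1) x₀) 1) (sympTv_mem_spGL _ 1) ?_
  · intro g hg
    exact mem_stabilizing_of_maps g (key g hg) (key g⁻¹ (inv_mem hg))
  · apply mem_stabilizing_of_maps
    · exact hg₁maps 1
    · rw [sympTv_inv]; exact hg₁maps (-1)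
  · refine not_mem_of_fixes hS (hw.ne_zero hf₂ 0) (hw.ne_zero hf₂ 1) ?_ ?_ hz
    · intro y
      rw [sympTv_mulVec, hφ 1 1 (Ne.symm h01), zero_smul, add_zero]
    · show _ *ᵥ θ (w 0) x₁ = _
      rw [sympTv_mulVec, hp, hform, hw.val, hS.add_right, hS.smul_right]
  · intro hmem
    have hin : θ (w 0) x₁ ∈ L := ⟨0, x₁, rfl⟩
    have := (hmem (θ (w 0) x₁)).mp hin
    simp only [Units.coeHom_apply] at this
    rw [sympTv_mulVec, hform, hf₂.bilinear.add_right, hw.val, hw.orth 0 1 h01, add_zero] at this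
    rcases perp_of_mem_Lset hform hw.orth h01 this with h | h
    · have h1 := h x₀
      rw [sympForm_add_left, sympForm_smul_left, hform, hform, hf₂.bilinear.add_left, hw.val,
        hw.orth 1 0 (Ne.symm h01), hf₁.alternating] at h1
      apply mul_ne_zero hc (mul_ne_zero hw.ne hx₁)
      linear_combination h1
    · have h1 := h x₁
      rw [sympForm_add_left, sympForm_smul_left, hform, hform, hf₂.bilinear.add_left, hw.val,
        hw.orth 0 1 h01, hf₁.alternating, hf₁.skew x₀ x₁] at h1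
      have : (c * (ε * η)) * (c * (ε * η)) = 0 := by linear_combination -h1
      exact mul_ne_zero hcεη hcεη this

end TensorSymp

end Cfsg.Agent.Helper94
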