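import Cfsg.Agent.Helper94.TensorSetup
import Cfsg.Agent.Helper94.Herm

set_option autoImplicit false
set_option linter.unusedSectionVars false

namespace Cfsg.Agent.Helper94

open Cfsg Cfsg.Geo
open scoped Matrix Kronecker

section UnitaryForm

variable {F : Type*} [Field F] [Fintype F] {κ : Type} [Fintype κ] [DecidableEq κ]
  {f : (κ → F) → (κ → F) → F}

theorem IsSesq.of_unitaryPow (hF : Fintype.card F = 4) (hf : IsUnitaryFormPow 2 f) :
    IsSesq (fun x : F => x ^ 2) f where
  add_left := hf.add_left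
  smul_left := hf.smul_left
  add_right v x y := by
    rw [hf.herm v (x + y), hf.add_left, F4_add_sq hF, ← hf.herm, ← hf.herm]
  smul_right c v x := by
    show f v (c • x) = c ^ 2 * f v x
    rw [hf.herm v (c • x), hf.smul_left, mul_pow, ← hf.herm]

theorem unitaryPow_self_cases (hf : IsUnitaryFormPow 2 f) (v : κ → F) : f v v = 0 ∨ f v v = 1 := by
  have h := hf.herm v v
  have : f v v * (f v v - 1) = 0 := by
    rw [mul_sub, mul_one, ← sq, ← h, sub_self]
  rcases mul_eq_zero.mp this with h0 | h1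
  · exact Or.inl h0
  · exact Or.inr (sub_eq_zero.mp h1)

theorem unitaryPow_swap_eq_zero (hf : IsUnitaryFormPow 2 f) {u v : κ → F} (h : f u v = 0) :
    f v u = 0 := by
  rw [hf.herm, h]; simp

/-- A non-degenerate unitary form over the field with four elements has a vector of norm one. -/
theorem exists_unitaryPow_unit (hF : Fintype.card F = 4) (hf : IsUnitaryFormPow 2 f)
    (hne : ∃ v : κ → F, v ≠ 0) : ∃ u : κ → F, f u u = 1 := by
  by_contra hcon
  push Not at hcon
  have hiso : ∀ v, f v v = 0 := fun v => (unitaryPow_self_cases hf v).resolve_right (hcon v)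
  have hs := IsSesq.of_unitaryPow hF hf
  obtain ⟨ω, hω0, hω1⟩ := F4_exists_ne hF 1
  -- every value lies in {0, 1}
  have hval : ∀ x y, f x y = 0 ∨ f x y = 1 := by
    intro x y
    have h := hiso (x + y)
    rw [hs.add_left, hs.add_right, hs.add_right, hiso, hiso, hf.herm y x] at h
    have h2 : f x y * (f x y + 1) = 0 := by linear_combination h
    rcases mul_eq_zero.mp h2 with h0 | h1
    · exact Or.inl h0
    · right
      have := F4_add_self hF (1 : F)
      linear_combination h1 - this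
  have hzero : ∀ x y, f x y = 0 := by
    intro x y
    rcases hval x y with h0 | h1
    · exact h0
    · exfalso
      rcases hval (ω • x) y with h | h
      · rw [hs.smul_left, h1, mul_one] at h
        exact hω0 h
      · rw [hs.smul_left, h1, mul_one] at h
        exact hω1 h
  obtain ⟨v, hv⟩ := hne
  obtain ⟨⟨x, hx⟩, -⟩ := hf.nondegenerate v hv
  exact hx (hzero x v)

/-- A non-degenerate unitary form in dimension at least two over the field with four elements has a
non-zero isotropic vector. -/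
theorem exists_unitaryPow_isotropic (hF : Fintype.card F = 4) (hf : IsUnitaryFormPow 2 f)
    {i₀ i₁ : κ} (h01 : i₀ ≠ i₁) : ∃ y : κ → F, y ≠ 0 ∧ f y y = 0 := by
  have hs := IsSesq.of_unitaryPow hF hf
  set e₀ : κ → F := Pi.single i₀ 1 with he₀
  set e₁ : κ → F := Pi.single i₁ 1 with he₁
  have he₀ne : e₀ ≠ 0 := by
    intro h
    have := congrFun h i₀
    simp [he₀] at this
  have he₁ne : e₁ ≠ 0 := by
    intro h
    have := congrFun h i₁
    simp [he₁] at this
  rcases unitaryPow_self_cases hf e₀ with h0 | h0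
  · exact ⟨e₀, he₀ne, h0⟩
  rcases unitaryPow_self_cases hf e₁ with h1 | h1
  · exact ⟨e₁, he₁ne, h1⟩
  have hne : ∀ s : F, e₀ + s • e₁ ≠ 0 := by
    intro s h
    have := congrFun h i₀
    simp [he₀, he₁, h01] at this
  have hval : ∀ s : F, f (e₀ + s • e₁) (e₀ + s • e₁)
      = 1 + s ^ 2 * (f e₁ e₀) ^ 2 + s * f e₁ e₀ + s ^ 3 := by
    intro s
    simp only [hs.add_left, hs.add_right, hs.smul_left, hs.smul_right, h0, h1]
    rw [hf.herm e₀ e₁]
    ring
  by_cases ht : f e₁ e₀ = 0
  · refine ⟨e₀ + (1 : F) • e₁, hne 1, ?_⟩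
    rw [hval, ht]
    have := F4_add_self hF (1 : F)
    linear_combination this
  · refine ⟨e₀ + (f e₁ e₀)⁻¹ • e₁, hne _, ?_⟩
    rw [hval]
    have hinv : (f e₁ e₀)⁻¹ * f e₁ e₀ = 1 := inv_mul_cancel₀ ht
    have h3 : ((f e₁ e₀)⁻¹) ^ 3 = 1 := F4_pow_three hF (inv_ne_zero ht)
    have := F4_add_self hF (1 : F)
    rw [h3]
    linear_combination ((f e₁ e₀)⁻¹ * f e₁ e₀ + 1 + 1) * hinv + 2 * this

end UnitaryForm

section Frame2

variable {F : Type*} [Field F] [Fintype F] {f : (Fin 2 → F) → (Fin 2 → F) → F}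

/-- The frame of a two-dimensional unitary space over the field with four elements: an orthonormal basis
such that every non-isotropic vector is a multiple of one of the two basis vectors. -/
theorem exists_unitary_frame2 (hF : Fintype.card F = 4) (hf : IsUnitaryFormPow 2 f) :
    ∃ u u' : Fin 2 → F, f u u = 1 ∧ f u' u' = 1 ∧ f u u' = 0 ∧ f u' u = 0 ∧
      ∀ v, f v v ≠ 0 → (∃ s : F, v = s • u) ∨ (∃ s : F, v = s • u') := by
  have hs := IsSesq.of_unitaryPow hF hf
  obtain ⟨u, hu⟩ := exists_unitaryPow_unit hF hf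
    ⟨Pi.single 0 1, fun h => one_ne_zero (α := F) (by simpa using congrFun h 0)⟩
  set a : F := f (Pi.single 0 1) u with ha
  set b : F := f (Pi.single 1 1) u with hb
  have hφ : ∀ x : Fin 2 → F, f x u = x 0 * a + x 1 * b := by
    intro x
    have hx : x = x 0 • (Pi.single 0 1 : Fin 2 → F) + x 1 • (Pi.single 1 1 : Fin 2 → F) := by
      funext i
      fin_cases i <;> simp
    conv_lhs => rw [hx]
    rw [hs.add_left, hs.smul_left, hs.smul_left]
  set u' : Fin 2 → F := ![b, -a] with hu'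
  have hu'u : f u' u = 0 := by
    rw [hφ, hu']
    simp only [Matrix.cons_val_zero, Matrix.cons_val_one]
    ring
  have huu' : f u u' = 0 := unitaryPow_swap_eq_zero hf hu'u
  have hab : a ≠ 0 ∨ b ≠ 0 := by
    by_contra hcon
    push Not at hcon
    have := hφ u
    rw [hcon.1, hcon.2, hu] at this
    simp at this
  have hu'ne : u' ≠ 0 := by
    intro h
    rcases hab with h1 | h1
    · apply h1
      have := congrFun h 1
      simpa [hu'] using this
    · apply h1
      have := congrFun h 0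
      simpa [hu'] using this
  -- the kernel of `x ↦ f x u` is spanned by `u'`
  have hker : ∀ x : Fin 2 → F, f x u = 0 → ∃ β : F, x = β • u' := by
    intro x hx
    rw [hφ] at hx
    by_cases hb0 : b = 0
    · have ha0 : a ≠ 0 := hab.resolve_right (not_not.mpr hb0)
      have hx0 : x 0 = 0 := by
        rw [hb0, mul_zero, add_zero] at hx
        exact (mul_eq_zero.mp hx).resolve_right ha0
      refine ⟨- x 1 / a, ?_⟩
      funext i
      fin_cases i
      · simp [hu', hx0, hb0]
      · simp [hu']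
        field_simp
    · refine ⟨x 0 / b, ?_⟩
      funext i
      fin_cases i
      · simp [hu']
        field_simp
      · simp [hu']
        field_simp
        linear_combination hx
  have hspan : ∀ v : Fin 2 → F, ∃ α β : F, v = α • u + β • u' := by
    intro v
    have : f (v - f v u • u) u = 0 := by
      have : v - f v u • u = v + (- f v u) • u := by module
      rw [this, hs.add_left, hs.smul_left, hu]
      ring
    obtain ⟨β, hβ⟩ := hker _ this
    exact ⟨f v u, β, by rw [← hβ]; module⟩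
  have hu'u' : f u' u' = 1 := by
    rcases unitaryPow_self_cases hf u' with h0 | h1
    · exfalso
      obtain ⟨⟨x, hx⟩, -⟩ := hf.nondegenerate u' hu'ne
      apply hx
      obtain ⟨α, β, rfl⟩ := hspan x
      rw [hs.add_left, hs.smul_left, hs.smul_left, huu', h0]
      ring
    · exact h1
  refine ⟨u, u', hu, hu'u', huu', hu'u, ?_⟩
  intro v hv
  obtain ⟨α, β, rfl⟩ := hspan v
  have hval : f (α • u + β • u') (α • u + β • u') = α ^ 3 + β ^ 3 := by
    simp only [hs.add_left, hs.add_right, hs.smul_left, hs.smul_right, hu, hu'u', huu', hu'u]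
    ring
  by_cases hα : α = 0
  · right
    exact ⟨β, by rw [hα, zero_smul, zero_add]⟩
  · by_cases hβ : β = 0
    · left
      exact ⟨α, by rw [hβ, zero_smul, add_zero]⟩
    · exfalso
      apply hv
      rw [hval, F4_pow_three hF hα, F4_pow_three hF hβ]
      exact F4_add_self hF 1

end Frame2

section TensorUnit

variable {F : Type*} [Field F] [Fintype F]

theorem utv_inv {n : ℕ} (hF : Fintype.card F = 4) (v : Fin n → F) (hv : hermForm n F 2 v v = 0) :
    (utv hF v hv)⁻¹ = utv hF v hv :=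
  inv_eq_of_mul_eq_one_left (utv_mul_utv hF v hv)

/-- `GU_2(2) ⊗ GU_{n₂}(2)` is not maximal in `SU_{2 n₂}(2)`: it stabilises the decomposition into the
two non-degenerate subspaces coming from the frame of the two-dimensional factor. -/
theorem exists_between_of_tensor_unit (n : ℕ) (hF : Fintype.card F = 4) (n₂ : ℕ) (hn₂ : 2 ≤ n₂)
    (e : Fin n ≃ Fin 2 × Fin n₂) (P : Matrix.GeneralLinearGroup (Fin n) F)
    (f₁ : (Fin 2 → F) → (Fin 2 → F) → F) (f₂ : (Fin n₂ → F) → (Fin n₂ → F) → F)
    (hf₁ : IsUnitaryFormPow 2 f₁) (hf₂ : IsUnitaryFormPow 2 f₂)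
    (hT : IsTensorFormStructure (fun x : F => x ^ 2) (hermForm n F 2) f₁ f₂ e P) :
    ∃ K : Subgroup (Matrix.GeneralLinearGroup (Fin n) F),
      tensorProductSubgroup 2 n₂ e P ⊓ (GU n F 2 ⊓ specialLinear (Fin n) F) < K ∧
        K < (GU n F 2 ⊓ specialLinear (Fin n) F) := by
  classical
  obtain ⟨c, hc, hT⟩ := hT
  have hs₁ := IsSesq.of_unitaryPow hF hf₁
  have hs₂ := IsSesq.of_unitaryPow hF hf₂
  set θ : (Fin 2 → F) → (Fin n₂ → F) → (Fin n → F) := fun x y => tau e P (pt x y) with hθ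
  have hS : IsTensorSetup (tensorProductSubgroup 2 n₂ e P) θ := isTensorSetup_left e P
  have hform : ∀ x y x' y', hermForm n F 2 (θ x y) (θ x' y') = c * (f₁ x x' * f₂ y y') :=
    fun x y x' y' => tensorForm_pt e P (fun a b => mul_pow a b 2) hs₁ hs₂ hT x x' y y'
  obtain ⟨u, u', huu, hu'u', huu', hu'u, hframe⟩ := exists_unitary_frame2 hF hf₁
  set w : Fin 2 → (Fin 2 → F) := ![u, u'] with hw
  have hw0 : w 0 = u := rfl
  have hw1 : w 1 = u' := rfl
  have h01 : (0 : Fin 2) ≠ 1 := by decide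
  have horth : ∀ j k, j ≠ k → f₁ (w j) (w k) = 0 := by
    intro j k hjk
    fin_cases j <;> fin_cases k <;> first | exact absurd rfl hjk | skip
    · exact huu'
    · exact hu'u
  have hune : u ≠ 0 := by
    intro h
    rw [h, hs₁.zero_left] at huu
    exact zero_ne_one huu
  have hu'ne : u' ≠ 0 := by
    intro h
    rw [h, hs₁.zero_left] at hu'u'
    exact zero_ne_one hu'u'
  set L := Lset θ w with hL
  -- an isotropic vector of the second factor and a partner
  obtain ⟨y₀, hy₀ne, hy₀⟩ := exists_unitaryPow_isotropic hF hf₂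
    (i₀ := (⟨0, by omega⟩ : Fin n₂)) (i₁ := (⟨1, by omega⟩ : Fin n₂)) (by simp [Fin.ext_iff])
  obtain ⟨⟨z₀, hz₀⟩, -⟩ := hf₂.nondegenerate y₀ hy₀ne
  have hy₀z₀ : f₂ y₀ z₀ ≠ 0 := fun h => hz₀ (unitaryPow_swap_eq_zero hf₂ h)
  have key : ∀ g ∈ tensorProductSubgroup 2 n₂ e P ⊓ (GU n F 2 ⊓ specialLinear (Fin n) F), ∀ v ∈ L,
      (g : Matrix (Fin n) (Fin n) F) *ᵥ v ∈ L := by
    intro g hg
    obtain ⟨a, b, hab⟩ := hS.act g hg.1
    have hiso : ∀ x y, hermForm n F 2 ((g : Matrix (Fin n) (Fin n) F) *ᵥ x)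
        ((g : Matrix (Fin n) (Fin n) F) *ᵥ y) = hermForm n F 2 x y := hg.2.1
    have hmul : ∀ x x' y y', f₁ ((a : Matrix (Fin 2) (Fin 2) F) *ᵥ x) ((a : Matrix (Fin 2) (Fin 2) F) *ᵥ x')
        * f₂ ((b : Matrix (Fin n₂) (Fin n₂) F) *ᵥ y) ((b : Matrix (Fin n₂) (Fin n₂) F) *ᵥ y')
        = f₁ x x' * f₂ y y' := by
      intro x x' y y'
      have := hiso (θ x y) (θ x' y')
      rw [hab, hab, hform, hform] at this
      exact mul_left_cancel₀ hc this
    obtain ⟨μ, hμ, hμ₁, -⟩ := exists_multiplier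
      (a := fun x => (a : Matrix (Fin 2) (Fin 2) F) *ᵥ x)
      (b := fun y => (b : Matrix (Fin n₂) (Fin n₂) F) *ᵥ y)
      ⟨u, u, by rw [huu]; exact one_ne_zero⟩ ⟨z₀, y₀, hz₀⟩ hmul
    have hperm : ∀ j, ∃ (k : Fin 2) (s : F), (a : Matrix (Fin 2) (Fin 2) F) *ᵥ w j = s • w k := by
      intro j
      have hne : f₁ ((a : Matrix (Fin 2) (Fin 2) F) *ᵥ w j) ((a : Matrix (Fin 2) (Fin 2) F) *ᵥ w j) ≠ 0 := by
        rw [hμ₁]
        refine mul_ne_zero hμ ?_
        fin_cases j
        · show f₁ u u ≠ 0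
          rw [huu]; exact one_ne_zero
        · show f₁ u' u' ≠ 0
          rw [hu'u']; exact one_ne_zero
      rcases hframe _ hne with ⟨s, hs⟩ | ⟨s, hs⟩
      · exact ⟨0, s, hs⟩
      · exact ⟨1, s, hs⟩
    exact maps_Lset_of_act hS hab hperm
  -- first witness: a transvection inside one slice
  set p := θ (w 0) y₀ with hp
  have hpp : hermForm n F 2 p p = 0 := by rw [hp, hform, hy₀]; ring
  have hφ : ∀ j, j ≠ (0 : Fin 2) → ∀ y, hermForm n F 2 (θ (w j) y) p = 0 := by
    intro j hj y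
    rw [hp, hform, horth j 0 hj]; ring
  have hg₁maps : ∀ v ∈ L,
      ((utv hF p hpp : Matrix.GeneralLinearGroup (Fin n) F) : Matrix _ _ F) *ᵥ v ∈ L :=
    maps_Lset_of_transvection hS (φ := fun v => hermForm n F 2 v p) (j₀ := 0) (y₀ := y₀)
      (fun v => utv_mulVec hF p hpp v) hφ
  obtain ⟨s, hs⟩ : ∃ s : F, s = c * (1 * f₂ z₀ y₀) := ⟨_, rfl⟩
  have hsne : s ≠ 0 := by rw [hs]; exact mul_ne_zero hc (mul_ne_zero one_ne_zero hz₀)
  have hz : ∀ γ : F, z₀ + s • y₀ ≠ γ • z₀ := by
    intro γ h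
    have h1 : f₂ (z₀ + s • y₀) y₀ = f₂ (γ • z₀) y₀ := by rw [h]
    rw [hs₂.add_left, hs₂.smul_left, hs₂.smul_left, hy₀, mul_zero, add_zero] at h1
    have hγ : γ = 1 := by
      have : (γ - 1) * f₂ z₀ y₀ = 0 := by linear_combination -h1
      rcases mul_eq_zero.mp this with h2 | h2
      · exact sub_eq_zero.mp h2
      · exact absurd h2 hz₀
    rw [hγ, one_smul] at h
    have : s • y₀ = 0 := by
      have := congrArg (fun t => t - z₀) h
      simpa using this
    rcases smul_eq_zero.mp this with h2 | h2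
    · exact hsne h2
    · exact hy₀ne h2
  set p₂ := θ (w 0 + w 1) y₀ with hp₂
  have hpp₂ : hermForm n F 2 p₂ p₂ = 0 := by rw [hp₂, hform, hy₀]; ring
  refine exists_between_of_subgroup _ _ (stabilizing (glToMat (Fin n) F) L) ?_
    (utv hF p hpp) ⟨utv_mem_GU hF p hpp, utv_mem_specialLinear hF p hpp⟩ ?_ ?_
    (utv hF p₂ hpp₂) ⟨utv_mem_GU hF p₂ hpp₂, utv_mem_specialLinear hF p₂ hpp₂⟩ ?_
  · intro g hg
    exact mem_stabilizing_of_maps g (key g hg) (key g⁻¹ (inv_mem hg))
  · apply mem_stabilizing_of_maps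
    · exact hg₁maps
    · rw [utv_inv]; exact hg₁maps
  · refine not_mem_of_fixes hS (w₀ := w 0) (w₁ := w 1) hune hu'ne ?_ ?_ hz
    · intro y
      rw [utv_mulVec, hφ 1 (Ne.symm h01), zero_smul, add_zero]
    · show _ *ᵥ θ (w 0) z₀ = _
      rw [utv_mulVec, hp, hform, hw0, huu, hS.add_right, hS.smul_right, ← hs]
  · intro hmem
    have hin : θ (w 0) z₀ ∈ L := ⟨0, z₀, rfl⟩
    have := (hmem (θ (w 0) z₀)).mp hin
    simp only [Units.coeHom_apply] at this
    rw [utv_mulVec, hp₂, hform, hs₁.add_right, hw0, hw1, huu, huu', add_zero, ← hs] at this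
    rcases perp_of_mem_Lset hform horth h01 this with h | h
    · have h1 := h y₀
      rw [herm2_add_left, herm2_smul_left, hform, hform, hw0, huu, hy₀] at h1
      apply mul_ne_zero hc hz₀
      linear_combination h1
    · have h1 := h z₀
      rw [herm2_add_left, herm2_smul_left, hform, hform, hw1, hs₁.add_left, huu', hu'u'] at h1
      apply mul_ne_zero hsne (mul_ne_zero hc hy₀z₀)
      linear_combination h1

end TensorUnit

end Cfsg.Agent.Helper94
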