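import Mathlib
import Cfsg.Agent.Helper94.TiB

set_option autoImplicit false
set_option linter.unusedSectionVars false
set_option linter.style.haveILetI false

/-!
# Isometries whose square is a scalar, and totally isotropic invariant subspaces
-/

namespace Cfsg.Agent.Helper94.Ti

open Module Polynomial
open Cfsg.Agent.Helper59.InvChain Cfsg.Agent.Helper59.Elusive
open Cfsg.Agent.Helper99.RDecomp Cfsg.Agent.Helper99.SpStruct

universe u v

variable {F : Type u} [Field F] {V : Type v} [AddCommGroup V] [Module F V] [FiniteDimensional F V]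
variable {B : LinearMap.BilinForm F V} {y : Module.End F V}

theorem orth_span_singleton (hB : B.IsAlt) (u : V) :
    Orth B (Submodule.span F {u}) (Submodule.span F {u}) := by
  intro a ha b hb
  obtain ⟨s, rfl⟩ := Submodule.mem_span_singleton.mp ha
  obtain ⟨t, rfl⟩ := Submodule.mem_span_singleton.mp hb
  rw [map_smul, map_smul, LinearMap.smul_apply, hB.self_eq_zero, smul_zero, smul_zero]

/-- if `y² = λ²`, every nonzero invariant subspace contains an eigenvector -/
theorem exists_eigen_of_sq (lam : F) (hy : y ^ 2 = (lam * lam) • (1 : Module.End F V))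
    {W : Submodule F V} (hWinv : Inv y W) (hne : W ≠ ⊥) :
    ∃ u ∈ W, u ≠ 0 ∧ ∃ μ : F, y u = μ • u := by
  obtain ⟨w, hw, hw0⟩ := Submodule.exists_mem_ne_zero_of_ne_bot hne
  have hyy : ∀ v : V, y (y v) = (lam * lam) • v := by
    intro v
    have := LinearMap.congr_fun hy v
    rwa [pow_two, Module.End.mul_apply, LinearMap.smul_apply, Module.End.one_apply] at this
  by_cases h0 : y w + lam • w = 0
  · refine ⟨w, hw, hw0, -lam, ?_⟩
    rw [neg_smul]
    exact eq_neg_of_add_eq_zero_left h0
  · refine ⟨y w + lam • w, W.add_mem (hWinv.apply_mem hw) (W.smul_mem _ hw), h0, lam, ?_⟩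
    rw [map_add, map_smul, hyy, smul_add, smul_smul]
    abel

/-- lines spanned by eigenvectors: totally isotropic invariant of dimension one -/
theorem exists_ti_line_of_sq (hB : B.IsAlt) (lam : F)
    (hy : y ^ 2 = (lam * lam) • (1 : Module.End F V))
    {W : Submodule F V} (hWinv : Inv y W) (hdim : 1 ≤ finrank F ↥W) :
    ∃ U₀ : Submodule F V, U₀ ≤ W ∧ Inv y U₀ ∧ Orth B U₀ U₀ ∧ finrank F ↥U₀ = 1 := by
  have hne : W ≠ ⊥ := by
    intro h0
    rw [h0, finrank_bot] at hdim
    omega
  obtain ⟨u, huW, hu0, μ, hμ⟩ := exists_eigen_of_sq lam hy hWinv hne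
  refine ⟨Submodule.span F {u}, ?_, ?_, orth_span_singleton hB u, finrank_span_singleton hu0⟩
  · rw [Submodule.span_singleton_le_iff_mem]; exact huW
  · rw [inv_iff]
    intro a ha
    obtain ⟨s, rfl⟩ := Submodule.mem_span_singleton.mp ha
    rw [map_smul, hμ, smul_smul]
    exact Submodule.mem_span_singleton.mpr ⟨s * μ, rfl⟩

/-- `y² = λ²` scalar: totally isotropic invariant subspaces of every dimension up to half -/
theorem exists_ti_of_sq (h : IsoSetup B y 4) (lam : F)
    (hy : y ^ 2 = (lam * lam) • (1 : Module.End F V)) (m : ℕ) (hm : 2 * m ≤ finrank F V) :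
    ∃ W : Submodule F V, finrank F ↥W = m ∧ Orth B W W ∧ Inv y W := by
  rcases Nat.eq_zero_or_pos m with h0 | hpos
  · subst h0
    exact ⟨⊥, by simp, fun u hu _ _ => by rw [(Submodule.mem_bot F).mp hu]; simp, inv_bot y⟩
  · obtain ⟨b, rfl⟩ : ∃ b, m = b + 1 := ⟨m - 1, by omega⟩
    have hnd : Nd B (⊤ : Submodule F V) := by
      rw [nd_iff]
      intro u _ hu
      exact h.nondeg.2 u (fun w => hu w trivial)
    obtain ⟨U, -, hUinv, hUti, hUdim⟩ := h.stack ⊤ 1 1
      (fun W hWinv _ _ hdim => exists_ti_line_of_sq h.alt lam hy hWinv hdim) b ⊤ (inv_top y) hnd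
      le_rfl (by rw [finrank_top]; omega)
    exact ⟨U, by rw [hUdim, mul_one], hUti, hUinv⟩

section finite

variable [Fintype F]

/-- `y² = z` a nonsquare scalar: totally isotropic invariant planes (Chevalley–Warning) -/
theorem exists_ti_plane_of_nonsq (hB : B.IsAlt) (hiso : ∀ u v, B (y u) (y v) = B u v) (z : F)
    (hz : ¬ IsSquare z) (hy : y ^ 2 = z • (1 : Module.End F V))
    {W : Submodule F V} (hWinv : Inv y W) (hdim : 3 ≤ finrank F ↥W) :
    ∃ U₀ : Submodule F V, U₀ ≤ W ∧ Inv y U₀ ∧ Orth B U₀ U₀ ∧ finrank F ↥U₀ = 2 := by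
  have hyy : ∀ v : V, y (y v) = z • v := by
    intro v
    have := LinearMap.congr_fun hy v
    rwa [pow_two, Module.End.mul_apply, LinearMap.smul_apply, Module.End.one_apply] at this
  obtain ⟨u, huW, hu0, hu⟩ := exists_ne_zero_isotropic W 1 (fun _ : Fin 1 => B.compRight y)
    (by omega)
  have hu1 : B u (y u) = 0 := by
    have := hu 0
    rwa [LinearMap.BilinForm.compRight_apply] at this
  have hli : LinearIndependent F ![u, y u] := by
    rw [LinearIndependent.pair_iff' hu0]
    intro μ hμ
    apply hz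
    refine ⟨μ, ?_⟩
    have h1 : y (y u) = (μ * μ) • u := by
      rw [← hμ, map_smul, ← hμ, smul_smul]
    rw [hyy] at h1
    have h2 : (z - μ * μ) • u = 0 := by rw [sub_smul, h1, sub_self]
    rcases smul_eq_zero.mp h2 with h3 | h3
    · exact sub_eq_zero.mp h3
    · exact absurd h3 hu0
  have hrange : Set.range ![u, y u] = {u, y u} := by
    ext w
    simp only [Set.mem_range, Set.mem_insert_iff, Set.mem_singleton_iff]
    constructor
    · rintro ⟨j, rfl⟩
      fin_cases j
      · left; rfl
      · right; rfl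
    · rintro (rfl | rfl)
      · exact ⟨0, rfl⟩
      · exact ⟨1, rfl⟩
  refine ⟨Submodule.span F {u, y u}, ?_, ?_, ?_, ?_⟩
  · rw [Submodule.span_le]
    rintro w (rfl | rfl)
    · exact huW
    · exact hWinv.apply_mem huW
  · rw [inv_iff]
    intro a ha
    obtain ⟨s, t, rfl⟩ := Submodule.mem_span_pair.mp ha
    rw [map_add, map_smul, map_smul, hyy]
    refine Submodule.mem_span_pair.mpr ⟨t * z, s, ?_⟩
    rw [smul_smul, add_comm]
  · have h2 : B (y u) u = 0 := hB.isRefl _ _ hu1
    have h3 : B (y u) (y u) = 0 := hB.self_eq_zero _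
    have h4 : B u u = 0 := hB.self_eq_zero _
    intro a ha b hb
    obtain ⟨s, t, rfl⟩ := Submodule.mem_span_pair.mp ha
    obtain ⟨s', t', rfl⟩ := Submodule.mem_span_pair.mp hb
    simp only [map_add, map_smul, LinearMap.add_apply, LinearMap.smul_apply, hu1, h2, h3, h4,
      smul_zero, add_zero]
  · rw [← hrange, finrank_span_eq_card hli, Fintype.card_fin]

/-- `y² = z` a nonsquare scalar: totally isotropic invariant subspaces of every even dimension
up to half -/
theorem exists_ti_of_nonsq (h : IsoSetup B y 4) (z : F) (hz : ¬ IsSquare z)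
    (hy : y ^ 2 = z • (1 : Module.End F V)) (m : ℕ) (hme : Even m)
    (hm : 2 * m ≤ finrank F V) :
    ∃ W : Submodule F V, finrank F ↥W = m ∧ Orth B W W ∧ Inv y W := by
  rcases Nat.eq_zero_or_pos m with h0 | hpos
  · subst h0
    exact ⟨⊥, by simp, fun u hu _ _ => by rw [(Submodule.mem_bot F).mp hu]; simp, inv_bot y⟩
  · obtain ⟨b, hb⟩ : ∃ b, m = (b + 1) * 2 := by
      obtain ⟨c, hc⟩ := hme
      exact ⟨c - 1, by omega⟩
    have hnd : Nd B (⊤ : Submodule F V) := by
      rw [nd_iff]
      intro u _ hu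
      exact h.nondeg.2 u (fun w => hu w trivial)
    obtain ⟨U, -, hUinv, hUti, hUdim⟩ := h.stack ⊤ 2 3
      (fun W hWinv _ _ hdim => exists_ti_plane_of_nonsq h.alt h.isom z hz hy hWinv hdim) b ⊤
      (inv_top y) hnd le_rfl (by rw [finrank_top]; omega)
    exact ⟨U, by rw [hUdim, hb], hUti, hUinv⟩

/-- if `y² = -1` and `-1` is not a square, invariant subspaces have even dimension -/
theorem even_finrank_of_sq_neg_one (hq : ¬ IsSquare (-1 : F))
    (hy : y ^ 2 = (-1 : F) • (1 : Module.End F V)) {W : Submodule F V} (hWinv : Inv y W) :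
    Even (finrank F ↥W) := by
  by_contra hodd
  rw [Nat.not_even_iff_odd] at hodd
  apply hq
  set φ : Module.End F ↥W := y.restrict (fun x hx => hWinv.apply_mem hx) with hφ
  have hφ2 : φ * φ = (-1 : F) • (1 : Module.End F ↥W) := by
    refine LinearMap.ext fun w => Subtype.ext ?_
    have := LinearMap.congr_fun hy (w : V)
    rw [pow_two, Module.End.mul_apply, LinearMap.smul_apply, Module.End.one_apply] at this
    simpa [hφ, LinearMap.restrict_apply] using this
  have hdet := congrArg LinearMap.det hφ2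
  rw [map_mul, LinearMap.det_smul, map_one, mul_one, hodd.neg_one_pow] at hdet
  exact ⟨LinearMap.det φ, hdet.symm⟩

end finite

end Cfsg.Agent.Helper94.Ti
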