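import Mathlib
import Cfsg.Agent.Helper94.TpA

set_option autoImplicit false
set_option linter.unusedSectionVars false
set_option linter.style.haveILetI false

/-!
# Unipotent isometries: invariant nondegenerate subspaces and the ranks of `x - 1`
-/

namespace Cfsg.Agent.Helper94.Tp

open Module Polynomial
open Cfsg.Agent.Helper59.InvChain Cfsg.Agent.Helper59.Elusive
open Cfsg.Agent.Helper99.SpStruct Cfsg.Agent.Helper99.RDecomp
open Cfsg.Agent.Helper94.Ti Cfsg.Agent.Helper94.Ts Cfsg.Agent.Helper94.Tn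

universe u v

variable {F : Type u} [Field F] [Fintype F]
variable {V : Type v} [AddCommGroup V] [Module F V] [FiniteDimensional F V]
variable {B : LinearMap.BilinForm F V}

/-- rank-nullity on a subspace -/
theorem finrank_eq_inf_ker_add_map (f : Module.End F V) (W : Submodule F V) :
    finrank F ↥W = finrank F ↥(W ⊓ LinearMap.ker f) + finrank F ↥(W.map f) := by
  have h1 := LinearMap.finrank_range_add_finrank_ker (f.domRestrict W)
  rw [LinearMap.range_domRestrict, LinearMap.ker_domRestrict] at h1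
  have h3 : finrank F ↥((LinearMap.ker f).comap W.subtype) =
      finrank F ↥(W ⊓ LinearMap.ker f) := by
    rw [← Submodule.finrank_map_subtype_eq W ((LinearMap.ker f).comap W.subtype),
      Submodule.map_comap_subtype]
  omega

/-- for an endomorphism preserving `W` and `W^⊥` (`W` nondegenerate), `W ∩ im f = f W` -/
theorem inf_range_eq_map (hB : B.IsRefl) {W : Submodule F V} (hW : Nd B W) {f : Module.End F V}
    (hfW : Inv f W) (hfW' : Inv f (B.orthogonal W)) : W ⊓ LinearMap.range f = W.map f := by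
  apply le_antisymm
  · rintro w ⟨hwW, v, rfl⟩
    have hcompl := hW.isCompl hB
    have hv : v ∈ W ⊔ B.orthogonal W := by rw [hcompl.sup_eq_top]; trivial
    obtain ⟨v₁, hv₁, v₂, hv₂, rfl⟩ := Submodule.mem_sup.mp hv
    have h1 : f v₂ ∈ W ⊓ B.orthogonal W := by
      refine ⟨?_, hfW'.apply_mem hv₂⟩
      have : f v₂ = f (v₁ + v₂) - f v₁ := by rw [map_add]; abel
      rw [this]
      exact W.sub_mem hwW (hfW.apply_mem hv₁)
    rw [hcompl.inf_eq_bot, Submodule.mem_bot] at h1
    rw [map_add, h1, add_zero]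
    exact ⟨v₁, hv₁, rfl⟩
  · rintro _ ⟨w, hw, rfl⟩
    exact ⟨hfW.apply_mem hw, ⟨w, rfl⟩⟩

theorem inv_sub_one {x : Module.End F V} {W : Submodule F V} (hW : Inv x W) : Inv (x - 1) W := by
  rw [inv_iff]
  intro w hw
  rw [LinearMap.sub_apply, Module.End.one_apply]
  exact W.sub_mem (hW.apply_mem hw) hw

theorem inv_mul {f g : Module.End F V} {W : Submodule F V} (hf : Inv f W) (hg : Inv g W) :
    Inv (f * g) W := by
  rw [inv_iff]
  intro w hw
  rw [Module.End.mul_apply]
  exact hf.apply_mem (hg.apply_mem hw)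

/-- `x + 1` is injective for a unipotent `x` -/
theorem add_one_injective (h2 : (2 : F) ≠ 0) {x : Module.End F V} (hN : (x - 1) ^ 3 = 0) :
    Function.Injective ⇑(x + 1) := by
  rw [injective_iff_map_eq_zero]
  intro v hv
  rw [LinearMap.add_apply, Module.End.one_apply] at hv
  have hxv : x v = -v := eq_neg_of_add_eq_zero_left hv
  have h1 : (x - 1) v = (-2 : F) • v := by
    rw [LinearMap.sub_apply, Module.End.one_apply, hxv]
    rw [neg_smul, two_smul]
    abel
  have h3 : ((x - 1) ^ 3 : Module.End F V) v = ((-2 : F) * ((-2) * (-2))) • v := by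
    rw [pow_succ, pow_two, Module.End.mul_apply, Module.End.mul_apply, h1, map_smul, h1,
      map_smul, map_smul, h1, smul_smul, smul_smul, mul_assoc]
  rw [hN, LinearMap.zero_apply] at h3
  have h4 : ((-2 : F) * ((-2) * (-2))) ≠ 0 := by
    have : ((-2 : F) * ((-2) * (-2))) = -(2 * 2 * 2) := by ring
    rw [this]
    exact neg_ne_zero.mpr (mul_ne_zero (mul_ne_zero h2 h2) h2)
  exact (smul_eq_zero.mp h3.symm).resolve_left h4

/-- the rank of `x - 1` on an invariant nondegenerate subspace is even -/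
theorem even_finrank_map_sub_one (hB : B.IsSymm) (hnd : B.Nondegenerate) (h2 : (2 : F) ≠ 0)
    {x : Module.End F V} (hx : ∀ u v, B (x u) (x v) = B u v) (hN : (x - 1) ^ 3 = 0)
    {W : Submodule F V} (hWinv : Inv x W) (hW : Nd B W) :
    Even (finrank F ↥(W.map (x - 1))) := by
  set γ : LinearMap.BilinForm F V := B.compLeft x - B.compRight x with hγ
  have hγa : ∀ u v, γ u v = B (x u) v - B u (x v) := by
    intro u v
    rw [hγ, LinearMap.sub_apply, LinearMap.sub_apply, LinearMap.BilinForm.compLeft_apply,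
      LinearMap.BilinForm.compRight_apply]
  have halt : γ.IsAlt := by
    intro u
    rw [hγa, hB.eq (x u) u, sub_self]
  set R := W ⊓ LinearMap.ker (x - 1) with hR
  obtain ⟨C₀, hC₀⟩ := Submodule.exists_isCompl R
  set C := W ⊓ C₀ with hC
  have hRW : R ≤ W := inf_le_left
  have hsup : R ⊔ C = W := by
    rw [hC, inf_comm, ← sup_inf_assoc_of_le _ hRW, hC₀.sup_eq_top, top_inf_eq]
  have hdis : Disjoint R C := Disjoint.mono_right inf_le_right hC₀.disjoint
  have hCnd : Nd γ C := by
    rw [nd_iff]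
    intro u hu hu'
    have huW : u ∈ W := hu.1
    -- `γ w u = 0` for all `w ∈ W`
    have h1 : ∀ w ∈ W, γ w u = 0 := by
      intro w hw
      rw [← hsup] at hw
      obtain ⟨r', hr', c, hc, rfl⟩ := Submodule.mem_sup.mp hw
      rw [map_add, LinearMap.add_apply, hu' c hc, add_zero, hγa]
      have hr'k : r' ∈ LinearMap.ker (x - 1) := hr'.2
      have hxr : x r' = r' := by
        rw [LinearMap.mem_ker, LinearMap.sub_apply, Module.End.one_apply, sub_eq_zero] at hr'k
        exact hr'k
      have h3 := orth_ker_range hx r' hr'k ((x - 1) u) ⟨u, rfl⟩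
      rw [LinearMap.sub_apply, Module.End.one_apply, map_sub] at h3
      rw [hxr]
      linear_combination -h3
    -- hence `u - x (x u) = 0`
    have h3 : u - x (x u) = 0 := by
      apply nd_iff.mp hW _ (W.sub_mem huW (hWinv.apply_mem (hWinv.apply_mem huW)))
      intro w' hw'
      obtain ⟨w, hw, rfl⟩ := isom_inv_surj hnd hx hWinv w' hw'
      have h4 := h1 w hw
      rw [hγa] at h4
      rw [map_sub, hx w (x u)]
      exact h4
    have h5 : (x + 1) ((x - 1) u) = 0 := by
      rw [LinearMap.add_apply, Module.End.one_apply, LinearMap.sub_apply, Module.End.one_apply,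
        map_sub]
      have : x (x u) = u := (sub_eq_zero.mp h3).symm
      rw [this]
      abel
    have h6 : (x - 1) u = 0 := by
      have := add_one_injective h2 hN (a₁ := (x - 1) u) (a₂ := 0)
      apply this
      rw [h5, map_zero]
    have h7 : u ∈ R ⊓ C := ⟨⟨huW, LinearMap.mem_ker.mpr h6⟩, hu⟩
    rw [hdis.eq_bot, Submodule.mem_bot] at h7
    exact h7
  have hev := Cfsg.Agent.Helper99.SpStruct.even_finrank halt hCnd
  have h8 : finrank F ↥W = finrank F ↥R + finrank F ↥(W.map (x - 1)) :=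
    finrank_eq_inf_ker_add_map (x - 1) W
  have h9 : finrank F ↥(R ⊔ C) = finrank F ↥R + finrank F ↥C := finrank_sup_of_disjoint hdis
  rw [hsup] at h9
  have : finrank F ↥(W.map (x - 1)) = finrank F ↥C := by omega
  rw [this]
  exact hev

/-- `ker (x - 1) = im (x - 1)`: invariant nondegenerate subspaces have even dimension -/
theorem even_of_ker_eq_range (hB : B.IsSymm) (hnd : B.Nondegenerate)
    {x : Module.End F V} (hx : ∀ u v, B (x u) (x v) = B u v)
    (hker : LinearMap.ker (x - 1) = LinearMap.range (x - 1))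
    {W : Submodule F V} (hWinv : Inv x W) (hW : Nd B W) : Even (finrank F ↥W) := by
  have h1 := finrank_eq_inf_ker_add_map (x - 1) W
  have h3 := inf_range_eq_map hB.isRefl hW (inv_sub_one hWinv)
    (inv_sub_one (isom_inv_orthogonal hnd hx hWinv))
  rw [hker, h3] at h1
  exact ⟨_, h1⟩

/-- a general dimension inequality -/
theorem finrank_inf_add_le {W I K : Submodule F V} (hIK : I ≤ K) :
    finrank F ↥(W ⊓ K) + finrank F ↥I ≤ finrank F ↥(W ⊓ I) + finrank F ↥K := by
  have h1 := Submodule.finrank_sup_add_finrank_inf_eq (W ⊓ K) I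
  have h3 : (W ⊓ K) ⊓ I = W ⊓ I := by
    rw [inf_assoc, inf_eq_right.mpr hIK]
  have h4 : finrank F ↥((W ⊓ K) ⊔ I) ≤ finrank F ↥K :=
    Submodule.finrank_mono (sup_le inf_le_right hIK)
  rw [h3] at h1
  omega

/-- `(x - 1)² = 0` with `dim ker ≤ dim im + 2`: invariant nondegenerate subspaces of odd
dimension have dimension `≡ 1 mod 4` -/
theorem mod_four_of_sq_zero (hB : B.IsSymm) (hnd : B.Nondegenerate) (h2 : (2 : F) ≠ 0)
    {x : Module.End F V} (hx : ∀ u v, B (x u) (x v) = B u v)
    (hIK : LinearMap.range (x - 1) ≤ LinearMap.ker (x - 1))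
    (hdim : finrank F ↥(LinearMap.ker (x - 1)) ≤ finrank F ↥(LinearMap.range (x - 1)) + 2)
    {W : Submodule F V} (hWinv : Inv x W) (hW : Nd B W) (hodd : Odd (finrank F ↥W)) :
    finrank F ↥W % 4 = 1 := by
  have hN : (x - 1) ^ 3 = 0 := by
    apply LinearMap.ext
    intro v
    rw [pow_succ, pow_two, Module.End.mul_apply, Module.End.mul_apply, LinearMap.zero_apply]
    have : (x - 1) ((x - 1) v) = 0 := LinearMap.mem_ker.mp (hIK ⟨v, rfl⟩)
    rw [this, map_zero]
  have h1 := finrank_eq_inf_ker_add_map (x - 1) W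
  have h3 := inf_range_eq_map hB.isRefl hW (inv_sub_one hWinv)
    (inv_sub_one (isom_inv_orthogonal hnd hx hWinv))
  have h4 := finrank_inf_add_le (W := W) hIK
  rw [h3] at h4
  have h5 : finrank F ↥(W.map (x - 1)) ≤ finrank F ↥(W ⊓ LinearMap.ker (x - 1)) := by
    rw [← h3]
    exact Submodule.finrank_mono (inf_le_inf_left W hIK)
  obtain ⟨s, hs⟩ := even_finrank_map_sub_one hB hnd h2 hx hN hWinv hW
  obtain ⟨k, hk⟩ := hodd
  omega

/-- `ker (x - 1) ≤ im (x - 1)` with `rank (x - 1)² ≤ 2`: invariant nondegenerate subspaces of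
odd dimension have dimension `≡ 3 mod 4` -/
theorem mod_four_of_ker_le_range (hB : B.IsSymm) (hnd : B.Nondegenerate) (h2 : (2 : F) ≠ 0)
    {x : Module.End F V} (hx : ∀ u v, B (x u) (x v) = B u v) (hN : (x - 1) ^ 3 = 0)
    (hKI : LinearMap.ker (x - 1) ≤ LinearMap.range (x - 1))
    (hdim : finrank F ↥(LinearMap.range ((x - 1) * (x - 1))) ≤ 2)
    {W : Submodule F V} (hWinv : Inv x W) (hW : Nd B W) (hodd : Odd (finrank F ↥W)) :
    finrank F ↥W % 4 = 3 := by
  have h1 := finrank_eq_inf_ker_add_map (x - 1) W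
  have h3 := inf_range_eq_map hB.isRefl hW (inv_sub_one hWinv)
    (inv_sub_one (isom_inv_orthogonal hnd hx hWinv))
  have h4 := finrank_eq_inf_ker_add_map (x - 1) (W.map (x - 1))
  have h5 : W.map (x - 1) ⊓ LinearMap.ker (x - 1) = W ⊓ LinearMap.ker (x - 1) := by
    rw [← h3, inf_assoc, inf_eq_right.mpr hKI]
  have h6 : finrank F ↥((W.map (x - 1)).map (x - 1)) ≤ 2 := by
    refine le_trans (Submodule.finrank_mono ?_) hdim
    rintro _ ⟨_, ⟨w, -, rfl⟩, rfl⟩
    exact ⟨w, rfl⟩
  rw [h5] at h4
  obtain ⟨s, hs⟩ := even_finrank_map_sub_one hB hnd h2 hx hN hWinv hW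
  obtain ⟨k, hk⟩ := hodd
  omega

end Cfsg.Agent.Helper94.Tp
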