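import Mathlib
import Cfsg.Agent.Helper94.TpA

set_option autoImplicit false
set_option linter.unusedSectionVars false
set_option linter.style.haveILetI false

/-!
# Shift operators on `Fin d → F` and Levi-type unipotent isometries of the split space
-/

namespace Cfsg.Agent.Helper94.Tp

open Module

universe u

variable {F : Type u} [Field F] {d : ℕ}

/-- extension by zero -/
def ext0 (u : Fin d → F) (n : ℕ) : F := if h : n < d then u ⟨n, h⟩ else 0

theorem ext0_of_lt (u : Fin d → F) {n : ℕ} (h : n < d) : ext0 u n = u ⟨n, h⟩ := dif_pos h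

theorem ext0_of_ge (u : Fin d → F) {n : ℕ} (h : d ≤ n) : ext0 u n = 0 := dif_neg (by omega)

theorem ext0_val (u : Fin d → F) (i : Fin d) : ext0 u i.val = u i := by
  rw [ext0_of_lt u i.2]

theorem ext0_add (u v : Fin d → F) (n : ℕ) : ext0 (u + v) n = ext0 u n + ext0 v n := by
  unfold ext0
  split_ifs
  · rfl
  · simp

theorem ext0_smul (c : F) (u : Fin d → F) (n : ℕ) : ext0 (c • u) n = c * ext0 u n := by
  unfold ext0
  split_ifs
  · rfl
  · simp

/-- the shift `e_i ↦ e_{i+a}` -/
def shU (d a : ℕ) (F : Type u) [Field F] : Module.End F (Fin d → F) where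
  toFun u := fun k => if a ≤ k.val then ext0 u (k.val - a) else 0
  map_add' u v := by
    funext k
    simp only [Pi.add_apply, ext0_add]
    split_ifs <;> simp
  map_smul' c u := by
    funext k
    simp only [Pi.smul_apply, ext0_smul, smul_eq_mul, RingHom.id_apply]
    split_ifs <;> simp

/-- the adjoint shift `e_k ↦ e_{k-a}` -/
def shD (d a : ℕ) (F : Type u) [Field F] : Module.End F (Fin d → F) where
  toFun v := fun i => ext0 v (i.val + a)
  map_add' u v := by
    funext k
    simp only [Pi.add_apply, ext0_add]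
  map_smul' c u := by
    funext k
    simp only [Pi.smul_apply, ext0_smul, smul_eq_mul, RingHom.id_apply]

theorem shU_apply (a : ℕ) (u : Fin d → F) (k : Fin d) :
    shU d a F u k = if a ≤ k.val then ext0 u (k.val - a) else 0 := rfl

theorem shD_apply (a : ℕ) (v : Fin d → F) (i : Fin d) :
    shD d a F v i = ext0 v (i.val + a) := rfl

theorem ext0_shD (a : ℕ) (v : Fin d → F) (n : ℕ) : ext0 (shD d a F v) n = ext0 v (n + a) := by
  by_cases h : n < d
  · rw [ext0_of_lt _ h, shD_apply]
  · rw [ext0_of_ge _ (by omega), ext0_of_ge _ (by omega)]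

theorem shU_shU (a b : ℕ) (u : Fin d → F) : shU d a F (shU d b F u) = shU d (a + b) F u := by
  funext k
  rw [shU_apply, shU_apply]
  by_cases h : a ≤ k.val
  · rw [if_pos h, ext0_of_lt _ (by have := k.2; omega : k.val - a < d), shU_apply]
    show (if b ≤ k.val - a then ext0 u (k.val - a - b) else 0) = _
    by_cases h' : b ≤ k.val - a
    · rw [if_pos h', if_pos (by omega), Nat.sub_sub]
    · rw [if_neg h', if_neg (by omega)]
  · rw [if_neg h, if_neg (by omega)]

theorem shD_shD (a b : ℕ) (v : Fin d → F) : shD d a F (shD d b F v) = shD d (a + b) F v := by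
  funext i
  rw [shD_apply, ext0_shD, shD_apply]
  congr 1
  ring

theorem shU_eq_zero_of_le {a : ℕ} (h : d ≤ a) (u : Fin d → F) : shU d a F u = 0 := by
  funext k
  rw [shU_apply, if_neg (by have := k.2; omega)]
  rfl

theorem shD_eq_zero_of_le {a : ℕ} (h : d ≤ a) (v : Fin d → F) : shD d a F v = 0 := by
  funext i
  rw [shD_apply, ext0_of_ge _ (by omega)]
  rfl

/-- the standard pairing -/
def dot (u v : Fin d → F) : F := ∑ i, u i * v i

theorem dot_eq_range (u v : Fin d → F) :
    dot u v = ∑ n ∈ Finset.range d, ext0 u n * ext0 v n := by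
  unfold dot
  rw [← Fin.sum_univ_eq_sum_range (fun n => ext0 u n * ext0 v n) d]
  apply Finset.sum_congr rfl
  intro i _
  rw [ext0_val, ext0_val]

/-- adjointness of the two shifts -/
theorem dot_shU (a : ℕ) (u v : Fin d → F) : dot (shU d a F u) v = dot u (shD d a F v) := by
  rw [dot_eq_range, dot_eq_range]
  by_cases had : a ≤ d
  · have h1 : ∑ n ∈ Finset.range d, ext0 (shU d a F u) n * ext0 v n =
        ∑ n ∈ Finset.Ico a d, ext0 u (n - a) * ext0 v n := by
      rw [Finset.range_eq_Ico, ← Finset.sum_Ico_consecutive _ (Nat.zero_le a) had]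
      have h0 : ∑ n ∈ Finset.Ico 0 a, ext0 (shU d a F u) n * ext0 v n = 0 := by
        apply Finset.sum_eq_zero
        intro n hn
        rw [Finset.mem_Ico] at hn
        rw [ext0_of_lt _ (by omega : n < d), shU_apply, if_neg (by simp only; omega), zero_mul]
      rw [h0, zero_add]
      apply Finset.sum_congr rfl
      intro n hn
      rw [Finset.mem_Ico] at hn
      rw [ext0_of_lt _ hn.2, shU_apply, if_pos hn.1]
    have h3 : ∑ n ∈ Finset.range d, ext0 u n * ext0 (shD d a F v) n =
        ∑ n ∈ Finset.range (d - a), ext0 u n * ext0 v (n + a) := by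
      have hle : d - a ≤ d := Nat.sub_le d a
      rw [Finset.range_eq_Ico, ← Finset.sum_Ico_consecutive _ (Nat.zero_le (d - a)) hle]
      have h0 : ∑ n ∈ Finset.Ico (d - a) d, ext0 u n * ext0 (shD d a F v) n = 0 := by
        apply Finset.sum_eq_zero
        intro n hn
        rw [Finset.mem_Ico] at hn
        rw [ext0_shD, ext0_of_ge _ (by omega : d ≤ n + a), mul_zero]
      rw [h0, add_zero, ← Finset.range_eq_Ico]
      apply Finset.sum_congr rfl
      intro n _
      rw [ext0_shD]
    rw [h1, h3, Finset.sum_Ico_eq_sum_range]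
    apply Finset.sum_congr rfl
    intro n _
    rw [Nat.add_sub_cancel_left, add_comm a n]
  · push Not at had
    have h1 : shU d a F u = 0 := shU_eq_zero_of_le had.le u
    have h3 : shD d a F v = 0 := shD_eq_zero_of_le had.le v
    rw [h1, h3]
    simp [ext0]

theorem shU_eq_zero_iff (a : ℕ) (u : Fin d → F) :
    shU d a F u = 0 ↔ ∀ i : Fin d, i.val + a < d → u i = 0 := by
  constructor
  · intro h i hi
    have h1 := congrFun h ⟨i.val + a, hi⟩
    rw [shU_apply, if_pos (by simp), Pi.zero_apply] at h1
    have h3 : (⟨i.val + a, hi⟩ : Fin d).val - a = i.val := by simp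
    rw [h3, ext0_val] at h1
    exact h1
  · intro h
    funext k
    rw [shU_apply, Pi.zero_apply]
    by_cases hk : a ≤ k.val
    · rw [if_pos hk, ext0_of_lt _ (by have := k.2; omega : k.val - a < d)]
      apply h
      show k.val - a + a < d
      have := k.2
      omega
    · rw [if_neg hk]

theorem shU_shD_of (a : ℕ) (u : Fin d → F) (h : ∀ k : Fin d, k.val < a → u k = 0) :
    shU d a F (shD d a F u) = u := by
  funext k
  rw [shU_apply]
  by_cases hk : a ≤ k.val
  · rw [if_pos hk, ext0_shD, Nat.sub_add_cancel hk, ext0_val]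
  · rw [if_neg hk, h k (by omega)]

theorem mem_range_shU_iff (a : ℕ) (u : Fin d → F) :
    u ∈ LinearMap.range (shU d a F) ↔ ∀ k : Fin d, k.val < a → u k = 0 := by
  constructor
  · rintro ⟨u', rfl⟩ k hk
    rw [shU_apply, if_neg (by omega)]
  · intro h
    exact ⟨shD d a F u, shU_shD_of a u h⟩

theorem shD_eq_zero_iff (a : ℕ) (v : Fin d → F) :
    shD d a F v = 0 ↔ ∀ k : Fin d, a ≤ k.val → v k = 0 := by
  constructor
  · intro h k hk
    have h1 := congrFun h ⟨k.val - a, by have := k.2; omega⟩
    rw [shD_apply, Pi.zero_apply] at h1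
    have h3 : (⟨k.val - a, by have := k.2; omega⟩ : Fin d).val + a = k.val := by
      simp only
      omega
    rw [h3, ext0_val] at h1
    exact h1
  · intro h
    funext i
    rw [shD_apply, Pi.zero_apply]
    by_cases hi : i.val + a < d
    · rw [ext0_of_lt _ hi]
      apply h
      show a ≤ i.val + a
      omega
    · rw [ext0_of_ge _ (by omega)]

theorem shD_shU_of (a : ℕ) (v : Fin d → F) (h : ∀ i : Fin d, d ≤ i.val + a → v i = 0) :
    shD d a F (shU d a F v) = v := by
  funext i
  rw [shD_apply]
  by_cases hi : i.val + a < d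
  · rw [ext0_of_lt _ hi, shU_apply, if_pos (by simp)]
    have h3 : (⟨i.val + a, hi⟩ : Fin d).val - a = i.val := by simp
    rw [h3, ext0_val]
  · rw [ext0_of_ge _ (by omega), h i (by omega)]

theorem mem_range_shD_iff (a : ℕ) (v : Fin d → F) :
    v ∈ LinearMap.range (shD d a F) ↔ ∀ i : Fin d, d ≤ i.val + a → v i = 0 := by
  constructor
  · rintro ⟨v', rfl⟩ i hi
    rw [shD_apply, ext0_of_ge _ hi]
  · intro h
    exact ⟨shU d a F v, shD_shU_of a v h⟩

end Cfsg.Agent.Helper94.Tp
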