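import Mathlib
import Cfsg.Agent.Helper94.TpD
import Cfsg.Agent.Helper94.TpF
import Cfsg.Agent.Helper94.TpG

set_option autoImplicit false
set_option linter.unusedSectionVars false
set_option linter.style.haveILetI false

/-!
# Unipotent elements of `Ω⁺_{2d}(q)` without invariant nondegenerate subspaces of a given odd
dimension
-/

namespace Cfsg.Agent.Helper94.Tp

open Module Polynomial Matrix
open Cfsg
open Cfsg.Agent.Helper44 Cfsg.Agent.Helper44.QType
open Cfsg.Agent.Helper59.InvChain Cfsg.Agent.Helper59.Elusive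
open Cfsg.Agent.Helper99.RDecomp Cfsg.Agent.Helper99.SpStruct Cfsg.Agent.Helper99.SpElt
open Cfsg.Agent.Helper94.Ti Cfsg.Agent.Helper94.Ts Cfsg.Agent.Helper94.Tn

universe u

variable {F : Type u} [Field F] {d : ℕ}

/-- the two projections of the split space -/
def pL (d : ℕ) (F : Type u) [Field F] : (Fin d ⊕ Fin d → F) →ₗ[F] (Fin d → F) where
  toFun w := fun j => w (.inl j)
  map_add' _ _ := rfl
  map_smul' _ _ := rfl

def pR (d : ℕ) (F : Type u) [Field F] : (Fin d ⊕ Fin d → F) →ₗ[F] (Fin d → F) where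
  toFun w := fun j => w (.inr j)
  map_add' _ _ := rfl
  map_smul' _ _ := rfl

/-- the two embeddings -/
def iL (d : ℕ) (F : Type u) [Field F] : (Fin d → F) →ₗ[F] (Fin d ⊕ Fin d → F) where
  toFun u := Sum.elim u 0
  map_add' u v := by funext k; rcases k with i | i <;> simp
  map_smul' c u := by funext k; rcases k with i | i <;> simp

def iR (d : ℕ) (F : Type u) [Field F] : (Fin d → F) →ₗ[F] (Fin d ⊕ Fin d → F) where
  toFun u := Sum.elim 0 u
  map_add' u v := by funext k; rcases k with i | i <;> simp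
  map_smul' c u := by funext k; rcases k with i | i <;> simp

theorem pL_apply (w : Fin d ⊕ Fin d → F) (j : Fin d) : pL d F w j = w (.inl j) := rfl
theorem pR_apply (w : Fin d ⊕ Fin d → F) (j : Fin d) : pR d F w j = w (.inr j) := rfl
theorem iL_inl (u : Fin d → F) (j : Fin d) : iL d F u (.inl j) = u j := rfl
theorem iL_inr (u : Fin d → F) (j : Fin d) : iL d F u (.inr j) = 0 := rfl
theorem iR_inl (u : Fin d → F) (j : Fin d) : iR d F u (.inl j) = 0 := rfl
theorem iR_inr (u : Fin d → F) (j : Fin d) : iR d F u (.inr j) = u j := rfl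

theorem pL_iL (u : Fin d → F) : pL d F (iL d F u) = u := rfl
theorem pR_iL (u : Fin d → F) : pR d F (iL d F u) = 0 := rfl
theorem pL_iR (u : Fin d → F) : pL d F (iR d F u) = 0 := rfl
theorem pR_iR (u : Fin d → F) : pR d F (iR d F u) = u := rfl

theorem iL_add_iR (w : Fin d ⊕ Fin d → F) : iL d F (pL d F w) + iR d F (pR d F w) = w := by
  funext k
  rcases k with i | i
  · rw [Pi.add_apply, iL_inl, iR_inl, add_zero, pL_apply]
  · rw [Pi.add_apply, iL_inr, iR_inr, zero_add, pR_apply]

/-- block-diagonal endomorphisms of the split space -/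
def lv (G H : Module.End F (Fin d → F)) : Module.End F (Fin d ⊕ Fin d → F) :=
  (iL d F).comp (G.comp (pL d F)) + (iR d F).comp (H.comp (pR d F))

theorem pL_lv (G H : Module.End F (Fin d → F)) (w : Fin d ⊕ Fin d → F) :
    pL d F (lv G H w) = G (pL d F w) := by
  unfold lv
  rw [LinearMap.add_apply, map_add, LinearMap.comp_apply, LinearMap.comp_apply,
    LinearMap.comp_apply, LinearMap.comp_apply, pL_iL, pL_iR, add_zero]

theorem pR_lv (G H : Module.End F (Fin d → F)) (w : Fin d ⊕ Fin d → F) :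
    pR d F (lv G H w) = H (pR d F w) := by
  unfold lv
  rw [LinearMap.add_apply, map_add, LinearMap.comp_apply, LinearMap.comp_apply,
    LinearMap.comp_apply, LinearMap.comp_apply, pR_iL, pR_iR, zero_add]

theorem ext_pL_pR {w w' : Fin d ⊕ Fin d → F} (h1 : pL d F w = pL d F w')
    (h3 : pR d F w = pR d F w') : w = w' := by
  rw [← iL_add_iR w, ← iL_add_iR w', h1, h3]

theorem lv_mul (G H G' H' : Module.End F (Fin d → F)) :
    lv G H * lv G' H' = lv (G * G') (H * H') := by
  apply LinearMap.ext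
  intro w
  apply ext_pL_pR
  · rw [Module.End.mul_apply, pL_lv, pL_lv, pL_lv, Module.End.mul_apply]
  · rw [Module.End.mul_apply, pR_lv, pR_lv, pR_lv, Module.End.mul_apply]

theorem lv_eq_zero_iff (G H : Module.End F (Fin d → F)) (w : Fin d ⊕ Fin d → F) :
    lv G H w = 0 ↔ G (pL d F w) = 0 ∧ H (pR d F w) = 0 := by
  constructor
  · intro h
    refine ⟨?_, ?_⟩
    · rw [← pL_lv G H, h, map_zero]
    · rw [← pR_lv G H, h, map_zero]
  · rintro ⟨h1, h3⟩
    apply ext_pL_pR
    · rw [pL_lv, h1, map_zero]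
    · rw [pR_lv, h3, map_zero]

theorem mem_range_lv_iff (G H : Module.End F (Fin d → F)) (w : Fin d ⊕ Fin d → F) :
    w ∈ LinearMap.range (lv G H) ↔
      pL d F w ∈ LinearMap.range G ∧ pR d F w ∈ LinearMap.range H := by
  constructor
  · rintro ⟨w', rfl⟩
    exact ⟨⟨pL d F w', (pL_lv G H w').symm⟩, ⟨pR d F w', (pR_lv G H w').symm⟩⟩
  · rintro ⟨⟨u', hu'⟩, ⟨v', hv'⟩⟩
    refine ⟨iL d F u' + iR d F v', ?_⟩
    apply ext_pL_pR
    · rw [pL_lv, map_add, pL_iL, pL_iR, add_zero, hu']
    · rw [pR_lv, map_add, pR_iL, pR_iR, zero_add, hv']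

theorem quadFormPlus_eq_dot (w : Fin d ⊕ Fin d → F) :
    Cfsg.quadFormPlus d F w = dot (pL d F w) (pR d F w) := rfl

/-- `1 + lv G H` is an isometry when `1 + G` and `1 + H` are adjoint-inverse -/
theorem lv_iso {G H : Module.End F (Fin d → F)}
    (hGH : ∀ u v, dot (u + G u) (v + H v) = dot u v) (w : Fin d ⊕ Fin d → F) :
    Cfsg.quadFormPlus d F ((1 + lv G H) w) = Cfsg.quadFormPlus d F w := by
  rw [quadFormPlus_eq_dot, quadFormPlus_eq_dot, LinearMap.add_apply, Module.End.one_apply,
    map_add, map_add, pL_lv, pR_lv]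
  exact hGH _ _

theorem dot_eq (u v : Fin d → F) : dot u v = u ⬝ᵥ v := rfl

section group

variable [Fintype F] {p : ℕ} [Fact p.Prime] [CharP F p]

/-- a unipotent element of `Ω⁺` from a nilpotent block-diagonal endomorphism -/
theorem exists_unip_of_lv (h2 : (2 : F) ≠ 0) (hd : 0 < d) {G H : Module.End F (Fin d → F)}
    (hGH : ∀ u v, dot (u + G u) (v + H v) = dot u v)
    (hN3 : (lv G H) ^ 3 = 0) (hne : lv G H ≠ 0) :
    ∃ y : ↥(Cfsg.isometryGroup F ⇑(plusForm d F)), y ∈ Cfsg.Omega F ⇑(plusForm d F) ∧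
      orderOf y = p ∧
      Matrix.toLin' ((y : GL (Fin d ⊕ Fin d) F) : Matrix (Fin d ⊕ Fin d) (Fin d ⊕ Fin d) F) =
        1 + lv G H := by
  classical
  haveI : Nonempty (Fin d ⊕ Fin d) := ⟨.inl ⟨0, hd⟩⟩
  have hp : p.Prime := Fact.out
  have hp2 : p ≠ 2 := by
    intro h
    apply h2
    have := CharP.cast_eq_zero F p
    rw [h] at this
    exact_mod_cast this
  have hp3 : 3 ≤ p := by
    have := hp.two_le
    omega
  have hpodd : Odd p := hp.odd_of_ne_two hp2
  set x : Module.End F (Fin d ⊕ Fin d → F) := 1 + lv G H with hx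
  have hiso : ∀ v, plusForm d F (x v) = plusForm d F v := lv_iso hGH
  have hxp : x ^ p = 1 := by
    have : CharP (Module.End F (Fin d ⊕ Fin d → F)) p :=
      charP_of_injective_algebraMap' (A := Module.End F (Fin d ⊕ Fin d → F)) F p
    rw [hx, add_pow_char_of_commute _ (Commute.one_left (lv G H)), one_pow]
    have : (lv G H) ^ p = 0 := by
      rw [← Nat.sub_add_cancel hp3, pow_add, hN3, mul_zero]
    rw [this, add_zero]
  obtain ⟨y, hy⟩ := exists_isom_elt (plusForm d F) pB_nondeg x hiso
  have hylin : Matrix.toLin' ((y : GL (Fin d ⊕ Fin d) F) :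
      Matrix (Fin d ⊕ Fin d) (Fin d ⊕ Fin d) F) = x := by
    apply LinearMap.ext
    intro v
    rw [Matrix.toLin'_apply]
    exact hy v
  have hyp : y ^ p = 1 := by
    apply Subtype.ext
    apply Units.ext
    apply Matrix.toLin'.injective
    rw [Subgroup.coe_pow, Units.val_pow_eq_pow_val, Matrix.toLin'_pow, hylin, hxp]
    show (1 : Module.End F (Fin d ⊕ Fin d → F)) = Matrix.toLin' 1
    rw [Matrix.toLin'_one]
    rfl
  have hy1 : y ≠ 1 := by
    intro h1
    have h3 : Matrix.toLin' ((y : GL (Fin d ⊕ Fin d) F) :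
      Matrix (Fin d ⊕ Fin d) (Fin d ⊕ Fin d) F) = 1 := by
      rw [h1]
      show Matrix.toLin' 1 = (1 : Module.End F (Fin d ⊕ Fin d → F))
      rw [Matrix.toLin'_one]
      rfl
    rw [hylin, hx] at h3
    apply hne
    have := congrArg (fun z => z - 1) h3
    simpa using this
  have hyΩ : y ∈ Cfsg.Omega F ⇑(plusForm d F) :=
    mem_Omega_of_odd_order' (plusForm d F) h2 pB_nondeg y hpodd hyp
  exact ⟨y, hyΩ, orderOf_eq_prime hyp hy1, hylin⟩

end group

section t12

/-- the nilpotent part of the elements of type `2^d` and `2^(d-1) 1^2` -/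
def nA (d a : ℕ) (F : Type u) [Field F] : Module.End F (Fin d ⊕ Fin d → F) :=
  lv (shU d a F) (-shD d a F)

theorem nA_hGH {a : ℕ} (h : d ≤ 2 * a) (u v : Fin d → F) :
    dot (u + shU d a F u) (v + (-shD d a F) v) = dot u v := by
  rw [LinearMap.neg_apply, dot_eq, dot_eq]
  have h1 : shU d a F u ⬝ᵥ v = u ⬝ᵥ shD d a F v := dot_shU a u v
  have h3 : shU d a F u ⬝ᵥ shD d a F v = 0 := by
    have := dot_shU a u (shD d a F v)
    rw [dot_eq, dot_eq, shD_shD, shD_eq_zero_of_le (a := a + a) (by omega)] at this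
    rw [this, dotProduct_zero]
  rw [add_dotProduct, dotProduct_add, dotProduct_add, dotProduct_neg, dotProduct_neg, h1, h3]
  ring

theorem nA_sq {a : ℕ} (h : d ≤ 2 * a) : nA d a F * nA d a F = 0 := by
  unfold nA
  rw [lv_mul]
  have h1 : shU d a F * shU d a F = 0 := by
    apply LinearMap.ext
    intro u
    rw [Module.End.mul_apply, shU_shU, shU_eq_zero_of_le (by omega)]
    rfl
  have h3 : (-shD d a F) * (-shD d a F) = 0 := by
    apply LinearMap.ext
    intro u
    rw [Module.End.mul_apply, LinearMap.neg_apply, LinearMap.neg_apply, map_neg, neg_neg, shD_shD,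
      shD_eq_zero_of_le (by omega)]
    rfl
  rw [h1, h3]
  apply LinearMap.ext
  intro w
  rw [(lv_eq_zero_iff _ _ w).mpr ⟨rfl, rfl⟩]
  rfl

theorem nA_pow_three {a : ℕ} (h : d ≤ 2 * a) : (nA d a F) ^ 3 = 0 := by
  rw [pow_succ, pow_two, nA_sq h, zero_mul]

theorem mem_ker_nA_iff (a : ℕ) (w : Fin d ⊕ Fin d → F) :
    w ∈ LinearMap.ker (nA d a F) ↔
      (∀ i : Fin d, i.val + a < d → w (.inl i) = 0) ∧
        (∀ k : Fin d, a ≤ k.val → w (.inr k) = 0) := by
  rw [LinearMap.mem_ker]
  unfold nA
  rw [lv_eq_zero_iff, shU_eq_zero_iff, LinearMap.neg_apply, neg_eq_zero, shD_eq_zero_iff]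
  rfl

theorem mem_range_nA_iff (a : ℕ) (w : Fin d ⊕ Fin d → F) :
    w ∈ LinearMap.range (nA d a F) ↔
      (∀ k : Fin d, k.val < a → w (.inl k) = 0) ∧
        (∀ i : Fin d, d ≤ i.val + a → w (.inr i) = 0) := by
  unfold nA
  rw [mem_range_lv_iff, LinearMap.range_neg, mem_range_shU_iff, mem_range_shD_iff]
  rfl

theorem nA_ne_zero {a : ℕ} (ha : a < d) : nA d a F ≠ 0 := by
  intro h
  have h1 : iL d F (Pi.single (⟨0, by omega⟩ : Fin d) (1 : F)) ∈ LinearMap.ker (nA d a F) := by
    rw [h]; simp
  rw [mem_ker_nA_iff] at h1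
  have := h1.1 ⟨0, by omega⟩ (by simp only; omega)
  rw [iL_inl, Pi.single_eq_same] at this
  exact one_ne_zero this

/-- type `2^d` (`d` even) -/
theorem ker_nA_eq_range {a : ℕ} (h : d = 2 * a) :
    LinearMap.ker (nA d a F) = LinearMap.range (nA d a F) := by
  ext w
  rw [mem_ker_nA_iff, mem_range_nA_iff]
  constructor
  · rintro ⟨h1, h3⟩
    exact ⟨fun k hk => h1 k (by omega), fun i hi => h3 i (by omega)⟩
  · rintro ⟨h1, h3⟩
    exact ⟨fun k hk => h1 k (by omega), fun i hi => h3 i (by omega)⟩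

/-- type `2^(d-1) 1^2` (`d` odd) -/
theorem range_nA_le_ker {a : ℕ} (h : d ≤ 2 * a) :
    LinearMap.range (nA d a F) ≤ LinearMap.ker (nA d a F) := by
  rintro _ ⟨w, rfl⟩
  rw [LinearMap.mem_ker, ← Module.End.mul_apply, nA_sq h]
  rfl

theorem finrank_ker_nA_le [Fintype F] {a : ℕ} (h : d + 1 = 2 * a) :
    finrank F ↥(LinearMap.ker (nA d a F)) ≤ finrank F ↥(LinearMap.range (nA d a F)) + 2 := by
  classical
  have ha : a - 1 < d := by omega
  set j : Fin d := ⟨a - 1, ha⟩ with hj
  set a₁ : Fin d ⊕ Fin d → F := iL d F (Pi.single j 1) with ha₁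
  set a₂ : Fin d ⊕ Fin d → F := iR d F (Pi.single j 1) with ha₂
  have hle : LinearMap.ker (nA d a F) ≤
      (LinearMap.range (nA d a F) ⊔ Submodule.span F {a₁}) ⊔ Submodule.span F {a₂} := by
    intro w hw
    rw [mem_ker_nA_iff] at hw
    obtain ⟨h1, h3⟩ := hw
    have hmem : w - w (.inl j) • a₁ - w (.inr j) • a₂ ∈ LinearMap.range (nA d a F) := by
      rw [mem_range_nA_iff]
      constructor
      · intro k hk
        simp only [Pi.sub_apply, Pi.smul_apply, smul_eq_mul, ha₁, ha₂, iL_inl, iR_inl, mul_zero,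
          sub_zero]
        by_cases hkj : k = j
        · rw [hkj, Pi.single_eq_same, mul_one, sub_self]
        · rw [Pi.single_eq_of_ne hkj, mul_zero, sub_zero]
          apply h1 k
          have : k.val ≠ a - 1 := fun h' => hkj (Fin.ext h')
          omega
      · intro i hi
        simp only [Pi.sub_apply, Pi.smul_apply, smul_eq_mul, ha₁, ha₂, iL_inr, iR_inr, mul_zero,
          sub_zero]
        by_cases hij : i = j
        · rw [hij, Pi.single_eq_same, mul_one, sub_self]
        · rw [Pi.single_eq_of_ne hij, mul_zero, sub_zero]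
          apply h3 i
          have : i.val ≠ a - 1 := fun h' => hij (Fin.ext h')
          omega
    have hw' : w = (w - w (.inl j) • a₁ - w (.inr j) • a₂) + w (.inl j) • a₁ + w (.inr j) • a₂ := by
      abel
    rw [hw']
    apply Submodule.add_mem
    · apply Submodule.mem_sup_left
      apply Submodule.add_mem
      · exact Submodule.mem_sup_left hmem
      · exact Submodule.mem_sup_right
          (Submodule.smul_mem _ _ (Submodule.mem_span_singleton_self _))
    · exact Submodule.mem_sup_right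
        (Submodule.smul_mem _ _ (Submodule.mem_span_singleton_self _))
  have h4 := Submodule.finrank_mono hle
  have h5 := Submodule.finrank_add_le_finrank_add_finrank
    (LinearMap.range (nA d a F) ⊔ Submodule.span F {a₁}) (Submodule.span F {a₂})
  have h6 := Submodule.finrank_add_le_finrank_add_finrank
    (LinearMap.range (nA d a F)) (Submodule.span F {a₁})
  have h7 : finrank F ↥(Submodule.span F {a₁}) ≤ 1 := by
    have := finrank_span_le_card (R := F) ({a₁} : Set (Fin d ⊕ Fin d → F))
    simpa using this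
  have h8 : finrank F ↥(Submodule.span F {a₂}) ≤ 1 := by
    have := finrank_span_le_card (R := F) ({a₂} : Set (Fin d ⊕ Fin d → F))
    simpa using this
  omega

end t12

section t3

/-- the second block of the element of type `3^2 2^(d-3)` -/
def hC (d a : ℕ) (F : Type u) [Field F] : Module.End F (Fin d → F) :=
  -shD d a F + shD d a F * shD d a F

theorem hC_apply (a : ℕ) (v : Fin d → F) :
    hC d a F v = -shD d a F v + shD d (a + a) F v := by
  unfold hC
  rw [LinearMap.add_apply, LinearMap.neg_apply, Module.End.mul_apply, shD_shD]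

/-- the nilpotent part of the element of type `3^2 2^(d-3)` -/
def nC (d a : ℕ) (F : Type u) [Field F] : Module.End F (Fin d ⊕ Fin d → F) :=
  lv (shU d a F) (hC d a F)

theorem shD_a_aa {a : ℕ} (h : d ≤ 3 * a) (v : Fin d → F) :
    shD d a F (shD d (a + a) F v) = 0 := by
  rw [shD_shD]; exact shD_eq_zero_of_le (by omega) v

theorem shD_aa_a {a : ℕ} (h : d ≤ 3 * a) (v : Fin d → F) :
    shD d (a + a) F (shD d a F v) = 0 := by
  rw [shD_shD]; exact shD_eq_zero_of_le (by omega) v

theorem shD_aa_aa {a : ℕ} (h : d ≤ 3 * a) (v : Fin d → F) :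
    shD d (a + a) F (shD d (a + a) F v) = 0 := by
  rw [shD_shD]; exact shD_eq_zero_of_le (by omega) v

theorem hC_hC {a : ℕ} (h : d ≤ 3 * a) (v : Fin d → F) :
    hC d a F (hC d a F v) = shD d (a + a) F v := by
  simp only [hC_apply, map_add, map_neg, shD_shD a a, shD_a_aa h, shD_aa_a h, shD_aa_aa h]
  simp

theorem nC_hGH {a : ℕ} (h : d ≤ 3 * a) (u v : Fin d → F) :
    dot (u + shU d a F u) (v + hC d a F v) = dot u v := by
  rw [dot_eq, dot_eq, add_dotProduct]
  have h1 : shU d a F u ⬝ᵥ (v + hC d a F v) = u ⬝ᵥ shD d a F (v + hC d a F v) :=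
    dot_shU a u _
  rw [h1, ← dotProduct_add]
  congr 1
  simp only [hC_apply, map_add, map_neg, shD_shD a a, shD_a_aa h]
  abel

theorem nC_sq {a : ℕ} (h : d ≤ 3 * a) :
    nC d a F * nC d a F = lv (shU d (a + a) F) (shD d (a + a) F) := by
  unfold nC
  rw [lv_mul]
  congr 1
  · apply LinearMap.ext
    intro u
    rw [Module.End.mul_apply, shU_shU]
  · apply LinearMap.ext
    intro v
    rw [Module.End.mul_apply, hC_hC h]

theorem nC_pow_three {a : ℕ} (h : d ≤ 3 * a) : (nC d a F) ^ 3 = 0 := by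
  rw [pow_succ, pow_two, nC_sq h]
  unfold nC
  rw [lv_mul]
  apply LinearMap.ext
  intro w
  rw [LinearMap.zero_apply, lv_eq_zero_iff]
  constructor
  · rw [Module.End.mul_apply, shU_shU, shU_eq_zero_of_le (by omega)]
  · rw [Module.End.mul_apply]
    simp only [hC_apply, map_add, map_neg, shD_aa_a h, shD_aa_aa h]
    simp

theorem hC_eq_zero_iff {a : ℕ} (h : d ≤ 3 * a) (v : Fin d → F) :
    hC d a F v = 0 ↔ shD d a F v = 0 := by
  constructor
  · intro h0
    rw [hC_apply, neg_add_eq_zero] at h0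
    -- `M' v = M' M' v`, hence `M' v = M' (M' M' v) = 0`
    have h1 : shD d a F v = shD d a F (shD d a F v) := by rw [shD_shD]; exact h0
    rw [h1, h0, shD_a_aa h]
  · intro h0
    rw [hC_apply, ← shD_shD, h0, map_zero, neg_zero, add_zero]

theorem range_shD_le_range_hC {a : ℕ} (h : d ≤ 3 * a) :
    LinearMap.range (shD d a F) ≤ LinearMap.range (hC d a F) := by
  rintro _ ⟨v', rfl⟩
  refine ⟨-(v' + shD d a F v' + shD d (a + a) F v'), ?_⟩
  simp only [hC_apply, map_add, map_neg, shD_shD a a, shD_a_aa h, shD_aa_a h, shD_aa_aa h]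
  abel

/-- type `3^2 2^(d-3)`: the kernel lies in the image -/
theorem ker_nC_le_range {a : ℕ} (h : d = 2 * a + 1) (ha : 1 ≤ a) :
    LinearMap.ker (nC d a F) ≤ LinearMap.range (nC d a F) := by
  intro w hw
  rw [LinearMap.mem_ker] at hw
  unfold nC at hw ⊢
  rw [lv_eq_zero_iff, hC_eq_zero_iff (by omega), shU_eq_zero_iff, shD_eq_zero_iff] at hw
  obtain ⟨h1, h3⟩ := hw
  rw [mem_range_lv_iff]
  constructor
  · rw [mem_range_shU_iff]
    intro k hk
    exact h1 k (by omega)
  · apply range_shD_le_range_hC (by omega)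
    rw [mem_range_shD_iff]
    intro i hi
    exact h3 i (by omega)

theorem nC_ne_zero {a : ℕ} (ha : a < d) : nC d a F ≠ 0 := by
  classical
  intro h
  have h1 : nC d a F (iL d F (Pi.single (⟨0, by omega⟩ : Fin d) (1 : F))) = 0 := by
    rw [h]; rfl
  unfold nC at h1
  rw [lv_eq_zero_iff, pL_iL, shU_eq_zero_iff] at h1
  have := h1.1 ⟨0, by omega⟩ (by simp only; omega)
  rw [Pi.single_eq_same] at this
  exact one_ne_zero this

/-- type `3^2 2^(d-3)`: the square of the nilpotent part has rank at most two -/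
theorem finrank_range_nC_sq_le [Fintype F] {a : ℕ} (h : d = 2 * a + 1) (ha : 1 ≤ a) :
    finrank F ↥(LinearMap.range (nC d a F * nC d a F)) ≤ 2 := by
  classical
  have h0 : 0 < d := by omega
  have hl : a + a < d := by omega
  set j0 : Fin d := ⟨0, h0⟩ with hj0
  set jl : Fin d := ⟨a + a, hl⟩ with hjl
  set b₁ : Fin d ⊕ Fin d → F := iL d F (Pi.single jl 1) with hb₁
  set b₂ : Fin d ⊕ Fin d → F := iR d F (Pi.single j0 1) with hb₂
  have hle : LinearMap.range (nC d a F * nC d a F) ≤
      Submodule.span F {b₁} ⊔ Submodule.span F {b₂} := by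
    rintro _ ⟨w, rfl⟩
    rw [nC_sq (by omega)]
    have hw : lv (shU d (a + a) F) (shD d (a + a) F) w =
        w (.inl j0) • b₁ + w (.inr jl) • b₂ := by
      apply ext_pL_pR
      · rw [pL_lv, map_add, map_smul, map_smul, hb₁, hb₂, pL_iL, pL_iR, smul_zero, add_zero]
        funext k
        rw [shU_apply, Pi.smul_apply, smul_eq_mul]
        by_cases hk : k = jl
        · rw [hk, Pi.single_eq_same, mul_one, if_pos (le_refl _)]
          have : jl.val - (a + a) = 0 := by simp [hjl]
          rw [this, ext0_of_lt _ h0]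
          rfl
        · rw [Pi.single_eq_of_ne hk, mul_zero, if_neg]
          intro hk'
          apply hk
          apply Fin.ext
          have := k.2
          show k.val = a + a
          omega
      · rw [pR_lv, map_add, map_smul, map_smul, hb₁, hb₂, pR_iL, pR_iR, smul_zero, zero_add]
        funext i
        rw [shD_apply, Pi.smul_apply, smul_eq_mul]
        by_cases hi : i = j0
        · rw [hi, Pi.single_eq_same, mul_one]
          have : j0.val + (a + a) = a + a := by simp [hj0]
          rw [this, ext0_of_lt _ hl]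
          rfl
        · rw [Pi.single_eq_of_ne hi, mul_zero, ext0_of_ge]
          have : i.val ≠ 0 := fun h' => hi (Fin.ext h')
          omega
    rw [hw]
    apply Submodule.add_mem
    · exact Submodule.mem_sup_left (Submodule.smul_mem _ _ (Submodule.mem_span_singleton_self _))
    · exact Submodule.mem_sup_right (Submodule.smul_mem _ _ (Submodule.mem_span_singleton_self _))
  have h4 := Submodule.finrank_mono hle
  have h5 := Submodule.finrank_add_le_finrank_add_finrank
    (Submodule.span F {b₁}) (Submodule.span F {b₂})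
  have h7 : finrank F ↥(Submodule.span F {b₁}) ≤ 1 := by
    have := finrank_span_le_card (R := F) ({b₁} : Set (Fin d ⊕ Fin d → F))
    simpa using this
  have h8 : finrank F ↥(Submodule.span F {b₂}) ≤ 1 := by
    have := finrank_span_le_card (R := F) ({b₂} : Set (Fin d ⊕ Fin d → F))
    simpa using this
  omega

end t3

section witness

variable [Fintype F] {p : ℕ} [Fact p.Prime] [CharP F p]

/-- an element of order `p` of `Ω⁺_{2d}(q)` without invariant nondegenerate subspaces of a given
odd dimension `m < d` -/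
theorem exists_unip_witness (h2 : (2 : F) ≠ 0) (hd : 4 ≤ d) {m : ℕ} (hm : Odd m) (hmd : m < d) :
    ∃ y : ↥(Cfsg.isometryGroup F ⇑(plusForm d F)), y ∈ Cfsg.Omega F ⇑(plusForm d F) ∧
      orderOf y = p ∧
      ∀ W : Submodule F (Fin d ⊕ Fin d → F), Nd (qB (plusForm d F)) W → finrank F ↥W = m →
        Inv (Matrix.toLin' ((y : GL (Fin d ⊕ Fin d) F) :
          Matrix (Fin d ⊕ Fin d) (Fin d ⊕ Fin d) F)) W → False := by
  have hsymm := qB_symm (plusForm d F)
  have hnd : (qB (plusForm d F)).Nondegenerate := pB_nondeg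
  rcases Nat.even_or_odd d with ⟨a, ha⟩ | ⟨a, ha⟩
  · -- type `2^d`
    have ha' : d = 2 * a := by omega
    obtain ⟨y, hyΩ, hyord, hylin⟩ := exists_unip_of_lv (p := p) h2 (by omega)
      (nA_hGH (F := F) (d := d) (a := a) (by omega)) (nA_pow_three (by omega))
      (nA_ne_zero (by omega))
    refine ⟨y, hyΩ, hyord, fun W hWnd hWdim hWinv => ?_⟩
    have hx := qB_isom (plusForm d F) (toLin_iso y)
    rw [hylin] at hx hWinv
    have hsub : (1 + lv (shU d a F) (-shD d a F)) - 1 = nA d a F := add_sub_cancel_left 1 _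
    have hev := even_of_ker_eq_range hsymm hnd hx (by rw [hsub]; exact ker_nA_eq_range ha')
      hWinv hWnd
    rw [hWdim] at hev
    exact (Nat.not_even_iff_odd.mpr hm) hev
  · by_cases hm4 : m % 4 = 1
    · -- type `3^2 2^(d-3)`
      obtain ⟨y, hyΩ, hyord, hylin⟩ := exists_unip_of_lv (p := p) h2 (by omega)
        (nC_hGH (F := F) (d := d) (a := a) (by omega)) (nC_pow_three (by omega))
        (nC_ne_zero (by omega))
      refine ⟨y, hyΩ, hyord, fun W hWnd hWdim hWinv => ?_⟩
      have hx := qB_isom (plusForm d F) (toLin_iso y)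
      rw [hylin] at hx hWinv
      have hsub : (1 + lv (shU d a F) (hC d a F)) - 1 = nC d a F := add_sub_cancel_left 1 _
      have h3 := mod_four_of_ker_le_range hsymm hnd h2 hx
        (by rw [hsub]; exact nC_pow_three (by omega))
        (by rw [hsub]; exact ker_nC_le_range ha (by omega))
        (by rw [hsub]; exact finrank_range_nC_sq_le ha (by omega))
        hWinv hWnd (by rw [hWdim]; exact hm)
      rw [hWdim] at h3
      omega
    · -- type `2^(d-1) 1^2`
      obtain ⟨y, hyΩ, hyord, hylin⟩ := exists_unip_of_lv (p := p) h2 (by omega)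
        (nA_hGH (F := F) (d := d) (a := a + 1) (by omega)) (nA_pow_three (by omega))
        (nA_ne_zero (by omega))
      refine ⟨y, hyΩ, hyord, fun W hWnd hWdim hWinv => ?_⟩
      have hx := qB_isom (plusForm d F) (toLin_iso y)
      rw [hylin] at hx hWinv
      have hsub : (1 + lv (shU d (a + 1) F) (-shD d (a + 1) F)) - 1 = nA d (a + 1) F :=
        add_sub_cancel_left 1 _
      have h3 := mod_four_of_sq_zero hsymm hnd h2 hx
        (by rw [hsub]; exact range_nA_le_ker (by omega))
        (by rw [hsub]; exact finrank_ker_nA_le (by omega))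
        hWinv hWnd (by rw [hWdim]; exact hm)
      rw [hWdim] at h3
      exact hm4 h3

end witness

end Cfsg.Agent.Helper94.Tp
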