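import Mathlib
import Cfsg.Agent.Helper94.TpI
import Cfsg.Agent.Helper94.TpF

set_option autoImplicit false
set_option linter.unusedSectionVars false
set_option linter.style.haveILetI false

/-!
# Odd-dimensional nondegenerate subspaces: the class of a splitting, and unipotent isometries of
type `(3, 2^(d-2), 1)`
-/

namespace Cfsg.Agent.Helper94.Tp

open Module Polynomial Matrix
open Cfsg
open Cfsg.Agent.Helper44 Cfsg.Agent.Helper44.QType
open Cfsg.Agent.Helper59.InvChain Cfsg.Agent.Helper59.Elusive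
open Cfsg.Agent.Helper99.RDecomp Cfsg.Agent.Helper99.SpStruct Cfsg.Agent.Helper99.SpElt
open Cfsg.Agent.Helper94.Ti Cfsg.Agent.Helper94.Ts Cfsg.Agent.Helper94.Tn

universe u v

section abstractK

variable {F : Type u} [Field F] [Fintype F]
variable {V : Type v} [AddCommGroup V] [Module F V] [FiniteDimensional F V]
variable {B : LinearMap.BilinForm F V}

/-- the type of a subspace is an isometry invariant -/
theorem Iso.sType {W W' : Submodule F V} (h : Iso B W W') {e : ℕ} {ε : ℤ}
    (hT : SType B W e ε) : SType B W' e ε := by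
  obtain ⟨g, hg⟩ := h
  unfold SType HasType at hT ⊢
  rw [← fc_congr (⇑(qOf B W)) (⇑(qOf B W')) g.toEquiv (fun v => by
    show qOf B W' (g v) = qOf B W v
    rw [qOf_apply, qOf_apply, hg]) 0]
  exact hT

theorem orth_span_of_mem_orthogonal {H : Submodule F V} {u : V} (hu : u ∈ B.orthogonal H) :
    Orth B H (Submodule.span F {u}) := by
  intro h hh s hs
  obtain ⟨c, rfl⟩ := Submodule.mem_span_singleton.mp hs
  rw [map_smul, smul_eq_mul]
  have : B h u = 0 := (LinearMap.BilinForm.mem_orthogonal_iff.mp hu) h hh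
  rw [this, mul_zero]

theorem orth_span_span {u a : V} (hua : B u a = 0) :
    Orth B (Submodule.span F {u}) (Submodule.span F {a}) := by
  intro s hs s' hs'
  obtain ⟨c, rfl⟩ := Submodule.mem_span_singleton.mp hs
  obtain ⟨c', rfl⟩ := Submodule.mem_span_singleton.mp hs'
  rw [map_smul, map_smul, LinearMap.smul_apply, hua, smul_zero, smul_zero]

/-- two orthogonal nonsingular vectors span a nondegenerate plane -/
theorem nd_pair (hB : B.IsSymm) {u a : V} (hu : B u u ≠ 0) (ha : B a a ≠ 0) (hua : B u a = 0) :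
    Nd B (Submodule.span F {u} ⊔ Submodule.span F {a}) ∧
      finrank F ↥(Submodule.span F {u} ⊔ Submodule.span F {a}) = 2 := by
  have horth := orth_span_span (F := F) (B := B) hua
  refine ⟨(nd_span_singleton hu).sup hB.isRefl (nd_span_singleton ha) horth, ?_⟩
  rw [finrank_sup_of_disjoint (horth.disjoint (nd_span_singleton hu)),
    finrank_span_singleton (ne_zero_of_norm_ne hu), finrank_span_singleton (ne_zero_of_norm_ne ha)]

theorem nd_orthogonal (hB : B.IsSymm) (hnd : B.Nondegenerate) {W : Submodule F V} (hW : Nd B W) :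
    Nd B (B.orthogonal W) := by
  have := hW.inf_orth hB.isRefl le_top (nd_top_of_nondeg' hnd)
  rwa [top_inf_eq] at this

theorem finrank_orthogonal_add (hB : B.IsSymm) {W : Submodule F V}
    (hW : Nd B W) : finrank F ↥W + finrank F ↥(B.orthogonal W) = finrank F V := by
  have := hW.finrank_inf_orth hB.isRefl (le_top : W ≤ ⊤)
  rw [top_inf_eq, finrank_top] at this
  exact this

/-- a hyperbolic space plus a nonsingular line -/
theorem nd_hyp_line (hB : B.IsSymm) {H : Submodule F V} {u : V} (hH : Nd B H)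
    (hu : u ∈ B.orthogonal H) (huu : B u u ≠ 0) {t : ℕ} (hHdim : finrank F ↥H = 2 * t) :
    Nd B (H ⊔ Submodule.span F {u}) ∧ finrank F ↥(H ⊔ Submodule.span F {u}) = 2 * t + 1 := by
  have horth := orth_span_of_mem_orthogonal (F := F) (B := B) hu
  refine ⟨hH.sup hB.isRefl (nd_span_singleton huu) horth, ?_⟩
  rw [finrank_sup_of_disjoint (horth.disjoint hH), hHdim,
    finrank_span_singleton (ne_zero_of_norm_ne huu)]

/-- adding to `H ⊥ ⟨u⟩` (`H` hyperbolic) a vector `a` orthogonal to it with `B a a = - B u u`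
gives a hyperbolic space -/
theorem sType_hyp_line_add (hB : B.IsSymm) (h2 : (2 : F) ≠ 0) (hnd : B.Nondegenerate)
    {H : Submodule F V} {u a : V} (hH : Nd B H) {t : ℕ} (hHdim : finrank F ↥H = 2 * t)
    (hHh : Hyp B H) (hu : u ∈ B.orthogonal H) (huu : B u u ≠ 0)
    (ha : a ∈ B.orthogonal (H ⊔ Submodule.span F {u})) (haa : B a a = - B u u) :
    SType B ((H ⊔ Submodule.span F {u}) ⊔ Submodule.span F {a}) (t + 1) 1 := by
  have hua : B u a = 0 := by
    have := (LinearMap.BilinForm.mem_orthogonal_iff.mp ha) u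
      (Submodule.mem_sup_right (Submodule.mem_span_singleton_self u))
    exact this
  have haH : a ∈ B.orthogonal H := by
    rw [LinearMap.BilinForm.mem_orthogonal_iff]
    intro n hn
    exact (LinearMap.BilinForm.mem_orthogonal_iff.mp ha) n (Submodule.mem_sup_left hn)
  obtain ⟨hPnd, hPdim, hPh⟩ := hyp_plane_of_pair hB huu haa hua
  have hPeq : Submodule.span F {u, a} = Submodule.span F {u} ⊔ Submodule.span F {a} := by
    rw [← Submodule.span_union]
    rfl
  rw [hPeq] at hPnd hPdim hPh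
  have horth : Orth B H (Submodule.span F {u} ⊔ Submodule.span F {a}) :=
    (orth_span_of_mem_orthogonal hu).sup_right (orth_span_of_mem_orthogonal haH)
  have h1 := (hyp_iff_sType hB h2 hnd hH hHdim).mp hHh
  have h3 := (hyp_iff_sType hB h2 hnd hPnd (e := 1) (by rw [hPdim])).mp hPh
  have h4 := sType_sup hB h2 hH hPnd horth hHdim (e₂ := 1) (by rw [hPdim]) h1 h3
  rw [mul_one, ← sup_assoc] at h4
  exact h4

/-- the class of an odd-dimensional nondegenerate space: if `H ⊥ ⟨u⟩ ≅ H₀ ⊥ ⟨u₀⟩` with `H`, `H₀`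
hyperbolic, then `B u u * B u₀ u₀` is a square -/
theorem isSquare_of_iso_split (hB : B.IsSymm) (h2 : (2 : F) ≠ 0) (hnd : B.Nondegenerate)
    {H H₀ : Submodule F V} {u u₀ : V} {t : ℕ}
    (hH : Nd B H) (hHdim : finrank F ↥H = 2 * t) (hHh : Hyp B H) (hu : u ∈ B.orthogonal H)
    (huu : B u u ≠ 0)
    (hH₀ : Nd B H₀) (hH₀dim : finrank F ↥H₀ = 2 * t) (hH₀h : Hyp B H₀)
    (hu₀ : u₀ ∈ B.orthogonal H₀) (hu₀u₀ : B u₀ u₀ ≠ 0)
    (hiso : Iso B (H ⊔ Submodule.span F {u}) (H₀ ⊔ Submodule.span F {u₀}))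
    (hroom : 2 * t + 3 ≤ finrank F V) :
    IsSquare (B u u * B u₀ u₀) := by
  obtain ⟨hWnd, hWdim⟩ := nd_hyp_line hB hH hu huu hHdim
  obtain ⟨hW₀nd, hW₀dim⟩ := nd_hyp_line hB hH₀ hu₀ hu₀u₀ hH₀dim
  -- auxiliary vectors
  have hXnd := nd_orthogonal hB hnd hWnd
  have hXdim := finrank_orthogonal_add hB hWnd
  obtain ⟨a, haX, haa⟩ := exists_norm_eq hB h2 hXnd (by omega) (- B u u)
  have hX₀nd := nd_orthogonal hB hnd hW₀nd
  have hX₀dim := finrank_orthogonal_add hB hW₀nd
  obtain ⟨a₀, ha₀X, ha₀a₀⟩ := exists_norm_eq hB h2 hX₀nd (by omega) (- B u u)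
  have haa0 : B a a ≠ 0 := by rw [haa]; exact neg_ne_zero.mpr huu
  have ha₀a₀0 : B a₀ a₀ ≠ 0 := by rw [ha₀a₀]; exact neg_ne_zero.mpr huu
  -- the enlarged spaces are isometric
  have horthA := orth_span_of_mem_orthogonal (F := F) (B := B) haX
  have horthA₀ := orth_span_of_mem_orthogonal (F := F) (B := B) ha₀X
  have hisoA : Iso B ((H ⊔ Submodule.span F {u}) ⊔ Submodule.span F {a})
      ((H₀ ⊔ Submodule.span F {u₀}) ⊔ Submodule.span F {a₀}) :=
    iso_sup hB (horthA.disjoint hWnd) (horthA₀.disjoint hW₀nd) horthA horthA₀ hiso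
      (iso_span_singleton hB (c := 1) haa0 (by rw [haa, ha₀a₀]; ring))
  have hTA := sType_hyp_line_add hB h2 hnd hH hHdim hHh hu huu haX haa
  have hTA₀ := hisoA.sType hTA
  -- the plane `⟨u₀, a₀⟩`
  have hu₀a₀ : B u₀ a₀ = 0 :=
    (LinearMap.BilinForm.mem_orthogonal_iff.mp ha₀X) u₀
      (Submodule.mem_sup_right (Submodule.mem_span_singleton_self u₀))
  have ha₀H : a₀ ∈ B.orthogonal H₀ := by
    rw [LinearMap.BilinForm.mem_orthogonal_iff]
    intro n hn
    exact (LinearMap.BilinForm.mem_orthogonal_iff.mp ha₀X) n (Submodule.mem_sup_left hn)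
  obtain ⟨hPnd, hPdim⟩ := nd_pair hB hu₀u₀ ha₀a₀0 hu₀a₀
  obtain ⟨ε, -, hPε⟩ := exists_sType hB h2 hPnd (e := 1) (by rw [hPdim])
  have horth : Orth B H₀ (Submodule.span F {u₀} ⊔ Submodule.span F {a₀}) :=
    (orth_span_of_mem_orthogonal hu₀).sup_right (orth_span_of_mem_orthogonal ha₀H)
  have h1 := (hyp_iff_sType hB h2 hnd hH₀ hH₀dim).mp hH₀h
  have h4 := sType_sup hB h2 hH₀ hPnd horth hH₀dim (e₂ := 1) (by rw [hPdim]) h1 hPε
  rw [one_mul, ← sup_assoc] at h4
  have hε : ε = 1 := h4.unique hTA₀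
  rw [hε] at hPε
  obtain ⟨U, hUP, hUU, hUdim⟩ := hyp_of_sType_one hB h2 hPnd (e := 1) (by rw [hPdim]) hPε
  rw [hPdim] at hUdim
  have hUne : U ≠ ⊥ := by
    intro h
    rw [h, finrank_bot] at hUdim
    omega
  obtain ⟨x, hxU, hx0⟩ := Submodule.exists_mem_ne_zero_of_ne_bot hUne
  have hxx : B x x = 0 := hUU x hxU x hxU
  obtain ⟨s, hs, s', hs', rfl⟩ := Submodule.mem_sup.mp (hUP hxU)
  obtain ⟨α, rfl⟩ := Submodule.mem_span_singleton.mp hs
  obtain ⟨β, rfl⟩ := Submodule.mem_span_singleton.mp hs'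
  have ha₀u₀ : B a₀ u₀ = 0 := by rw [hB.eq]; exact hu₀a₀
  simp only [map_add, map_smul, LinearMap.add_apply, LinearMap.smul_apply, smul_eq_mul, hu₀a₀,
    ha₀u₀, mul_zero, add_zero, zero_add, ha₀a₀] at hxx
  have hα : α ≠ 0 := by
    rintro rfl
    have hβ : β ≠ 0 := by
      rintro rfl
      apply hx0
      simp
    have : β * β * B u u = 0 := by linear_combination -hxx
    exact huu ((mul_eq_zero.mp this).resolve_left (mul_ne_zero hβ hβ))
  refine ⟨β * B u u / α, ?_⟩
  field_simp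
  linear_combination hxx

/-- rank-nullity on a subspace, for a linear map to another space -/
theorem finrank_eq_inf_ker_add_map' {V₂ : Type*} [AddCommGroup V₂] [Module F V₂]
    (f : V →ₗ[F] V₂) (W : Submodule F V) :
    finrank F ↥W = finrank F ↥(W ⊓ LinearMap.ker f) + finrank F ↥(W.map f) := by
  have h1 := LinearMap.finrank_range_add_finrank_ker (f.domRestrict W)
  rw [LinearMap.range_domRestrict, LinearMap.ker_domRestrict] at h1
  have h3 : finrank F ↥((LinearMap.ker f).comap W.subtype) =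
      finrank F ↥(W ⊓ LinearMap.ker f) := by
    rw [← Submodule.finrank_map_subtype_eq W ((LinearMap.ker f).comap W.subtype),
      Submodule.map_comap_subtype]
  omega

/-- for an isometry `x`, the image of `x - 1` is the orthogonal of its kernel -/
theorem orthogonal_ker_eq_range (hnd : B.Nondegenerate) {x : Module.End F V}
    (hx : ∀ u v, B (x u) (x v) = B u v) :
    B.orthogonal (LinearMap.ker (x - 1)) = LinearMap.range (x - 1) := by
  symm
  apply Submodule.eq_of_le_of_finrank_eq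
  · exact orth_iff_le.mp (orth_ker_range hx)
  · have h1 := LinearMap.BilinForm.finrank_orthogonal hnd (LinearMap.ker (x - 1))
    have h3 := LinearMap.finrank_range_add_finrank_ker (x - 1)
    have h4 := Submodule.finrank_le (LinearMap.ker (x - 1))
    omega

/-- unipotent isometries of type `(3, 2^(d-2), 1)`: an invariant nondegenerate subspace of
dimension `≡ 1 mod 4` is the orthogonal sum of a hyperbolic space and a line spanned by a vector
whose norm is in the class of the norm of the fixed nonsingular vector `a₀` -/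
theorem exists_split_of_unip (hB : B.IsSymm) (hnd : B.Nondegenerate) (h2 : (2 : F) ≠ 0)
    {x : Module.End F V} (hx : ∀ u v, B (x u) (x v) = B u v) (hN : (x - 1) ^ 3 = 0)
    (hr : finrank F ↥(LinearMap.range ((x - 1) * (x - 1))) ≤ 1)
    {a₀ : V} (ha₀ : B a₀ a₀ ≠ 0)
    (hK : ∀ w ∈ LinearMap.ker (x - 1), B a₀ a₀ * B w w = B a₀ w * B a₀ w)
    {W : Submodule F V} (hWinv : Inv x W) (hW : Nd B W) (hdim : finrank F ↥W % 4 = 1) :
    ∃ u ∈ W, ∃ c : F, c ≠ 0 ∧ B u u = c * c * B a₀ a₀ ∧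
      Hyp B (W ⊓ B.orthogonal (Submodule.span F {u})) := by
  have h1 := finrank_eq_inf_ker_add_map (x - 1) W
  obtain ⟨ρ', hρ'⟩ := even_finrank_map_sub_one hB hnd h2 hx hN hWinv hW
  have h3 := inf_range_eq_map hB.isRefl hW (inv_sub_one hWinv)
    (inv_sub_one (isom_inv_orthogonal hnd hx hWinv))
  have h4 := finrank_eq_inf_ker_add_map (x - 1) (W.map (x - 1))
  have h5 : finrank F ↥((W.map (x - 1)).map (x - 1)) ≤ 1 := by
    refine le_trans (Submodule.finrank_mono ?_) hr
    rintro _ ⟨_, ⟨w, -, rfl⟩, rfl⟩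
    exact ⟨w, rfl⟩
  -- the kernel of `B a₀` on `W ∩ ker (x - 1)` lies in `(x - 1) W ∩ ker (x - 1)`
  have hle : (W ⊓ LinearMap.ker (x - 1)) ⊓ LinearMap.ker (B a₀) ≤ W.map (x - 1) ⊓ LinearMap.ker (x - 1) := by
    rintro w ⟨⟨hwW, hwK⟩, hwφ'⟩
    have hwφ : B a₀ w = 0 := LinearMap.mem_ker.mp hwφ'
    have hwK : w ∈ LinearMap.ker (x - 1) := hwK
    refine ⟨?_, hwK⟩
    show w ∈ W.map (x - 1)
    rw [← h3]
    refine ⟨hwW, ?_⟩
    rw [← orthogonal_ker_eq_range hnd hx]
    show w ∈ B.orthogonal (LinearMap.ker (x - 1))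
    rw [LinearMap.BilinForm.mem_orthogonal_iff]
    intro w' hw'
    show B w' w = 0
    have e1 := hK w hwK
    have e2 := hK w' hw'
    have e3 := hK (w + w') (Submodule.add_mem _ hwK hw')
    simp only [map_add, LinearMap.add_apply, hwφ] at e1 e3
    rw [hB.eq w' w] at e3 ⊢
    have e4 : (2 * B a₀ a₀) * B w w' = 0 := by linear_combination e3 - e2 - e1
    exact (mul_eq_zero.mp e4).resolve_left (mul_ne_zero h2 ha₀)
  have h6 := finrank_eq_inf_ker_add_map' (B a₀) (W ⊓ LinearMap.ker (x - 1))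
  have h7 : finrank F ↥((W ⊓ LinearMap.ker (x - 1)).map (B a₀)) ≤ 1 := by
    have := Submodule.finrank_le ((W ⊓ LinearMap.ker (x - 1)).map (B a₀))
    rwa [finrank_self] at this
  have h8 := Submodule.finrank_mono hle
  have h9 : W.map (x - 1) ⊓ LinearMap.ker (x - 1) ≤ W ⊓ LinearMap.ker (x - 1) :=
    inf_le_inf_right _ (by rw [← h3]; exact inf_le_left)
  have h10 := Submodule.finrank_mono h9
  have h11 := Submodule.finrank_mono (inf_le_left : W.map (x - 1) ⊓ LinearMap.ker (x - 1) ≤ W.map (x - 1))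
  -- numerics
  have hn : finrank F ↥W = 2 * finrank F ↥(W.map (x - 1)) + 1 := by omega
  have hkW : finrank F ↥(W ⊓ LinearMap.ker (x - 1)) = finrank F ↥(W.map (x - 1)) + 1 := by omega
  have hiW : finrank F ↥(W.map (x - 1) ⊓ LinearMap.ker (x - 1)) = finrank F ↥(W.map (x - 1)) := by omega
  have hRK : W.map (x - 1) ≤ LinearMap.ker (x - 1) := by
    have := Submodule.eq_of_le_of_finrank_eq
      (inf_le_left : W.map (x - 1) ⊓ LinearMap.ker (x - 1) ≤ W.map (x - 1)) hiW
    rw [← this]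
    exact inf_le_right
  -- a vector of the kernel not orthogonal to `a₀`
  have hex : ∃ u ∈ W ⊓ LinearMap.ker (x - 1), B a₀ u ≠ 0 := by
    by_contra hcon
    push Not at hcon
    have : (W ⊓ LinearMap.ker (x - 1)) ⊓ LinearMap.ker (B a₀) = W ⊓ LinearMap.ker (x - 1) := by
      apply inf_eq_left.mpr
      intro w hw
      exact LinearMap.mem_ker.mpr (hcon w hw)
    rw [this] at h8
    omega
  obtain ⟨u, ⟨huW, huK⟩, hu⟩ := hex
  have huu : B u u = (B a₀ u / B a₀ a₀) * (B a₀ u / B a₀ a₀) * B a₀ a₀ := by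
    have := hK u huK
    field_simp
    linear_combination this
  have huu0 : B u u ≠ 0 := by
    rw [huu]
    exact mul_ne_zero (mul_ne_zero (div_ne_zero hu ha₀) (div_ne_zero hu ha₀)) ha₀
  refine ⟨u, huW, B a₀ u / B a₀ a₀, div_ne_zero hu ha₀, huu, ?_⟩
  have hSle : Submodule.span F {u} ≤ W := by
    rw [Submodule.span_singleton_le_iff_mem]; exact huW
  have hHdim := (nd_span_singleton huu0).finrank_inf_orth hB.isRefl hSle
  rw [finrank_span_singleton (ne_zero_of_norm_ne huu0)] at hHdim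
  refine ⟨W.map (x - 1), ?_, ?_, by omega⟩
  · intro r' hr'
    refine ⟨by rw [← h3] at hr'; exact hr'.1, ?_⟩
    show r' ∈ B.orthogonal (Submodule.span F {u})
    rw [LinearMap.BilinForm.mem_orthogonal_iff]
    intro s hs
    obtain ⟨c, rfl⟩ := Submodule.mem_span_singleton.mp hs
    show B (c • u) r' = 0
    rw [map_smul, LinearMap.smul_apply, smul_eq_mul]
    have hr'' : r' ∈ LinearMap.range (x - 1) := by rw [← h3] at hr'; exact hr'.2
    rw [orth_ker_range hx u huK r' hr'', mul_zero]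
  · intro r₁ hr₁ r₂ hr₂
    have hr₂' : r₂ ∈ LinearMap.range (x - 1) := by rw [← h3] at hr₂; exact hr₂.2
    exact orth_ker_range hx r₁ (hRK hr₁) r₂ hr₂'

end abstractK

section char

variable {F : Type u} [Field F] [Fintype F] {ι : Type} [Fintype ι] [DecidableEq ι]
variable (Q : QuadraticForm F (ι → F))
variable {p : ℕ} [Fact p.Prime] [CharP F p]

/-- `r = p`: a unipotent witness refutes the hypothesis (version with the isometry class) -/
theorem not_stmtProp_char' {W₀ : Submodule F (ι → F)}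
    (y : ↥(Cfsg.isometryGroup F ⇑Q)) (hyΩ : y ∈ Cfsg.Omega F ⇑Q) (hyord : orderOf y = p)
    (hy : ∀ W : Submodule F (ι → F), Nd (qB Q) W → Iso (qB Q) W W₀ →
      Inv (Matrix.toLin' ((y : GL ι F) : Matrix ι ι F)) W → False) :
    ¬ StmtProp Q W₀ p := by
  intro H
  have hp : p.Prime := Fact.out
  have hyp : y ^ p = 1 := by rw [← hyord]; exact pow_orderOf_eq_one y
  have hy1 : y ≠ 1 := by
    intro h
    rw [h, orderOf_one] at hyord
    exact hp.one_lt.ne hyord
  have hmat : (((y : GL ι F) ^ p : GL ι F) : Matrix ι ι F) = (1 : F) • (1 : Matrix ι ι F) := by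
    have h3 : ((y ^ p : ↥(Cfsg.isometryGroup F ⇑Q)) : GL ι F) = 1 := by rw [hyp]; rfl
    rw [Subgroup.coe_pow] at h3
    rw [h3, one_smul]
    rfl
  have hns : ∀ z : F, ((y : GL ι F) : Matrix ι ι F) ≠ z • (1 : Matrix ι ι F) := by
    intro z hz
    have h3 : (((y : GL ι F) ^ p : GL ι F) : Matrix ι ι F) = (z ^ p) • (1 : Matrix ι ι F) := by
      rw [Units.val_pow_eq_pow_val, hz, _root_.smul_pow, one_pow]
    rw [hmat] at h3
    by_cases hι : Nonempty ι
    · obtain ⟨k⟩ := hι
      have h4 := congrFun (congrFun h3 k) k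
      simp only [Matrix.smul_apply, Matrix.one_apply_eq, smul_eq_mul, mul_one] at h4
      have h5 : (z - 1) ^ p = 0 := by
        rw [sub_pow_char, one_pow, ← h4, sub_self]
      have h6 : z = 1 := sub_eq_zero.mp (pow_eq_zero_iff hp.ne_zero |>.mp h5)
      apply hy1
      apply Subtype.ext
      apply Units.ext
      rw [hz, h6, one_smul]
      rfl
    · apply hy1
      apply Subtype.ext
      apply Units.ext
      ext k
      exact absurd ⟨k⟩ hι
  obtain ⟨W, hWnd, hWiso, hWinv⟩ := H y hyΩ ⟨1, hmat⟩ hns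
  exact hy W hWnd hWiso hWinv

end char

end Cfsg.Agent.Helper94.Tp
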