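import Mathlib
import Cfsg.Agent.Helper94.TpH
import Cfsg.Agent.Helper94.TpJ

set_option autoImplicit false
set_option linter.unusedSectionVars false
set_option linter.style.haveILetI false

/-!
# Nilpotent endomorphisms of the minus-type space: Levi parts and Eichler parts
-/

namespace Cfsg.Agent.Helper94.Tp

open Module Polynomial Matrix
open Cfsg
open Cfsg.Agent.Helper44 Cfsg.Agent.Helper44.QType
open Cfsg.Agent.Helper59.InvChain Cfsg.Agent.Helper59.Elusive
open Cfsg.Agent.Helper99.RDecomp Cfsg.Agent.Helper99.SpStruct Cfsg.Agent.Helper99.SpElt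
open Cfsg.Agent.Helper94.Ti Cfsg.Agent.Helper94.Ts Cfsg.Agent.Helper94.Tn

universe u

section ops

variable {F : Type u} [Field F] {k : ℕ}

/-- the norm of the anisotropic plane -/
def nP (a b s₁ s₂ : F) : F := s₁ ^ 2 + a * s₁ * s₂ + b * s₂ ^ 2

/-- the polar form of the anisotropic plane -/
def bP (a b s₁ s₂ t₁ t₂ : F) : F := 2 * s₁ * t₁ + a * (s₁ * t₂ + s₂ * t₁) + 2 * b * s₂ * t₂

/-- coordinates of the minus-type space -/
def mvU (w : (Fin k ⊕ Fin k) ⊕ Fin 2 → F) : Fin k → F := fun i => w (.inl (.inl i))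

def mvV (w : (Fin k ⊕ Fin k) ⊕ Fin 2 → F) : Fin k → F := fun i => w (.inl (.inr i))

def mvMk (u v : Fin k → F) (z₁ z₂ : F) : (Fin k ⊕ Fin k) ⊕ Fin 2 → F := fun i =>
  match i with
  | .inl (.inl i) => u i
  | .inl (.inr i) => v i
  | .inr i => ![z₁, z₂] i

theorem mvU_mk (u v : Fin k → F) (z₁ z₂ : F) : mvU (mvMk u v z₁ z₂) = u := rfl
theorem mvV_mk (u v : Fin k → F) (z₁ z₂ : F) : mvV (mvMk u v z₁ z₂) = v := rfl
theorem mvMk_z0 (u v : Fin k → F) (z₁ z₂ : F) : mvMk u v z₁ z₂ (.inr 0) = z₁ := rfl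
theorem mvMk_z1 (u v : Fin k → F) (z₁ z₂ : F) : mvMk u v z₁ z₂ (.inr 1) = z₂ := rfl
theorem mvU_add (w w' : (Fin k ⊕ Fin k) ⊕ Fin 2 → F) : mvU (w + w') = mvU w + mvU w' := rfl
theorem mvV_add (w w' : (Fin k ⊕ Fin k) ⊕ Fin 2 → F) : mvV (w + w') = mvV w + mvV w' := rfl
theorem mvU_smul (c : F) (w : (Fin k ⊕ Fin k) ⊕ Fin 2 → F) : mvU (c • w) = c • mvU w := rfl
theorem mvV_smul (c : F) (w : (Fin k ⊕ Fin k) ⊕ Fin 2 → F) : mvV (c • w) = c • mvV w := rfl
theorem mvU_zero : mvU (0 : (Fin k ⊕ Fin k) ⊕ Fin 2 → F) = 0 := rfl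
theorem mvV_zero : mvV (0 : (Fin k ⊕ Fin k) ⊕ Fin 2 → F) = 0 := rfl
theorem mvU_apply (w : (Fin k ⊕ Fin k) ⊕ Fin 2 → F) (i : Fin k) : mvU w i = w (.inl (.inl i)) := rfl
theorem mvV_apply (w : (Fin k ⊕ Fin k) ⊕ Fin 2 → F) (i : Fin k) : mvV w i = w (.inl (.inr i)) := rfl

theorem mv_ext {w w' : (Fin k ⊕ Fin k) ⊕ Fin 2 → F} (h1 : mvU w = mvU w') (h3 : mvV w = mvV w')
    (h4 : w (.inr 0) = w' (.inr 0)) (h5 : w (.inr 1) = w' (.inr 1)) : w = w' := by
  funext i
  rcases i with (i | i) | i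
  · exact congrFun h1 i
  · exact congrFun h3 i
  · fin_cases i
    · exact h4
    · exact h5

theorem mvMk_eta (w : (Fin k ⊕ Fin k) ⊕ Fin 2 → F) :
    mvMk (mvU w) (mvV w) (w (.inr 0)) (w (.inr 1)) = w :=
  mv_ext rfl rfl rfl rfl

theorem quadFormMinus_eq_mv (a b : F) (w : (Fin k ⊕ Fin k) ⊕ Fin 2 → F) :
    Cfsg.quadFormMinus k F a b w = dot (mvU w) (mvV w) + nP a b (w (.inr 0)) (w (.inr 1)) := rfl

/-- the Levi part -/
def nL (G H : Module.End F (Fin k → F)) : Module.End F ((Fin k ⊕ Fin k) ⊕ Fin 2 → F) where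
  toFun w := mvMk (G (mvU w)) (H (mvV w)) 0 0
  map_add' w w' := by
    apply mv_ext
    · show G (mvU w + mvU w') = G (mvU w) + G (mvU w')
      exact map_add _ _ _
    · show H (mvV w + mvV w') = H (mvV w) + H (mvV w')
      exact map_add _ _ _
    · show (0 : F) = 0 + 0
      rw [add_zero]
    · show (0 : F) = 0 + 0
      rw [add_zero]
  map_smul' c w := by
    apply mv_ext
    · show G (c • mvU w) = c • G (mvU w)
      exact map_smul _ _ _
    · show H (c • mvV w) = c • H (mvV w)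
      exact map_smul _ _ _
    · show (0 : F) = c • (0 : F)
      rw [smul_zero]
    · show (0 : F) = c • (0 : F)
      rw [smul_zero]

theorem nL_apply (G H : Module.End F (Fin k → F)) (w : (Fin k ⊕ Fin k) ⊕ Fin 2 → F) :
    nL G H w = mvMk (G (mvU w)) (H (mvV w)) 0 0 := rfl

/-- the Eichler part attached to the isotropic vector `e_j` and the plane vector `(c₁, c₂)` -/
def nE (a b : F) (j : Fin k) (c₁ c₂ : F) : Module.End F ((Fin k ⊕ Fin k) ⊕ Fin 2 → F) where
  toFun w := mvMk (Pi.single j (bP a b (w (.inr 0)) (w (.inr 1)) c₁ c₂ - nP a b c₁ c₂ * mvV w j)) 0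
    (-(mvV w j * c₁)) (-(mvV w j * c₂))
  map_add' w w' := by
    apply mv_ext
    · show (Pi.single j _ : Fin k → F) = Pi.single j _ + Pi.single j _
      rw [← Pi.single_add]
      congr 1
      simp only [mvV_add, Pi.add_apply, bP]
      ring
    · show (0 : Fin k → F) = 0 + 0
      rw [add_zero]
    · show -((mvV w + mvV w') j * c₁) = -(mvV w j * c₁) + -(mvV w' j * c₁)
      rw [Pi.add_apply]; ring
    · show -((mvV w + mvV w') j * c₂) = -(mvV w j * c₂) + -(mvV w' j * c₂)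
      rw [Pi.add_apply]; ring
  map_smul' c w := by
    apply mv_ext
    · show (Pi.single j _ : Fin k → F) = c • Pi.single j _
      rw [← Pi.single_smul]
      congr 1
      simp only [mvV_smul, Pi.smul_apply, smul_eq_mul, bP]
      ring
    · show (0 : Fin k → F) = c • (0 : Fin k → F)
      rw [smul_zero]
    · show -((c • mvV w) j * c₁) = c • -(mvV w j * c₁)
      rw [Pi.smul_apply, smul_eq_mul, smul_eq_mul]; ring
    · show -((c • mvV w) j * c₂) = c • -(mvV w j * c₂)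
      rw [Pi.smul_apply, smul_eq_mul, smul_eq_mul]; ring

theorem nE_apply (a b : F) (j : Fin k) (c₁ c₂ : F) (w : (Fin k ⊕ Fin k) ⊕ Fin 2 → F) :
    nE a b j c₁ c₂ w =
      mvMk (Pi.single j (bP a b (w (.inr 0)) (w (.inr 1)) c₁ c₂ - nP a b c₁ c₂ * mvV w j)) 0
        (-(mvV w j * c₁)) (-(mvV w j * c₂)) := rfl

theorem nL_mul (G H G' H' : Module.End F (Fin k → F)) :
    nL G H * nL G' H' = nL (G * G') (H * H') := by
  apply LinearMap.ext
  intro w
  rw [Module.End.mul_apply, nL_apply, nL_apply, nL_apply, mvU_mk, mvV_mk]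
  rfl

theorem nL_zero : nL (0 : Module.End F (Fin k → F)) 0 = 0 := by
  apply LinearMap.ext
  intro w
  rw [nL_apply]
  exact mv_ext rfl rfl rfl rfl

theorem nL_nE {G H : Module.End F (Fin k → F)} (a b : F) {j : Fin k} (c₁ c₂ : F)
    (hG : G (Pi.single j 1) = 0) : nL G H * nE a b j c₁ c₂ = 0 := by
  apply LinearMap.ext
  intro w
  rw [Module.End.mul_apply, nE_apply, nL_apply, mvU_mk, mvV_mk, map_zero, LinearMap.zero_apply]
  have h1 : ∀ α : F, G (Pi.single j α) = 0 := by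
    intro α
    have : (Pi.single j α : Fin k → F) = α • Pi.single j 1 := by
      rw [← Pi.single_smul, smul_eq_mul, mul_one]
    rw [this, map_smul, hG, smul_zero]
  rw [h1]
  exact mv_ext rfl rfl rfl rfl

theorem nE_nL {G H : Module.End F (Fin k → F)} (a b : F) {j : Fin k} (c₁ c₂ : F)
    (hH : ∀ v, H v j = 0) : nE a b j c₁ c₂ * nL G H = 0 := by
  apply LinearMap.ext
  intro w
  rw [Module.End.mul_apply, nL_apply, nE_apply, mvV_mk, mvMk_z0, mvMk_z1, hH, LinearMap.zero_apply]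
  apply mv_ext
  · show (Pi.single j _ : Fin k → F) = (0 : Fin k → F)
    have : bP a b 0 0 c₁ c₂ - nP a b c₁ c₂ * 0 = 0 := by unfold bP; ring
    rw [this, Pi.single_zero]
  · rfl
  · show -(0 * c₁) = (0 : F)
    ring
  · show -(0 * c₂) = (0 : F)
    ring

theorem nE_nE (a b : F) (j j' : Fin k) {c₁ c₂ c₁' c₂' : F} (hc : bP a b c₁' c₂' c₁ c₂ = 0) :
    nE a b j c₁ c₂ * nE a b j' c₁' c₂' = 0 := by
  apply LinearMap.ext
  intro w
  rw [Module.End.mul_apply, nE_apply a b j' , nE_apply a b j, mvV_mk, mvMk_z0, mvMk_z1,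
    LinearMap.zero_apply]
  apply mv_ext
  · show (Pi.single j _ : Fin k → F) = (0 : Fin k → F)
    have : bP a b (-(mvV w j' * c₁')) (-(mvV w j' * c₂')) c₁ c₂ -
        nP a b c₁ c₂ * (0 : Fin k → F) j = 0 := by
      rw [Pi.zero_apply]
      unfold bP at hc ⊢
      linear_combination (-mvV w j') * hc
    rw [this, Pi.single_zero]
  · rfl
  · show -((0 : Fin k → F) j * c₁) = (0 : F)
    rw [Pi.zero_apply]; ring
  · show -((0 : Fin k → F) j * c₂) = (0 : F)
    rw [Pi.zero_apply]; ring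

/-- the square of an Eichler part -/
theorem nE_sq_apply (a b : F) (j : Fin k) (c₁ c₂ : F) (w : (Fin k ⊕ Fin k) ⊕ Fin 2 → F) :
    (nE a b j c₁ c₂ * nE a b j c₁ c₂) w =
      mvMk (Pi.single j (-(2 * nP a b c₁ c₂ * mvV w j))) 0 0 0 := by
  rw [Module.End.mul_apply, nE_apply a b j c₁ c₂ w, nE_apply, mvV_mk, mvMk_z0, mvMk_z1]
  apply mv_ext
  · show (Pi.single j _ : Fin k → F) = Pi.single j _
    congr 1
    rw [Pi.zero_apply]
    unfold bP nP
    ring
  · rfl
  · show -((0 : Fin k → F) j * c₁) = (0 : F)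
    rw [Pi.zero_apply]; ring
  · show -((0 : Fin k → F) j * c₂) = (0 : F)
    rw [Pi.zero_apply]; ring

theorem nE_cube (a b : F) (j : Fin k) (c₁ c₂ : F) :
    nE a b j c₁ c₂ * (nE a b j c₁ c₂ * nE a b j c₁ c₂) = 0 := by
  apply LinearMap.ext
  intro w
  rw [Module.End.mul_apply, nE_sq_apply, nE_apply, mvV_mk, mvMk_z0, mvMk_z1, LinearMap.zero_apply]
  apply mv_ext
  · show (Pi.single j _ : Fin k → F) = (0 : Fin k → F)
    have : bP a b 0 0 c₁ c₂ - nP a b c₁ c₂ * (0 : Fin k → F) j = 0 := by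
      rw [Pi.zero_apply]; unfold bP; ring
    rw [this, Pi.single_zero]
  · rfl
  · show -((0 : Fin k → F) j * c₁) = (0 : F)
    rw [Pi.zero_apply]; ring
  · show -((0 : Fin k → F) j * c₂) = (0 : F)
    rw [Pi.zero_apply]; ring

/-- `1 + nL G H` is an isometry -/
theorem nL_iso (a b : F) {G H : Module.End F (Fin k → F)}
    (hGH : ∀ u v, dot (u + G u) (v + H v) = dot u v) (w : (Fin k ⊕ Fin k) ⊕ Fin 2 → F) :
    Cfsg.quadFormMinus k F a b ((1 + nL G H) w) = Cfsg.quadFormMinus k F a b w := by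
  rw [quadFormMinus_eq_mv, quadFormMinus_eq_mv, LinearMap.add_apply, Module.End.one_apply,
    mvU_add, mvV_add, nL_apply, mvU_mk, mvV_mk, hGH]
  congr 1
  show nP a b (w (.inr 0) + 0) (w (.inr 1) + 0) = _
  rw [add_zero, add_zero]

/-- `1 + nE j c` is an isometry -/
theorem nE_iso (a b : F) (j : Fin k) (c₁ c₂ : F) (w : (Fin k ⊕ Fin k) ⊕ Fin 2 → F) :
    Cfsg.quadFormMinus k F a b ((1 + nE a b j c₁ c₂) w) = Cfsg.quadFormMinus k F a b w := by
  rw [quadFormMinus_eq_mv, quadFormMinus_eq_mv, LinearMap.add_apply, Module.End.one_apply,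
    mvU_add, mvV_add, nE_apply, mvU_mk, mvV_mk, add_zero]
  have h1 : dot (mvU w + Pi.single j
      (bP a b (w (.inr 0)) (w (.inr 1)) c₁ c₂ - nP a b c₁ c₂ * mvV w j)) (mvV w) =
      dot (mvU w) (mvV w) +
        (bP a b (w (.inr 0)) (w (.inr 1)) c₁ c₂ - nP a b c₁ c₂ * mvV w j) * mvV w j := by
    rw [dot_eq, dot_eq, add_dotProduct, single_dotProduct]
  rw [h1]
  show _ + nP a b (w (.inr 0) + -(mvV w j * c₁)) (w (.inr 1) + -(mvV w j * c₂)) = _
  unfold nP bP
  ring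

end ops

end Cfsg.Agent.Helper94.Tp
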