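import Mathlib
import Cfsg.Agent.Helper94.TpL

set_option autoImplicit false
set_option linter.unusedSectionVars false
set_option linter.style.haveILetI false

/-!
# Unipotent isometries of the minus-type space of types `2^(d-1) 1^2`, `3^2 2^(d-3)` and
`3 2^(d-2) 1`
-/

namespace Cfsg.Agent.Helper94.Tp

open Module Polynomial Matrix
open Cfsg
open Cfsg.Agent.Helper44 Cfsg.Agent.Helper44.QType
open Cfsg.Agent.Helper59.InvChain Cfsg.Agent.Helper59.Elusive
open Cfsg.Agent.Helper99.RDecomp Cfsg.Agent.Helper99.SpStruct Cfsg.Agent.Helper99.SpElt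
open Cfsg.Agent.Helper94.Ti Cfsg.Agent.Helper94.Ts Cfsg.Agent.Helper94.Tn

universe u

section ringrel

variable {R : Type*} [Ring R]

theorem ring_sq_two {L E : R} (hLL : L * L = 0) (h1 : L * E = 0) (h3 : E * L = 0) :
    (L + E) * (L + E) = E * E := by
  simp only [mul_add, add_mul, hLL, h1, h3, zero_add]

theorem ring_cube_two {L E : R} (hLL : L * L = 0) (h1 : L * E = 0) (h3 : E * L = 0)
    (hE : E * (E * E) = 0) : (L + E) ^ 3 = 0 := by
  rw [pow_succ, pow_two, ring_sq_two hLL h1 h3, mul_add, mul_assoc, h3, mul_zero, zero_add, mul_assoc, hE]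

theorem ring_sq_three {L E₁ E₂ : R} (hLL : L * L = 0) (h1 : L * E₁ = 0) (h3 : E₁ * L = 0)
    (h4 : L * E₂ = 0) (h5 : E₂ * L = 0) (h6 : E₁ * E₂ = 0) (h7 : E₂ * E₁ = 0) :
    (L + E₁ + E₂) * (L + E₁ + E₂) = E₁ * E₁ + E₂ * E₂ := by
  simp only [mul_add, add_mul, hLL, h1, h3, h4, h5, h6, h7, zero_add, add_zero]

theorem ring_cube_three {L E₁ E₂ : R} (hLL : L * L = 0) (h1 : L * E₁ = 0) (h3 : E₁ * L = 0)
    (h4 : L * E₂ = 0) (h5 : E₂ * L = 0) (h6 : E₁ * E₂ = 0) (h7 : E₂ * E₁ = 0)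
    (hE₁ : E₁ * (E₁ * E₁) = 0) (hE₂ : E₂ * (E₂ * E₂) = 0) : (L + E₁ + E₂) ^ 3 = 0 := by
  rw [pow_succ, pow_two, ring_sq_three hLL h1 h3 h4 h5 h6 h7]
  simp only [mul_add, add_mul, mul_assoc, h3, h5, h6, h7, hE₁, hE₂, mul_zero, add_zero]

end ringrel

section shifts

variable {F : Type u} [Field F] {k : ℕ}

theorem shU_sq_zero {s : ℕ} (h : k ≤ 2 * s) : shU k s F * shU k s F = 0 := by
  apply LinearMap.ext
  intro u
  rw [Module.End.mul_apply, shU_shU, shU_eq_zero_of_le (by omega)]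
  rfl

theorem negShD_sq_zero {s : ℕ} (h : k ≤ 2 * s) : (-shD k s F) * (-shD k s F) = 0 := by
  apply LinearMap.ext
  intro u
  rw [Module.End.mul_apply, LinearMap.neg_apply, LinearMap.neg_apply, map_neg, neg_neg, shD_shD,
    shD_eq_zero_of_le (by omega)]
  rfl

theorem shU_single_free [DecidableEq (Fin k)] {s : ℕ} {j : Fin k} (hj : k ≤ j.val + s) :
    shU k s F (Pi.single j 1) = 0 := by
  rw [shU_eq_zero_iff]
  intro i hi
  rw [Pi.single_eq_of_ne]
  intro h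
  rw [h] at hi
  omega

theorem negShD_free {s : ℕ} {j : Fin k} (hj : k ≤ j.val + s) (v : Fin k → F) :
    (-shD k s F) v j = 0 := by
  rw [LinearMap.neg_apply, Pi.neg_apply, shD_apply, ext0_of_ge _ hj, neg_zero]

theorem shU_free {s : ℕ} {j : Fin k} (hj : j.val < s) (u : Fin k → F) : shU k s F u j = 0 := by
  rw [shU_apply, if_neg (by omega)]

theorem nL_shift_sq {s : ℕ} (h : k ≤ 2 * s) :
    nL (shU k s F) (-shD k s F) * nL (shU k s F) (-shD k s F) = 0 := by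
  rw [nL_mul, shU_sq_zero h, negShD_sq_zero h, nL_zero]

theorem nL_eq_zero_iff (G H : Module.End F (Fin k → F)) (w : (Fin k ⊕ Fin k) ⊕ Fin 2 → F) :
    nL G H w = 0 ↔ G (mvU w) = 0 ∧ H (mvV w) = 0 := by
  rw [nL_apply]
  constructor
  · intro h
    exact ⟨by rw [← mvU_mk (G (mvU w)) (H (mvV w)) 0 0, h, mvU_zero],
      by rw [← mvV_mk (G (mvU w)) (H (mvV w)) 0 0, h, mvV_zero]⟩
  · rintro ⟨h1, h3⟩
    rw [h1, h3]
    exact mv_ext rfl rfl rfl rfl

end shifts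


section caseI

variable {F : Type u} [Field F] {k : ℕ}

theorem nI_iso (a b : F) {s : ℕ} (h : k ≤ 2 * s) (w : (Fin k ⊕ Fin k) ⊕ Fin 2 → F) :
    Cfsg.quadFormMinus k F a b ((1 + nL (shU k s F) (-shD k s F)) w) =
      Cfsg.quadFormMinus k F a b w :=
  nL_iso a b (nA_hGH h) w

theorem nI_pow_three {s : ℕ} (h : k ≤ 2 * s) : (nL (shU k s F) (-shD k s F)) ^ 3 = 0 := by
  rw [pow_succ, pow_two, nL_shift_sq h, zero_mul]

theorem nI_range_le_ker {s : ℕ} (h : k ≤ 2 * s) :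
    LinearMap.range (nL (shU k s F) (-shD k s F)) ≤ LinearMap.ker (nL (shU k s F) (-shD k s F)) := by
  rintro _ ⟨w, rfl⟩
  rw [LinearMap.mem_ker, ← Module.End.mul_apply, nL_shift_sq h]
  rfl

theorem nI_ne_zero {s : ℕ} (hs : s < k) : nL (shU k s F) (-shD k s F) ≠ 0 := by
  classical
  intro h
  have h1 : nL (shU k s F) (-shD k s F)
      (mvMk (Pi.single (⟨0, by omega⟩ : Fin k) (1 : F)) 0 0 0) = 0 := by
    rw [h]; rfl
  rw [nL_eq_zero_iff, mvU_mk, shU_eq_zero_iff] at h1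
  have := h1.1 ⟨0, by omega⟩ (by simp only; omega)
  rw [Pi.single_eq_same] at this
  exact one_ne_zero this

theorem nI_finrank_ker_le [Fintype F] {s : ℕ} (h : k = 2 * s) :
    finrank F ↥(LinearMap.ker (nL (shU k s F) (-shD k s F))) ≤
      finrank F ↥(LinearMap.range (nL (shU k s F) (-shD k s F))) + 2 := by
  classical
  set p₁ : (Fin k ⊕ Fin k) ⊕ Fin 2 → F := mvMk 0 0 1 0 with hp₁
  set p₂ : (Fin k ⊕ Fin k) ⊕ Fin 2 → F := mvMk 0 0 0 1 with hp₂
  have hle : LinearMap.ker (nL (shU k s F) (-shD k s F)) ≤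
      (LinearMap.range (nL (shU k s F) (-shD k s F)) ⊔ Submodule.span F {p₁}) ⊔
        Submodule.span F {p₂} := by
    intro w hw
    rw [LinearMap.mem_ker, nL_eq_zero_iff, LinearMap.neg_apply, neg_eq_zero, shU_eq_zero_iff,
      shD_eq_zero_iff] at hw
    obtain ⟨h1, h3⟩ := hw
    have hmem : mvMk (mvU w) (mvV w) 0 0 ∈ LinearMap.range (nL (shU k s F) (-shD k s F)) := by
      refine ⟨mvMk (shD k s F (mvU w)) (-(shU k s F (mvV w))) 0 0, ?_⟩
      rw [nL_apply, mvU_mk, mvV_mk, LinearMap.neg_apply, map_neg, neg_neg,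
        shU_shD_of s (mvU w) (fun i hi => h1 i (by omega)),
        shD_shU_of s (mvV w) (fun i hi => h3 i (by omega))]
    have hw' : w = (mvMk (mvU w) (mvV w) 0 0 + w (.inr 0) • p₁) + w (.inr 1) • p₂ := by
      apply mv_ext
      · simp only [mvU_add, mvU_smul, mvU_mk, hp₁, hp₂, smul_zero, add_zero]
      · simp only [mvV_add, mvV_smul, mvV_mk, hp₁, hp₂, smul_zero, add_zero]
      · simp only [Pi.add_apply, Pi.smul_apply, mvMk_z0, hp₁, hp₂, smul_eq_mul, mul_one, mul_zero,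
          zero_add, add_zero]
      · simp only [Pi.add_apply, Pi.smul_apply, mvMk_z1, hp₁, hp₂, smul_eq_mul, mul_one, mul_zero,
          zero_add, add_zero]
    rw [hw']
    apply Submodule.add_mem
    · apply Submodule.mem_sup_left
      apply Submodule.add_mem
      · exact Submodule.mem_sup_left hmem
      · exact Submodule.mem_sup_right
          (Submodule.smul_mem _ _ (Submodule.mem_span_singleton_self _))
    · exact Submodule.mem_sup_right
        (Submodule.smul_mem _ _ (Submodule.mem_span_singleton_self _))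
  have h4 := Submodule.finrank_mono hle
  have h5 := Submodule.finrank_add_le_finrank_add_finrank
    (LinearMap.range (nL (shU k s F) (-shD k s F)) ⊔ Submodule.span F {p₁}) (Submodule.span F {p₂})
  have h6 := Submodule.finrank_add_le_finrank_add_finrank
    (LinearMap.range (nL (shU k s F) (-shD k s F))) (Submodule.span F {p₁})
  have h7 : finrank F ↥(Submodule.span F {p₁}) ≤ 1 := by
    have := finrank_span_le_card (R := F) ({p₁} : Set ((Fin k ⊕ Fin k) ⊕ Fin 2 → F))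
    simpa using this
  have h8 : finrank F ↥(Submodule.span F {p₂}) ≤ 1 := by
    have := finrank_span_le_card (R := F) ({p₂} : Set ((Fin k ⊕ Fin k) ⊕ Fin 2 → F))
    simpa using this
  omega

end caseI

section caseIII

variable {F : Type u} [Field F] {k : ℕ}

/-- the nilpotent part of the element of type `3 2^(k-1) 1` -/
def nIII (k s : ℕ) (a b : F) (j : Fin k) (c₁ c₂ : F) :
    Module.End F ((Fin k ⊕ Fin k) ⊕ Fin 2 → F) :=
  nL (shU k s F) (-shD k s F) + nE a b j c₁ c₂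

variable {s : ℕ} {j : Fin k}

theorem nIII_iso (a b c₁ c₂ : F) (hk : k ≤ 2 * s) (hj : k ≤ j.val + s)
    (w : (Fin k ⊕ Fin k) ⊕ Fin 2 → F) :
    Cfsg.quadFormMinus k F a b ((1 + nIII k s a b j c₁ c₂) w) = Cfsg.quadFormMinus k F a b w := by
  classical
  have e : (1 + nIII k s a b j c₁ c₂) =
      (1 + nL (shU k s F) (-shD k s F)) * (1 + nE a b j c₁ c₂) := by
    unfold nIII
    rw [mul_add, mul_one, add_mul, one_mul, nL_nE a b c₁ c₂ (shU_single_free hj), add_zero,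
      add_assoc]
  rw [e, Module.End.mul_apply, nL_iso a b (nA_hGH hk), nE_iso]

theorem nIII_sq (a b c₁ c₂ : F) (hk : k ≤ 2 * s) (hj : k ≤ j.val + s) :
    nIII k s a b j c₁ c₂ * nIII k s a b j c₁ c₂ = nE a b j c₁ c₂ * nE a b j c₁ c₂ := by
  classical
  exact ring_sq_two (nL_shift_sq hk) (nL_nE a b c₁ c₂ (shU_single_free hj))
    (nE_nL a b c₁ c₂ (negShD_free hj))

theorem nIII_pow_three (a b c₁ c₂ : F) (hk : k ≤ 2 * s) (hj : k ≤ j.val + s) :
    (nIII k s a b j c₁ c₂) ^ 3 = 0 := by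
  classical
  exact ring_cube_two (nL_shift_sq hk) (nL_nE a b c₁ c₂ (shU_single_free hj))
    (nE_nL a b c₁ c₂ (negShD_free hj)) (nE_cube a b j c₁ c₂)

theorem nIII_finrank_sq_le [Fintype F] (a b c₁ c₂ : F) (hk : k ≤ 2 * s) (hj : k ≤ j.val + s) :
    finrank F ↥(LinearMap.range (nIII k s a b j c₁ c₂ * nIII k s a b j c₁ c₂)) ≤ 1 := by
  classical
  rw [nIII_sq a b c₁ c₂ hk hj]
  set e : (Fin k ⊕ Fin k) ⊕ Fin 2 → F := mvMk (Pi.single j 1) 0 0 0 with he
  have hle : LinearMap.range (nE a b j c₁ c₂ * nE a b j c₁ c₂) ≤ Submodule.span F {e} := by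
    rintro _ ⟨w, rfl⟩
    rw [nE_sq_apply]
    have : mvMk (Pi.single j (-(2 * nP a b c₁ c₂ * mvV w j))) 0 0 0 =
        (-(2 * nP a b c₁ c₂ * mvV w j)) • e := by
      apply mv_ext
      · rw [mvU_mk, mvU_smul, he, mvU_mk, ← Pi.single_smul, smul_eq_mul, mul_one]
      · rw [mvV_mk, mvV_smul, he, mvV_mk, smul_zero]
      · rw [mvMk_z0, Pi.smul_apply, he, mvMk_z0, smul_zero]
      · rw [mvMk_z1, Pi.smul_apply, he, mvMk_z1, smul_zero]
    rw [this]
    exact Submodule.smul_mem _ _ (Submodule.mem_span_singleton_self _)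
  have h4 := Submodule.finrank_mono hle
  have h7 : finrank F ↥(Submodule.span F {e}) ≤ 1 := by
    have := finrank_span_le_card (R := F) ({e} : Set ((Fin k ⊕ Fin k) ⊕ Fin 2 → F))
    simpa using this
  omega

/-- the kernel of the nilpotent part -/
theorem nIII_ker {a b c₁ c₂ : F} (hj : j.val < s) (hc : c₁ ≠ 0 ∨ c₂ ≠ 0)
    {w : (Fin k ⊕ Fin k) ⊕ Fin 2 → F} (hw : nIII k s a b j c₁ c₂ w = 0) :
    shU k s F (mvU w) = 0 ∧ shD k s F (mvV w) = 0 ∧ mvV w j = 0 ∧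
      bP a b (w (.inr 0)) (w (.inr 1)) c₁ c₂ = 0 := by
  classical
  unfold nIII at hw
  rw [LinearMap.add_apply, nL_apply, nE_apply] at hw
  have hz0 := congrFun hw (.inr 0)
  have hz1 := congrFun hw (.inr 1)
  rw [Pi.add_apply, mvMk_z0, mvMk_z0, Pi.zero_apply, zero_add, neg_eq_zero] at hz0
  rw [Pi.add_apply, mvMk_z1, mvMk_z1, Pi.zero_apply, zero_add, neg_eq_zero] at hz1
  have hvj : mvV w j = 0 := by
    rcases hc with h | h
    · exact (mul_eq_zero.mp hz0).resolve_right h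
    · exact (mul_eq_zero.mp hz1).resolve_right h
  have hV := congrArg mvV hw
  rw [mvV_add, mvV_mk, mvV_mk, mvV_zero, add_zero, LinearMap.neg_apply, neg_eq_zero] at hV
  have hU := congrArg mvU hw
  rw [mvU_add, mvU_mk, mvU_mk, mvU_zero] at hU
  have hUj := congrFun hU j
  rw [Pi.add_apply, shU_free hj, zero_add, Pi.single_eq_same, Pi.zero_apply, hvj, mul_zero,
    sub_zero] at hUj
  rw [hvj, mul_zero, sub_zero, hUj, Pi.single_zero, add_zero] at hU
  exact ⟨hU, hV, hvj, hUj⟩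

theorem nIII_ne_zero (a b c₁ c₂ : F) (hs : s < k) (hj : j.val < s) (hc : c₁ ≠ 0 ∨ c₂ ≠ 0) :
    nIII k s a b j c₁ c₂ ≠ 0 := by
  classical
  intro h
  have h1 : nIII k s a b j c₁ c₂ (mvMk (Pi.single (⟨0, by omega⟩ : Fin k) (1 : F)) 0 0 0) = 0 := by
    rw [h]; rfl
  have h3 := (nIII_ker hj hc h1).1
  rw [mvU_mk, shU_eq_zero_iff] at h3
  have := h3 ⟨0, by omega⟩ (by simp only; omega)
  rw [Pi.single_eq_same] at this
  exact one_ne_zero this

/-- on the kernel, the coordinates `u` and `v` have disjoint supports -/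
theorem nIII_dot {a b c₁ c₂ : F} (hk : k + 1 = 2 * s) (hj : j.val + 1 = s)
    (hc : c₁ ≠ 0 ∨ c₂ ≠ 0) {w : (Fin k ⊕ Fin k) ⊕ Fin 2 → F}
    (hw : nIII k s a b j c₁ c₂ w = 0) : dot (mvU w) (mvV w) = 0 := by
  obtain ⟨h1, h3, h4, -⟩ := nIII_ker (by omega) hc hw
  rw [shU_eq_zero_iff] at h1
  rw [shD_eq_zero_iff] at h3
  unfold dot
  apply Finset.sum_eq_zero
  intro i _
  by_cases hi : i.val + s < k
  · rw [h1 i hi, zero_mul]
  · by_cases hi' : s ≤ i.val
    · rw [h3 i hi', mul_zero]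
    · have : i = j := Fin.ext (by omega)
      rw [this, h4, mul_zero]

end caseIII


section caseII

variable {F : Type u} [Field F] {k : ℕ}

/-- the nilpotent part of the element of type `3^2 2^(k-2)` -/
def nII (k s : ℕ) (a b : F) (j₁ j₂ : Fin k) : Module.End F ((Fin k ⊕ Fin k) ⊕ Fin 2 → F) :=
  nL (shU k s F) (-shD k s F) + nE a b j₁ 1 0 + nE a b j₂ (-a) 2

variable {s : ℕ} {j₁ j₂ : Fin k}

theorem bP_c12 (a b : F) : bP a b (-a) 2 1 0 = 0 := by unfold bP; ring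

theorem bP_c21 (a b : F) : bP a b 1 0 (-a) 2 = 0 := by unfold bP; ring

theorem nII_iso (a b : F) (hk : k ≤ 2 * s) (hj₁ : k ≤ j₁.val + s) (hj₂ : k ≤ j₂.val + s)
    (w : (Fin k ⊕ Fin k) ⊕ Fin 2 → F) :
    Cfsg.quadFormMinus k F a b ((1 + nII k s a b j₁ j₂) w) = Cfsg.quadFormMinus k F a b w := by
  classical
  have hLE₁ := nL_nE (G := shU k s F) (H := -shD k s F) a b 1 0 (shU_single_free hj₁)
  have hLE₂ := nL_nE (G := shU k s F) (H := -shD k s F) a b (-a) 2 (shU_single_free hj₂)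
  have hE₁E₂ := nE_nE a b j₁ j₂ (bP_c12 a b)
  have e : (1 + nII k s a b j₁ j₂) =
      (1 + nL (shU k s F) (-shD k s F)) * (1 + nE a b j₁ 1 0) * (1 + nE a b j₂ (-a) 2) := by
    unfold nII
    simp only [mul_add, add_mul, mul_one, one_mul, hLE₁, hLE₂, hE₁E₂, add_zero]
    abel
  rw [e, Module.End.mul_apply, Module.End.mul_apply, nL_iso a b (nA_hGH hk), nE_iso, nE_iso]

theorem nII_sq (a b : F) (hk : k ≤ 2 * s) (hj₁ : k ≤ j₁.val + s) (hj₂ : k ≤ j₂.val + s) :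
    nII k s a b j₁ j₂ * nII k s a b j₁ j₂ =
      nE a b j₁ 1 0 * nE a b j₁ 1 0 + nE a b j₂ (-a) 2 * nE a b j₂ (-a) 2 := by
  classical
  exact ring_sq_three (nL_shift_sq hk) (nL_nE a b 1 0 (shU_single_free hj₁))
    (nE_nL a b 1 0 (negShD_free hj₁)) (nL_nE a b (-a) 2 (shU_single_free hj₂))
    (nE_nL a b (-a) 2 (negShD_free hj₂)) (nE_nE a b j₁ j₂ (bP_c12 a b))
    (nE_nE a b j₂ j₁ (bP_c21 a b))

theorem nII_pow_three (a b : F) (hk : k ≤ 2 * s) (hj₁ : k ≤ j₁.val + s) (hj₂ : k ≤ j₂.val + s) :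
    (nII k s a b j₁ j₂) ^ 3 = 0 := by
  classical
  exact ring_cube_three (nL_shift_sq hk) (nL_nE a b 1 0 (shU_single_free hj₁))
    (nE_nL a b 1 0 (negShD_free hj₁)) (nL_nE a b (-a) 2 (shU_single_free hj₂))
    (nE_nL a b (-a) 2 (negShD_free hj₂)) (nE_nE a b j₁ j₂ (bP_c12 a b))
    (nE_nE a b j₂ j₁ (bP_c21 a b)) (nE_cube a b j₁ 1 0) (nE_cube a b j₂ (-a) 2)

theorem nE_sq_mem_span (a b : F) (j : Fin k) (c₁ c₂ : F)
    (w : (Fin k ⊕ Fin k) ⊕ Fin 2 → F) :
    (nE a b j c₁ c₂ * nE a b j c₁ c₂) w ∈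
      Submodule.span F {(mvMk (Pi.single j 1) 0 0 0 : (Fin k ⊕ Fin k) ⊕ Fin 2 → F)} := by
  rw [nE_sq_apply]
  have : mvMk (Pi.single j (-(2 * nP a b c₁ c₂ * mvV w j))) 0 0 0 =
      (-(2 * nP a b c₁ c₂ * mvV w j)) •
        (mvMk (Pi.single j 1) 0 0 0 : (Fin k ⊕ Fin k) ⊕ Fin 2 → F) := by
    apply mv_ext
    · rw [mvU_mk, mvU_smul, mvU_mk, ← Pi.single_smul, smul_eq_mul, mul_one]
    · rw [mvV_mk, mvV_smul, mvV_mk, smul_zero]
    · rw [mvMk_z0, Pi.smul_apply, mvMk_z0, smul_zero]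
    · rw [mvMk_z1, Pi.smul_apply, mvMk_z1, smul_zero]
  rw [this]
  exact Submodule.smul_mem _ _ (Submodule.mem_span_singleton_self _)

theorem nII_finrank_sq_le [Fintype F] (a b : F) (hk : k ≤ 2 * s) (hj₁ : k ≤ j₁.val + s)
    (hj₂ : k ≤ j₂.val + s) :
    finrank F ↥(LinearMap.range (nII k s a b j₁ j₂ * nII k s a b j₁ j₂)) ≤ 2 := by
  classical
  rw [nII_sq a b hk hj₁ hj₂]
  set e₁ : (Fin k ⊕ Fin k) ⊕ Fin 2 → F := mvMk (Pi.single j₁ 1) 0 0 0 with he₁
  set e₂ : (Fin k ⊕ Fin k) ⊕ Fin 2 → F := mvMk (Pi.single j₂ 1) 0 0 0 with he₂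
  have hle : LinearMap.range (nE a b j₁ 1 0 * nE a b j₁ 1 0 + nE a b j₂ (-a) 2 * nE a b j₂ (-a) 2) ≤
      Submodule.span F {e₁} ⊔ Submodule.span F {e₂} := by
    rintro _ ⟨w, rfl⟩
    rw [LinearMap.add_apply]
    exact Submodule.add_mem _ (Submodule.mem_sup_left (nE_sq_mem_span a b j₁ 1 0 w))
      (Submodule.mem_sup_right (nE_sq_mem_span a b j₂ (-a) 2 w))
  have h4 := Submodule.finrank_mono hle
  have h5 := Submodule.finrank_add_le_finrank_add_finrank
    (Submodule.span F {e₁}) (Submodule.span F {e₂})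
  have h7 : finrank F ↥(Submodule.span F {e₁}) ≤ 1 := by
    have := finrank_span_le_card (R := F) ({e₁} : Set ((Fin k ⊕ Fin k) ⊕ Fin 2 → F))
    simpa using this
  have h8 : finrank F ↥(Submodule.span F {e₂}) ≤ 1 := by
    have := finrank_span_le_card (R := F) ({e₂} : Set ((Fin k ⊕ Fin k) ⊕ Fin 2 → F))
    simpa using this
  omega

/-- the kernel of the nilpotent part -/
theorem nII_ker {a b : F} (h2 : (2 : F) ≠ 0) (hD : 4 * b - a ^ 2 ≠ 0) (hj₁ : j₁.val < s)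
    (hj₂ : j₂.val < s) (hne : j₁ ≠ j₂) {w : (Fin k ⊕ Fin k) ⊕ Fin 2 → F}
    (hw : nII k s a b j₁ j₂ w = 0) :
    shU k s F (mvU w) = 0 ∧ shD k s F (mvV w) = 0 ∧ mvV w j₁ = 0 ∧ mvV w j₂ = 0 ∧
      w (.inr 0) = 0 ∧ w (.inr 1) = 0 := by
  classical
  unfold nII at hw
  rw [LinearMap.add_apply, LinearMap.add_apply, nL_apply, nE_apply, nE_apply] at hw
  have hz0 := congrFun hw (.inr 0)
  have hz1 := congrFun hw (.inr 1)
  rw [Pi.add_apply, Pi.add_apply, mvMk_z0, mvMk_z0, mvMk_z0, Pi.zero_apply] at hz0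
  rw [Pi.add_apply, Pi.add_apply, mvMk_z1, mvMk_z1, mvMk_z1, Pi.zero_apply] at hz1
  have hv₂ : mvV w j₂ = 0 := by
    have : mvV w j₂ * 2 = 0 := by linear_combination -hz1
    exact (mul_eq_zero.mp this).resolve_right h2
  have hv₁ : mvV w j₁ = 0 := by
    rw [hv₂] at hz0
    linear_combination -hz0
  have hV := congrArg mvV hw
  rw [mvV_add, mvV_add, mvV_mk, mvV_mk, mvV_mk, mvV_zero, add_zero, add_zero, LinearMap.neg_apply,
    neg_eq_zero] at hV
  have hU := congrArg mvU hw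
  rw [mvU_add, mvU_add, mvU_mk, mvU_mk, mvU_mk, mvU_zero, hv₁, hv₂, mul_zero, mul_zero, sub_zero,
    sub_zero] at hU
  have hU₁ := congrFun hU j₁
  rw [Pi.add_apply, Pi.add_apply, shU_free hj₁, zero_add, Pi.single_eq_same,
    Pi.single_eq_of_ne hne, add_zero, Pi.zero_apply] at hU₁
  have hU₂ := congrFun hU j₂
  rw [Pi.add_apply, Pi.add_apply, shU_free hj₂, zero_add, Pi.single_eq_same,
    Pi.single_eq_of_ne hne.symm, zero_add, Pi.zero_apply] at hU₂
  have hz₂ : w (.inr 1) = 0 := by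
    have : (4 * b - a ^ 2) * w (.inr 1) = 0 := by
      unfold bP at hU₂
      linear_combination hU₂
    exact (mul_eq_zero.mp this).resolve_left hD
  have hz₁ : w (.inr 0) = 0 := by
    have : 2 * w (.inr 0) = 0 := by
      unfold bP at hU₁
      rw [hz₂] at hU₁
      linear_combination hU₁
    exact (mul_eq_zero.mp this).resolve_left h2
  rw [hU₁, hU₂, Pi.single_zero, Pi.single_zero, add_zero, add_zero] at hU
  exact ⟨hU, hV, hv₁, hv₂, hz₁, hz₂⟩

theorem nII_ne_zero (a b : F) (h2 : (2 : F) ≠ 0) (hD : 4 * b - a ^ 2 ≠ 0) (hs : s < k)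
    (hj₁ : j₁.val < s) (hj₂ : j₂.val < s) (hne : j₁ ≠ j₂) : nII k s a b j₁ j₂ ≠ 0 := by
  classical
  intro h
  have h1 : nII k s a b j₁ j₂ (mvMk (Pi.single (⟨0, by omega⟩ : Fin k) (1 : F)) 0 0 0) = 0 := by
    rw [h]; rfl
  have h3 := (nII_ker h2 hD hj₁ hj₂ hne h1).1
  rw [mvU_mk, shU_eq_zero_iff] at h3
  have := h3 ⟨0, by omega⟩ (by simp only; omega)
  rw [Pi.single_eq_same] at this
  exact one_ne_zero this

/-- type `3^2 2^(k-2)`: the kernel lies in the image -/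
theorem nII_ker_le_range {a b : F} (h2 : (2 : F) ≠ 0) (hD : 4 * b - a ^ 2 ≠ 0)
    (hk : k + 2 = 2 * s) (hj₁ : j₁.val + 2 = s) (hj₂ : j₂.val + 1 = s) :
    LinearMap.ker (nII k s a b j₁ j₂) ≤ LinearMap.range (nII k s a b j₁ j₂) := by
  classical
  have hne : j₁ ≠ j₂ := by
    intro h
    rw [h] at hj₁
    omega
  intro w hw
  rw [LinearMap.mem_ker] at hw
  obtain ⟨h1, h3, hv₁, hv₂, hz₁, hz₂⟩ := nII_ker h2 hD (by omega) (by omega) hne hw
  rw [shU_eq_zero_iff] at h1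
  rw [shD_eq_zero_iff] at h3
  set u₀ : Fin k → F := mvU w - Pi.single j₁ (mvU w j₁) - Pi.single j₂ (mvU w j₂) with hu₀
  set z₂' : F := mvU w j₂ / (4 * b - a ^ 2) with hz₂'
  set z₁' : F := (mvU w j₁ - a * z₂') / 2 with hz₁'
  have hu₀0 : ∀ i : Fin k, i.val < s → u₀ i = 0 := by
    intro i hi
    rw [hu₀, Pi.sub_apply, Pi.sub_apply]
    by_cases hi₁ : i = j₁
    · rw [hi₁, Pi.single_eq_same, Pi.single_eq_of_ne hne, sub_self, sub_zero]
    · by_cases hi₂ : i = j₂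
      · rw [hi₂, Pi.single_eq_same, Pi.single_eq_of_ne hne.symm, sub_zero, sub_self]
      · rw [Pi.single_eq_of_ne hi₁, Pi.single_eq_of_ne hi₂, sub_zero, sub_zero]
        apply h1 i
        have : i.val ≠ j₁.val := fun h => hi₁ (Fin.ext h)
        have : i.val ≠ j₂.val := fun h => hi₂ (Fin.ext h)
        omega
  have hv0 : ∀ i : Fin k, k ≤ i.val + s → mvV w i = 0 := by
    intro i hi
    by_cases hi' : s ≤ i.val
    · exact h3 i hi'
    · by_cases hi₁ : i = j₁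
      · rw [hi₁, hv₁]
      · have : i = j₂ := by
          apply Fin.ext
          have : i.val ≠ j₁.val := fun h => hi₁ (Fin.ext h)
          omega
        rw [this, hv₂]
  refine ⟨mvMk (shD k s F u₀) (-(shU k s F (mvV w))) z₁' z₂', ?_⟩
  unfold nII
  rw [LinearMap.add_apply, LinearMap.add_apply, nL_apply, nE_apply, nE_apply, mvU_mk, mvV_mk,
    mvMk_z0, mvMk_z1, LinearMap.neg_apply, map_neg, neg_neg, shU_shD_of s u₀ hu₀0,
    shD_shU_of s (mvV w) hv0, Pi.neg_apply, Pi.neg_apply, shU_free (by omega : j₁.val < s),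
    shU_free (by omega : j₂.val < s)]
  have e1 : bP a b z₁' z₂' 1 0 - nP a b 1 0 * -0 = mvU w j₁ := by
    unfold bP
    rw [hz₁']
    field_simp
    ring
  have e2 : bP a b z₁' z₂' (-a) 2 - nP a b (-a) 2 * -0 = mvU w j₂ := by
    unfold bP
    rw [hz₁', hz₂']
    field_simp
    ring
  rw [e1, e2]
  apply mv_ext
  · rw [mvU_add, mvU_add, mvU_mk, mvU_mk, mvU_mk, hu₀]
    abel
  · rw [mvV_add, mvV_add, mvV_mk, mvV_mk, mvV_mk, add_zero, add_zero]
  · rw [Pi.add_apply, Pi.add_apply, mvMk_z0, mvMk_z0, mvMk_z0, hz₁]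
    ring
  · rw [Pi.add_apply, Pi.add_apply, mvMk_z1, mvMk_z1, mvMk_z1, hz₂]
    ring

end caseII

end Cfsg.Agent.Helper94.Tp
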