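import Mathlib
import Cfsg.Agent.Helper94.TpK
import Cfsg.Agent.Helper94.TpM

set_option autoImplicit false
set_option linter.unusedSectionVars false
set_option linter.style.haveILetI false

/-!
# Unipotent elements of `Ω⁻_{2d}(q)` fixing no member of an isometry class of nondegenerate
subspaces of odd dimension
-/

namespace Cfsg.Agent.Helper94.Tp

open Module Polynomial Matrix
open Cfsg
open Cfsg.Agent.Helper44 Cfsg.Agent.Helper44.QType
open Cfsg.Agent.Helper59.InvChain Cfsg.Agent.Helper59.Elusive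
open Cfsg.Agent.Helper99.RDecomp Cfsg.Agent.Helper99.SpStruct Cfsg.Agent.Helper99.SpElt
open Cfsg.Agent.Helper94.Ti Cfsg.Agent.Helper94.Ts Cfsg.Agent.Helper94.Tn

universe u v

section abstractN

variable {F : Type u} [Field F] [Fintype F]
variable {V : Type v} [AddCommGroup V] [Module F V] [FiniteDimensional F V]
variable {B : LinearMap.BilinForm F V}

/-- in a space of minus type, `W ≅ H₀ ⊥ ⟨u₀⟩` and `W^⊥ = H' ⊥ ⟨u'⟩` (`H₀`, `H'` hyperbolic) cannot
hold with `B u' u' = - c² B u₀ u₀` -/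
theorem false_of_orth_split (hB : B.IsSymm) (h2 : (2 : F) ≠ 0) (hnd : B.Nondegenerate) {d : ℕ}
    (hV : finrank F V = 2 * d) (hT : SType B ⊤ d (-1)) {W H₀ : Submodule F V} {u₀ u' : V}
    {t : ℕ} {c : F} (hW : Nd B W)
    (hiso : Iso B W (H₀ ⊔ Submodule.span F {u₀})) (hH₀ : Nd B H₀)
    (hH₀dim : finrank F ↥H₀ = 2 * t) (hH₀h : Hyp B H₀) (hu₀ : u₀ ∈ B.orthogonal H₀)
    (hu₀u₀ : B u₀ u₀ ≠ 0) (hu' : u' ∈ B.orthogonal W) (hu'0 : B u' u' ≠ 0)
    (hu'u' : B u' u' = c * c * (-B u₀ u₀))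
    (hH' : Hyp B (B.orthogonal W ⊓ B.orthogonal (Submodule.span F {u'})))
    (hroom : 2 * t + 3 ≤ 2 * d) : False := by
  obtain ⟨hW₀nd, hW₀dim⟩ := nd_hyp_line hB hH₀ hu₀ hu₀u₀ hH₀dim
  have hWdim : finrank F ↥W = 2 * t + 1 := by rw [hiso.finrank_eq, hW₀dim]
  have hX₀nd := nd_orthogonal hB hnd hW₀nd
  have hX₀dim := finrank_orthogonal_add hB hW₀nd
  obtain ⟨a₀, ha₀X, ha₀a₀⟩ := exists_norm_eq hB h2 hX₀nd (by omega) (- B u₀ u₀)
  have hTA₀ := sType_hyp_line_add hB h2 hnd hH₀ hH₀dim hH₀h hu₀ hu₀u₀ ha₀X ha₀a₀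
  have horthA := orth_span_of_mem_orthogonal (F := F) (B := B) hu'
  have horthA₀ := orth_span_of_mem_orthogonal (F := F) (B := B) ha₀X
  have hisoA : Iso B (W ⊔ Submodule.span F {u'})
      ((H₀ ⊔ Submodule.span F {u₀}) ⊔ Submodule.span F {a₀}) :=
    iso_sup hB (horthA.disjoint hW) (horthA₀.disjoint hW₀nd) horthA horthA₀ hiso
      (iso_span_singleton hB (c := c) hu'0 (by rw [hu'u', ha₀a₀]))
  have hTA := hisoA.symm.sType hTA₀
  have hAnd : Nd B (W ⊔ Submodule.span F {u'}) :=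
    hW.sup hB.isRefl (nd_span_singleton hu'0) horthA
  have hAdim : finrank F ↥(W ⊔ Submodule.span F {u'}) = 2 * (t + 1) := by
    rw [finrank_sup_of_disjoint (horthA.disjoint hW), hWdim,
      finrank_span_singleton (ne_zero_of_norm_ne hu'0)]
    ring
  -- the hyperbolic complement
  have hXnd := nd_orthogonal hB hnd hW
  have hXdim := finrank_orthogonal_add hB hW
  have hSle : Submodule.span F {u'} ≤ B.orthogonal W := by
    rw [Submodule.span_singleton_le_iff_mem]; exact hu'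
  have hH'nd := (nd_span_singleton hu'0).inf_orth hB.isRefl hSle hXnd
  have hH'dim := (nd_span_singleton hu'0).finrank_inf_orth hB.isRefl hSle
  rw [finrank_span_singleton (ne_zero_of_norm_ne hu'0)] at hH'dim
  have hH'dim' : finrank F ↥(B.orthogonal W ⊓ B.orthogonal (Submodule.span F {u'})) =
      2 * (d - t - 1) := by omega
  have hTH' := (hyp_iff_sType hB h2 hnd hH'nd hH'dim').mp hH'
  have horth : Orth B (W ⊔ Submodule.span F {u'})
      (B.orthogonal W ⊓ B.orthogonal (Submodule.span F {u'})) :=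
    Orth.sup_left (orth_iff_le.mpr inf_le_left) (orth_iff_le.mpr inf_le_right)
  have h4 := sType_sup hB h2 hAnd hH'nd horth hAdim hH'dim' hTA hTH'
  have htop : (W ⊔ Submodule.span F {u'}) ⊔
      (B.orthogonal W ⊓ B.orthogonal (Submodule.span F {u'})) = ⊤ := by
    rw [sup_assoc, ((nd_span_singleton hu'0).sup_inf_orth hB.isRefl hSle).1]
    exact (hW.isCompl hB.isRefl).sup_eq_top
  rw [htop, show t + 1 + (d - t - 1) = d by omega] at h4
  have := h4.unique hT
  norm_num at this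

end abstractN

section group

variable {F : Type u} [Field F] [Fintype F] {ι : Type} [Fintype ι] [DecidableEq ι]
variable (Q : QuadraticForm F (ι → F)) {p : ℕ} [Fact p.Prime] [CharP F p]

/-- a unipotent element of `Ω` from a nilpotent endomorphism -/
theorem exists_unip_of_nilp [Nonempty ι] (h2 : (2 : F) ≠ 0) (hnd : (qB Q).Nondegenerate)
    {N : Module.End F (ι → F)} (hiso : ∀ v, Q ((1 + N) v) = Q v) (hN3 : N ^ 3 = 0)
    (hne : N ≠ 0) :
    ∃ y : ↥(Cfsg.isometryGroup F ⇑Q), y ∈ Cfsg.Omega F ⇑Q ∧ orderOf y = p ∧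
      Matrix.toLin' ((y : GL ι F) : Matrix ι ι F) = 1 + N := by
  classical
  have hp : p.Prime := Fact.out
  have hp2 : p ≠ 2 := by
    intro h
    apply h2
    have := CharP.cast_eq_zero F p
    rw [h] at this
    exact_mod_cast this
  have hp3 : 3 ≤ p := by
    have := hp.two_le
    omega
  have hpodd : Odd p := hp.odd_of_ne_two hp2
  set x : Module.End F (ι → F) := 1 + N with hx
  have hxp : x ^ p = 1 := by
    have : CharP (Module.End F (ι → F)) p :=
      charP_of_injective_algebraMap' (A := Module.End F (ι → F)) F p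
    rw [hx, add_pow_char_of_commute _ (Commute.one_left N), one_pow]
    have : N ^ p = 0 := by
      rw [← Nat.sub_add_cancel hp3, pow_add, hN3, mul_zero]
    rw [this, add_zero]
  obtain ⟨y, hy⟩ := exists_isom_elt Q hnd x hiso
  have hylin : Matrix.toLin' ((y : GL ι F) : Matrix ι ι F) = x := by
    apply LinearMap.ext
    intro v
    rw [Matrix.toLin'_apply]
    exact hy v
  have hyp : y ^ p = 1 := by
    apply Subtype.ext
    apply Units.ext
    apply Matrix.toLin'.injective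
    rw [Subgroup.coe_pow, Units.val_pow_eq_pow_val, Matrix.toLin'_pow, hylin, hxp]
    show (1 : Module.End F (ι → F)) = Matrix.toLin' 1
    rw [Matrix.toLin'_one]
    rfl
  have hy1 : y ≠ 1 := by
    intro h1
    have h3 : Matrix.toLin' ((y : GL ι F) : Matrix ι ι F) = 1 := by
      rw [h1]
      show Matrix.toLin' 1 = (1 : Module.End F (ι → F))
      rw [Matrix.toLin'_one]
      rfl
    rw [hylin, hx] at h3
    apply hne
    have := congrArg (fun z => z - 1) h3
    simpa using this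
  have hyΩ : y ∈ Cfsg.Omega F ⇑Q := mem_Omega_of_odd_order' Q h2 hnd y hpodd hyp
  exact ⟨y, hyΩ, orderOf_eq_prime hyp hy1, hylin⟩

end group

section plane

variable {F : Type u} [Field F] [Fintype F] {k : ℕ}

/-- the norm form of the anisotropic plane is universal -/
theorem exists_plane_norm (h2 : (2 : F) ≠ 0) {a b : F}
    (hab : ∀ z₁ z₂ : F, z₁ ^ 2 + a * z₁ * z₂ + b * z₂ ^ 2 = 0 → z₁ = 0 ∧ z₂ = 0) (t : F) :
    ∃ s₁ s₂ : F, nP a b s₁ s₂ = t := by
  have hdim : 2 ≤ finrank F ((Fin 0 ⊕ Fin 0) ⊕ Fin 2 → F) := by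
    rw [Module.finrank_fintype_fun_eq_card, card_minus]
  obtain ⟨w, hw⟩ := exists_Q_eq (minusForm 0 F a b) h2 (mB_nondeg hab) hdim t
  refine ⟨w (.inr 0), w (.inr 1), ?_⟩
  rw [← hw]
  show _ = Cfsg.quadFormMinus 0 F a b w
  rw [quadFormMinus_eq_mv]
  unfold dot
  rw [Finset.univ_eq_empty, Finset.sum_empty, zero_add]

theorem dot_zero_left (v : Fin k → F) : dot 0 v = 0 := by
  rw [dot_eq, zero_dotProduct]

theorem qB_minus_plane_self (a b s₁ s₂ : F) :
    qB (minusForm k F a b) (mvMk 0 0 s₁ s₂) (mvMk 0 0 s₁ s₂) = 2 * nP a b s₁ s₂ := by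
  rw [qB_self]
  show 2 * Cfsg.quadFormMinus k F a b (mvMk 0 0 s₁ s₂) = _
  rw [quadFormMinus_eq_mv, mvU_mk, mvV_mk, dot_zero_left, zero_add, mvMk_z0, mvMk_z1]

theorem qB_minus_plane (a b s₁ s₂ : F) (w : (Fin k ⊕ Fin k) ⊕ Fin 2 → F) :
    qB (minusForm k F a b) (mvMk 0 0 s₁ s₂) w = bP a b s₁ s₂ (w (.inr 0)) (w (.inr 1)) := by
  rw [qB_apply]
  unfold QuadraticMap.polar
  show Cfsg.quadFormMinus k F a b (mvMk 0 0 s₁ s₂ + w) - Cfsg.quadFormMinus k F a b (mvMk 0 0 s₁ s₂)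
    - Cfsg.quadFormMinus k F a b w = _
  rw [quadFormMinus_eq_mv, quadFormMinus_eq_mv, quadFormMinus_eq_mv, mvU_add, mvV_add, mvU_mk,
    mvV_mk, zero_add, zero_add, dot_zero_left, Pi.add_apply, Pi.add_apply, mvMk_z0, mvMk_z1]
  unfold nP bP
  ring

/-- on the kernel of the nilpotent part of type `3 2^(k-1) 1`, the form has rank one -/
theorem nIII_hK (h2 : (2 : F) ≠ 0) {a b : F} (hD : a ^ 2 - 4 * b ≠ 0) {s : ℕ} {j : Fin k}
    (hk : k + 1 = 2 * s) (hj : j.val + 1 = s) {s₁ s₂ : F} (hs : nP a b s₁ s₂ ≠ 0)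
    {w : (Fin k ⊕ Fin k) ⊕ Fin 2 → F}
    (hw : nIII k s a b j (a * s₁ + 2 * b * s₂) (-(2 * s₁ + a * s₂)) w = 0) :
    qB (minusForm k F a b) (mvMk 0 0 s₁ s₂) (mvMk 0 0 s₁ s₂) * qB (minusForm k F a b) w w =
      qB (minusForm k F a b) (mvMk 0 0 s₁ s₂) w * qB (minusForm k F a b) (mvMk 0 0 s₁ s₂) w := by
  have hc : a * s₁ + 2 * b * s₂ ≠ 0 ∨ -(2 * s₁ + a * s₂) ≠ 0 := by
    by_contra hcon
    push Not at hcon
    obtain ⟨h1, h3⟩ := hcon
    apply hs
    have : 2 * nP a b s₁ s₂ = 0 := by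
      unfold nP
      linear_combination s₂ * h1 - s₁ * h3
    exact (mul_eq_zero.mp this).resolve_left h2
  have hdot := nIII_dot hk hj hc hw
  obtain ⟨-, -, -, hb⟩ := nIII_ker (by omega) hc hw
  have hdet : s₁ * w (.inr 1) - s₂ * w (.inr 0) = 0 := by
    have : (a ^ 2 - 4 * b) * (s₁ * w (.inr 1) - s₂ * w (.inr 0)) = 0 := by
      unfold bP at hb
      linear_combination hb
    exact (mul_eq_zero.mp this).resolve_left hD
  rw [qB_minus_plane_self, qB_minus_plane, qB_self]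
  show 2 * nP a b s₁ s₂ * (2 * Cfsg.quadFormMinus k F a b w) = _
  rw [quadFormMinus_eq_mv, hdot, zero_add]
  unfold nP bP
  linear_combination ((4 * b - a ^ 2) * (s₁ * w (.inr 1) - s₂ * w (.inr 0))) * hdet

end plane

end Cfsg.Agent.Helper94.Tp
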