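import Mathlib
import Cfsg.Agent.Helper94.TpN

set_option autoImplicit false
set_option linter.unusedSectionVars false
set_option linter.style.haveILetI false

/-!
# Unipotent elements of `Ω⁻_{2d}(q)` fixing no member of an isometry class of nondegenerate
subspaces of odd dimension: the witnesses
-/

namespace Cfsg.Agent.Helper94.Tp

open Module Polynomial Matrix
open Cfsg
open Cfsg.Agent.Helper44 Cfsg.Agent.Helper44.QType
open Cfsg.Agent.Helper59.InvChain Cfsg.Agent.Helper59.Elusive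
open Cfsg.Agent.Helper99.RDecomp Cfsg.Agent.Helper99.SpStruct Cfsg.Agent.Helper99.SpElt
open Cfsg.Agent.Helper94.Ti Cfsg.Agent.Helper94.Ts Cfsg.Agent.Helper94.Tn

universe u

section witness

variable {F : Type u} [Field F] [Fintype F] {p : ℕ} [Fact p.Prime] [CharP F p] {k : ℕ}

theorem plane_c_ne (h2 : (2 : F) ≠ 0) {a b s₁ s₂ : F} (hs : nP a b s₁ s₂ ≠ 0) :
    a * s₁ + 2 * b * s₂ ≠ 0 ∨ -(2 * s₁ + a * s₂) ≠ 0 := by
  by_contra hcon
  push Not at hcon
  obtain ⟨h1, h3⟩ := hcon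
  apply hs
  have : 2 * nP a b s₁ s₂ = 0 := by
    unfold nP
    linear_combination s₂ * h1 - s₁ * h3
  exact (mul_eq_zero.mp this).resolve_left h2

/-- the element of type `3 2^(k-1) 1` whose fixed nonsingular vector has norm `κ` -/
theorem exists_unip_III (h2 : (2 : F) ≠ 0) {a b : F}
    (hab : ∀ z₁ z₂ : F, z₁ ^ 2 + a * z₁ * z₂ + b * z₂ ^ 2 = 0 → z₁ = 0 ∧ z₂ = 0)
    {s : ℕ} (hs : k = 2 * s + 1) (hk : 3 ≤ k) {κ : F} (hκ : κ ≠ 0) :
    ∃ y : ↥(Cfsg.isometryGroup F ⇑(minusForm k F a b)), y ∈ Cfsg.Omega F ⇑(minusForm k F a b) ∧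
      orderOf y = p ∧
      (∀ u v, qB (minusForm k F a b)
        (Matrix.toLin' ((y : GL ((Fin k ⊕ Fin k) ⊕ Fin 2) F) :
          Matrix ((Fin k ⊕ Fin k) ⊕ Fin 2) ((Fin k ⊕ Fin k) ⊕ Fin 2) F) u)
        (Matrix.toLin' ((y : GL ((Fin k ⊕ Fin k) ⊕ Fin 2) F) :
          Matrix ((Fin k ⊕ Fin k) ⊕ Fin 2) ((Fin k ⊕ Fin k) ⊕ Fin 2) F) v) =
        qB (minusForm k F a b) u v) ∧
      ∀ W : Submodule F ((Fin k ⊕ Fin k) ⊕ Fin 2 → F), Nd (qB (minusForm k F a b)) W →
        Inv (Matrix.toLin' ((y : GL ((Fin k ⊕ Fin k) ⊕ Fin 2) F) :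
          Matrix ((Fin k ⊕ Fin k) ⊕ Fin 2) ((Fin k ⊕ Fin k) ⊕ Fin 2) F)) W →
        finrank F ↥W % 4 = 1 →
        ∃ u ∈ W, ∃ c : F, c ≠ 0 ∧ qB (minusForm k F a b) u u = c * c * κ ∧
          Hyp (qB (minusForm k F a b))
            (W ⊓ (qB (minusForm k F a b)).orthogonal (Submodule.span F {u})) := by
  classical
  have hsymm := qB_symm (minusForm k F a b)
  have hnd : (qB (minusForm k F a b)).Nondegenerate := mB_nondeg hab
  have hD : a ^ 2 - 4 * b ≠ 0 := by
    intro h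
    exact not_isSquare_disc h2 hab ⟨0, by rw [h]; ring⟩
  haveI : Nonempty ((Fin k ⊕ Fin k) ⊕ Fin 2) := ⟨.inr 0⟩
  obtain ⟨j, hjv⟩ : ∃ j : Fin k, j.val = s := ⟨⟨s, by omega⟩, rfl⟩
  obtain ⟨s₁, s₂, hs12⟩ := exists_plane_norm h2 hab (κ / 2)
  have hsne : nP a b s₁ s₂ ≠ 0 := by
    rw [hs12]
    exact div_ne_zero hκ h2
  have hc := plane_c_ne h2 hsne
  obtain ⟨y, hyΩ, hyord, hylin⟩ := exists_unip_of_nilp (p := p) (minusForm k F a b) h2 hnd
    (N := nIII k (s + 1) a b j (a * s₁ + 2 * b * s₂) (-(2 * s₁ + a * s₂)))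
    (nIII_iso a b _ _ (by omega) (by omega))
    (nIII_pow_three a b _ _ (by omega) (by omega))
    (nIII_ne_zero a b _ _ (by omega) (by omega) hc)
  have hx := qB_isom (minusForm k F a b) (toLin_iso y)
  refine ⟨y, hyΩ, hyord, hx, fun W hWnd hWinv hdim4 => ?_⟩
  rw [hylin] at hx hWinv
  have hsub : (1 + nIII k (s + 1) a b j (a * s₁ + 2 * b * s₂) (-(2 * s₁ + a * s₂))) - 1 =
      nIII k (s + 1) a b j (a * s₁ + 2 * b * s₂) (-(2 * s₁ + a * s₂)) := add_sub_cancel_left 1 _
  have ha₀ : qB (minusForm k F a b) (mvMk 0 0 s₁ s₂) (mvMk 0 0 s₁ s₂) = κ := by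
    rw [qB_minus_plane_self, hs12]
    field_simp
  obtain ⟨u, huW, c, hc0, huu, hHh⟩ := exists_split_of_unip hsymm hnd h2 hx
    (by rw [hsub]; exact nIII_pow_three a b _ _ (by omega) (by omega))
    (by rw [hsub]; exact nIII_finrank_sq_le a b _ _ (by omega) (by omega))
    (a₀ := mvMk 0 0 s₁ s₂) (by rw [ha₀]; exact hκ)
    (by
      rw [hsub]
      intro w hw
      exact nIII_hK h2 hD (by omega) (by omega) hsne (LinearMap.mem_ker.mp hw))
    hWinv hWnd hdim4
  rw [ha₀] at huu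
  exact ⟨u, huW, c, hc0, huu, hHh⟩

/-- an element of order `p` of `Ω⁻_{2(k+1)}(q)` without invariant nondegenerate subspaces
isometric to a given one of odd dimension `m ≤ k` -/
theorem exists_unip_witness_minus (h2 : (2 : F) ≠ 0) {a b : F}
    (hab : ∀ z₁ z₂ : F, z₁ ^ 2 + a * z₁ * z₂ + b * z₂ ^ 2 = 0 → z₁ = 0 ∧ z₂ = 0)
    (hk : 3 ≤ k) {m : ℕ} (hm : Odd m) (hmk : m ≤ k)
    {W₀ : Submodule F ((Fin k ⊕ Fin k) ⊕ Fin 2 → F)} (hW₀dim : finrank F ↥W₀ = m)
    (hW₀ : Nd (qB (minusForm k F a b)) W₀) :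
    ∃ y : ↥(Cfsg.isometryGroup F ⇑(minusForm k F a b)), y ∈ Cfsg.Omega F ⇑(minusForm k F a b) ∧
      orderOf y = p ∧
      ∀ W : Submodule F ((Fin k ⊕ Fin k) ⊕ Fin 2 → F), Nd (qB (minusForm k F a b)) W →
        Iso (qB (minusForm k F a b)) W W₀ →
        Inv (Matrix.toLin' ((y : GL ((Fin k ⊕ Fin k) ⊕ Fin 2) F) :
          Matrix ((Fin k ⊕ Fin k) ⊕ Fin 2) ((Fin k ⊕ Fin k) ⊕ Fin 2) F)) W → False := by
  classical
  have hsymm := qB_symm (minusForm k F a b)
  have hnd : (qB (minusForm k F a b)).Nondegenerate := mB_nondeg hab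
  have hD : a ^ 2 - 4 * b ≠ 0 := by
    intro h
    exact not_isSquare_disc h2 hab ⟨0, by rw [h]; ring⟩
  have hD' : 4 * b - a ^ 2 ≠ 0 := by
    intro h
    apply hD
    linear_combination -h
  haveI : Nonempty ((Fin k ⊕ Fin k) ⊕ Fin 2) := ⟨.inr 0⟩
  have hV : finrank F ((Fin k ⊕ Fin k) ⊕ Fin 2 → F) = 2 * (k + 1) := by
    rw [Module.finrank_fintype_fun_eq_card, card_minus]
  obtain ⟨t, ht⟩ := hm
  rcases Nat.even_or_odd k with ⟨s, hs⟩ | ⟨s, hs⟩
  · -- `k = 2 s`
    by_cases hm4 : m % 4 = 1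
    · -- type `3^2 2^(k-2)`
      obtain ⟨j₁, hj₁v⟩ : ∃ j : Fin k, j.val = s - 1 := ⟨⟨s - 1, by omega⟩, rfl⟩
      obtain ⟨j₂, hj₂v⟩ : ∃ j : Fin k, j.val = s := ⟨⟨s, by omega⟩, rfl⟩
      have hne : j₁ ≠ j₂ := by
        intro h
        rw [h] at hj₁v
        omega
      obtain ⟨y, hyΩ, hyord, hylin⟩ := exists_unip_of_nilp (p := p) (minusForm k F a b) h2 hnd
        (N := nII k (s + 1) a b j₁ j₂)
        (nII_iso a b (by omega) (by omega) (by omega))
        (nII_pow_three a b (by omega) (by omega) (by omega))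
        (nII_ne_zero a b h2 hD' (by omega) (by omega) (by omega) hne)
      refine ⟨y, hyΩ, hyord, fun W hWnd hWiso hWinv => ?_⟩
      have hx := qB_isom (minusForm k F a b) (toLin_iso y)
      rw [hylin] at hx hWinv
      have hsub : (1 + nII k (s + 1) a b j₁ j₂) - 1 = nII k (s + 1) a b j₁ j₂ :=
        add_sub_cancel_left 1 _
      have hWdim : finrank F ↥W = m := by rw [hWiso.finrank_eq, hW₀dim]
      have h3 := mod_four_of_ker_le_range hsymm hnd h2 hx
        (by rw [hsub]; exact nII_pow_three a b (by omega) (by omega) (by omega))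
        (by rw [hsub]; exact nII_ker_le_range h2 hD' (by omega) (by omega) (by omega))
        (by rw [hsub]; exact nII_finrank_sq_le a b (by omega) (by omega) (by omega))
        hWinv hWnd (by rw [hWdim]; exact ⟨t, ht⟩)
      rw [hWdim] at h3
      omega
    · -- type `2^k 1^2`
      obtain ⟨y, hyΩ, hyord, hylin⟩ := exists_unip_of_nilp (p := p) (minusForm k F a b) h2 hnd
        (N := nL (shU k s F) (-shD k s F))
        (nI_iso a b (by omega))
        (nI_pow_three (by omega))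
        (nI_ne_zero (by omega))
      refine ⟨y, hyΩ, hyord, fun W hWnd hWiso hWinv => ?_⟩
      have hx := qB_isom (minusForm k F a b) (toLin_iso y)
      rw [hylin] at hx hWinv
      have hsub : (1 + nL (shU k s F) (-shD k s F)) - 1 = nL (shU k s F) (-shD k s F) :=
        add_sub_cancel_left 1 _
      have hWdim : finrank F ↥W = m := by rw [hWiso.finrank_eq, hW₀dim]
      have h3 := mod_four_of_sq_zero hsymm hnd h2 hx
        (by rw [hsub]; exact nI_range_le_ker (by omega))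
        (by rw [hsub]; exact nI_finrank_ker_le (by omega))
        hWinv hWnd (by rw [hWdim]; exact ⟨t, ht⟩)
      rw [hWdim] at h3
      exact hm4 h3
  · -- `k = 2 s + 1`
    obtain ⟨H₀, u₀, hH₀W, hH₀nd, hH₀dim, hH₀ty, hu₀W, hu₀orth, hu₀, hW₀eq⟩ :=
      exists_split_odd hsymm h2 hnd hW₀ (by rw [hW₀dim, ht] : finrank F ↥W₀ = 2 * t + 1)
    have hH₀h : Hyp (qB (minusForm k F a b)) H₀ :=
      (hyp_iff_sType hsymm h2 hnd hH₀nd hH₀dim).mpr hH₀ty
    by_cases hm4 : m % 4 = 1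
    · -- the fixed vector in the class opposite to that of `W₀`
      have hchar : ringChar F ≠ 2 := by
        intro h
        apply h2
        have := ringChar.Nat.cast_ringChar (R := F)
        rw [h] at this
        exact_mod_cast this
      obtain ⟨μ, hμ⟩ := FiniteField.exists_nonsquare hchar
      have hμ0 : μ ≠ 0 := by
        rintro rfl
        exact hμ ⟨0, by ring⟩
      obtain ⟨y, hyΩ, hyord, -, hy⟩ := exists_unip_III (p := p) h2 hab hs hk
        (κ := μ * qB (minusForm k F a b) u₀ u₀) (mul_ne_zero hμ0 hu₀)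
      refine ⟨y, hyΩ, hyord, fun W hWnd hWiso hWinv => ?_⟩
      have hWdim : finrank F ↥W = m := by rw [hWiso.finrank_eq, hW₀dim]
      obtain ⟨u, huW, c, hc0, huu, hHh⟩ := hy W hWnd hWinv (by rw [hWdim]; exact hm4)
      have huu0 : qB (minusForm k F a b) u u ≠ 0 := by
        rw [huu]
        exact mul_ne_zero (mul_ne_zero hc0 hc0) (mul_ne_zero hμ0 hu₀)
      have hSle : Submodule.span F {u} ≤ W := by
        rw [Submodule.span_singleton_le_iff_mem]; exact huW
      have hHnd := (nd_span_singleton huu0).inf_orth hsymm.isRefl hSle hWnd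
      have hHdim := (nd_span_singleton huu0).finrank_inf_orth hsymm.isRefl hSle
      rw [finrank_span_singleton (ne_zero_of_norm_ne huu0)] at hHdim
      have hsup := ((nd_span_singleton huu0).sup_inf_orth hsymm.isRefl hSle).1
      rw [sup_comm] at hsup
      have huorth : u ∈ (qB (minusForm k F a b)).orthogonal
          (W ⊓ (qB (minusForm k F a b)).orthogonal (Submodule.span F {u})) := by
        rw [LinearMap.BilinForm.mem_orthogonal_iff]
        intro n hn
        have := (LinearMap.BilinForm.mem_orthogonal_iff.mp hn.2) u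
          (Submodule.mem_span_singleton_self u)
        show qB (minusForm k F a b) n u = 0
        rw [hsymm.eq]
        exact this
      have hiso' : Iso (qB (minusForm k F a b))
          ((W ⊓ (qB (minusForm k F a b)).orthogonal (Submodule.span F {u})) ⊔
            Submodule.span F {u}) (H₀ ⊔ Submodule.span F {u₀}) := by
        rw [hsup, hW₀eq]
        exact hWiso
      obtain ⟨r, hr⟩ := isSquare_of_iso_split hsymm h2 hnd hHnd (t := t) (by omega) hHh huorth huu0
        hH₀nd hH₀dim hH₀h hu₀orth hu₀ hiso' (by rw [hV]; omega)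
      apply hμ
      refine ⟨r / (c * qB (minusForm k F a b) u₀ u₀), ?_⟩
      rw [huu] at hr
      field_simp
      linear_combination hr
    · -- the fixed vector of norm `- B u₀ u₀`
      obtain ⟨y, hyΩ, hyord, hx, hy⟩ := exists_unip_III (p := p) h2 hab hs hk
        (κ := - qB (minusForm k F a b) u₀ u₀) (neg_ne_zero.mpr hu₀)
      refine ⟨y, hyΩ, hyord, fun W hWnd hWiso hWinv => ?_⟩
      have hWdim : finrank F ↥W = m := by rw [hWiso.finrank_eq, hW₀dim]
      have hW'inv := isom_inv_orthogonal hnd hx hWinv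
      have hW'nd := nd_orthogonal hsymm hnd hWnd
      have hW'dim := finrank_orthogonal_add hsymm hWnd
      obtain ⟨u', hu'W', c, hc0, hu'u', hH'h⟩ := hy _ hW'nd hW'inv (by omega)
      have hu'0 : qB (minusForm k F a b) u' u' ≠ 0 := by
        rw [hu'u']
        exact mul_ne_zero (mul_ne_zero hc0 hc0) (neg_ne_zero.mpr hu₀)
      exact false_of_orth_split hsymm h2 hnd hV
        (sType_top (minusForm k F a b) h2 (hT_minus hab)) hWnd
        (by rw [hW₀eq]; exact hWiso) hH₀nd hH₀dim hH₀h hu₀orth hu₀ hu'W' hu'0 hu'u' hH'h (by omega)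

end witness

end Cfsg.Agent.Helper94.Tp
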