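import Mathlib
import Cfsg.Agent.Helper94.TqE
import Cfsg.Agent.Helper94.TqH
import Cfsg.Agent.Helper99.QSpMain

set_option autoImplicit false
set_option linter.unusedSectionVars false
set_option linter.unusedVariables false
set_option linter.style.haveILetI false

/-!
# `PΩ⁺_{2d}(q)` on totally singular `m`-spaces: odd primes `r ≠ p`
-/

namespace Cfsg.Agent.Helper94.Tq

open Module Polynomial Matrix
open Cfsg
open Cfsg.Agent.Helper59.InvChain Cfsg.Agent.Helper59.Elusive
open Cfsg.Agent.Helper99.SpStruct Cfsg.Agent.Helper99.RDecomp Cfsg.Agent.Helper99.SpElt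
open Cfsg.Agent.Helper44 Cfsg.Agent.Helper44.QType
open Cfsg.Agent.Helper99.QSp Cfsg.Agent.Helper99.QSpGlue Cfsg.Agent.Helper99.QSpMain
open Cfsg.Agent.Helper94.Ts Cfsg.Agent.Helper94.Tn

universe u

variable {F : Type u} [Field F] {d : ℕ}

/-- the property of the statement, in our language -/
def GoodTs (F : Type u) [Field F] (d m : ℕ) (A : Matrix (Fin d ⊕ Fin d) (Fin d ⊕ Fin d) F) :
    Prop :=
  ∃ W : Submodule F (Fin d ⊕ Fin d → F), finrank F ↥W = m ∧ TS (plusForm d F) W ∧
    Inv (Matrix.toLin' A) W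

theorem goodTs_iff_stmt {m : ℕ} (A : Matrix (Fin d ⊕ Fin d) (Fin d ⊕ Fin d) F) :
    (∃ W : Submodule F (Fin d ⊕ Fin d → F), Module.finrank F ↥W = m ∧
        (∀ w ∈ W, Cfsg.quadFormPlus d F w = 0) ∧ W.map (Matrix.toLin' A) ≤ W) ↔
      GoodTs F d m A := Iff.rfl

variable [Fintype F] {p : ℕ} [Fact p.Prime] [CharP F p]

/-- (⇐) for odd `r`: one element -/
theorem goodTs_of_rhs (hd : 1 ≤ d) (r : ℕ) [Fact r.Prime] (hrp : r ≠ p) (hr2 : r ≠ 2) {m : ℕ}
    (hmd : m < d)
    (hrhs : (Odd (orderOf ((Fintype.card F : ℕ) : ZMod r)) ∧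
        OddRHSp (orderOf ((Fintype.card F : ℕ) : ZMod r)) d m) ∨
      (Even (orderOf ((Fintype.card F : ℕ) : ZMod r)) ∧
        EvenRHSp (orderOf ((Fintype.card F : ℕ) : ZMod r)) d m
          ((r - 1) / orderOf ((Fintype.card F : ℕ) : ZMod r))))
    (g : ↥(Cfsg.isometryGroup F (Cfsg.quadFormPlus d F))) {z : F}
    (hz : (((g : GL (Fin d ⊕ Fin d) F) ^ r : GL (Fin d ⊕ Fin d) F) :
      Matrix (Fin d ⊕ Fin d) (Fin d ⊕ Fin d) F) = z • (1 : Matrix (Fin d ⊕ Fin d) (Fin d ⊕ Fin d) F))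
    (hns : ∀ z : F, ((g : GL (Fin d ⊕ Fin d) F) : Matrix (Fin d ⊕ Fin d) (Fin d ⊕ Fin d) F) ≠
      z • (1 : Matrix (Fin d ⊕ Fin d) (Fin d ⊕ Fin d) F)) :
    GoodTs F d m ((g : GL (Fin d ⊕ Fin d) F) : Matrix (Fin d ⊕ Fin d) (Fin d ⊕ Fin d) F) := by
  classical
  have hr : r.Prime := Fact.out
  have hrodd : Odd r := hr.odd_of_ne_two hr2
  have hrq := not_dvd_card_of_ne (F := F) r hrp
  set A : Matrix (Fin d ⊕ Fin d) (Fin d ⊕ Fin d) F :=
    ((g : GL (Fin d ⊕ Fin d) F) : Matrix (Fin d ⊕ Fin d) (Fin d ⊕ Fin d) F) with hA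
  have hz2 : z ^ 2 = 1 := sq_eq_one_of_pow_eq_smul hd g hz
  have hz0 : z ≠ 0 := by
    rintro rfl
    norm_num at hz2
  have hAr : A ^ r = z • (1 : Matrix (Fin d ⊕ Fin d) (Fin d ⊕ Fin d) F) := by
    rw [← hz, Units.val_pow_eq_pow_val]
  set L : Module.End F (Fin d ⊕ Fin d → F) := Matrix.toLin' A with hL
  have hLr : L ^ r = z • (1 : Module.End F (Fin d ⊕ Fin d → F)) := by
    rw [hL, ← Matrix.toLin'_pow, hAr, map_smul, Matrix.toLin'_one]
    rfl
  set y : Module.End F (Fin d ⊕ Fin d → F) := z • L with hy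
  have hzr : z ^ (r + 1) = 1 := by
    obtain ⟨k, hk⟩ := hrodd
    have : r + 1 = 2 * (k + 1) := by omega
    rw [this, pow_mul, hz2, one_pow]
  have hyr : y ^ r = 1 := by
    rw [hy, _root_.smul_pow, hLr, smul_smul, ← pow_succ, hzr, one_smul]
  have hLiso : ∀ v, plusForm d F (L v) = plusForm d F v := by
    intro v
    rw [hL, Matrix.toLin'_apply]
    exact Cfsg.Agent.Helper44.isometryGroup_apply g v
  have hyiso : ∀ v, plusForm d F (y v) = plusForm d F v := by
    intro v
    rw [hy, LinearMap.smul_apply, QuadraticMap.map_smul, hLiso, smul_eq_mul, ← pow_two, hz2,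
      one_mul]
  have hy1 : y ≠ 1 := by
    intro h1
    apply hns z⁻¹
    have h3 : L = z⁻¹ • (1 : Module.End F (Fin d ⊕ Fin d → F)) := by
      rw [← h1, hy, smul_smul, inv_mul_cancel₀ hz0, one_smul]
    have h4 : Matrix.toLin' A =
        Matrix.toLin' (z⁻¹ • (1 : Matrix (Fin d ⊕ Fin d) (Fin d ⊕ Fin d) F)) := by
      rw [map_smul, Matrix.toLin'_one]
      exact h3
    exact Matrix.toLin'.injective h4
  have hS : QSetup (plusForm d F) r y :=
    { nondeg := nondegenerate_plusForm d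
      iso := hyiso
      setup := setup_of r hrp y hyr
      odd := hrodd
      hp := HP_cyclotomic r hrp }
  obtain ⟨W, hWdim, hWts, hWinv⟩ := exists_ts_of_rhs_plus hS hrq (orderOf_card_dvd (F := F) r hrp)
    finrank_pV qType_top_plus hy1 hmd hrhs
  refine ⟨W, hWdim, hWts, ?_⟩
  rintro _ ⟨w, hw, rfl⟩
  have h1 : y w ∈ W := hWinv.apply_mem hw
  have h3 : L w = z⁻¹ • y w := by
    rw [hy, LinearMap.smul_apply, smul_smul, inv_mul_cancel₀ hz0, one_smul]
  rw [h3]
  exact W.smul_mem _ h1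

/-- the setup of an element of order `r` -/
theorem qSetup_of_elt (r : ℕ) [Fact r.Prime] (hrp : r ≠ p) (hr2 : r ≠ 2)
    (y : ↥(Cfsg.isometryGroup F (Cfsg.quadFormPlus d F))) (hyr : y ^ r = 1) :
    QSetup (plusForm d F) r (Matrix.toLin' ((y : GL (Fin d ⊕ Fin d) F) :
      Matrix (Fin d ⊕ Fin d) (Fin d ⊕ Fin d) F)) :=
  { nondeg := nondegenerate_plusForm d
    iso := fun v => toLin_iso y v
    setup := setup_of r hrp _ (toLin_pow_eq_one' y hyr)
    odd := (Fact.out : r.Prime).odd_of_ne_two hr2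
    hp := HP_cyclotomic r hrp }

/-- (⇒) for odd `r`: the test elements -/
theorem rhs_of_goodTs (hd : 3 ≤ d) (r : ℕ) [Fact r.Prime] (hrp : r ≠ p) (hr2 : r ≠ 2) {m : ℕ}
    (hm : 1 ≤ m) (hmd : m < d)
    (hstar : StarP (orderOf ((Fintype.card F : ℕ) : ZMod r)) d m)
    (H : ∀ g : ↥(Cfsg.isometryGroup F (Cfsg.quadFormPlus d F)),
      g ∈ Cfsg.Omega F (Cfsg.quadFormPlus d F) → orderOf g = r →
      GoodTs F d m ((g : GL (Fin d ⊕ Fin d) F) : Matrix (Fin d ⊕ Fin d) (Fin d ⊕ Fin d) F)) :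
    (Odd (orderOf ((Fintype.card F : ℕ) : ZMod r)) ∧
        OddRHSp (orderOf ((Fintype.card F : ℕ) : ZMod r)) d m) ∨
      (Even (orderOf ((Fintype.card F : ℕ) : ZMod r)) ∧
        EvenRHSp (orderOf ((Fintype.card F : ℕ) : ZMod r)) d m
          ((r - 1) / orderOf ((Fintype.card F : ℕ) : ZMod r))) := by
  classical
  have hr : r.Prime := Fact.out
  have hrodd : Odd r := hr.odd_of_ne_two hr2
  have hrq := not_dvd_card_of_ne (F := F) r hrp
  have hipos : 0 < orderOf ((Fintype.card F : ℕ) : ZMod r) := orderOf_card_pos r hrp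
  have hir : orderOf ((Fintype.card F : ℕ) : ZMod r) ∣ r - 1 := orderOf_card_dvd (F := F) r hrp
  -- the information given by one test element
  have hkey : ∀ (y : ↥(Cfsg.isometryGroup F (Cfsg.quadFormPlus d F))) (k g : ℕ),
      orderOf y = r →
      finrank F ↥(fixSp (Matrix.toLin' ((y : GL (Fin d ⊕ Fin d) F) :
        Matrix (Fin d ⊕ Fin d) (Fin d ⊕ Fin d) F))) = 2 * g →
      2 * g + k * blockSize (orderOf ((Fintype.card F : ℕ) : ZMod r)) = 2 * d →
      ∃ a b : ℕ, m = a + b * orderOf ((Fintype.card F : ℕ) : ZMod r) ∧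
        2 * (b * orderOf ((Fintype.card F : ℕ) : ZMod r)) ≤
          k * blockSize (orderOf ((Fintype.card F : ℕ) : ZMod r)) ∧ a ≤ g ∧
        (bsign (orderOf ((Fintype.card F : ℕ) : ZMod r)) k = -1 → a + 1 ≤ g) ∧
        ((∀ P : F[X], Irreducible P → P ∣ cyclotomic r F →
          finrank F ↥(LinearMap.ker (aeval (Matrix.toLin' ((y : GL (Fin d ⊕ Fin d) F) :
            Matrix (Fin d ⊕ Fin d) (Fin d ⊕ Fin d) F)) P)) ≤
            orderOf ((Fintype.card F : ℕ) : ZMod r)) →
          Even (orderOf ((Fintype.card F : ℕ) : ZMod r)) → b = 0) := by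
    intro y k g hyord hfix hkg
    have hyr : y ^ r = 1 := by rw [← hyord]; exact pow_orderOf_eq_one y
    have hyΩ := mem_Omega_of_odd hd y hrodd hyr
    obtain ⟨W, hWdim, hWts, hWinv⟩ := H y hyΩ hyord
    have hS := qSetup_of_elt r hrp hr2 y hyr
    have htot := hS.setup.total
    rw [finrank_pV, hfix] at htot
    obtain ⟨a, b, h1, h2, h3, h4, h5⟩ := ts_inv_cond hS hrq finrank_pV qType_top_plus (k := k)
      (g := g) (by omega) hfix hWinv hWts
    rw [one_mul] at h4
    refine ⟨a, b, by rw [← hWdim, h1], h2, h3, h4, ?_⟩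
    intro hker hie
    exact h5 (aniso_of_ker_le hS hie hker)
  generalize hidef : orderOf ((Fintype.card F : ℕ) : ZMod r) = i at *
  by_cases hie : Even i
  · right
    refine ⟨hie, ?_⟩
    have hc : blockSize i = i := blockSize_even hie
    obtain ⟨t, ht⟩ := hir
    have htdiv : (r - 1) / i = t := by rw [ht]; exact Nat.mul_div_cancel_left t hipos
    rw [htdiv]
    have ht1 : 1 ≤ t := by
      by_contra hcon
      have : t = 0 := by omega
      subst this
      have := hr.two_le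
      omega
    rw [hc] at hkey
    apply even_rhs_of_tests hie hipos ht1 hm hmd hstar
    · intro k g hk1 hkg hadm
      obtain ⟨y, hyord, hfix⟩ := exists_plus_elt (F := F) d r hrp hr2 k hk1
        (by rw [hidef, hc]; omega) (by
          rw [hidef, hc]
          intro h1
          exact bsign_even_even hie (hadm (by omega)))
      rw [hidef, hc] at hfix
      obtain ⟨a, b, h1, h2, h3, h4, -⟩ := hkey y k g hyord (by omega) hkg
      exact ⟨a, b, h1, h2, h3, fun hodd => h4 (bsign_even_odd hie hodd)⟩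
    · intro u g hu1 hut hug hadm
      have hui : u * i ≤ t * i := Nat.mul_le_mul_right i hut
      have e2 : i * t = t * i := mul_comm _ _
      obtain ⟨y, hyord, hfix, hker⟩ := exists_q_elt_aniso (F := F) (plusForm d F)
        (nondegenerate_plusForm d) (m := d) (by rw [Fintype.card_sum, Fintype.card_fin, two_mul])
        (Or.inl rfl) (by rw [plusForm_coe]; exact hasType_plus d) r hrp hr2
        (by rw [hidef]; exact hie) u hu1 (by rw [hidef]; omega) (by rw [hidef]; omega) (by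
          rw [hidef]
          intro h1
          obtain ⟨u₀, hu₀⟩ := hadm (by omega)
          have hdi : d = u₀ * i := by
            rw [hu₀] at h1
            have : (u₀ + u₀) * i = 2 * (u₀ * i) := by ring
            omega
          rw [Int.cast_one, hdi, mul_comm, pow_mul, ← hidef, pow_orderOf_eq_one, one_pow])
      rw [hidef] at hfix hker
      obtain ⟨a, b, h1, h2, h3, h4, h5⟩ := hkey y u g hyord (by rw [hfix]; omega) hug
      have hb0 := h5 hker hie
      subst hb0
      rw [zero_mul, add_zero] at h1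
      subst h1
      exact ⟨h3, fun hodd => h4 (bsign_even_odd hie hodd)⟩
  · left
    have hio : Odd i := Nat.not_even_iff_odd.mp hie
    refine ⟨hio, ?_⟩
    have hc : blockSize i = 2 * i := blockSize_odd hie
    rw [hc] at hkey
    apply odd_rhs_of_tests hio hm hmd hstar
    intro k g hk1 hkg
    obtain ⟨y, hyord, hfix⟩ := exists_plus_elt (F := F) d r hrp hr2 k hk1
      (by rw [hidef, hc]; omega) (by
        rw [hidef]
        intro h1
        exact bsign_odd hie)
    rw [hidef, hc] at hfix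
    obtain ⟨a, b, h1, h2, h3, -, -⟩ := hkey y k g hyord (by omega) hkg
    exact ⟨a, b, h1, h2, h3⟩

end Cfsg.Agent.Helper94.Tq
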