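import Mathlib
import Cfsg.Agent.Helper94.TqB
import Cfsg.Agent.Helper94.TsJ

set_option autoImplicit false
set_option linter.unusedSectionVars false
set_option linter.unusedVariables false
set_option linter.style.haveILetI false

/-!
# Elements `x` with `x² = ± 1` of an orthogonal group (`2 ≠ 0`) and totally singular subspaces
-/

namespace Cfsg.Agent.Helper94.Tq

open Module
open Cfsg.Agent.Helper59.InvChain Cfsg.Agent.Helper59.Elusive
open Cfsg.Agent.Helper99.RDecomp Cfsg.Agent.Helper99.SpStruct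
open Cfsg.Agent.Helper99.QSp Cfsg.Agent.Helper99.QSpGlue
open Cfsg.Agent.Helper44 Cfsg.Agent.Helper44.QType
open Cfsg.Agent.Helper94.Ts

universe u v

variable {F : Type u} [Field F] [Fintype F]
variable {V : Type v} [AddCommGroup V] [Module F V] [FiniteDimensional F V]
variable {Q : QuadraticForm F V} {y : Module.End F V}

/-- `x² = -1`, `-1` a square: the eigenspaces are totally singular of dimension `d` -/
theorem exists_ts_of_sq_neg_one_split (hnd : (pB Q).Nondegenerate) (h2 : (2 : F) ≠ 0)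
    (hiso : ∀ v, Q (y v) = Q v) (hy : ∀ v, y (y v) = -v) {ι₀ : F} (hι : ι₀ * ι₀ = -1) {d : ℕ}
    (hV : finrank F V = 2 * d) {m : ℕ} (hm : m ≤ d) :
    ∃ W : Submodule F V, finrank F ↥W = m ∧ TS Q W ∧ Inv y W := by
  have hι0 : ι₀ ≠ 0 := by
    rintro rfl
    norm_num at hι
  set E₁ : Submodule F V := LinearMap.ker (y - ι₀ • (1 : Module.End F V)) with hE₁
  set E₂ : Submodule F V := LinearMap.ker (y + ι₀ • (1 : Module.End F V)) with hE₂
  have hmem₁ : ∀ v, v ∈ E₁ ↔ y v = ι₀ • v := by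
    intro v
    rw [hE₁, LinearMap.mem_ker, LinearMap.sub_apply, LinearMap.smul_apply, Module.End.one_apply,
      sub_eq_zero]
  have hmem₂ : ∀ v, v ∈ E₂ ↔ y v = -(ι₀ • v) := by
    intro v
    rw [hE₂, LinearMap.mem_ker, LinearMap.add_apply, LinearMap.smul_apply, Module.End.one_apply,
      add_eq_zero_iff_eq_neg]
  have hts : ∀ (c : F), c * c = -1 → ∀ v, y v = c • v → Q v = 0 := by
    intro c hc v hv
    have h1 := hiso v
    rw [hv, QuadraticMap.map_smul, hc, smul_eq_mul] at h1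
    have h3 : (2 : F) * Q v = 0 := by linear_combination -h1
    exact (mul_eq_zero.mp h3).resolve_left h2
  have hts₁ : TS Q E₁ := fun v hv => hts ι₀ hι v ((hmem₁ v).mp hv)
  have hts₂ : TS Q E₂ := fun v hv => hts (-ι₀) (by rw [neg_mul_neg]; exact hι) v (by
    rw [(hmem₂ v).mp hv, neg_smul])
  have hsup : E₁ ⊔ E₂ = ⊤ := by
    rw [eq_top_iff]
    intro v _
    have h2ι : (2 : F) * ι₀ ≠ 0 := mul_ne_zero h2 hι0
    have hv : v = ((2 : F) * ι₀)⁻¹ • (y v + ι₀ • v) + (-((2 : F) * ι₀)⁻¹) • (y v - ι₀ • v) := by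
      have h3 : ((2 : F) * ι₀)⁻¹ • (y v + ι₀ • v) + (-((2 : F) * ι₀)⁻¹) • (y v - ι₀ • v) =
          (((2 : F) * ι₀)⁻¹ * ((2 : F) * ι₀)) • v := by
        rw [mul_smul, mul_smul]
        module
      rw [h3, inv_mul_cancel₀ h2ι, one_smul]
    rw [hv]
    apply Submodule.add_mem_sup
    · apply E₁.smul_mem
      rw [hmem₁, map_add, map_smul, hy, smul_add, smul_smul, hι]
      module
    · apply E₂.smul_mem
      rw [hmem₂, map_sub, map_smul, hy, smul_sub, smul_smul, hι]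
      module
  have hndtop := nd_top_of_nondeg' hnd
  have hle₁ := Cfsg.Agent.Helper94.Ti.ti_finrank_le (pB_refl Q) hnd (le_top : E₁ ≤ ⊤) hndtop
    hts₁.orth
  have hle₂ := Cfsg.Agent.Helper94.Ti.ti_finrank_le (pB_refl Q) hnd (le_top : E₂ ≤ ⊤) hndtop
    hts₂.orth
  rw [finrank_top, hV] at hle₁ hle₂
  have hsum : finrank F V ≤ finrank F ↥E₁ + finrank F ↥E₂ := by
    have h3 := Submodule.finrank_add_le_finrank_add_finrank E₁ E₂
    rw [hsup, finrank_top] at h3
    exact h3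
  obtain ⟨W, hWle, hWdim⟩ := exists_sub_finrank E₁ (a := m) (by omega)
  refine ⟨W, hWdim, ts_mono hts₁ hWle, ?_⟩
  rw [inv_iff]
  intro w hw
  rw [(hmem₁ w).mp (hWle hw)]
  exact W.smul_mem _ hw

/-- an invariant totally singular plane, `x² = -1`, `-1` not a square -/
theorem exists_ts_plane_of_sq_neg_one (h2 : (2 : F) ≠ 0) (hiso : ∀ v, Q (y v) = Q v)
    (hy : ∀ v, y (y v) = -v) (hns : ¬ IsSquare (-1 : F)) {W : Submodule F V} (hWinv : Inv y W)
    (hdim : 5 ≤ finrank F ↥W) :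
    ∃ U₀ : Submodule F V, U₀ ≤ W ∧ Inv y U₀ ∧ Orth (pB Q) U₀ U₀ ∧ finrank F ↥U₀ = 2 := by
  obtain ⟨u, huW, hu0, hu⟩ := Cfsg.Agent.Helper94.Ti.exists_ne_zero_isotropic W 2
    (![pB Q, (pB Q).compRight y]) (by omega)
  have hu1 : pB Q u u = 0 := hu 0
  have hu2 : pB Q u (y u) = 0 := by
    have := hu 1
    simpa [LinearMap.BilinForm.compRight_apply] using this
  have hisoB := isom_pB hiso
  have hu3 : pB Q (y u) (y u) = 0 := by rw [hisoB, hu1]
  have hu4 : pB Q (y u) u = 0 := (pB_refl Q) _ _ hu2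
  have hli : LinearIndependent F ![u, y u] := by
    rw [LinearIndependent.pair_iff' hu0]
    intro μ hμ
    apply hns
    refine ⟨μ, ?_⟩
    have h1 : y (y u) = (μ * μ) • u := by
      rw [← hμ, map_smul, ← hμ, smul_smul]
    rw [hy] at h1
    have h3 : ((-1 : F) - μ * μ) • u = 0 := by rw [sub_smul, ← h1]; simp
    rcases smul_eq_zero.mp h3 with h4 | h4
    · exact sub_eq_zero.mp h4
    · exact absurd h4 hu0
  have hrange : Set.range ![u, y u] = {u, y u} := by
    ext w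
    simp only [Set.mem_range, Set.mem_insert_iff, Set.mem_singleton_iff]
    constructor
    · rintro ⟨j, rfl⟩
      fin_cases j
      · left; rfl
      · right; rfl
    · rintro (rfl | rfl)
      · exact ⟨0, rfl⟩
      · exact ⟨1, rfl⟩
  refine ⟨Submodule.span F {u, y u}, ?_, ?_, ?_, ?_⟩
  · rw [Submodule.span_le]
    rintro w (rfl | rfl)
    · exact huW
    · exact hWinv.apply_mem huW
  · rw [inv_iff]
    intro a ha
    obtain ⟨s, t, rfl⟩ := Submodule.mem_span_pair.mp ha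
    rw [map_add, map_smul, map_smul, hy]
    refine Submodule.mem_span_pair.mpr ⟨-t, s, ?_⟩
    rw [neg_smul, smul_neg, add_comm]
  · intro a ha b hb
    obtain ⟨s, t, rfl⟩ := Submodule.mem_span_pair.mp ha
    obtain ⟨s', t', rfl⟩ := Submodule.mem_span_pair.mp hb
    simp only [map_add, map_smul, LinearMap.add_apply, LinearMap.smul_apply, hu1, hu2, hu3, hu4,
      smul_zero, add_zero]
  · rw [← hrange, finrank_span_eq_card hli, Fintype.card_fin]

/-- `x² = -1`, `-1` not a square: invariant totally singular subspaces of every even dimension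
`m < d` -/
theorem exists_ts_of_sq_neg_one_even (hnd : (pB Q).Nondegenerate) (h2 : (2 : F) ≠ 0)
    (hiso : ∀ v, Q (y v) = Q v) (hy : ∀ v, y (y v) = -v) (hns : ¬ IsSquare (-1 : F)) {d : ℕ}
    (hV : finrank F V = 2 * d) {m : ℕ} (hme : Even m) (hmd : m < d) :
    ∃ W : Submodule F V, finrank F ↥W = m ∧ TS Q W ∧ Inv y W := by
  obtain ⟨b, hb⟩ := hme
  rcases Nat.eq_zero_or_pos b with rfl | hbpos
  · refine ⟨⊥, by rw [hb]; simp, ?_, inv_bot y⟩
    intro u hu
    rw [Submodule.mem_bot] at hu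
    rw [hu, map_zero]
  · have h4 : (4 : F) ≠ 0 := by
      have : (4 : F) = 2 * 2 := by norm_num
      rw [this]
      exact mul_ne_zero h2 h2
    have hy4 : y ^ 4 = 1 := by
      apply LinearMap.ext
      intro v
      have e : y ^ 4 = y * y * (y * y) := by
        rw [show (4 : ℕ) = 2 + 2 from rfl, pow_add, pow_two]
      rw [e, Module.End.mul_apply, Module.End.mul_apply, Module.End.mul_apply, hy, hy,
        neg_neg, Module.End.one_apply]
    have hR : RIso (pB Q) y 4 := ⟨pB_refl Q, hnd, isom_pB hiso, by exact_mod_cast h4, hy4⟩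
    have hstack := hR.stack ⊤ 2 5 (fun W hWinv hWnd _ hdim =>
      exists_ts_plane_of_sq_neg_one h2 hiso hy hns hWinv hdim) (b - 1) ⊤ (inv_top y)
      (nd_top_of_nondeg' hnd) le_rfl (by rw [finrank_top, hV]; omega)
    obtain ⟨U, -, hUinv, hUti, hUdim⟩ := hstack
    exact ⟨U, by rw [hUdim]; omega, ts_of_orth h2 hUti, hUinv⟩

/-- an involution: totally singular invariant subspaces of dimension `m ≤ d - 2` -/
theorem exists_ts_of_invol_lt (h : InvolSetup (pB Q) y) {d : ℕ} (hV : finrank F V = 2 * d)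
    {m : ℕ} (hmd : m + 2 ≤ d) :
    ∃ W : Submodule F V, finrank F ↥W = m ∧ TS Q W ∧ Inv y W := by
  have hadd := h.finrank_add
  rw [hV] at hadd
  set f₁ := finrank F ↥(fixSp y) with hf₁
  set f₂ := finrank F ↥(negSp y) with hf₂
  obtain ⟨a, b, hab, ha, hb⟩ : ∃ a b : ℕ, a + b = m ∧ (a = 0 ∨ 2 * a + 1 ≤ f₁) ∧
      (b = 0 ∨ 2 * b + 1 ≤ f₂) := by
    by_cases hc : 2 * m + 1 ≤ f₁
    · exact ⟨m, 0, by omega, Or.inr hc, Or.inl rfl⟩
    · by_cases hf0 : f₁ = 0
      · exact ⟨0, m, by omega, Or.inl rfl, Or.inr (by omega)⟩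
      · exact ⟨(f₁ - 1) / 2, m - (f₁ - 1) / 2, by omega, by omega, by omega⟩
  obtain ⟨A, hAle, hAti, hAdim⟩ := exists_ts_sub' (pB_symm Q) a (fixSp y) h.nd_fix ha
  obtain ⟨A', hA'le, hA'ti, hA'dim⟩ := exists_ts_sub' (pB_symm Q) b (negSp y) h.nd_neg hb
  obtain ⟨h1, h3, h4⟩ := h.glue hAle hA'le hAti hA'ti
  exact ⟨A ⊔ A', by rw [h4, hAdim, hA'dim, hab], ts_of_orth h.two_ne h1, h3⟩

/-- an involution with hyperbolic eigenspaces: totally singular invariant subspaces of every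
dimension `m ≤ d` -/
theorem exists_ts_of_invol_hyp (h : InvolSetup (pB Q) y) {d : ℕ} (hV : finrank F V = 2 * d)
    (hfix : Hyp Q (fixSp y)) (hneg : Hyp Q (negSp y)) {m : ℕ} (hmd : m ≤ d) :
    ∃ W : Submodule F V, finrank F ↥W = m ∧ TS Q W ∧ Inv y W := by
  have hadd := h.finrank_add
  rw [hV] at hadd
  obtain ⟨U₁, hU₁le, hU₁ts, hU₁dim⟩ := hfix
  obtain ⟨U₂, hU₂le, hU₂ts, hU₂dim⟩ := hneg
  obtain ⟨A, hAle, hAdim⟩ := exists_sub_finrank U₁ (a := min m (finrank F ↥U₁)) (min_le_right _ _)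
  obtain ⟨A', hA'le, hA'dim⟩ := exists_sub_finrank U₂ (a := m - min m (finrank F ↥U₁))
    (by omega)
  obtain ⟨h1, h3, h4⟩ := h.glue (hAle.trans hU₁le) (hA'le.trans hU₂le)
    (ts_mono hU₁ts hAle).orth (ts_mono hU₂ts hA'le).orth
  exact ⟨A ⊔ A', by rw [h4, hAdim, hA'dim]; omega, ts_of_orth h.two_ne h1, h3⟩

end Cfsg.Agent.Helper94.Tq
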