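import Mathlib
import Cfsg.Agent.Helper94.TqJ
import Cfsg.Agent.Helper94.TsK

set_option autoImplicit false
set_option linter.unusedSectionVars false
set_option linter.unusedVariables false
set_option linter.style.haveILetI false

/-!
# Involutions of `Ω(Q)` (`2 ≠ 0`, `-1` a square): the `-1`-eigenspace is hyperbolic
-/

namespace Cfsg.Agent.Helper94.Tq

open Module Matrix
open Cfsg
open Cfsg.Agent.Helper44 Cfsg.Agent.Helper44.QType
open Cfsg.Agent.Helper59.InvChain Cfsg.Agent.Helper59.Elusive
open Cfsg.Agent.Helper99.RDecomp Cfsg.Agent.Helper99.SpStruct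
open Cfsg.Agent.Helper99.QSp Cfsg.Agent.Helper99.QSpGlue
open Cfsg.Agent.Helper94.Ti Cfsg.Agent.Helper94.Ts

universe u

variable {F : Type u} [Field F] {ι : Type} [Fintype ι] [DecidableEq ι]
variable (Q : QuadraticForm F (ι → F))

/-- the setup for an involution of the isometry group -/
theorem involSetup_of_q (h2 : (2 : F) ≠ 0) (hnd : (pB Q).Nondegenerate)
    (g : ↥(Cfsg.isometryGroup F ⇑Q)) (hg : g * g = 1) :
    InvolSetup (pB Q) (Matrix.toLin' ((g : GL ι F) : Matrix ι ι F)) where
  symm := pB_symm Q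
  nondeg := hnd
  two_ne := h2
  isom := isom_pB (fun v => toLin_iso g v)
  sq := by
    intro v
    have h1 := toLin_pow_eq_one' g (r := 2) (by rw [pow_two]; exact hg)
    rw [pow_two] at h1
    have := congrArg (fun L : Module.End F (ι → F) => L v) h1
    simpa using this

variable [Fintype F]

/-- the `-1`-eigenspace of an involution in `Ω` is hyperbolic if `-1` is a square -/
theorem hyp_neg_of_mem_Omega (h2 : (2 : F) ≠ 0) (hnd : (pB Q).Nondegenerate) {ι₀ : F}
    (hι : ι₀ * ι₀ = -1) (g : ↥(Cfsg.isometryGroup F ⇑Q)) (hgΩ : g ∈ Cfsg.Omega F ⇑Q)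
    (hg : g * g = 1) :
    Hyp Q (negSp (Matrix.toLin' ((g : GL ι F) : Matrix ι ι F))) := by
  classical
  have hS := involSetup_of_q Q h2 hnd g hg
  set y := Matrix.toLin' ((g : GL ι F) : Matrix ι ι F) with hy
  haveI : Invertible (2 : F) := invertibleOfNonzero h2
  have hsymmR : LinearMap.IsSymm ((pB Q).restrict (negSp y)) :=
    ⟨fun a b => (pB_symm Q).eq (a : ι → F) b⟩
  set b := finrank F ↥(negSp y) with hb
  obtain ⟨bv, hbv⟩ : ∃ bv : Module.Basis (Fin b) F ↥(negSp y),
      LinearMap.IsOrthoᵢ ((pB Q).restrict (negSp y)) bv :=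
    LinearMap.BilinForm.exists_orthogonal_basis hsymmR
  set v : Fin b → (ι → F) := fun k => (bv k : ι → F) with hv
  have hvmem : ∀ k, v k ∈ negSp y := fun k => (bv k).2
  have horth : ∀ i j, i ≠ j → pB Q (v i) (v j) = 0 := by
    intro i j hij
    have := hbv hij
    exact this
  have hsepL : ((pB Q).restrict (negSp y)).SeparatingLeft := by
    intro x hx
    apply Subtype.ext
    apply nd_iff.mp hS.nd_neg x.1 x.2
    intro w hw
    have := hx ⟨w, hw⟩
    rw [(pB_symm Q).eq]
    exact this
  have hne : ∀ i, pB Q (v i) (v i) ≠ 0 := by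
    intro i hi
    exact hbv.not_isOrtho_basis_self_of_separatingLeft hsepL i hi
  have hQne : ∀ i, Q (v i) ≠ 0 := by
    intro i hi
    apply hne i
    rw [pB_self, hi, mul_zero]
  have hpol : ∀ i j, i ≠ j → QuadraticMap.polar ⇑Q (v i) (v j) = 0 :=
    fun i j hij => horth i j hij
  -- `g` is the product of the reflections in the basis vectors
  set R := ((List.finRange b).map (fun k => Cfsg.reflectionMatrix ⇑Q (v k))).prod with hR
  have hRneg : ∀ x ∈ negSp y, R *ᵥ x = -x := by
    have hL : (Matrix.toLin' R).comp (negSp y).subtype = -(negSp y).subtype := by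
      apply bv.ext
      intro k
      show Matrix.toLin' R (v k) = -(v k)
      rw [Matrix.toLin'_apply, hR,
        prod_reflection_mulVec Q v hpol hQne _ (List.nodup_finRange b) k,
        if_pos (List.mem_finRange k)]
    intro x hx
    have := congrArg (fun L : ↥(negSp y) →ₗ[F] (ι → F) => L ⟨x, hx⟩) hL
    simpa using this
  have hRfix : ∀ x ∈ fixSp y, R *ᵥ x = x := by
    intro x hx
    have hgen : ∀ l : List (Fin b),
        (l.map (fun k => Cfsg.reflectionMatrix ⇑Q (v k))).prod *ᵥ x = x := by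
      intro l
      induction l with
      | nil => simp
      | cons k l ih =>
        rw [List.map_cons, List.prod_cons, ← Matrix.mulVec_mulVec, ih]
        apply Cfsg.Agent.Helper13.reflectionMatrix_mulVec_of_polar_eq_zero
        exact (hS.orth.symm (pB_refl Q)) (v k) (hvmem k) x hx
    exact hgen _
  have hgR : ((g : GL ι F) : Matrix ι ι F) = R := by
    apply Matrix.toLin'.injective
    refine LinearMap.ext fun x => ?_
    have hx : x ∈ fixSp y ⊔ negSp y := by rw [hS.sup_eq_top]; trivial
    obtain ⟨a, ha, c, hc, rfl⟩ := Submodule.mem_sup.mp hx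
    rw [map_add, map_add]
    have e1 : Matrix.toLin' ((g : GL ι F) : Matrix ι ι F) a = a := mem_fixSp.mp ha
    have e2 : Matrix.toLin' ((g : GL ι F) : Matrix ι ι F) c = -c := mem_negSp.mp hc
    rw [e1, e2, Matrix.toLin'_apply, Matrix.toLin'_apply, hRfix a ha, hRneg c hc]
  -- the spinor norm criterion
  set vs := (List.finRange b).map v with hvs
  have hvsne : ∀ x ∈ vs, Q x ≠ 0 := by
    intro x hx
    obtain ⟨k, -, rfl⟩ := List.mem_map.mp hx
    exact hQne k
  have hgvs : ((g : GL ι F) : Matrix ι ι F) =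
      (vs.map (fun x => Cfsg.reflectionMatrix ⇑Q x)).prod := by
    rw [hgR, hR, hvs, List.map_map]
    rfl
  obtain ⟨heven, hsqQ⟩ := (mem_Omega_iff_of_prod_reflections Q h2 g vs hvsne hgvs).mp hgΩ
  have hlen : vs.length = b := by rw [hvs, List.length_map, List.length_finRange]
  rw [hlen] at heven
  have hprodQ : (vs.map (fun x => Q x)).prod = ∏ k : Fin b, Q (v k) := by
    rw [hvs, List.map_map, Fin.prod_univ_def]
    rfl
  rw [hprodQ] at hsqQ
  obtain ⟨b', hb'⟩ := heven
  have hsqB : IsSquare (∏ k ∈ (Finset.univ : Finset (Fin b)), pB Q (v k) (v k)) := by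
    have h1 : ∀ k : Fin b, pB Q (v k) (v k) = 2 * Q (v k) := fun k => pB_self Q (v k)
    rw [Finset.prod_congr rfl (fun k _ => h1 k), Finset.prod_mul_distrib, Finset.prod_const,
      Finset.card_univ, Fintype.card_fin]
    obtain ⟨s, hs⟩ := hsqQ
    refine ⟨2 ^ b' * s, ?_⟩
    rw [hs, hb', pow_add]
    ring
  obtain ⟨U, hUle, hUti, hUdim⟩ := exists_ts_of_orthogonal_family (pB_symm Q) hι v horth hne b'
    Finset.univ (by rw [Finset.card_univ, Fintype.card_fin, hb']; ring) hsqB
  have hUneg : U ≤ negSp y := by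
    refine hUle.trans ?_
    rw [Submodule.span_le]
    rintro _ ⟨k, -, rfl⟩
    exact hvmem k
  exact ⟨U, hUneg, ts_of_orth h2 hUti, by rw [hUdim, ← hb, hb']; ring⟩

end Cfsg.Agent.Helper94.Tq
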