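import Mathlib
import Cfsg.Agent.Helper94.TqK
import Cfsg.Agent.Helper94.TqI

set_option autoImplicit false
set_option linter.unusedSectionVars false
set_option linter.unusedVariables false
set_option linter.style.haveILetI false

/-!
# `r = 2` for `PΩ⁺_{2d}(q)` on totally singular `m`-spaces (odd characteristic)
-/

namespace Cfsg.Agent.Helper94.Tq

open Module Matrix
open Cfsg
open Cfsg.Agent.Helper44 Cfsg.Agent.Helper44.QType
open Cfsg.Agent.Helper59.InvChain Cfsg.Agent.Helper59.Elusive
open Cfsg.Agent.Helper99.RDecomp Cfsg.Agent.Helper99.SpStruct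
open Cfsg.Agent.Helper99.QSp Cfsg.Agent.Helper99.QSpGlue Cfsg.Agent.Helper99.QSpMain
open Cfsg.Agent.Helper94.Ti Cfsg.Agent.Helper94.Ts

universe u

section generic

variable {F : Type u} [Field F] {ι : Type} [Fintype ι] [DecidableEq ι]
variable (Q : QuadraticForm F (ι → F))

/-- the involution of `Ω(Q)` negating the anisotropic plane `⟨e₀, f⟩` with `Q e₀ = Q f = 1`,
`e₀ ⊥ f` (`-1` not a square) -/
theorem exists_invol_aniso [Finite F] (h2 : (2 : F) ≠ 0) (hns : ¬ IsSquare (-1 : F))
    (e₀ f : ι → F) (hQe : Q e₀ = 1) (hQf : Q f = 1)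
    (hpfe : QuadraticMap.polar ⇑Q f e₀ = 0) :
    ∃ g : ↥(Cfsg.isometryGroup F ⇑Q), g ∈ Cfsg.Omega F ⇑Q ∧ g * g = 1 ∧
      ((g : GL ι F) : Matrix ι ι F) *ᵥ e₀ = -e₀ ∧
      (∀ w ∈ negSp (Matrix.toLin' ((g : GL ι F) : Matrix ι ι F)), Q w = 0 → w = 0) ∧
      2 ≤ finrank F ↥(negSp (Matrix.toLin' ((g : GL ι F) : Matrix ι ι F))) := by
  classical
  have hpef : QuadraticMap.polar ⇑Q e₀ f = 0 := by rw [QuadraticMap.polar_comm]; exact hpfe
  have hQe0 : Q e₀ ≠ 0 := by rw [hQe]; exact one_ne_zero
  have hQf0 : Q f ≠ 0 := by rw [hQf]; exact one_ne_zero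
  set g : ↥(Cfsg.isometryGroup F ⇑Q) := refl Q e₀ hQe0 * refl Q f hQf0 with hg
  have hgΩ : g ∈ Cfsg.Omega F ⇑Q :=
    refl_mul_refl_mem_Omega Q h2 e₀ f hQe0 hQf0 ⟨1, by rw [hQe, hQf]⟩
  have hact : ∀ x, ((g : GL ι F) : Matrix ι ι F) *ᵥ x =
      x - QuadraticMap.polar ⇑Q f x • f - QuadraticMap.polar ⇑Q e₀ x • e₀ := by
    intro x
    rw [hg, isometryGroup_mul_mulVec, refl_mulVec, refl_mulVec, hQe, hQf, inv_one, one_mul,
      one_mul, QuadraticMap.polar_sub_right, QuadraticMap.polar_smul_right, hpef, smul_zero,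
      sub_zero]
  have hpee : QuadraticMap.polar ⇑Q e₀ e₀ = 2 := by
    rw [QuadraticMap.polar_self, hQe]; simp
  have hpff : QuadraticMap.polar ⇑Q f f = 2 := by
    rw [QuadraticMap.polar_self, hQf]; simp
  have hgg : g * g = 1 := by
    apply isometryGroup_ext
    intro x
    rw [isometryGroup_mul_mulVec, isometryGroup_one_mulVec, hact, hact]
    simp only [QuadraticMap.polar_sub_right, QuadraticMap.polar_smul_right, hpef, hpfe, hpee, hpff,
      smul_eq_mul, mul_zero, sub_zero]
    module
  have hge : ((g : GL ι F) : Matrix ι ι F) *ᵥ e₀ = -e₀ := by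
    rw [hact, hpfe, hpee]
    module
  have hgf : ((g : GL ι F) : Matrix ι ι F) *ᵥ f = -f := by
    rw [hact, hpef, hpff]
    module
  set y := Matrix.toLin' ((g : GL ι F) : Matrix ι ι F) with hy
  refine ⟨g, hgΩ, hgg, hge, ?_, ?_⟩
  · intro w hw hw0
    have h1 : y w = -w := mem_negSp.mp hw
    rw [hy, Matrix.toLin'_apply, hact] at h1
    set α := QuadraticMap.polar ⇑Q e₀ w with hα
    set β := QuadraticMap.polar ⇑Q f w with hβ
    have h3 : w = (2 : F)⁻¹ • (β • f + α • e₀) := by
      have h4 : (2 : F) • w = β • f + α • e₀ := by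
        rw [two_smul]
        have h5 : w - β • f - α • e₀ + w = 0 := by rw [h1]; exact neg_add_cancel w
        have h6 : w + w = (w - β • f - α • e₀ + w) + (β • f + α • e₀) := by abel
        rw [h6, h5, zero_add]
      rw [← h4, smul_smul, inv_mul_cancel₀ h2, one_smul]
    have h5 : Q w = (2 : F)⁻¹ ^ 2 * (β ^ 2 + α ^ 2) := by
      rw [h3, QuadraticMap.map_smul, QuadraticMap.map_add ⇑Q, QuadraticMap.map_smul,
        QuadraticMap.map_smul, hQe, hQf, QuadraticMap.polar_smul_left,
        QuadraticMap.polar_smul_right, hpfe]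
      simp only [smul_eq_mul]
      ring
    rw [h5] at hw0
    have h6 : β ^ 2 + α ^ 2 = 0 := by
      rcases mul_eq_zero.mp hw0 with h | h
      · exact absurd h (pow_ne_zero 2 (inv_ne_zero h2))
      · exact h
    have hα0 : α = 0 := by
      by_contra hα0
      apply hns
      refine ⟨β / α, ?_⟩
      field_simp
      linear_combination -h6
    have hβ0 : β = 0 := by
      rw [hα0] at h6
      simpa using h6
    rw [h3, hα0, hβ0]
    simp
  · have hli : LinearIndependent F ![e₀, f] := by
      rw [LinearIndependent.pair_iff]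
      intro s t hst
      have h1 : QuadraticMap.polar ⇑Q e₀ (s • e₀ + t • f) = 0 := by
        rw [hst]; simp [QuadraticMap.polar]
      have h3 : QuadraticMap.polar ⇑Q f (s • e₀ + t • f) = 0 := by
        rw [hst]; simp [QuadraticMap.polar]
      rw [QuadraticMap.polar_add_right, QuadraticMap.polar_smul_right,
        QuadraticMap.polar_smul_right, hpee, hpef] at h1
      rw [QuadraticMap.polar_add_right, QuadraticMap.polar_smul_right,
        QuadraticMap.polar_smul_right, hpff, hpfe] at h3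
      simp only [smul_eq_mul, mul_zero, add_zero, zero_add] at h1 h3
      exact ⟨(mul_eq_zero.mp h1).resolve_right h2, (mul_eq_zero.mp h3).resolve_right h2⟩
    have hspan : Submodule.span F (Set.range ![e₀, f]) ≤ negSp y := by
      rw [Submodule.span_le]
      rintro _ ⟨k, rfl⟩
      fin_cases k
      · show e₀ ∈ negSp y
        rw [mem_negSp, hy, Matrix.toLin'_apply]; exact hge
      · show f ∈ negSp y
        rw [mem_negSp, hy, Matrix.toLin'_apply]; exact hgf
    have := Submodule.finrank_mono hspan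
    rwa [finrank_span_eq_card hli, Fintype.card_fin] at this

end generic

end Cfsg.Agent.Helper94.Tq
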