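import Mathlib
import Cfsg.Agent.Helper94.TqL

set_option autoImplicit false
set_option linter.unusedSectionVars false
set_option linter.unusedVariables false
set_option linter.style.haveILetI false

/-!
# `r = 2` for `PΩ⁺_{2d}(q)` on totally singular `m`-spaces (odd characteristic): assembly
-/

namespace Cfsg.Agent.Helper94.Tq

open Module Matrix
open Cfsg
open Cfsg.Agent.Helper44 Cfsg.Agent.Helper44.QType
open Cfsg.Agent.Helper59.InvChain Cfsg.Agent.Helper59.Elusive
open Cfsg.Agent.Helper99.RDecomp Cfsg.Agent.Helper99.SpStruct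
open Cfsg.Agent.Helper99.QSp Cfsg.Agent.Helper99.QSpGlue Cfsg.Agent.Helper99.QSpMain
open Cfsg.Agent.Helper94.Ti Cfsg.Agent.Helper94.Ts

universe u v

section generic

variable {F : Type u} [Field F] [Fintype F]
variable {V : Type v} [AddCommGroup V] [Module F V] [FiniteDimensional F V]
variable {Q : QuadraticForm F V} {y : Module.End F V}

/-- in a space of type `+`, the fixed space of an involution with hyperbolic `-1`-eigenspace is
hyperbolic -/
theorem hyp_fix_of_hyp_neg (h : InvolSetup (pB Q) y) {d : ℕ} (hV : finrank F V = 2 * d)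
    (hεV : QType Q ⊤ d 1) (hneg : Hyp Q (negSp y)) : Hyp Q (fixSp y) := by
  have hadd := h.finrank_add
  rw [hV] at hadd
  obtain ⟨U, hUle, hUts, hUdim⟩ := hneg
  have hnegdim : finrank F ↥(negSp y) = 2 * finrank F ↥U := hUdim.symm
  have hfixdim : finrank F ↥(fixSp y) = 2 * (d - finrank F ↥U) := by omega
  have hnegty : QType Q (negSp y) (finrank F ↥U) 1 :=
    (hyp_iff_qType Q h.nd_neg hnegdim).mp ⟨U, hUle, hUts, hUdim⟩
  obtain ⟨ε, -, hfixty⟩ := exists_qType Q h.nd_fix hfixdim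
  have hsum := qType_sup Q h.nd_fix h.nd_neg h.orth hfixdim hnegdim hfixty hnegty
  have htop := Cfsg.Agent.Helper79.QSp.qType_congr h.sup_eq_top
    (by omega : d - finrank F ↥U + finrank F ↥U = d) (mul_one ε) hsum
  have hε : ε = 1 := htop.unique hεV
  subst hε
  exact (hyp_iff_qType Q h.nd_fix hfixdim).mpr hfixty

/-- an involution whose `-1`-eigenspace is anisotropic of dimension at least two fixes no totally
singular `(d-1)`-space of a space of type `+` -/
theorem no_ts_of_aniso_neg (h : InvolSetup (pB Q) y) {d : ℕ} (hV : finrank F V = 2 * d)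
    (hεV : QType Q ⊤ d 1) (haniso : ∀ w ∈ negSp y, Q w = 0 → w = 0)
    (h2le : 2 ≤ finrank F ↥(negSp y)) {W : Submodule F V} (hWdim : finrank F ↥W + 1 = d)
    (hWts : TS Q W) (hWinv : Inv y W) : False := by
  have hadd := h.finrank_add
  rw [hV] at hadd
  have hWneg : W ⊓ negSp y = ⊥ := by
    rw [eq_bot_iff]
    intro w hw
    rw [Submodule.mem_bot]
    exact haniso w hw.2 (hWts w hw.1)
  have hsplit := h.split hWinv
  rw [hWneg, finrank_bot, add_zero] at hsplit
  have hW'ts : TS Q (W ⊓ fixSp y) := ts_mono hWts inf_le_left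
  have hle := ti_finrank_le (pB_refl Q) h.nondeg (inf_le_right : W ⊓ fixSp y ≤ fixSp y)
    h.nd_fix hW'ts.orth
  have hfixdim : finrank F ↥(fixSp y) = 2 * (d - 1) := by omega
  have hnegdim : finrank F ↥(negSp y) = 2 * 1 := by omega
  have hfixty : QType Q (fixSp y) (d - 1) 1 :=
    (hyp_iff_qType Q h.nd_fix hfixdim).mp ⟨W ⊓ fixSp y, inf_le_right, hW'ts, by omega⟩
  obtain ⟨ε, -, hnegty⟩ := exists_qType Q h.nd_neg hnegdim
  have hsum := qType_sup Q h.nd_fix h.nd_neg h.orth hfixdim hnegdim hfixty hnegty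
  have htop := Cfsg.Agent.Helper79.QSp.qType_congr h.sup_eq_top
    (by omega : d - 1 + 1 = d) (one_mul ε) hsum
  have hε : ε = 1 := htop.unique hεV
  subst hε
  obtain ⟨U, hUle, hUts, hUdim⟩ := (hyp_iff_qType Q h.nd_neg hnegdim).mpr hnegty
  have hU1 : finrank F ↥U = 1 := by omega
  have hUne : U ≠ ⊥ := by
    intro hU
    rw [hU, finrank_bot] at hU1
    omega
  obtain ⟨u, hu, hu0⟩ := Submodule.exists_mem_ne_zero_of_ne_bot hUne
  exact hu0 (haniso u (hUle hu) (hUts u hu))

end generic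

section plus

variable {F : Type u} [Field F] [Fintype F] {d : ℕ}

/-- the test involution of `Ω⁺` when `-1` is not a square -/
theorem exists_invol_no_ts_plus (h2 : (2 : F) ≠ 0) (hd : 2 ≤ d) (hns : ¬ IsSquare (-1 : F)) :
    ∃ g : ↥(Cfsg.isometryGroup F (Cfsg.quadFormPlus d F)),
      g ∈ Cfsg.Omega F (Cfsg.quadFormPlus d F) ∧ g * g = 1 ∧
      (∀ z : F, ((g : GL (Fin d ⊕ Fin d) F) : Matrix (Fin d ⊕ Fin d) (Fin d ⊕ Fin d) F) ≠
        z • (1 : Matrix (Fin d ⊕ Fin d) (Fin d ⊕ Fin d) F)) ∧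
      ∀ W : Submodule F (Fin d ⊕ Fin d → F), finrank F ↥W + 1 = d → TS (plusForm d F) W →
        Inv (Matrix.toLin' ((g : GL (Fin d ⊕ Fin d) F) :
          Matrix (Fin d ⊕ Fin d) (Fin d ⊕ Fin d) F)) W → False := by
  classical
  set j₀ : Fin d := ⟨0, by omega⟩ with hj₀
  set j₁ : Fin d := ⟨1, by omega⟩ with hj₁
  have hj : j₀ ≠ j₁ := by
    intro h
    have := congrArg Fin.val h
    simp [hj₀, hj₁] at this
  have hH₀ := isHypPair_plusForm (F := F) d j₀
  have hH₁ := isHypPair_plusForm (F := F) d j₁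
  set e₀ : Fin d ⊕ Fin d → F := Pi.single (Sum.inl j₀) 1 + Pi.single (Sum.inr j₀) 1 with he₀
  set f : Fin d ⊕ Fin d → F := Pi.single (Sum.inl j₁) 1 + Pi.single (Sum.inr j₁) 1 with hf
  have hQe : plusForm d F e₀ = 1 := hH₀.Q_add
  have hQf : plusForm d F f = 1 := hH₁.Q_add
  have hpfe : QuadraticMap.polar ⇑(plusForm d F) f e₀ = 0 := by
    rw [hf, QuadraticMap.polar_add_left, hH₁.polar_a, hH₁.polar_b, he₀]
    simp [hj.symm]
  obtain ⟨g, hgΩ, hgg, hge, haniso, h2le⟩ :=
    exists_invol_aniso (plusForm d F) h2 hns e₀ f hQe hQf hpfe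
  have he₀ne : e₀ ≠ 0 := by
    intro h
    rw [h, map_zero] at hQe
    exact one_ne_zero hQe.symm
  refine ⟨g, hgΩ, hgg, ?_, ?_⟩
  · intro z hz
    -- then `z = -1` and every vector is negated, but `e_{j₀}` is singular
    have h1 : ∀ w : Fin d ⊕ Fin d → F,
        ((g : GL (Fin d ⊕ Fin d) F) : Matrix (Fin d ⊕ Fin d) (Fin d ⊕ Fin d) F) *ᵥ w = z • w := by
      intro w
      rw [hz, Matrix.smul_mulVec, Matrix.one_mulVec]
    have hz1 : z = -1 := by
      have h3 := h1 e₀
      rw [hge] at h3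
      have h4 : (z + 1) • e₀ = 0 := by
        rw [add_smul, one_smul, ← h3]
        exact neg_add_cancel e₀
      rcases smul_eq_zero.mp h4 with h5 | h5
      · exact eq_neg_of_add_eq_zero_left h5
      · exact absurd h5 he₀ne
    set w : Fin d ⊕ Fin d → F := Pi.single (Sum.inl j₀) 1 with hw
    have hwneg : w ∈ negSp (Matrix.toLin' ((g : GL (Fin d ⊕ Fin d) F) :
        Matrix (Fin d ⊕ Fin d) (Fin d ⊕ Fin d) F)) := by
      rw [mem_negSp, Matrix.toLin'_apply, h1, hz1, neg_smul, one_smul]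
    have hw0 := haniso w hwneg hH₀.Qa
    have := congrFun hw0 (Sum.inl j₀)
    simp [hw] at this
  · intro W hWdim hWts hWinv
    have hS := involSetup_of_q (plusForm d F) h2 (nondegenerate_plusForm d) g hgg
    exact no_ts_of_aniso_neg hS finrank_pV qType_top_plus haniso h2le hWdim hWts hWinv

end plus

end Cfsg.Agent.Helper94.Tq
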