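import Mathlib
import Cfsg.Agent.Helper94.TqM
import Cfsg.Agent.Helper94.TiJ

set_option autoImplicit false
set_option linter.unusedSectionVars false
set_option linter.unusedVariables false
set_option linter.style.haveILetI false

/-!
# `PΩ⁺_{2d}(q)` on totally singular `m`-spaces: the two main equivalences
-/

namespace Cfsg.Agent.Helper94.Tq

open Module Matrix
open Cfsg
open Cfsg.Agent.Helper44 Cfsg.Agent.Helper44.QType
open Cfsg.Agent.Helper59.InvChain Cfsg.Agent.Helper59.Elusive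
open Cfsg.Agent.Helper99.RDecomp Cfsg.Agent.Helper99.SpStruct
open Cfsg.Agent.Helper99.QSp Cfsg.Agent.Helper99.QSpGlue Cfsg.Agent.Helper99.QSpMain
open Cfsg.Agent.Helper94.Ti Cfsg.Agent.Helper94.Ts Cfsg.Agent.Helper94.Tn

universe u

variable {F : Type u} [Field F] [Fintype F] {d : ℕ}

/-- `r = 2`, odd characteristic -/
theorem two_iff_ts (h2F : (2 : F) ≠ 0) (hd : 4 ≤ d) {m : ℕ} (hm : 1 ≤ m) (hmd : m < d) :
    (∀ x : GL (Fin d ⊕ Fin d) F, x ∈ Cfsg.Geo.omegaGL (Cfsg.quadFormPlus d F) →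
      (∃ z : F, ((x ^ 2 : GL (Fin d ⊕ Fin d) F) : Matrix (Fin d ⊕ Fin d) (Fin d ⊕ Fin d) F) =
        z • (1 : Matrix (Fin d ⊕ Fin d) (Fin d ⊕ Fin d) F)) →
      (∀ z : F, (x : Matrix (Fin d ⊕ Fin d) (Fin d ⊕ Fin d) F) ≠
        z • (1 : Matrix (Fin d ⊕ Fin d) (Fin d ⊕ Fin d) F)) →
      GoodTs F d m (x : Matrix (Fin d ⊕ Fin d) (Fin d ⊕ Fin d) F)) ↔
    (Fintype.card F % 4 = 1 ∨
      (Fintype.card F % 4 = 3 ∧ m + 2 ≤ d ∧ (Even m ∨ (2 * d) % 4 = 2))) := by
  classical
  have hnd := nondegenerate_plusForm (F := F) d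
  have hndtop : Nd (pB (plusForm d F)) ⊤ := nd_top_of_nondeg' hnd
  have hqodd : Fintype.card F % 2 = 1 := FiniteField.odd_card_of_char_ne_two (by
    intro hch
    haveI : CharP F 2 := ringChar.of_eq hch
    exact h2F (CharTwo.two_eq_zero))
  have hsq_iff : IsSquare (-1 : F) ↔ Fintype.card F % 4 = 1 := by
    rw [FiniteField.isSquare_neg_one_iff]
    omega
  constructor
  · intro H
    by_contra hcon
    push Not at hcon
    obtain ⟨h1, h3⟩ := hcon
    have hq3 : Fintype.card F % 4 = 3 := by omega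
    have hns : ¬ IsSquare (-1 : F) := fun h => h1 (hsq_iff.mp h)
    by_cases hmd2 : m + 2 ≤ d
    · obtain ⟨hmodd, hdmod⟩ := h3 hq3 hmd2
      have hdeven : Even d := by rw [Nat.even_iff]; omega
      obtain ⟨x, hxΩ, hxx⟩ := exists_omega_sq_neg_one h2F d hdeven (by omega)
      set A := ((x : GL (Fin d ⊕ Fin d) F) : Matrix (Fin d ⊕ Fin d) (Fin d ⊕ Fin d) F) with hA
      obtain ⟨W, hWdim, hWts, hWinv⟩ := H (x : GL (Fin d ⊕ Fin d) F)
        (Subgroup.mem_map.mpr ⟨x, hxΩ, rfl⟩)
        ⟨-1, by rw [pow_two, Units.val_mul, hxx, neg_smul, one_smul]⟩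
        (fun z hz => by
          have hz' : A = z • (1 : Matrix (Fin d ⊕ Fin d) (Fin d ⊕ Fin d) F) := hz
          rw [hz'] at hxx
          rw [Matrix.smul_mul, Matrix.mul_smul, Matrix.one_mul, smul_smul] at hxx
          have h5 := congrFun (congrFun hxx (Sum.inl ⟨0, by omega⟩)) (Sum.inl ⟨0, by omega⟩)
          simp only [Matrix.smul_apply, Matrix.one_apply_eq, smul_eq_mul, mul_one,
            Matrix.neg_apply] at h5
          exact hns ⟨z, h5.symm⟩)
      have hYY : (Matrix.toLin' A) ^ 2 = (-1 : F) • (1 : Module.End F (Fin d ⊕ Fin d → F)) := by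
        rw [pow_two, Module.End.mul_eq_comp, ← Matrix.toLin'_mul, hxx, map_neg, Matrix.toLin'_one]
        ext v
        simp
      have heven := even_finrank_of_sq_neg_one hns hYY hWinv
      rw [hWdim] at heven
      exact hmodd heven
    · obtain ⟨g, hgΩ, hgg, hgns, hno⟩ := exists_invol_no_ts_plus (F := F) (d := d) h2F (by omega) hns
      obtain ⟨W, hWdim, hWts, hWinv⟩ := H (g : GL (Fin d ⊕ Fin d) F)
        (Subgroup.mem_map.mpr ⟨g, hgΩ, rfl⟩)
        ⟨1, by
          rw [one_smul, pow_two, ← Units.val_one]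
          exact congrArg Units.val (congrArg Subtype.val hgg)⟩ hgns
      exact hno W (by omega) hWts hWinv
  · intro hrhs x hx ⟨z, hz⟩ _
    obtain ⟨g, hgΩ, rfl⟩ := Subgroup.mem_map.mp hx
    set A := ((g : GL (Fin d ⊕ Fin d) F) : Matrix (Fin d ⊕ Fin d) (Fin d ⊕ Fin d) F) with hA
    have hz2 : z ^ 2 = 1 := sq_eq_one_of_pow_eq_smul (by omega) g hz
    have hAA : A * A = z • (1 : Matrix (Fin d ⊕ Fin d) (Fin d ⊕ Fin d) F) := by
      rw [← hz, pow_two, Units.val_mul]
      rfl
    have hiso : ∀ v, plusForm d F (Matrix.toLin' A v) = plusForm d F v := fun v => toLin_iso g v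
    have hz' : z = 1 ∨ z = -1 := by
      have : (z - 1) * (z + 1) = 0 := by linear_combination hz2
      rcases mul_eq_zero.mp this with h | h
      · left; exact sub_eq_zero.mp h
      · right; exact eq_neg_of_add_eq_zero_left h
    rcases hz' with rfl | rfl
    · -- an involution
      have hgg : g * g = 1 := by
        apply coe_mul_self_of
        rw [one_smul] at hAA
        exact hAA
      have hS := involSetup_of_q (plusForm d F) h2F hnd g hgg
      rcases hrhs with hq1 | ⟨hq3, hmd2, -⟩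
      · obtain ⟨ι₀, hι⟩ := hsq_iff.mpr hq1
        have hneg := hyp_neg_of_mem_Omega (plusForm d F) h2F hnd hι.symm g hgΩ hgg
        have hfix := hyp_fix_of_hyp_neg hS finrank_pV qType_top_plus hneg
        exact exists_ts_of_invol_hyp hS finrank_pV hfix hneg hmd.le
      · exact exists_ts_of_invol_lt hS finrank_pV hmd2
    · -- `x² = -1`
      have hyy : ∀ v, Matrix.toLin' A (Matrix.toLin' A v) = -v := by
        intro v
        rw [← LinearMap.comp_apply, ← Matrix.toLin'_mul, hAA, neg_smul, one_smul, map_neg,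
          Matrix.toLin'_one]
        rfl
      rcases hrhs with hq1 | ⟨hq3, hmd2, hcase⟩
      · obtain ⟨ι₀, hι⟩ := hsq_iff.mpr hq1
        exact exists_ts_of_sq_neg_one_split hnd h2F hiso hyy hι.symm finrank_pV hmd.le
      · have hns : ¬ IsSquare (-1 : F) := fun h => by
          have := hsq_iff.mp h
          omega
        have hns' : ∀ a : F, a * a ≠ -1 := fun a ha => hns ⟨a, ha.symm⟩
        have hYY : Matrix.toLin' A * Matrix.toLin' A = -1 := by
          rw [Module.End.mul_eq_comp, ← Matrix.toLin'_mul, hAA, neg_smul, one_smul, map_neg,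
            Matrix.toLin'_one]
          rfl
        -- `d` is even
        obtain ⟨W', -, -, -, hW'dim, hW'ty⟩ :=
          exists_inv_typed_of_sq_neg_one_nonsplit (plusForm d F) hnd h2F (Matrix.toLin' A) hiso hYY
            hns' d ⊤ (Cfsg.Agent.Helper59.InvChain.inv_top _) hndtop
            (by rw [finrank_top, finrank_pV])
        have hW'top : W' = ⊤ := Submodule.eq_of_le_of_finrank_eq le_top
          (by rw [hW'dim, finrank_top, finrank_pV])
        rw [hW'top] at hW'ty
        have hd1 : ((-1 : ℤ)) ^ d = 1 := (qType_top_plus.unique hW'ty).symm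
        have hdeven : Even d := by
          by_contra hodd
          rw [Nat.not_even_iff_odd] at hodd
          rw [hodd.neg_one_pow] at hd1
          norm_num at hd1
        have hmeven : Even m := by
          rcases hcase with h | h
          · exact h
          · rw [Nat.even_iff] at hdeven; omega
        exact exists_ts_of_sq_neg_one_even hnd h2F hiso hyy hns finrank_pV hmeven hmd

variable {p : ℕ} [Fact p.Prime] [CharP F p]

/-- odd primes `r ≠ p` -/
theorem odd_iff_ts (hd : 4 ≤ d) (r : ℕ) [Fact r.Prime] (hrp : r ≠ p) (hr2 : r ≠ 2) {m : ℕ}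
    (hm : 1 ≤ m) (hmd : m < d)
    (hrΩ : r ∣ Nat.card {W : Submodule F (Fin d ⊕ Fin d → F) // finrank F ↥W = m ∧
      TS (plusForm d F) W}) :
    (∀ x : GL (Fin d ⊕ Fin d) F, x ∈ Cfsg.Geo.omegaGL (Cfsg.quadFormPlus d F) →
      (∃ z : F, ((x ^ r : GL (Fin d ⊕ Fin d) F) : Matrix (Fin d ⊕ Fin d) (Fin d ⊕ Fin d) F) =
        z • (1 : Matrix (Fin d ⊕ Fin d) (Fin d ⊕ Fin d) F)) →
      (∀ z : F, (x : Matrix (Fin d ⊕ Fin d) (Fin d ⊕ Fin d) F) ≠
        z • (1 : Matrix (Fin d ⊕ Fin d) (Fin d ⊕ Fin d) F)) →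
      GoodTs F d m (x : Matrix (Fin d ⊕ Fin d) (Fin d ⊕ Fin d) F)) ↔
    ((Odd (orderOf ((Fintype.card F : ℕ) : ZMod r)) ∧
        OddRHSp (orderOf ((Fintype.card F : ℕ) : ZMod r)) d m) ∨
      (Even (orderOf ((Fintype.card F : ℕ) : ZMod r)) ∧
        EvenRHSp (orderOf ((Fintype.card F : ℕ) : ZMod r)) d m
          ((r - 1) / orderOf ((Fintype.card F : ℕ) : ZMod r)))) := by
  classical
  have hr : r.Prime := Fact.out
  have hrodd : Odd r := hr.odd_of_ne_two hr2
  have hrq := not_dvd_card_of_ne (F := F) r hrp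
  constructor
  · intro H
    obtain ⟨k, hkm, hk⟩ := exists_dvd_of_dvd_card_ts (plusForm d F) (nondegenerate_plusForm d)
      finrank_pV (Or.inl rfl) qType_top_plus m hmd.le r hr hrΩ
    have hstar : StarP (orderOf ((Fintype.card F : ℕ) : ZMod r)) d m :=
      star_of_dvd hr2 hrq hmd ⟨k, hkm, hk⟩
    apply rhs_of_goodTs (by omega) r hrp hr2 hm hmd hstar
    intro g hgΩ hgord
    have hgr : g ^ r = 1 := by rw [← hgord]; exact pow_orderOf_eq_one g
    refine H (g : GL (Fin d ⊕ Fin d) F) (Subgroup.mem_map.mpr ⟨g, hgΩ, rfl⟩) ⟨1, ?_⟩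
      (not_scalar_of_orderOf (by omega) hr hrodd g hgord)
    have h3 : ((g ^ r : ↥(Cfsg.isometryGroup F (Cfsg.quadFormPlus d F))) :
        GL (Fin d ⊕ Fin d) F) = 1 := by rw [hgr]; rfl
    have h4 := congrArg (fun w : GL (Fin d ⊕ Fin d) F =>
      (w : Matrix (Fin d ⊕ Fin d) (Fin d ⊕ Fin d) F)) h3
    rw [one_smul]
    simpa using h4
  · intro hrhs x hx ⟨z, hz⟩ hns
    obtain ⟨g, -, rfl⟩ := Subgroup.mem_map.mp hx
    exact goodTs_of_rhs (by omega) r hrp hr2 hmd hrhs g hz hns

end Cfsg.Agent.Helper94.Tq
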