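import Mathlib
import Cfsg.Agent.Helper94.TqE
import Cfsg.Agent.Helper94.TqQ

set_option autoImplicit false
set_option linter.unusedSectionVars false
set_option linter.unusedVariables false

/-!
# `StarM` from `r ∣ #TS_m` (type `-`)
-/

namespace Cfsg.Agent.Helper94.Tq

open Module
open Cfsg.Agent.Helper99.QSp
open Cfsg.Agent.Helper44 Cfsg.Agent.Helper44.QType

/-- Pure arithmetic: an odd prime `r` dividing `(q^(d-k) + 1) (q^(d-k-1) - 1)` for some `k < m`
gives `StarM`. -/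
theorem starM_of_dvd {q r : ℕ} (hr : r.Prime) (hr2 : r ≠ 2) {d m : ℕ}
    (h : ∃ k : ℕ, k < m ∧ (r : ℤ) ∣ ((q : ℤ) ^ (d - k) - (-1)) * ((q : ℤ) ^ (d - k - 1) + (-1))) :
    StarM (orderOf (q : ZMod r)) d m := by
  obtain ⟨k, hk, hdvd⟩ := h
  refine ⟨k, hk, ?_⟩
  have hrZ : Prime (r : ℤ) := Nat.prime_iff_prime_int.mp hr
  rcases hrZ.dvd_or_dvd hdvd with h1 | h1
  · left
    have h2 : (((q : ℤ) ^ (d - k) - (-1) : ℤ) : ZMod r) = 0 :=
      (ZMod.intCast_zmod_eq_zero_iff_dvd _ r).mpr h1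
    push_cast at h2
    have h3 : (q : ZMod r) ^ (d - k) = -1 := by
      have : (q : ZMod r) ^ (d - k) + 1 = 0 := by rw [← h2]; ring
      exact eq_neg_of_add_eq_zero_left this
    constructor
    · rw [orderOf_dvd_iff_pow_eq_one, pow_mul', h3]
      norm_num
    · intro h4
      rw [orderOf_dvd_iff_pow_eq_one, h3] at h4
      have h5 : ((2 : ℕ) : ZMod r) = 0 := by
        have : (1 : ZMod r) + 1 = 0 := by
          nth_rewrite 1 [← h4]
          norm_num
        push_cast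
        rw [← this]
        norm_num
      have h6 : r ∣ 2 := (ZMod.natCast_eq_zero_iff 2 r).mp h5
      exact hr2 ((Nat.prime_dvd_prime_iff_eq hr Nat.prime_two).mp h6)
  · right
    have h2 : (((q : ℤ) ^ (d - k - 1) + (-1) : ℤ) : ZMod r) = 0 :=
      (ZMod.intCast_zmod_eq_zero_iff_dvd _ r).mpr h1
    push_cast at h2
    rw [orderOf_dvd_iff_pow_eq_one]
    have : (q : ZMod r) ^ (d - k - 1) - 1 = 0 := by rw [← h2]; ring
    exact sub_eq_zero.mp this

universe u v

variable {F : Type u} [Field F] [Fintype F]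
variable {V : Type v} [AddCommGroup V] [Module F V] [FiniteDimensional F V]
variable {Q : QuadraticForm F V}

/-- `StarM` from `r ∣ #{totally singular m-spaces}` for `Q` of type `-` in dimension `2d`. -/
theorem starM_of_dvd_card_ts (hnd : (pB Q).Nondegenerate) {d : ℕ}
    (hV : finrank F V = 2 * d) (hεV : QType Q ⊤ d (-1)) (m : ℕ)
    (hmd : m ≤ d) (r : ℕ) (hr : r.Prime) (hr2 : r ≠ 2)
    (hdvd : r ∣ Nat.card {W : Submodule F V // finrank F ↥W = m ∧ TS Q W}) :
    StarM (orderOf ((Fintype.card F : ℕ) : ZMod r)) d m := by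
  refine starM_of_dvd hr hr2 ?_
  obtain ⟨k, hk, hd⟩ := exists_dvd_of_dvd_card_ts Q hnd hV (Or.inr rfl) hεV m hmd r hr hdvd
  exact ⟨k, hk, by exact_mod_cast hd⟩

end Cfsg.Agent.Helper94.Tq
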