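import Cfsg.Agent.Helper94.TwoFam6

set_option autoImplicit false
set_option linter.unusedSectionVars false
set_option linter.unusedSimpArgs false

namespace Cfsg.Agent.Helper94

open Cfsg Cfsg.Geo
open scoped Matrix

section Bridge

variable {ι : Type} [Fintype ι] [DecidableEq ι] {F : Type*} [Field F]

/-- A Mathlib quadratic form with nondegenerate polar form satisfies the Prelude predicate. -/
theorem isNondeg_of_quadraticForm (Q' : QuadraticForm F (ι → F))
    (hnd : (QuadraticMap.polarBilin Q').Nondegenerate) : IsNondegenerateQuadraticForm (⇑Q') where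
  smul c v := by
    rw [QuadraticMap.map_smul, smul_eq_mul]; ring
  polar_bilinear :=
    ⟨fun x y v => QuadraticMap.polar_add_left Q' x y v,
     fun c x v => by rw [QuadraticMap.polar_smul_left, smul_eq_mul],
     fun v x y => QuadraticMap.polar_add_right Q' v x y,
     fun c v x => by rw [QuadraticMap.polar_smul_right, smul_eq_mul]⟩
  nondegenerate := by
    intro v hv
    constructor
    · by_contra hcon
      push Not at hcon
      exact hv (hnd.2 v (fun x => by rw [QuadraticMap.polarBilin_apply_apply]; exact hcon x))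
    · by_contra hcon
      push Not at hcon
      exact hv (hnd.1 v (fun x => by rw [QuadraticMap.polarBilin_apply_apply]; exact hcon x))

end Bridge

section TranspF2

variable {ι : Type} [Fintype ι] [DecidableEq ι]
variable {Q : (ι → ZMod 2) → ZMod 2}

theorem z2_cases (a : ZMod 2) : a = 0 ∨ a = 1 := by
  revert a; decide

theorem z2_eq_one_of_ne_zero {a : ZMod 2} (h : a ≠ 0) : a = 1 := by
  rcases z2_cases a with h' | h'
  · exact absurd h' h
  · exact h'

theorem z2_add_self (a : ZMod 2) : a + a = 0 := by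
  revert a; decide

theorem z2v_add_self (v : ι → ZMod 2) : v + v = 0 := by
  ext i; exact z2_add_self (v i)

theorem z2v_neg (v : ι → ZMod 2) : -v = v := by
  rw [neg_eq_iff_add_eq_zero]; exact z2v_add_self v

theorem z2v_sub (v w : ι → ZMod 2) : v - w = v + w := by
  rw [sub_eq_add_neg, z2v_neg]

theorem z2_B_self (hQ : IsNondegenerateQuadraticForm Q) (a : ι → ZMod 2) :
    QuadraticMap.polar Q a a = 0 := by
  rw [B_self hQ]
  have : (2 : ZMod 2) = 0 := by decide
  rw [this, zero_mul]

/-- The orthogonal transvection in characteristic two. -/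
theorem refl2_mulVec (hQ : IsNondegenerateQuadraticForm Q) (a : ι → ZMod 2) (ha : Q a ≠ 0)
    (x : ι → ZMod 2) :
    ((reflGL hQ a ha : Matrix.GeneralLinearGroup ι (ZMod 2)) : Matrix ι ι (ZMod 2)) *ᵥ x
      = x + QuadraticMap.polar Q a x • a := by
  rw [reflGL_mulVec, z2_eq_one_of_ne_zero ha, inv_one, one_mul, z2v_sub]

theorem refl2_ne_one (hQ : IsNondegenerateQuadraticForm Q) (a : ι → ZMod 2) (ha : Q a ≠ 0) :
    reflGL hQ a ha ≠ 1 := by
  intro h
  have ha0 : a ≠ 0 := by
    rintro rfl
    exact ha (Q_zero hQ)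
  obtain ⟨-, ⟨y, hy⟩⟩ := hQ.nondegenerate a ha0
  have h1 := refl2_mulVec hQ a ha y
  rw [h, Units.val_one, Matrix.one_mulVec, z2_eq_one_of_ne_zero hy, one_smul] at h1
  exact ha0 (by simpa using h1.symm)

/-- The rank of `r_a - 1` is one. -/
theorem refl2_rank (hQ : IsNondegenerateQuadraticForm Q) (a : ι → ZMod 2) (ha : Q a ≠ 0) :
    (((reflGL hQ a ha : Matrix.GeneralLinearGroup ι (ZMod 2)) : Matrix ι ι (ZMod 2)) - 1).rank = 1 := by
  have ha0 : a ≠ 0 := by
    rintro rfl
    exact ha (Q_zero hQ)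
  obtain ⟨-, ⟨y, hy⟩⟩ := hQ.nondegenerate a ha0
  have hy1 := z2_eq_one_of_ne_zero hy
  have hN : ∀ x, (((reflGL hQ a ha : Matrix.GeneralLinearGroup ι (ZMod 2)) : Matrix ι ι (ZMod 2)) - 1)
      *ᵥ x = QuadraticMap.polar Q a x • a := by
    intro x
    rw [Matrix.sub_mulVec, refl2_mulVec, Matrix.one_mulVec, add_sub_cancel_left]
  have hrange : LinearMap.range
      (((reflGL hQ a ha : Matrix.GeneralLinearGroup ι (ZMod 2)) : Matrix ι ι (ZMod 2)) - 1).mulVecLin
      = Submodule.span (ZMod 2) {a} := by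
    apply le_antisymm
    · rintro _ ⟨x, rfl⟩
      rw [Matrix.mulVecLin_apply, hN]
      exact Submodule.smul_mem _ _ (Submodule.mem_span_singleton_self a)
    · rw [Submodule.span_le]
      intro z hz
      rw [Set.mem_singleton_iff] at hz
      rw [hz]
      refine ⟨y, ?_⟩
      rw [Matrix.mulVecLin_apply, hN, hy1, one_smul]
  unfold Matrix.rank
  rw [hrange]
  exact finrank_span_singleton ha0

/-- A rank-one isometry over the field with two elements is an orthogonal transvection. -/
theorem exists_refl2_of_rank (hQ : IsNondegenerateQuadraticForm Q)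
    {g : Matrix.GeneralLinearGroup ι (ZMod 2)} (hg : g ∈ isometryGroup (ZMod 2) Q)
    (hrank : ((g : Matrix ι ι (ZMod 2)) - 1).rank = 1) :
    ∃ a, ∃ ha : Q a ≠ 0, g = reflGL hQ a ha := by
  obtain ⟨N, hNdef⟩ : ∃ N : Matrix ι ι (ZMod 2), N = (g : Matrix ι ι (ZMod 2)) - 1 := ⟨_, rfl⟩
  rw [← hNdef] at hrank
  unfold Matrix.rank at hrank
  rw [finrank_eq_one_iff'] at hrank
  obtain ⟨⟨a, ha_mem⟩, ha_ne, hspan⟩ := hrank
  have ha0 : a ≠ 0 := by
    intro h
    apply ha_ne
    exact Subtype.ext h
  obtain ⟨y₀, hy₀⟩ := ha_mem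
  rw [Matrix.mulVecLin_apply] at hy₀
  have hNx : ∀ x, N *ᵥ x = 0 ∨ N *ᵥ x = a := by
    intro x
    obtain ⟨c, hc⟩ := hspan ⟨N *ᵥ x, ⟨x, by rw [Matrix.mulVecLin_apply]⟩⟩
    have hc' : c • a = N *ᵥ x := congrArg Subtype.val hc
    rcases z2_cases c with h | h
    · left; rw [← hc', h, zero_smul]
    · right; rw [← hc', h, one_smul]
  have hgx : ∀ x, (g : Matrix ι ι (ZMod 2)) *ᵥ x = x + N *ᵥ x := by
    intro x
    rw [hNdef, Matrix.sub_mulVec, Matrix.one_mulVec]
    abel
  have hiso : ∀ x, Q (N *ᵥ x) + QuadraticMap.polar Q x (N *ᵥ x) = 0 := by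
    intro x
    have h1 := (mem_isometryGroup_iff g).1 hg x
    rw [hgx, Q_add (Q := Q)] at h1
    linear_combination h1
  have hy₀a : QuadraticMap.polar Q y₀ a = Q a := by
    have h := hiso y₀
    rw [hy₀] at h
    have h2 := z2_add_self (Q a)
    linear_combination h - h2
  -- value of `B(x,a)`
  have hBa : ∀ x, (N *ᵥ x = a → QuadraticMap.polar Q x a = Q a) ∧
      (N *ᵥ x = 0 → QuadraticMap.polar Q x a = 0) := by
    intro x
    constructor
    · intro hx
      have h := hiso x
      rw [hx] at h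
      have h2 := z2_add_self (Q a)
      linear_combination h - h2
    · intro hx
      have h := hiso (x + y₀)
      rw [Matrix.mulVec_add, hx, hy₀, zero_add, B_add_left hQ, hy₀a] at h
      have h2 := z2_add_self (Q a)
      linear_combination h - h2
  have hQa : Q a ≠ 0 := by
    intro h0
    obtain ⟨⟨x, hx⟩, -⟩ := hQ.nondegenerate a ha0
    rcases hNx x with h | h
    · exact hx ((hBa x).2 h)
    · exact hx (by rw [(hBa x).1 h, h0])
  have hQa1 := z2_eq_one_of_ne_zero hQa
  refine ⟨a, hQa, ?_⟩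
  apply Units.ext
  apply Matrix.mulVec_injective
  funext x
  rw [refl2_mulVec, hgx]
  congr 1
  rcases hNx x with h | h
  · rw [h, B_comm, (hBa x).2 h, zero_smul]
  · rw [h, B_comm, (hBa x).1 h, hQa1, one_smul]

end TranspF2

end Cfsg.Agent.Helper94
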