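import Cfsg.Agent.Helper94.TranspF2a
import Cfsg.Agent.Helper14.CharTwoRefl

set_option autoImplicit false
set_option linter.unusedSectionVars false
set_option linter.unusedSimpArgs false

namespace Cfsg.Agent.Helper94

open Cfsg Cfsg.Geo
open scoped Matrix

section TranspF2b

variable {ι : Type} [Fintype ι] [DecidableEq ι]
variable {Q : (ι → ZMod 2) → ZMod 2}

/-- The orthogonal transvection as an element of the isometry group. -/
noncomputable def r2 (hQ : IsNondegenerateQuadraticForm Q) (a : ι → ZMod 2) (ha : Q a ≠ 0) :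
    isometryGroup (ZMod 2) Q :=
  ⟨reflGL hQ a ha, reflGL_mem_isometryGroup hQ a ha⟩

/-- The set of rank-one isometries. -/
def transvSet (Q : (ι → ZMod 2) → ZMod 2) : Set (isometryGroup (ZMod 2) Q) :=
  {g | (((g : Matrix.GeneralLinearGroup ι (ZMod 2)) : Matrix ι ι (ZMod 2)) - 1).rank = 1}

theorem r2_mem_transvSet (hQ : IsNondegenerateQuadraticForm Q) (a : ι → ZMod 2) (ha : Q a ≠ 0) :
    r2 hQ a ha ∈ transvSet Q :=
  refl2_rank hQ a ha

theorem exists_r2_of_mem (hQ : IsNondegenerateQuadraticForm Q) {d : isometryGroup (ZMod 2) Q}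
    (hd : d ∈ transvSet Q) : ∃ a, ∃ ha : Q a ≠ 0, d = r2 hQ a ha := by
  obtain ⟨a, ha, h⟩ := exists_refl2_of_rank hQ d.2 hd
  exact ⟨a, ha, Subtype.ext h⟩

theorem refl2_braid (hQ : IsNondegenerateQuadraticForm Q) {a b : ι → ZMod 2} (ha : Q a ≠ 0)
    (hb : Q b ≠ 0) (hab : QuadraticMap.polar Q a b ≠ 0) :
    reflGL hQ a ha * reflGL hQ b hb * reflGL hQ a ha
      = reflGL hQ b hb * reflGL hQ a ha * reflGL hQ b hb := by
  have hab1 := z2_eq_one_of_ne_zero hab
  have hba1 : QuadraticMap.polar Q b a = 1 := by rw [B_comm, hab1]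
  have e1 : ((reflGL hQ a ha : Matrix.GeneralLinearGroup ι (ZMod 2)) : Matrix ι ι (ZMod 2)) *ᵥ b
      = a + b := by
    rw [refl2_mulVec, hab1, one_smul, add_comm]
  have e2 : ((reflGL hQ b hb : Matrix.GeneralLinearGroup ι (ZMod 2)) : Matrix ι ι (ZMod 2)) *ᵥ a
      = a + b := by
    rw [refl2_mulVec, hba1, one_smul]
  have hQ1 : Q (((reflGL hQ a ha : Matrix.GeneralLinearGroup ι (ZMod 2)) : Matrix ι ι (ZMod 2)) *ᵥ b)
      ≠ 0 := by
    rw [(mem_isometryGroup_iff _).1 (reflGL_mem_isometryGroup hQ a ha)]; exact hb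
  have hQ2 : Q (((reflGL hQ b hb : Matrix.GeneralLinearGroup ι (ZMod 2)) : Matrix ι ι (ZMod 2)) *ᵥ a)
      ≠ 0 := by
    rw [(mem_isometryGroup_iff _).1 (reflGL_mem_isometryGroup hQ b hb)]; exact ha
  have h1 := reflGL_conj hQ (reflGL_mem_isometryGroup hQ a ha) b hb hQ1
  have h2 := reflGL_conj hQ (reflGL_mem_isometryGroup hQ b hb) a ha hQ2
  rw [reflGL_inv] at h1 h2
  rw [h1, h2]
  exact reflGL_congr hQ (e1.trans e2.symm) _ _

theorem r2_isConj_of_polar (hQ : IsNondegenerateQuadraticForm Q) {a b : ι → ZMod 2} (ha : Q a ≠ 0)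
    (hb : Q b ≠ 0) (hab : QuadraticMap.polar Q a b ≠ 0) : IsConj (r2 hQ a ha) (r2 hQ b hb) := by
  rw [isConj_iff]
  refine ⟨r2 hQ a ha * r2 hQ b hb, ?_⟩
  apply Subtype.ext
  show (reflGL hQ a ha * reflGL hQ b hb) * reflGL hQ a ha * (reflGL hQ a ha * reflGL hQ b hb)⁻¹
    = reflGL hQ b hb
  exact braid_conj (reflGL_mul_self hQ a ha) (reflGL_mul_self hQ b hb) (refl2_braid hQ ha hb hab)

/-- Two distinct orthogonal nonsingular vectors have a common nonsingular non-orthogonal vector. -/
theorem exists_connecting (hQ : IsNondegenerateQuadraticForm Q) (hcard : 5 ≤ Fintype.card ι)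
    {a b : ι → ZMod 2} (ha : Q a ≠ 0) (hb : Q b ≠ 0) (hne : a ≠ b)
    (hab : QuadraticMap.polar Q a b = 0) :
    ∃ c, Q c ≠ 0 ∧ QuadraticMap.polar Q a c ≠ 0 ∧ QuadraticMap.polar Q c b ≠ 0 := by
  have ha0 : a ≠ 0 := by rintro rfl; exact ha (Q_zero hQ)
  have hb0 : b ≠ 0 := by rintro rfl; exact hb (Q_zero hQ)
  have hli : LinearIndependent (ZMod 2) ![a, b] := by
    rw [LinearIndependent.pair_iff]
    intro s t hst
    rcases z2_cases s with hs | hs <;> rcases z2_cases t with ht | ht
    · exact ⟨hs, ht⟩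
    · exfalso
      rw [hs, ht, zero_smul, one_smul, zero_add] at hst
      exact hb0 hst
    · exfalso
      rw [hs, ht, zero_smul, one_smul, add_zero] at hst
      exact ha0 hst
    · exfalso
      rw [hs, ht, one_smul, one_smul] at hst
      apply hne
      have := z2v_neg b
      rw [← this]
      exact eq_neg_of_add_eq_zero_left hst
  obtain ⟨y, hy⟩ := exists_dual_family hQ ![a, b] hli
  have hy00 : QuadraticMap.polar Q a (y 0) = 1 := by simpa using hy 0 0
  have hy01 : QuadraticMap.polar Q a (y 1) = 0 := by simpa using hy 0 1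
  have hy10 : QuadraticMap.polar Q b (y 0) = 0 := by simpa using hy 1 0
  have hy11 : QuadraticMap.polar Q b (y 1) = 1 := by simpa using hy 1 1
  obtain ⟨x, hx⟩ : ∃ x, x = y 0 + y 1 := ⟨_, rfl⟩
  have hax : QuadraticMap.polar Q a x = 1 := by rw [hx, B_add_right hQ, hy00, hy01, add_zero]
  have hbx : QuadraticMap.polar Q b x = 1 := by rw [hx, B_add_right hQ, hy10, hy11, zero_add]
  by_cases hQx : Q x = 0
  · -- correct `x` by a vector of `⟨a, b⟩^⊥`
    obtain ⟨S, hS⟩ : ∃ S : Submodule (ZMod 2) (ι → ZMod 2), S = Submodule.span (ZMod 2) {a, b} :=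
      ⟨_, rfl⟩
    have hSdim : Module.finrank (ZMod 2) S ≤ 2 := by
      rw [hS]
      have := finrank_span_le_card (R := ZMod 2) ({a, b} : Set (ι → ZMod 2))
      have h2 : ({a, b} : Set (ι → ZMod 2)).toFinset.card ≤ 2 := by
        rw [Set.toFinset_insert, Set.toFinset_singleton]
        exact Finset.card_le_two
      omega
    have hnot : ¬ qperp hQ S ≤ S := by
      intro hle
      have h1 := finrank_add_finrank_qperp hQ S
      have h2 := Submodule.finrank_mono hle
      omega
    obtain ⟨s, hsS, hsn⟩ := SetLike.not_le_iff_exists.mp hnot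
    have hsa : QuadraticMap.polar Q a s = 0 :=
      (mem_qperp hQ S s).1 hsS a (by rw [hS]; exact Submodule.subset_span (by simp))
    have hsb : QuadraticMap.polar Q b s = 0 :=
      (mem_qperp hQ S s).1 hsS b (by rw [hS]; exact Submodule.subset_span (by simp))
    -- `s ∉ S = (S^⊥)^⊥`
    have hs2 : ¬ s ∈ qperp hQ (qperp hQ S) := by rw [qperp_qperp]; exact hsn
    rw [mem_qperp] at hs2
    push Not at hs2
    obtain ⟨s', hs'S, hss'⟩ := hs2
    have hs'a : QuadraticMap.polar Q a s' = 0 :=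
      (mem_qperp hQ S s').1 hs'S a (by rw [hS]; exact Submodule.subset_span (by simp))
    have hs'b : QuadraticMap.polar Q b s' = 0 :=
      (mem_qperp hQ S s').1 hs'S b (by rw [hS]; exact Submodule.subset_span (by simp))
    have hss'1 := z2_eq_one_of_ne_zero hss'
    -- one of `s, s', s + s'` works
    have key : ∃ t, QuadraticMap.polar Q a t = 0 ∧ QuadraticMap.polar Q b t = 0 ∧
        Q t + QuadraticMap.polar Q x t ≠ 0 := by
      by_cases h1 : Q s + QuadraticMap.polar Q x s = 0
      · by_cases h2 : Q s' + QuadraticMap.polar Q x s' = 0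
        · refine ⟨s' + s, ?_, ?_, ?_⟩
          · rw [B_add_right hQ, hsa, hs'a, add_zero]
          · rw [B_add_right hQ, hsb, hs'b, add_zero]
          · rw [Q_add (Q := Q), B_add_right hQ, hss'1]
            intro h3
            have : (1 : ZMod 2) = 0 := by linear_combination h3 - h1 - h2
            exact one_ne_zero this
        · exact ⟨s', hs'a, hs'b, h2⟩
      · exact ⟨s, hsa, hsb, h1⟩
    obtain ⟨t, hta, htb, ht⟩ := key
    refine ⟨x + t, ?_, ?_, ?_⟩
    · rw [Q_add (Q := Q), hQx, zero_add]; exact ht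
    · rw [B_add_right hQ, hax, hta, add_zero]; exact one_ne_zero
    · rw [B_comm, B_add_right hQ, hbx, htb, add_zero]; exact one_ne_zero
  · exact ⟨x, hQx, by rw [hax]; exact one_ne_zero, by rw [B_comm, hbx]; exact one_ne_zero⟩

/-- There is a nonsingular vector. -/
theorem exists_nonsingular2 (hQ : IsNondegenerateQuadraticForm Q) (hcard : 1 ≤ Fintype.card ι) :
    ∃ a, Q a ≠ 0 := by
  by_contra hcon
  push Not at hcon
  have hne : Nonempty ι := Fintype.card_pos_iff.mp (by omega)
  obtain ⟨i⟩ := hne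
  have hv : (Pi.single i 1 : ι → ZMod 2) ≠ 0 := by
    intro h
    have := congrFun h i
    simp at this
  obtain ⟨-, ⟨y, hy⟩⟩ := hQ.nondegenerate _ hv
  apply hy
  unfold QuadraticMap.polar
  rw [hcon, hcon, hcon]
  ring

/-- The rank-one isometries form a class of 3-transpositions, provided they generate. -/
theorem isThreeTranspositionClass_transvSet (hQ : IsNondegenerateQuadraticForm Q)
    (hcard : 5 ≤ Fintype.card ι) (hgen : Subgroup.closure (transvSet Q) = ⊤) :
    IsThreeTranspositionClass (transvSet Q) := by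
  refine ⟨⟨?_, ?_⟩, ?_, hgen⟩
  · intro d hd
    obtain ⟨a, ha, rfl⟩ := exists_r2_of_mem hQ hd
    have : Fact (Nat.Prime 2) := ⟨Nat.prime_two⟩
    apply orderOf_eq_prime
    · apply Subtype.ext
      rw [pow_two]
      exact reflGL_mul_self hQ a ha
    · intro h
      exact refl2_ne_one hQ a ha (congrArg Subtype.val h)
  · intro d hd e he
    obtain ⟨a, ha, rfl⟩ := exists_r2_of_mem hQ hd
    obtain ⟨b, hb, rfl⟩ := exists_r2_of_mem hQ he
    by_cases hab : QuadraticMap.polar Q a b = 0
    · left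
      apply Subtype.ext
      rw [pow_two]
      have hcomm := refl_comm_of_perp hQ ha hb hab
      show reflGL hQ a ha * reflGL hQ b hb * (reflGL hQ a ha * reflGL hQ b hb) = 1
      calc reflGL hQ a ha * reflGL hQ b hb * (reflGL hQ a ha * reflGL hQ b hb)
          = reflGL hQ a ha * reflGL hQ b hb * (reflGL hQ b hb * reflGL hQ a ha) := by rw [hcomm]
        _ = reflGL hQ a ha * (reflGL hQ b hb * reflGL hQ b hb) * reflGL hQ a ha := by
            simp only [mul_assoc]
        _ = 1 := by rw [reflGL_mul_self, mul_one, reflGL_mul_self]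
    · right
      apply Subtype.ext
      show (reflGL hQ a ha * reflGL hQ b hb) ^ 3 = 1
      exact braid_pow_three (reflGL_mul_self hQ a _) (reflGL_mul_self hQ b _)
        (refl2_braid hQ ha hb hab)
  · obtain ⟨v₀, hv₀⟩ := exists_nonsingular2 hQ (by omega)
    refine ⟨r2 hQ v₀ hv₀, r2_mem_transvSet hQ v₀ hv₀, ?_⟩
    ext d
    show _ ↔ IsConj (r2 hQ v₀ hv₀) d
    constructor
    · intro hd
      obtain ⟨v, hv, rfl⟩ := exists_r2_of_mem hQ hd
      by_cases hab : QuadraticMap.polar Q v₀ v = 0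
      · by_cases hne : v₀ = v
        · subst hne
          exact IsConj.refl _
        · obtain ⟨c, hc, h1, h2⟩ := exists_connecting hQ hcard hv₀ hv hne hab
          exact (r2_isConj_of_polar hQ hv₀ hc h1).trans (r2_isConj_of_polar hQ hc hv h2)
      · exact r2_isConj_of_polar hQ hv₀ hv hab
    · intro hd
      rw [isConj_iff] at hd
      obtain ⟨g, rfl⟩ := hd
      have hQg : Q (((g : Matrix.GeneralLinearGroup ι (ZMod 2)) : Matrix ι ι (ZMod 2)) *ᵥ v₀) ≠ 0 := by
        rw [(mem_isometryGroup_iff _).1 g.2]; exact hv₀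
      have h := reflGL_conj hQ g.2 v₀ hv₀ hQg
      have : g * r2 hQ v₀ hv₀ * g⁻¹ = r2 hQ _ hQg := Subtype.ext h
      rw [this]
      exact r2_mem_transvSet hQ _ hQg

end TranspF2b

end Cfsg.Agent.Helper94
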