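import Cfsg.Agent.Helper94.TranspF2b
import Cfsg.Agent.Helper14.CharTwoRefl

set_option autoImplicit false
set_option linter.unusedSectionVars false
set_option linter.unusedSimpArgs false

namespace Cfsg.Agent.Helper94

open Cfsg Cfsg.Geo
open scoped Matrix

section TranspF2c

variable {ι : Type} [Fintype ι] [DecidableEq ι]

theorem mulVecLin_reflGL_eq_qRefl (Q' : QuadraticForm (ZMod 2) (ι → ZMod 2))
    (hQ : IsNondegenerateQuadraticForm (⇑Q')) (w : ι → ZMod 2) (hw : Q' w ≠ 0) :
    Matrix.mulVecLin ((reflGL hQ w hw : Matrix.GeneralLinearGroup ι (ZMod 2)) : Matrix ι ι (ZMod 2))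
      = Cfsg.Agent.Helper14.qRefl Q' w := by
  apply LinearMap.ext
  intro x
  rw [Matrix.mulVecLin_apply, reflGL_mulVec, Cfsg.Agent.Helper14.qRefl_apply,
    QuadraticMap.polarBilin_apply_apply]

theorem mulVecLin_prod_r2 (Q' : QuadraticForm (ZMod 2) (ι → ZMod 2))
    (hQ : IsNondegenerateQuadraticForm (⇑Q')) (ws : List {w : ι → ZMod 2 // Q' w ≠ 0}) :
    Matrix.mulVecLin ((((ws.map (fun w => r2 hQ w.1 w.2)).prod : isometryGroup (ZMod 2) (⇑Q')) :
        Matrix.GeneralLinearGroup ι (ZMod 2)) : Matrix ι ι (ZMod 2))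
      = (ws.map (fun w => Cfsg.Agent.Helper14.qRefl Q' w.1)).prod := by
  induction ws with
  | nil =>
    simp only [List.map_nil, List.prod_nil, Subgroup.coe_one, Units.val_one, Matrix.mulVecLin_one]
    rfl
  | cons w ws ih =>
    rw [List.map_cons, List.prod_cons, List.map_cons, List.prod_cons, ← ih, Subgroup.coe_mul,
      Units.val_mul, Matrix.mulVecLin_mul, Module.End.mul_eq_comp]
    congr 1
    exact mulVecLin_reflGL_eq_qRefl Q' hQ w.1 w.2

/-- The orthogonal transvections generate the isometry group (Cartan–Dieudonné over `F₂`). -/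
theorem closure_transvSet_eq_top (Q' : QuadraticForm (ZMod 2) (ι → ZMod 2))
    (hnd : (QuadraticMap.polarBilin Q').Nondegenerate) (hfr : Fintype.card ι ≠ 4) :
    Subgroup.closure (transvSet (⇑Q')) = ⊤ := by
  have hQ := isNondeg_of_quadraticForm Q' hnd
  rw [eq_top_iff]
  intro g _
  have hg := (mem_isometryGroup_iff g.1).1 g.2
  obtain ⟨ws, hws⟩ := Cfsg.Agent.Helper14.isReflProd_of_isometry Q' hnd
    (Or.inr (by rw [Module.finrank_fintype_fun_eq_card]; exact hfr))
    (Matrix.mulVecLin ((g : Matrix.GeneralLinearGroup ι (ZMod 2)) : Matrix ι ι (ZMod 2)))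
    (fun x => by rw [Matrix.mulVecLin_apply]; exact hg x)
  have hgeq : g = (ws.map (fun w => r2 hQ w.1 w.2)).prod := by
    apply Subtype.ext
    apply Units.ext
    have hinj : Function.Injective (Matrix.toLin' : Matrix ι ι (ZMod 2) → _) :=
      Matrix.toLin'.injective
    apply hinj
    rw [Matrix.toLin'_apply', Matrix.toLin'_apply', mulVecLin_prod_r2, hws]
  rw [hgeq]
  apply Subgroup.list_prod_mem
  intro x hx
  rw [List.mem_map] at hx
  obtain ⟨w, -, rfl⟩ := hx
  exact Subgroup.subset_closure (r2_mem_transvSet hQ w.1 w.2)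

/-- Orthogonal transvections over `F₂` in dimension at least five form a class of 3-transpositions. -/
theorem isThreeTranspositionClass_of_quadraticForm (Q' : QuadraticForm (ZMod 2) (ι → ZMod 2))
    (hnd : (QuadraticMap.polarBilin Q').Nondegenerate) (hcard : 5 ≤ Fintype.card ι) :
    IsThreeTranspositionClass (transvSet (⇑Q')) :=
  isThreeTranspositionClass_transvSet (isNondeg_of_quadraticForm Q' hnd) hcard
    (closure_transvSet_eq_top Q' hnd (by omega))

end TranspF2c

end Cfsg.Agent.Helper94
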