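import Cfsg.Agent.Helper94.QuadGeom

set_option autoImplicit false
set_option linter.unusedSectionVars false

namespace Cfsg.Agent.Helper94

open Cfsg Cfsg.Geo
open scoped Matrix

section TwoFam1

variable {ι : Type} [Fintype ι] [DecidableEq ι] {F : Type*} [Field F]
variable {Q : (ι → F) → F}

/-- The polar form as a Mathlib bilinear form. -/
noncomputable def polarBF (hQ : IsNondegenerateQuadraticForm Q) : LinearMap.BilinForm F (ι → F) :=
  LinearMap.mk₂ F (QuadraticMap.polar Q) (B_add_left hQ)
    (fun c x y => by simpa using B_smul_left hQ c x y) (B_add_right hQ)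
    (fun c x y => by simpa using B_smul_right hQ c x y)

theorem polarBF_apply (hQ : IsNondegenerateQuadraticForm Q) (x y : ι → F) :
    polarBF hQ x y = QuadraticMap.polar Q x y := rfl

theorem polarBF_nondegenerate (hQ : IsNondegenerateQuadraticForm Q) : (polarBF hQ).Nondegenerate := by
  constructor
  · intro x hx
    by_contra h0
    obtain ⟨-, ⟨y, hy⟩⟩ := hQ.nondegenerate x h0
    exact hy (hx y)
  · intro y hy
    by_contra h0
    obtain ⟨⟨x, hx⟩, -⟩ := hQ.nondegenerate y h0
    exact hx (hy x)

theorem polarBF_isRefl (hQ : IsNondegenerateQuadraticForm Q) : (polarBF hQ).IsRefl := by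
  intro x y h
  rw [polarBF_apply] at h ⊢
  rw [B_comm]; exact h

/-- The orthogonal complement with respect to the polar form. -/
noncomputable def qperp (hQ : IsNondegenerateQuadraticForm Q) (S : Submodule F (ι → F)) :
    Submodule F (ι → F) :=
  (polarBF hQ).orthogonal S

theorem mem_qperp (hQ : IsNondegenerateQuadraticForm Q) (S : Submodule F (ι → F)) (x : ι → F) :
    x ∈ qperp hQ S ↔ ∀ s ∈ S, QuadraticMap.polar Q s x = 0 := Iff.rfl

theorem finrank_add_finrank_qperp (hQ : IsNondegenerateQuadraticForm Q) (S : Submodule F (ι → F)) :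
    Module.finrank F S + Module.finrank F (qperp hQ S) = Fintype.card ι := by
  have h := LinearMap.BilinForm.finrank_orthogonal (polarBF_nondegenerate hQ) S
  have hle := Submodule.finrank_le S
  rw [Module.finrank_fintype_fun_eq_card] at h hle
  unfold qperp
  omega

theorem qperp_qperp (hQ : IsNondegenerateQuadraticForm Q) (S : Submodule F (ι → F)) :
    qperp hQ (qperp hQ S) = S :=
  LinearMap.BilinForm.orthogonal_orthogonal (polarBF_nondegenerate hQ) (polarBF_isRefl hQ) S

theorem qperp_anti (hQ : IsNondegenerateQuadraticForm Q) {S T : Submodule F (ι → F)} (h : S ≤ T) :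
    qperp hQ T ≤ qperp hQ S := by
  intro x hx
  rw [mem_qperp] at hx ⊢
  exact fun s hs => hx s (h hs)

theorem qperp_sup (hQ : IsNondegenerateQuadraticForm Q) (S T : Submodule F (ι → F)) :
    qperp hQ (S ⊔ T) = qperp hQ S ⊓ qperp hQ T := by
  apply le_antisymm
  · exact le_inf (qperp_anti hQ le_sup_left) (qperp_anti hQ le_sup_right)
  · rintro x ⟨hxS, hxT⟩
    rw [SetLike.mem_coe, mem_qperp] at hxS hxT
    rw [mem_qperp]
    intro s hs
    obtain ⟨a, ha, b, hb, rfl⟩ := Submodule.mem_sup.mp hs
    rw [B_add_left hQ, hxS a ha, hxT b hb, add_zero]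

/-- Dimension of `A ∩ H^⊥`. -/
theorem finrank_inf_qperp (hQ : IsNondegenerateQuadraticForm Q) (A H : Submodule F (ι → F)) :
    Module.finrank F (A ⊓ qperp hQ H : Submodule F (ι → F)) + Module.finrank F H
      = Module.finrank F A + Module.finrank F (qperp hQ A ⊓ H : Submodule F (ι → F)) := by
  have e1 : A ⊓ qperp hQ H = qperp hQ (qperp hQ A ⊔ H) := by
    rw [qperp_sup, qperp_qperp]
  have h1 := finrank_add_finrank_qperp hQ (qperp hQ A ⊔ H)
  have h2 := Submodule.finrank_sup_add_finrank_inf_eq (qperp hQ A) H
  have h3 := finrank_add_finrank_qperp hQ A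
  rw [e1]
  omega

/-- In a totally singular subspace the polar form vanishes. -/
theorem ts_polar {U : Submodule F (ι → F)} (hU : IsTotallySingularQuad Q U) {x y : ι → F} (hx : x ∈ U)
    (hy : y ∈ U) : QuadraticMap.polar Q x y = 0 := by
  have := hU (x + y) (U.add_mem hx hy)
  rw [Q_add (Q := Q), hU x hx, hU y hy] at this
  simpa using this

theorem ts_le_qperp (hQ : IsNondegenerateQuadraticForm Q) {U : Submodule F (ι → F)}
    (hU : IsTotallySingularQuad Q U) : U ≤ qperp hQ U := by
  intro x hx
  rw [mem_qperp]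
  exact fun s hs => ts_polar hU hs hx

theorem ts_finrank_le (hQ : IsNondegenerateQuadraticForm Q) {U : Submodule F (ι → F)}
    (hU : IsTotallySingularQuad Q U) : 2 * Module.finrank F U ≤ Fintype.card ι := by
  have h1 := finrank_add_finrank_qperp hQ U
  have h2 := Submodule.finrank_mono (ts_le_qperp hQ hU)
  omega

theorem qperp_eq_self (hQ : IsNondegenerateQuadraticForm Q) {U : Submodule F (ι → F)}
    (hU : IsTotallySingularQuad Q U) (hdim : 2 * Module.finrank F U = Fintype.card ι) :
    qperp hQ U = U := by
  symm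
  apply Submodule.eq_of_le_of_finrank_le (ts_le_qperp hQ hU)
  have h1 := finrank_add_finrank_qperp hQ U
  omega

theorem ts_sup_span (hQ : IsNondegenerateQuadraticForm Q) {U : Submodule F (ι → F)}
    (hU : IsTotallySingularQuad Q U) {z : ι → F} (hQz : Q z = 0) (hz : z ∈ qperp hQ U) :
    IsTotallySingularQuad Q (U ⊔ Submodule.span F {z}) := by
  intro w hw
  obtain ⟨u, hu, v, hv, rfl⟩ := Submodule.mem_sup.mp hw
  obtain ⟨c, rfl⟩ := Submodule.mem_span_singleton.mp hv
  rw [Q_add (Q := Q), hU u hu, Q_smul hQ, hQz, B_smul_right hQ, (mem_qperp hQ U z).1 hz u hu]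
  ring

theorem ts_mono {U V : Submodule F (ι → F)} (hU : IsTotallySingularQuad Q U) (h : V ≤ U) :
    IsTotallySingularQuad Q V := fun w hw => hU w (h hw)

/-- A subspace of `U'` meets a hyperplane of `U'` in codimension at most one. -/
theorem finrank_le_inf_hyperplane {A H U' : Submodule F (ι → F)} (hA : A ≤ U') (hH : H ≤ U')
    (hdim : Module.finrank F U' = Module.finrank F H + 1) :
    Module.finrank F A ≤ Module.finrank F (A ⊓ H : Submodule F (ι → F)) + 1 := by
  have h1 := Submodule.finrank_sup_add_finrank_inf_eq A H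
  have h2 := Submodule.finrank_mono (sup_le hA hH)
  omega

/-- A hyperplane and a vector outside it span the space. -/
theorem sup_span_eq_of_hyperplane {H U' : Submodule F (ι → F)} (hH : H ≤ U')
    (hdim : Module.finrank F U' = Module.finrank F H + 1) {x : ι → F} (hx : x ∈ U') (hxH : x ∉ H) :
    H ⊔ Submodule.span F {x} = U' := by
  have hle : H ⊔ Submodule.span F {x} ≤ U' := by
    apply sup_le hH
    rw [Submodule.span_le]
    intro y hy
    rw [Set.mem_singleton_iff] at hy
    rw [hy]; exact hx
  apply Submodule.eq_of_le_of_finrank_le hle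
  have hlt : H < H ⊔ Submodule.span F {x} := by
    apply lt_of_le_of_ne le_sup_left
    intro h
    apply hxH
    rw [h]
    exact Submodule.mem_sup_right (Submodule.mem_span_singleton_self x)
  have := Submodule.finrank_lt_finrank_of_lt hlt
  omega

end TwoFam1

end Cfsg.Agent.Helper94
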