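import Cfsg.Agent.Helper94.TwoFam1

set_option autoImplicit false
set_option linter.unusedSectionVars false

namespace Cfsg.Agent.Helper94

open Cfsg Cfsg.Geo
open scoped Matrix

section TwoFam2

variable {ι : Type} [Fintype ι] [DecidableEq ι] {F : Type*} [Field F]
variable {Q : (ι → F) → F} {k : ℕ}

/-- A totally singular subspace of dimension `k`. -/
structure IsMTS (Q : (ι → F) → F) (k : ℕ) (U : Submodule F (ι → F)) : Prop where
  ts : IsTotallySingularQuad Q U
  dim : Module.finrank F U = k

/-- If `y` is orthogonal to a hyperplane `H` of the maximal totally singular `U` and to a vector of `U`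
outside `H`, then `y ∈ U`. -/
theorem mem_of_perp_hyperplane (hQ : IsNondegenerateQuadraticForm Q) (hn : Fintype.card ι = 2 * k)
    {U H : Submodule F (ι → F)} (hU : IsMTS Q k U) (hH : H ≤ U) (hHdim : Module.finrank F H + 1 = k)
    {x y : ι → F} (hx : x ∈ U) (hxH : x ∉ H) (hyH : ∀ h ∈ H, QuadraticMap.polar Q h y = 0)
    (hxy : QuadraticMap.polar Q x y = 0) : y ∈ U := by
  have hsup := sup_span_eq_of_hyperplane hH (by rw [hU.dim]; omega) hx hxH
  have hperp : qperp hQ U = U := qperp_eq_self hQ hU.ts (by rw [hU.dim, hn])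
  rw [← hperp, mem_qperp]
  intro u hu
  rw [← hsup] at hu
  obtain ⟨h, hh, v, hv, rfl⟩ := Submodule.mem_sup.mp hu
  obtain ⟨c, rfl⟩ := Submodule.mem_span_singleton.mp hv
  rw [B_add_left hQ, B_smul_left hQ, hyH h hh, hxy]
  ring

/-- Adjacent maximal totally singular subspaces meet any third one in dimensions differing by one. -/
theorem adj_parity (hQ : IsNondegenerateQuadraticForm Q) (hn : Fintype.card ι = 2 * k)
    {U W X : Submodule F (ι → F)} (hU : IsMTS Q k U) (hW : IsMTS Q k W) (hX : IsMTS Q k X)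
    (hadj : Module.finrank F (U ⊓ W : Submodule F (ι → F)) + 1 = k) :
    Module.finrank F (X ⊓ U : Submodule F (ι → F)) + Module.finrank F (X ⊓ W : Submodule F (ι → F))
      = 2 * Module.finrank F (X ⊓ (U ⊓ W) : Submodule F (ι → F)) + 1 := by
  obtain ⟨H, hH⟩ : ∃ H : Submodule F (ι → F), H = U ⊓ W := ⟨_, rfl⟩
  rw [← hH] at hadj ⊢
  have hHU : H ≤ U := by rw [hH]; exact inf_le_left
  have hHW : H ≤ W := by rw [hH]; exact inf_le_right
  have hHts : IsTotallySingularQuad Q H := ts_mono hU.ts hHU
  have hXperp : qperp hQ X = X := qperp_eq_self hQ hX.ts (by rw [hX.dim, hn])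
  -- upper bounds
  have ub1 : Module.finrank F (X ⊓ U : Submodule F (ι → F))
      ≤ Module.finrank F (X ⊓ H : Submodule F (ι → F)) + 1 := by
    have := finrank_le_inf_hyperplane (A := X ⊓ U) (H := H) (U' := U) inf_le_right hHU
      (by rw [hU.dim]; omega)
    rwa [inf_assoc, inf_eq_right.mpr hHU] at this
  have ub2 : Module.finrank F (X ⊓ W : Submodule F (ι → F))
      ≤ Module.finrank F (X ⊓ H : Submodule F (ι → F)) + 1 := by
    have := finrank_le_inf_hyperplane (A := X ⊓ W) (H := H) (U' := W) inf_le_right hHW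
      (by rw [hW.dim]; omega)
    rwa [inf_assoc, inf_eq_right.mpr hHW] at this
  have lb1 : Module.finrank F (X ⊓ H : Submodule F (ι → F))
      ≤ Module.finrank F (X ⊓ U : Submodule F (ι → F)) :=
    Submodule.finrank_mono (inf_le_inf_left X hHU)
  have lb2 : Module.finrank F (X ⊓ H : Submodule F (ι → F))
      ≤ Module.finrank F (X ⊓ W : Submodule F (ι → F)) :=
    Submodule.finrank_mono (inf_le_inf_left X hHW)
  -- not both large
  have hnot : ¬ (Module.finrank F (X ⊓ H : Submodule F (ι → F))
        < Module.finrank F (X ⊓ U : Submodule F (ι → F)) ∧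
      Module.finrank F (X ⊓ H : Submodule F (ι → F))
        < Module.finrank F (X ⊓ W : Submodule F (ι → F))) := by
    rintro ⟨h1, h2⟩
    have lt1 : X ⊓ H < X ⊓ U :=
      lt_of_le_of_ne (inf_le_inf_left X hHU) (fun h => by rw [h] at h1; exact lt_irrefl _ h1)
    have lt2 : X ⊓ H < X ⊓ W :=
      lt_of_le_of_ne (inf_le_inf_left X hHW) (fun h => by rw [h] at h2; exact lt_irrefl _ h2)
    obtain ⟨x, hxXU, hxn⟩ := SetLike.exists_of_lt lt1
    obtain ⟨y, hyXW, hyn⟩ := SetLike.exists_of_lt lt2
    have hxH : x ∉ H := fun h => hxn ⟨hxXU.1, h⟩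
    have hyH : y ∉ H := fun h => hyn ⟨hyXW.1, h⟩
    have hyU : y ∈ U := by
      apply mem_of_perp_hyperplane hQ hn hU hHU hadj hxXU.2 hxH
      · intro h hh
        exact ts_polar hW.ts (hHW hh) hyXW.2
      · exact ts_polar hX.ts hxXU.1 hyXW.1
    apply hyH
    rw [hH]
    exact ⟨hyU, hyXW.2⟩
  -- at least one large
  have hsome : Module.finrank F (X ⊓ H : Submodule F (ι → F))
        < Module.finrank F (X ⊓ U : Submodule F (ι → F)) ∨
      Module.finrank F (X ⊓ H : Submodule F (ι → F))
        < Module.finrank F (X ⊓ W : Submodule F (ι → F)) := by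
    have h5 := finrank_inf_qperp hQ X H
    rw [hXperp, hX.dim] at h5
    have hlt : X ⊓ H < X ⊓ qperp hQ H := by
      apply lt_of_le_of_ne (inf_le_inf_left X (ts_le_qperp hQ hHts))
      intro h
      rw [← h] at h5
      omega
    obtain ⟨z, hz, hzn⟩ := SetLike.exists_of_lt hlt
    have hzH : z ∉ H := fun h => hzn ⟨hz.1, h⟩
    -- H^⊥ = U ⊔ W
    have hsup : U ⊔ W = qperp hQ H := by
      apply Submodule.eq_of_le_of_finrank_le
      · apply sup_le
        · exact (ts_le_qperp hQ hU.ts).trans (qperp_anti hQ hHU)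
        · exact (ts_le_qperp hQ hW.ts).trans (qperp_anti hQ hHW)
      · have h1 := Submodule.finrank_sup_add_finrank_inf_eq U W
        have h2 := finrank_add_finrank_qperp hQ H
        rw [hU.dim, hW.dim, ← hH] at h1
        omega
    have hz' := hz.2
    rw [← hsup] at hz'
    obtain ⟨u, hu, w, hw, rfl⟩ := Submodule.mem_sup.mp hz'
    have huw : QuadraticMap.polar Q u w = 0 := by
      have := hX.ts _ hz.1
      rw [Q_add (Q := Q), hU.ts u hu, hW.ts w hw] at this
      simpa using this
    by_cases huH : u ∈ H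
    · right
      have hzW : u + w ∈ W := W.add_mem (hHW huH) hw
      have lt2 : X ⊓ H < X ⊓ W := by
        apply lt_of_le_of_ne (inf_le_inf_left X hHW)
        intro h
        apply hzn
        rw [h]
        exact ⟨hz.1, hzW⟩
      exact Submodule.finrank_lt_finrank_of_lt lt2
    · left
      have hwU : w ∈ U := by
        apply mem_of_perp_hyperplane hQ hn hU hHU hadj hu huH
        · intro h hh
          exact ts_polar hW.ts (hHW hh) hw
        · exact huw
      have hzU : u + w ∈ U := U.add_mem hu hwU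
      have lt1 : X ⊓ H < X ⊓ U := by
        apply lt_of_le_of_ne (inf_le_inf_left X hHU)
        intro h
        apply hzn
        rw [h]
        exact ⟨hz.1, hzU⟩
      exact Submodule.finrank_lt_finrank_of_lt lt1
  omega

end TwoFam2

end Cfsg.Agent.Helper94
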