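import Cfsg.Agent.Helper94.TwoFam2

set_option autoImplicit false
set_option linter.unusedSectionVars false

namespace Cfsg.Agent.Helper94

open Cfsg Cfsg.Geo
open scoped Matrix

section TwoFam3

variable {ι : Type} [Fintype ι] [DecidableEq ι] {F : Type*} [Field F]
variable {Q : (ι → F) → F} {k : ℕ}

/-- For distinct maximal totally singular `X`, `Y` there is a maximal totally singular `X'` adjacent
to `X` and strictly closer to `Y`. -/
theorem exists_neighbor (hQ : IsNondegenerateQuadraticForm Q) (hn : Fintype.card ι = 2 * k)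
    {X Y : Submodule F (ι → F)} (hX : IsMTS Q k X) (hY : IsMTS Q k Y) (hne : X ≠ Y) :
    ∃ X' : Submodule F (ι → F), IsMTS Q k X' ∧
      Module.finrank F (X ⊓ X' : Submodule F (ι → F)) + 1 = k ∧
      Module.finrank F (X ⊓ Y : Submodule F (ι → F))
        < Module.finrank F (X' ⊓ Y : Submodule F (ι → F)) := by
  obtain ⟨y, hyY, hyX⟩ : ∃ y ∈ Y, y ∉ X := by
    by_contra hcon
    push Not at hcon
    have hle : Y ≤ X := fun y hy => hcon y hy
    exact hne (Submodule.eq_of_le_of_finrank_eq hle (by rw [hX.dim, hY.dim])).symm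
  have hQy : Q y = 0 := hY.ts y hyY
  obtain ⟨P, hP⟩ : ∃ P : Submodule F (ι → F), P = Submodule.span F {y} := ⟨_, rfl⟩
  have hy0 : y ≠ 0 := by
    rintro rfl
    exact hyX X.zero_mem
  have hPdim : Module.finrank F P = 1 := by
    rw [hP]; exact finrank_span_singleton hy0
  have hyP : y ∈ P := by rw [hP]; exact Submodule.mem_span_singleton_self y
  have hXperp : qperp hQ X = X := qperp_eq_self hQ hX.ts (by rw [hX.dim, hn])
  obtain ⟨H, hH⟩ : ∃ H : Submodule F (ι → F), H = X ⊓ qperp hQ P := ⟨_, rfl⟩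
  have hXP : X ⊓ P = ⊥ := by
    rw [eq_bot_iff]
    rintro x ⟨hxX, hxP⟩
    rw [hP] at hxP
    obtain ⟨c, rfl⟩ := Submodule.mem_span_singleton.mp hxP
    by_cases hc : c = 0
    · rw [hc, zero_smul]; exact Submodule.zero_mem _
    · exfalso; apply hyX
      have := X.smul_mem c⁻¹ hxX
      rwa [smul_smul, inv_mul_cancel₀ hc, one_smul] at this
  have hHdim : Module.finrank F H + 1 = k := by
    have h5 := finrank_inf_qperp hQ X P
    rw [hXperp, hXP, finrank_bot, hX.dim, hPdim, ← hH] at h5
    omega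
  have hHX : H ≤ X := by rw [hH]; exact inf_le_left
  have hHy : ∀ h ∈ H, QuadraticMap.polar Q h y = 0 := by
    intro h hh
    rw [hH] at hh
    have := (mem_qperp hQ P h).1 hh.2 y hyP
    rw [B_comm]; exact this
  have hyH : y ∈ qperp hQ H := by
    rw [mem_qperp]; exact hHy
  have hynH : y ∉ H := fun h => hyX (hHX h)
  obtain ⟨X', hX'def⟩ : ∃ X' : Submodule F (ι → F), X' = H ⊔ Submodule.span F {y} := ⟨_, rfl⟩
  have hX'ts : IsTotallySingularQuad Q X' := by
    rw [hX'def]; exact ts_sup_span hQ (ts_mono hX.ts hHX) hQy hyH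
  have hHX' : H ≤ X' := by rw [hX'def]; exact le_sup_left
  have hyX' : y ∈ X' := by
    rw [hX'def]; exact Submodule.mem_sup_right (Submodule.mem_span_singleton_self y)
  have hX'dim : Module.finrank F X' = k := by
    have hlt : H < X' := lt_of_le_of_ne hHX' (fun h => hynH (by rw [h]; exact hyX'))
    have h1 := Submodule.finrank_lt_finrank_of_lt hlt
    have h2 := ts_finrank_le hQ hX'ts
    omega
  have hX' : IsMTS Q k X' := ⟨hX'ts, hX'dim⟩
  refine ⟨X', hX', ?_, ?_⟩
  · have h1 : Module.finrank F H ≤ Module.finrank F (X ⊓ X' : Submodule F (ι → F)) :=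
      Submodule.finrank_mono (le_inf hHX hHX')
    have hlt : X ⊓ X' < X' :=
      lt_of_le_of_ne inf_le_right (fun h => hyX (by
        have : y ∈ X ⊓ X' := by rw [h]; exact hyX'
        exact this.1))
    have h2 := Submodule.finrank_lt_finrank_of_lt hlt
    omega
  · have hle : X ⊓ Y ≤ X' ⊓ Y := by
      rintro x ⟨hxX, hxY⟩
      refine ⟨hHX' ?_, hxY⟩
      rw [hH]
      refine ⟨hxX, ?_⟩
      show x ∈ qperp hQ P
      rw [mem_qperp]
      intro s hs
      rw [hP] at hs
      obtain ⟨c, rfl⟩ := Submodule.mem_span_singleton.mp hs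
      rw [B_smul_left hQ, ts_polar hY.ts hyY hxY, mul_zero]
    have hlt : X ⊓ Y < X' ⊓ Y :=
      lt_of_le_of_ne hle (fun h => hyX (by
        have : y ∈ X ⊓ Y := by rw [h]; exact ⟨hyX', hyY⟩
        exact this.1))
    exact Submodule.finrank_lt_finrank_of_lt hlt

/-- The three-subspace parity theorem. -/
theorem three_parity_aux (hQ : IsNondegenerateQuadraticForm Q) (hn : Fintype.card ι = 2 * k)
    {Y Z : Submodule F (ι → F)} (hY : IsMTS Q k Y) (hZ : IsMTS Q k Z) :
    ∀ (d : ℕ) (X : Submodule F (ι → F)), IsMTS Q k X →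
      k - Module.finrank F (X ⊓ Y : Submodule F (ι → F)) = d →
      (Module.finrank F (X ⊓ Y : Submodule F (ι → F))
        + Module.finrank F (Y ⊓ Z : Submodule F (ι → F))
        + Module.finrank F (X ⊓ Z : Submodule F (ι → F)) + k) % 2 = 0 := by
  intro d
  induction d using Nat.strong_induction_on with
  | _ d ih =>
    intro X hX hd
    by_cases hne : X = Y
    · subst hne
      rw [inf_idem, hX.dim]
      omega
    · obtain ⟨X', hX', hadj, hlt⟩ := exists_neighbor hQ hn hX hY hne
      have hle : Module.finrank F (X' ⊓ Y : Submodule F (ι → F)) ≤ k := by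
        rw [← hY.dim]; exact Submodule.finrank_mono inf_le_right
      have h1 := adj_parity hQ hn hX hX' hY hadj
      have h2 := adj_parity hQ hn hX hX' hZ hadj
      have h3 := ih (k - Module.finrank F (X' ⊓ Y : Submodule F (ι → F))) (by omega) X' hX' rfl
      rw [inf_comm Y X, inf_comm Y X'] at h1
      rw [inf_comm Z X, inf_comm Z X'] at h2
      omega

theorem three_parity (hQ : IsNondegenerateQuadraticForm Q) (hn : Fintype.card ι = 2 * k)
    {X Y Z : Submodule F (ι → F)} (hX : IsMTS Q k X) (hY : IsMTS Q k Y) (hZ : IsMTS Q k Z) :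
    (Module.finrank F (X ⊓ Y : Submodule F (ι → F))
        + Module.finrank F (Y ⊓ Z : Submodule F (ι → F))
        + Module.finrank F (X ⊓ Z : Submodule F (ι → F)) + k) % 2 = 0 :=
  three_parity_aux hQ hn hY hZ _ X hX rfl

end TwoFam3

end Cfsg.Agent.Helper94
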