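import Cfsg.Agent.Helper94.TwoFam3

set_option autoImplicit false
set_option linter.unusedSectionVars false

namespace Cfsg.Agent.Helper94

open Cfsg Cfsg.Geo
open scoped Matrix

section TwoFam4

variable {ι : Type} [Fintype ι] [DecidableEq ι] {F : Type*} [Field F]
variable {Q : (ι → F) → F} {k : ℕ}

/-- Image of a subspace under a matrix of `GL`. -/
noncomputable def mapS (g : Matrix.GeneralLinearGroup ι F) (U : Submodule F (ι → F)) :
    Submodule F (ι → F) :=
  U.map (Matrix.toLin' (g : Matrix ι ι F))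

theorem mem_mapS (g : Matrix.GeneralLinearGroup ι F) (U : Submodule F (ι → F)) (x : ι → F) :
    x ∈ mapS g U ↔ ∃ u ∈ U, (g : Matrix ι ι F) *ᵥ u = x := by
  unfold mapS
  rw [Submodule.mem_map]
  simp only [Matrix.toLin'_apply]

theorem mulVec_mem_mapS (g : Matrix.GeneralLinearGroup ι F) {U : Submodule F (ι → F)} {u : ι → F}
    (hu : u ∈ U) : (g : Matrix ι ι F) *ᵥ u ∈ mapS g U :=
  (mem_mapS g U _).2 ⟨u, hu, rfl⟩

theorem mapS_mul (g h : Matrix.GeneralLinearGroup ι F) (U : Submodule F (ι → F)) :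
    mapS (g * h) U = mapS g (mapS h U) := by
  unfold mapS
  rw [Units.val_mul, Matrix.toLin'_mul, Submodule.map_comp]

theorem mapS_one (U : Submodule F (ι → F)) : mapS (1 : Matrix.GeneralLinearGroup ι F) U = U := by
  unfold mapS
  rw [Units.val_one, Matrix.toLin'_one, Submodule.map_id]

theorem toLin_injective (g : Matrix.GeneralLinearGroup ι F) :
    Function.Injective (Matrix.toLin' (g : Matrix ι ι F)) := by
  intro x y h
  rw [Matrix.toLin'_apply, Matrix.toLin'_apply] at h
  exact gl_mulVec_injective g h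

theorem finrank_mapS (g : Matrix.GeneralLinearGroup ι F) (U : Submodule F (ι → F)) :
    Module.finrank F (mapS g U) = Module.finrank F U :=
  (Submodule.equivMapOfInjective _ (toLin_injective g) U).finrank_eq.symm

theorem mapS_inf (g : Matrix.GeneralLinearGroup ι F) (U W : Submodule F (ι → F)) :
    mapS g (U ⊓ W) = mapS g U ⊓ mapS g W :=
  Submodule.map_inf _ (toLin_injective g)

theorem mapS_mono (g : Matrix.GeneralLinearGroup ι F) {U W : Submodule F (ι → F)} (h : U ≤ W) :
    mapS g U ≤ mapS g W :=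
  Submodule.map_mono h

theorem mapS_ts {g : Matrix.GeneralLinearGroup ι F} (hg : g ∈ isometryGroup F Q)
    {U : Submodule F (ι → F)} (hU : IsTotallySingularQuad Q U) :
    IsTotallySingularQuad Q (mapS g U) := by
  intro w hw
  obtain ⟨u, hu, rfl⟩ := (mem_mapS g U w).1 hw
  rw [(mem_isometryGroup_iff g).1 hg u]
  exact hU u hu

theorem mapS_mts {g : Matrix.GeneralLinearGroup ι F} (hg : g ∈ isometryGroup F Q)
    {U : Submodule F (ι → F)} (hU : IsMTS Q k U) : IsMTS Q k (mapS g U) :=
  ⟨mapS_ts hg hU.ts, by rw [finrank_mapS, hU.dim]⟩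

/-- `g U = U` for `g` in the stabiliser of `U`. -/
theorem mapS_eq_of_mem_stabilizer {g : Matrix.GeneralLinearGroup ι F} {U : Submodule F (ι → F)}
    (hg : g ∈ subspaceStabilizer U) : mapS g U = U := by
  apply le_antisymm
  · intro x hx
    obtain ⟨u, hu, rfl⟩ := (mem_mapS g U x).1 hx
    exact (hg u).1 hu
  · intro x hx
    rw [mem_mapS]
    refine ⟨((g⁻¹ : Matrix.GeneralLinearGroup ι F) : Matrix ι ι F) *ᵥ x, ?_, ?_⟩
    · have hg' : g⁻¹ ∈ subspaceStabilizer U := Subgroup.inv_mem _ hg
      exact (hg' x).1 hx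
    · rw [Matrix.mulVec_mulVec, ← Units.val_mul, mul_inv_cancel, Units.val_one, Matrix.one_mulVec]

theorem mem_stabilizer_of_mapS_eq {g : Matrix.GeneralLinearGroup ι F} {U : Submodule F (ι → F)}
    (h : mapS g U = U) : g ∈ subspaceStabilizer U := by
  intro v
  constructor
  · intro hv
    have := mulVec_mem_mapS g hv
    rw [h] at this
    exact this
  · intro hv
    have hv' : (g : Matrix ι ι F) *ᵥ v ∈ mapS g U := by rw [h]; exact hv
    obtain ⟨u, hu, hu'⟩ := (mem_mapS g U _).1 hv'
    rw [← gl_mulVec_injective g hu']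
    exact hu

/-- The parity function `g ↦ k + dim (U ∩ gU) mod 2`. -/
noncomputable def dparFun (k : ℕ) (U : Submodule F (ι → F)) (g : Matrix.GeneralLinearGroup ι F) : ℕ :=
  k + Module.finrank F (U ⊓ mapS g U : Submodule F (ι → F))

theorem dparFun_mul (hQ : IsNondegenerateQuadraticForm Q) (hn : Fintype.card ι = 2 * k)
    {U : Submodule F (ι → F)} (hU : IsMTS Q k U) {g h : Matrix.GeneralLinearGroup ι F}
    (hg : g ∈ isometryGroup F Q) (hh : h ∈ isometryGroup F Q) :
    dparFun k U (g * h) % 2 = (dparFun k U g + dparFun k U h) % 2 := by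
  have h3 := three_parity hQ hn hU (mapS_mts hg hU) (mapS_mts (Subgroup.mul_mem _ hg hh) hU)
  have e : mapS g U ⊓ mapS (g * h) U = mapS g (U ⊓ mapS h U) := by
    rw [mapS_mul, mapS_inf]
  rw [e, finrank_mapS] at h3
  unfold dparFun
  omega

/-- The parity homomorphism on the isometry group. -/
noncomputable def dparHom (hQ : IsNondegenerateQuadraticForm Q) (hn : Fintype.card ι = 2 * k)
    {U : Submodule F (ι → F)} (hU : IsMTS Q k U) :
    isometryGroup F Q →* Multiplicative (ZMod 2) :=
  MonoidHom.mk' (fun g => Multiplicative.ofAdd ((dparFun k U (g : Matrix.GeneralLinearGroup ι F) : ℕ) : ZMod 2))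
    (by
      intro a b
      rw [← ofAdd_add, ← Nat.cast_add]
      congr 1
      rw [ZMod.natCast_eq_natCast_iff']
      exact dparFun_mul hQ hn hU a.2 b.2)

/-- Elements of `Ω` preserve the family of a maximal totally singular subspace. -/
theorem omega_parity (hQ : IsNondegenerateQuadraticForm Q) (hn : Fintype.card ι = 2 * k)
    {U : Submodule F (ι → F)} (hU : IsMTS Q k U) {g : Matrix.GeneralLinearGroup ι F}
    (hg : g ∈ omegaGL Q) :
    (k + Module.finrank F (U ⊓ mapS g U : Submodule F (ι → F))) % 2 = 0 := by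
  obtain ⟨g', hg', rfl⟩ := hg
  have hker : g' ∈ (dparHom hQ hn hU).ker :=
    Abelianization.commutator_subset_ker (dparHom hQ hn hU) hg'
  rw [MonoidHom.mem_ker] at hker
  have h1 : ((dparFun k U (g' : Matrix.GeneralLinearGroup ι F) : ℕ) : ZMod 2) = 0 := by
    have := congrArg Multiplicative.toAdd hker
    simpa [dparHom] using this
  rw [ZMod.natCast_eq_zero_iff] at h1
  exact Nat.mod_eq_zero_of_dvd h1

end TwoFam4

end Cfsg.Agent.Helper94
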