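import Cfsg.Agent.Helper94.TwoFam4
import Cfsg.Agent.Helper94.Refl3

set_option autoImplicit false
set_option linter.unusedSectionVars false

namespace Cfsg.Agent.Helper94

open Cfsg Cfsg.Geo
open scoped Matrix

section TwoFam5

variable {ι : Type} [Fintype ι] [DecidableEq ι] {F : Type*} [Field F]
variable {Q : (ι → F) → F} {k : ℕ}

/-- The Siegel transformation `x ↦ x + B(u,x) v - B(v,x) u`. -/
noncomputable def sgLin (hQ : IsNondegenerateQuadraticForm Q) (u v : ι → F) :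
    (ι → F) →ₗ[F] (ι → F) :=
  LinearMap.id + (polarLin hQ u).smulRight v - (polarLin hQ v).smulRight u

theorem sgLin_apply (hQ : IsNondegenerateQuadraticForm Q) (u v x : ι → F) :
    sgLin hQ u v x = x + QuadraticMap.polar Q u x • v - QuadraticMap.polar Q v x • u := rfl

theorem sgLin_inv (hQ : IsNondegenerateQuadraticForm Q) {u v : ι → F} (hu : Q u = 0) (hv : Q v = 0)
    (huv : QuadraticMap.polar Q u v = 0) (x : ι → F) :
    sgLin hQ u (-v) (sgLin hQ u v x) = x := by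
  have huu : QuadraticMap.polar Q u u = 0 := by rw [B_self hQ, hu, mul_zero]
  have hvv : QuadraticMap.polar Q v v = 0 := by rw [B_self hQ, hv, mul_zero]
  have hvu : QuadraticMap.polar Q v u = 0 := by rw [B_comm, huv]
  rw [sgLin_apply, sgLin_apply]
  simp only [B_add_right hQ, B_sub_right hQ, B_smul_right hQ, B_neg_left hQ, huu, hvv, huv, hvu,
    mul_zero, add_zero, sub_zero]
  module

/-- The Siegel transformation as an element of `GL`. -/
noncomputable def sgGL (hQ : IsNondegenerateQuadraticForm Q) (u v : ι → F) (hu : Q u = 0)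
    (hv : Q v = 0) (huv : QuadraticMap.polar Q u v = 0) : Matrix.GeneralLinearGroup ι F :=
  ⟨LinearMap.toMatrix' (sgLin hQ u v), LinearMap.toMatrix' (sgLin hQ u (-v)),
    by
      rw [← LinearMap.toMatrix'_comp]
      have : sgLin hQ u v ∘ₗ sgLin hQ u (-v) = LinearMap.id := by
        apply LinearMap.ext
        intro x
        have h := sgLin_inv hQ (u := u) (v := -v) hu (by rw [Q_neg hQ, hv])
          (by rw [B_neg_right hQ, huv, neg_zero]) x
        rw [neg_neg] at h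
        exact h
      rw [this, LinearMap.toMatrix'_id],
    by
      rw [← LinearMap.toMatrix'_comp]
      have : sgLin hQ u (-v) ∘ₗ sgLin hQ u v = LinearMap.id :=
        LinearMap.ext (fun x => sgLin_inv hQ hu hv huv x)
      rw [this, LinearMap.toMatrix'_id]⟩

theorem sgGL_mulVec (hQ : IsNondegenerateQuadraticForm Q) (u v : ι → F) (hu : Q u = 0)
    (hv : Q v = 0) (huv : QuadraticMap.polar Q u v = 0) (x : ι → F) :
    ((sgGL hQ u v hu hv huv : Matrix.GeneralLinearGroup ι F) : Matrix ι ι F) *ᵥ x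
      = x + QuadraticMap.polar Q u x • v - QuadraticMap.polar Q v x • u := by
  show LinearMap.toMatrix' (sgLin hQ u v) *ᵥ x = _
  rw [LinearMap.toMatrix'_mulVec, sgLin_apply]

theorem sgGL_inv_mulVec (hQ : IsNondegenerateQuadraticForm Q) (u v : ι → F) (hu : Q u = 0)
    (hv : Q v = 0) (huv : QuadraticMap.polar Q u v = 0) (x : ι → F) :
    (((sgGL hQ u v hu hv huv)⁻¹ : Matrix.GeneralLinearGroup ι F) : Matrix ι ι F) *ᵥ x
      = x - QuadraticMap.polar Q u x • v + QuadraticMap.polar Q v x • u := by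
  show LinearMap.toMatrix' (sgLin hQ u (-v)) *ᵥ x = _
  rw [LinearMap.toMatrix'_mulVec, sgLin_apply, B_neg_left hQ]
  module

theorem sgGL_mem_isometryGroup (hQ : IsNondegenerateQuadraticForm Q) (u v : ι → F) (hu : Q u = 0)
    (hv : Q v = 0) (huv : QuadraticMap.polar Q u v = 0) :
    sgGL hQ u v hu hv huv ∈ isometryGroup F Q := by
  rw [mem_isometryGroup_iff]
  intro x
  have hvu : QuadraticMap.polar Q v u = 0 := by rw [B_comm, huv]
  rw [sgGL_mulVec, sub_eq_add_neg, ← neg_smul, Q_add3 hQ, Q_smul hQ, Q_smul hQ, hu, hv]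
  simp only [B_smul_left hQ, B_smul_right hQ, hvu, B_comm x u, B_comm x v]
  ring

/-- A Siegel transformation with `u` in the totally singular subspace `U` preserves `U`. -/
theorem mapS_sgGL (hQ : IsNondegenerateQuadraticForm Q) (u v : ι → F) (hu : Q u = 0)
    (hv : Q v = 0) (huv : QuadraticMap.polar Q u v = 0) {U : Submodule F (ι → F)}
    (hU : IsTotallySingularQuad Q U) (huU : u ∈ U) : mapS (sgGL hQ u v hu hv huv) U = U := by
  apply Submodule.eq_of_le_of_finrank_eq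
  · intro x hx
    obtain ⟨w, hw, rfl⟩ := (mem_mapS _ U x).1 hx
    rw [sgGL_mulVec, ts_polar hU huU hw, zero_smul, add_zero]
    exact U.sub_mem hw (U.smul_mem _ huU)
  · exact finrank_mapS _ U

theorem mapS_sgGL_inv (hQ : IsNondegenerateQuadraticForm Q) (u v : ι → F) (hu : Q u = 0)
    (hv : Q v = 0) (huv : QuadraticMap.polar Q u v = 0) {U : Submodule F (ι → F)}
    (hU : IsTotallySingularQuad Q U) (huU : u ∈ U) : mapS (sgGL hQ u v hu hv huv)⁻¹ U = U := by
  apply Submodule.eq_of_le_of_finrank_eq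
  · intro x hx
    obtain ⟨w, hw, rfl⟩ := (mem_mapS _ U x).1 hx
    rw [sgGL_inv_mulVec, ts_polar hU huU hw, zero_smul, sub_zero]
    exact U.add_mem hw (U.smul_mem _ huU)
  · exact finrank_mapS _ U

/-- Hyperbolic triples. -/
structure IsHypTriple (Q : (ι → F) → F) (e f : Fin 3 → ι → F) : Prop where
  Qe : ∀ i, Q (e i) = 0
  Qf : ∀ i, Q (f i) = 0
  ee : ∀ i j, QuadraticMap.polar Q (e i) (e j) = 0
  ff : ∀ i j, QuadraticMap.polar Q (f i) (f j) = 0
  ef : ∀ i j, QuadraticMap.polar Q (e i) (f j) = if i = j then 1 else 0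

theorem IsHypTriple.fe {e f : Fin 3 → ι → F} (h : IsHypTriple Q e f) (i j : Fin 3) :
    QuadraticMap.polar Q (f i) (e j) = if i = j then 1 else 0 := by
  rw [B_comm, h.ef]
  by_cases hij : i = j
  · rw [if_pos hij, if_pos hij.symm]
  · rw [if_neg hij, if_neg (fun h' => hij h'.symm)]

theorem IsHypTriple.symm {e f : Fin 3 → ι → F} (h : IsHypTriple Q e f) : IsHypTriple Q f e :=
  ⟨h.Qf, h.Qe, h.ff, h.ee, h.fe⟩

/-- `[ρ_{e₂,f₁}, ρ_{e₀,e₁}]`. -/
noncomputable def gI (hQ : IsNondegenerateQuadraticForm Q) {e f : Fin 3 → ι → F}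
    (h : IsHypTriple Q e f) : Matrix.GeneralLinearGroup ι F :=
  sgGL hQ (e 2) (f 1) (h.Qe 2) (h.Qf 1) (by rw [h.ef]; rfl)
    * sgGL hQ (e 0) (e 1) (h.Qe 0) (h.Qe 1) (h.ee 0 1)
    * (sgGL hQ (e 2) (f 1) (h.Qe 2) (h.Qf 1) (by rw [h.ef]; rfl))⁻¹
    * (sgGL hQ (e 0) (e 1) (h.Qe 0) (h.Qe 1) (h.ee 0 1))⁻¹

theorem gI_mem (hQ : IsNondegenerateQuadraticForm Q) {e f : Fin 3 → ι → F}
    (h : IsHypTriple Q e f) : gI hQ h ∈ omegaGL Q :=
  commutator_mem_omegaGL (sgGL_mem_isometryGroup hQ _ _ _ _ _) (sgGL_mem_isometryGroup hQ _ _ _ _ _)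

theorem gI_mapS (hQ : IsNondegenerateQuadraticForm Q) {e f : Fin 3 → ι → F}
    (h : IsHypTriple Q e f) {U : Submodule F (ι → F)} (hU : IsTotallySingularQuad Q U)
    (h0 : e 0 ∈ U) (h2 : e 2 ∈ U) : mapS (gI hQ h) U = U := by
  unfold gI
  rw [mapS_mul, mapS_mul, mapS_mul, mapS_sgGL_inv hQ _ _ _ _ _ hU h0, mapS_sgGL_inv hQ _ _ _ _ _ hU h2,
    mapS_sgGL hQ _ _ _ _ _ hU h0, mapS_sgGL hQ _ _ _ _ _ hU h2]

theorem gI_apply (hQ : IsNondegenerateQuadraticForm Q) {e f : Fin 3 → ι → F}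
    (h : IsHypTriple Q e f) :
    ((gI hQ h : Matrix.GeneralLinearGroup ι F) : Matrix ι ι F) *ᵥ (f 0) = f 0 - e 2 := by
  unfold gI
  simp only [Units.val_mul, ← Matrix.mulVec_mulVec, sgGL_mulVec, sgGL_inv_mulVec]
  simp only [B_add_right hQ, B_sub_right hQ, B_smul_right hQ, h.ee, h.ff, h.ef, h.fe]
  simp
  try module

/-- `[ρ_{e₀,f₁}, ρ_{e₂,f₀}]`. -/
noncomputable def gII (hQ : IsNondegenerateQuadraticForm Q) {e f : Fin 3 → ι → F}
    (h : IsHypTriple Q e f) : Matrix.GeneralLinearGroup ι F :=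
  sgGL hQ (e 0) (f 1) (h.Qe 0) (h.Qf 1) (by rw [h.ef]; rfl)
    * sgGL hQ (e 2) (f 0) (h.Qe 2) (h.Qf 0) (by rw [h.ef]; rfl)
    * (sgGL hQ (e 0) (f 1) (h.Qe 0) (h.Qf 1) (by rw [h.ef]; rfl))⁻¹
    * (sgGL hQ (e 2) (f 0) (h.Qe 2) (h.Qf 0) (by rw [h.ef]; rfl))⁻¹

theorem gII_mem (hQ : IsNondegenerateQuadraticForm Q) {e f : Fin 3 → ι → F}
    (h : IsHypTriple Q e f) : gII hQ h ∈ omegaGL Q :=
  commutator_mem_omegaGL (sgGL_mem_isometryGroup hQ _ _ _ _ _) (sgGL_mem_isometryGroup hQ _ _ _ _ _)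

theorem gII_mapS (hQ : IsNondegenerateQuadraticForm Q) {e f : Fin 3 → ι → F}
    (h : IsHypTriple Q e f) {U : Submodule F (ι → F)} (hU : IsTotallySingularQuad Q U)
    (h0 : e 0 ∈ U) (h2 : e 2 ∈ U) : mapS (gII hQ h) U = U := by
  unfold gII
  rw [mapS_mul, mapS_mul, mapS_mul, mapS_sgGL_inv hQ _ _ _ _ _ hU h2, mapS_sgGL_inv hQ _ _ _ _ _ hU h0,
    mapS_sgGL hQ _ _ _ _ _ hU h2, mapS_sgGL hQ _ _ _ _ _ hU h0]

theorem gII_apply (hQ : IsNondegenerateQuadraticForm Q) {e f : Fin 3 → ι → F}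
    (h : IsHypTriple Q e f) :
    ((gII hQ h : Matrix.GeneralLinearGroup ι F) : Matrix ι ι F) *ᵥ (e 1) = e 1 - e 2 := by
  unfold gII
  simp only [Units.val_mul, ← Matrix.mulVec_mulVec, sgGL_mulVec, sgGL_inv_mulVec]
  simp only [B_add_right hQ, B_sub_right hQ, B_smul_right hQ, h.ee, h.ff, h.ef, h.fe]
  simp
  try module

end TwoFam5

end Cfsg.Agent.Helper94
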