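import Cfsg.Agent.Helper94.Weight
import Cfsg.Agent.Helper94.TensorLin
import Cfsg.Agent.Helper94.Herm
import Cfsg.Agent.Helper94.Frame3

set_option autoImplicit false
set_option linter.unusedSectionVars false

namespace Cfsg.Agent.Helper94

open Cfsg Cfsg.Geo
open scoped Matrix

section M1

variable {ι : Type} [Fintype ι] [DecidableEq ι] {F : Type*} [Field F]
variable {t' : ℕ} {D : Fin (5 + t') → Submodule F (ι → F)}

theorem exists_between_m1 (hD : IsMDecomposition 1 D) (e : ℕ) (he : e ≠ 0)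
    (hN : ∀ x : F, x ≠ 0 → x ^ e = 1) (h6 : (6 : F) = 0)
    (hId : ∀ x₀ x₁ x₂ x₃ : F, (x₀ + (x₀ + x₁ + x₂ + x₃)) ^ e + (x₁ + (x₀ + x₁ + x₂ + x₃)) ^ e
      + (x₂ + (x₀ + x₁ + x₂ + x₃)) ^ e + (x₃ + (x₀ + x₁ + x₂ + x₃)) ^ e
        = x₀ ^ e + x₁ ^ e + x₂ ^ e + x₃ ^ e) :
    ∃ K : Subgroup (Matrix.GeneralLinearGroup ι F),
      decompositionStabilizer D ⊓ specialLinear ι F < K ∧ K < specialLinear ι F := by
  have hind : ∀ f : Fin 1 → F, indc f = f 0 ^ e := by
    intro f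
    unfold indc
    by_cases h0 : f 0 = 0
    · rw [if_pos (by intro k; rw [Subsingleton.elim k 0]; exact h0), h0, zero_pow he]
    · rw [if_neg (by intro h; exact h0 (h 0)), hN _ h0]
  have hnegpow : ∀ x : F, (-x) ^ e = x ^ e := by
    intro x
    by_cases hx : x = 0
    · rw [hx, neg_zero]
    · rw [hN x hx, hN (-x) (neg_ne_zero.mpr hx)]
  refine exists_between_of_patterns hD
    (fun r _ => ![0, 1, 0, 0, 0] r) (fun r _ => ![1, 0, 0, 0, 0] r)
    (fun r _ => ![1, 1, 1, 1, 0] r) (fun r _ => ![1, 1, 1, 1, 0] r)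
    (fun r _ => ![0, 0, 0, 0, 1] r) (fun r _ => ![0, 0, 0, 0, -2] r)
    (fun r _ => ![1, 0, 0, 0, 0] r) (fun r _ => ![1, 0, 0, 0, 0] r)
    ?_ ?_ ?_ 0 ?_ 1 2 (by decide) 0 0 ?_ ?_ ?_ ?_
  · simp [Fin.sum_univ_five]
  · simp [Fin.sum_univ_five]
    linear_combination (-1 : F) * h6
  · intro η
    simp only [hind]
    simp [Fin.sum_univ_five, Th]
    have h4 : η 4 0 + -(2 * η 4 0) = -(η 4 0) := by ring
    rw [h4, hnegpow, hId]
  · intro r hr k
    fin_cases r <;> simp at hr ⊢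
  · simp [Th, Fin.sum_univ_five]
  · simp [Th, Fin.sum_univ_five]
  · simp only [hind]
    simp [Fin.sum_univ_five, he]
  · simp only [hind]
    simp [Fin.sum_univ_five, Th, he]

end M1

section M2

variable {ι : Type} [Fintype ι] [DecidableEq ι] {F : Type*} [Field F] [Fintype F]
variable {t' : ℕ} {D : Fin (3 + t') → Submodule F (ι → F)}

theorem exists_between_m2 (hq : Fintype.card F = 2) (hD : IsMDecomposition 2 D) :
    ∃ K : Subgroup (Matrix.GeneralLinearGroup ι F),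
      decompositionStabilizer D ⊓ specialLinear ι F < K ∧ K < specialLinear ι F := by
  have h2 : (2 : F) = 0 := F2_two hq
  have hind : ∀ f : Fin 2 → F, indc f = f 0 * f 0 + f 0 * f 1 + f 1 * f 1 := by
    intro f
    unfold indc
    rcases F2_cases hq (f 0) with h0 | h0 <;> rcases F2_cases hq (f 1) with h1 | h1
    · rw [if_pos (by rw [Fin.forall_fin_two]; exact ⟨h0, h1⟩), h0, h1]; ring
    · rw [if_neg (by rw [Fin.forall_fin_two]; intro h; rw [h.2] at h1; exact zero_ne_one h1), h0, h1]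
      ring
    · rw [if_neg (by rw [Fin.forall_fin_two]; intro h; rw [h.1] at h0; exact zero_ne_one h0), h0, h1]
      ring
    · rw [if_neg (by rw [Fin.forall_fin_two]; intro h; rw [h.1] at h0; exact zero_ne_one h0), h0, h1]
      linear_combination (-1 : F) * h2
  refine exists_between_of_patterns hD
    (fun r k => ![![0, 0], ![1, 0], ![0, 0]] r k) (fun r k => ![![1, 0], ![0, 0], ![0, 0]] r k)
    (fun _ k => ![1, 0] k) (fun _ k => ![0, 1] k)
    (fun _ _ => 0) (fun _ _ => 0)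
    (fun r k => ![![1, 0], ![0, 0], ![0, 0]] r k) (fun r k => ![![0, 1], ![0, 0], ![0, 0]] r k)
    ?_ ?_ ?_ 0 ?_ 1 2 (by decide) 0 0 ?_ ?_ ?_ ?_
  · simp [Fin.sum_univ_three, Fin.sum_univ_two]
  · simp [Fin.sum_univ_two]
  · intro η
    simp only [hind]
    simp [Fin.sum_univ_three, Fin.sum_univ_two, Th]
    linear_combination ((η 0 1 + η 1 1 + η 2 1) * (η 0 0 + η 1 0 + η 2 0)
      + 2 * (η 0 1 + η 1 1 + η 2 1) ^ 2) * h2
  · intro r hr k
    fin_cases r <;> fin_cases k <;> simp at hr ⊢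
  · simp [Th, Fin.sum_univ_three, Fin.sum_univ_two]
  · simp [Th, Fin.sum_univ_three, Fin.sum_univ_two]
  · simp only [hind]
    simp [Fin.sum_univ_three]
  · simp only [hind]
    simp [Fin.sum_univ_three, Fin.sum_univ_two, Th]

end M2

end Cfsg.Agent.Helper94
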